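import Mathlib

/-!
# The group of order 54 with centre of order three and nine involutions
-/

set_option autoImplicit false

namespace Cfsg.Agent.ThreeTrans.HeisTwo

variable {G : Type*} [Group G]

/-- Generators and relations of the group. -/
structure Rel (u v d : G) : Prop where
  u3 : u ^ 3 = 1
  v3 : v ^ 3 = 1
  d2 : d * d = 1
  du : d * u * d = u⁻¹
  dv : d * v * d = v⁻¹
  zu : Commute (u * v * u⁻¹ * v⁻¹) u
  zv : Commute (u * v * u⁻¹ * v⁻¹) v
  zne : u * v * u⁻¹ * v⁻¹ ≠ 1
  dne : d ≠ 1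
  gen : Subgroup.closure ({u, v, d} : Set G) = ⊤

/-- Exponents. -/
abbrev Idx : Type := ZMod 3 × ZMod 3 × ZMod 3 × ZMod 2

/-- The multiplication rule. -/
def rule (a b : Idx) : Idx :=
  if a.2.2.2 = 0 then
    (a.1 + b.1, a.2.1 + b.2.1, a.2.2.1 + b.2.2.1 - a.2.1 * b.1, a.2.2.2 + b.2.2.2)
  else
    (a.1 - b.1, a.2.1 - b.2.1, a.2.2.1 + b.2.2.1 + a.2.1 * b.1, a.2.2.2 + b.2.2.2)

/-- A power with exponent modulo three. -/
def pw (x : G) (a : ZMod 3) : G := x ^ a.val

theorem pw_cast {x : G} (hx : x ^ 3 = 1) (n : ℕ) : pw x (n : ZMod 3) = x ^ n := by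
  rw [pw, ZMod.val_natCast]
  conv_rhs => rw [← Nat.mod_add_div n 3, pow_add, pow_mul, hx, one_pow, mul_one]

theorem pw_add {x : G} (hx : x ^ 3 = 1) (a b : ZMod 3) : pw x (a + b) = pw x a * pw x b := by
  conv_lhs => rw [← ZMod.natCast_zmod_val a, ← ZMod.natCast_zmod_val b, ← Nat.cast_add]
  rw [pw_cast hx, pow_add]
  rfl

theorem pw_neg {x : G} (hx : x ^ 3 = 1) (a : ZMod 3) : pw x (-a) = (pw x a)⁻¹ := by
  refine eq_inv_of_mul_eq_one_left ?_
  rw [← pw_add hx, neg_add_cancel, pw, ZMod.val_zero, pow_zero]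

theorem pw_zero (x : G) : pw x 0 = 1 := by rw [pw, ZMod.val_zero, pow_zero]

theorem pw_one (x : G) : pw x 1 = x := by rw [pw, show (1 : ZMod 3).val = 1 from rfl, pow_one]

/-- The normal form. -/
def nf (u v d : G) (a : Idx) : G :=
  pw u a.1 * pw v a.2.1 * pw (u * v * u⁻¹ * v⁻¹) a.2.2.1 * d ^ a.2.2.2.val

variable {u v d : G} (h : Rel u v d)
include h

theorem swap_one : v * u = (u * v * u⁻¹ * v⁻¹)⁻¹ * (u * v) := by group

theorem swap (i j : ℕ) :
    v ^ j * u ^ i = u ^ i * v ^ j * ((u * v * u⁻¹ * v⁻¹)⁻¹) ^ (i * j) := by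
  set w := (u * v * u⁻¹ * v⁻¹)⁻¹ with hw
  have hwu : Commute w u := h.zu.inv_left
  have hwv : Commute w v := h.zv.inv_left
  have h1 : ∀ i : ℕ, v * u ^ i = u ^ i * v * w ^ i := by
    intro i
    induction i with
    | zero => simp
    | succ i ih =>
      rw [pow_succ, ← mul_assoc, ih, mul_assoc (u ^ i * v), (hwu.pow_left i).eq, ← mul_assoc,
        mul_assoc (u ^ i), swap_one h, ← hw, (hwu.mul_right hwv).eq, pow_succ' w i]
      simp only [mul_assoc]
  induction j with
  | zero => simp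
  | succ j ih =>
    rw [pow_succ, mul_assoc, h1, ← mul_assoc, ← mul_assoc, ih, mul_assoc (u ^ i * v ^ j),
      (hwv.pow_left (i * j)).eq, ← mul_assoc, mul_assoc (u ^ i * v ^ j * v), ← pow_add,
      mul_assoc (u ^ i)]
    congr 1

theorem z3 : (u * v * u⁻¹ * v⁻¹) ^ 3 = 1 := by
  have := swap h 3 1
  rw [h.u3, one_mul, mul_one, pow_one, mul_one, left_eq_mul, inv_pow, inv_eq_one] at this
  exact this

theorem dz : Commute d (u * v * u⁻¹ * v⁻¹) := by
  have hdi : d⁻¹ = d := inv_eq_of_mul_eq_one_right h.d2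
  set z := u * v * u⁻¹ * v⁻¹ with hz
  have e : d * z * d = z := by
    calc d * z * d = (d * u * d) * (d * v * d) * (d * u * d)⁻¹ * (d * v * d)⁻¹ := by
          rw [hz]; simp only [mul_inv_rev, hdi, mul_assoc]
          simp only [← mul_assoc d d, h.d2, one_mul, mul_one]
      _ = (v * u)⁻¹ * (u * v) := by rw [h.du, h.dv, inv_inv, inv_inv, mul_inv_rev]; simp only [mul_assoc]
      _ = (u * v)⁻¹ * z * (u * v) := by rw [swap_one h, mul_inv_rev, inv_inv]
      _ = z := by rw [mul_assoc, (h.zu.mul_right h.zv).eq, inv_mul_cancel_left]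
  calc d * z = d * z * (d * d) := by rw [h.d2, mul_one]
    _ = z * d := by rw [← mul_assoc, e]

theorem nf_mul (a b : Idx) : nf u v d a * nf u v d b = nf u v d (rule a b) := by
  set z := u * v * u⁻¹ * v⁻¹ with hz
  have hz3 := z3 h
  have hswap : ∀ i j : ZMod 3, pw v j * pw u i = pw u i * pw v j * pw z (-(j * i)) := by
    intro i j
    rw [show pw v j * pw u i = pw u i * pw v j * (z⁻¹) ^ (i.val * j.val) from swap h i.val j.val,
      inv_pow, pw_neg hz3]
    congr 2
    rw [← pw_cast hz3, Nat.cast_mul, ZMod.natCast_zmod_val, ZMod.natCast_zmod_val, mul_comm]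
  have hzu : ∀ i k, Commute (pw z k) (pw u i) := fun i k => h.zu.pow_pow _ _
  have hzv : ∀ j k, Commute (pw z k) (pw v j) := fun j k => h.zv.pow_pow _ _
  -- moving `d` to the right
  have hd : ∀ b : Idx, d * nf u v d b =
      pw u (-b.1) * pw v (-b.2.1) * pw z b.2.2.1 * (d * d ^ b.2.2.2.val) := by
    intro b
    have cu : SemiconjBy d u u⁻¹ := by
      show d * u = u⁻¹ * d
      rw [← h.du, mul_assoc, h.d2, mul_one]
    have cv : SemiconjBy d v v⁻¹ := by
      show d * v = v⁻¹ * d
      rw [← h.dv, mul_assoc, h.d2, mul_one]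
    rw [nf, ← hz, ← mul_assoc, ← mul_assoc, ← mul_assoc,
      show d * pw u b.1 = u⁻¹ ^ b.1.val * d from (cu.pow_right b.1.val).eq,
      mul_assoc _ d (pw v b.2.1), show d * pw v b.2.1 = v⁻¹ ^ b.2.1.val * d from (cv.pow_right b.2.1.val).eq,
      ← mul_assoc,
      mul_assoc _ d (pw z b.2.2.1),
      show d * pw z b.2.2.1 = pw z b.2.2.1 * d from ((dz h).pow_right b.2.2.1.val).eq, pw_neg h.u3, pw_neg h.v3,
      inv_pow, inv_pow]
    simp only [pw, mul_assoc]
  have key : ∀ (i j k i' j' k' : ZMod 3) (r : G),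
      pw u i * pw v j * pw z k * (pw u i' * pw v j' * pw z k' * r) =
        pw u (i + i') * pw v (j + j') * pw z (k + k' - j * i') * r := by
    intro i j k i' j' k' r
    calc pw u i * pw v j * pw z k * (pw u i' * pw v j' * pw z k' * r)
        = pw u i * pw v j * (pw z k * pw u i') * pw v j' * pw z k' * r := by simp only [mul_assoc]
      _ = pw u i * (pw v j * pw u i') * (pw z k * pw v j') * pw z k' * r := by
          rw [(hzu i' k).eq]; simp only [mul_assoc]
      _ = pw u i * pw u i' * pw v j * (pw z (-(j * i')) * pw v j') * pw z k * pw z k' * r := by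
          rw [hswap, (hzv j' k).eq]; simp only [mul_assoc]
      _ = _ := by
          rw [(hzv j' _).eq, pw_add h.u3, pw_add h.v3, sub_eq_neg_add, pw_add hz3, pw_add hz3]
          simp only [mul_assoc, hz]
  obtain ⟨i, j, k, l⟩ := a
  obtain ⟨i', j', k', l'⟩ := b
  have hl : l = 0 ∨ l = 1 := by revert l; decide
  rcases hl with rfl | rfl
  · simp only [rule, if_true]
    rw [show nf u v d (i, j, k, (0 : ZMod 2)) = pw u i * pw v j * pw z k by
      simp [nf, ← hz]]
    exact (key i j k i' j' k' (d ^ l'.val)).trans (by simp [nf, ← hz])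
  · simp only [rule, one_ne_zero, if_false]
    rw [show nf u v d (i, j, k, (1 : ZMod 2)) = pw u i * pw v j * pw z k * d by
      simp [nf, ← hz, show (1 : ZMod 2).val = 1 from rfl], mul_assoc _ d, hd, key]
    have he : ∀ l' : ZMod 2, d * d ^ l'.val = d ^ ((1 : ZMod 2) + l').val := by
      intro l'
      have hl' : l' = 0 ∨ l' = 1 := by revert l'; decide
      rcases hl' with rfl | rfl
      · simp [show (1 : ZMod 2).val = 1 from rfl]
      · rw [show ((1 : ZMod 2) + 1).val = 0 from rfl, show (1 : ZMod 2).val = 1 from rfl, pow_one,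
          h.d2, pow_zero]
    rw [he, nf]
    simp [← hz, sub_eq_add_neg, mul_neg, neg_neg]

theorem nf_zero : nf u v d 0 = 1 := by
  simp [nf, pw_zero]

theorem nf_bijective : Function.Bijective (nf u v d) := by
  have hz3 := z3 h
  set z := u * v * u⁻¹ * v⁻¹ with hz
  have zpw : ∀ k : ZMod 3, pw z k = 1 → k = 0 := by
    intro k hk
    have hk3 : k = 0 ∨ k = 1 ∨ k = -1 := by clear hk; revert k; decide
    rcases hk3 with rfl | rfl | rfl
    · rfl
    · exact absurd (by rwa [pw_one] at hk) h.zne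
    · rw [pw_neg hz3, pw_one, inv_eq_one] at hk
      exact absurd hk h.zne
  have hone : ∀ a, nf u v d a = 1 → a = 0 := by
    rintro ⟨i, j, k, l⟩ ha
    have hl : l = 0 ∨ l = 1 := by clear ha; revert l; decide
    rcases hl with rfl | rfl
    · have hi : i = 0 := by
        have h1 := nf_mul h (i, j, k, 0) (0, 1, 0, 0)
        have h2 := nf_mul h (0, 1, 0, 0) (i, j, k, 0)
        rw [ha, one_mul] at h1
        rw [ha, mul_one, h1] at h2
        simp only [nf, rule, if_true, zero_add, add_zero, mul_zero, sub_zero, one_mul, ← hz,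
          add_comm (1 : ZMod 3) j] at h2
        have h3 := mul_left_cancel (mul_right_cancel h2)
        rw [sub_eq_add_neg, pw_add hz3, left_eq_mul] at h3
        exact neg_eq_zero.1 (zpw _ h3)
      subst hi
      have hj : j = 0 := by
        have h1 := nf_mul h (0, j, k, 0) (1, 0, 0, 0)
        have h2 := nf_mul h (1, 0, 0, 0) (0, j, k, 0)
        rw [ha, one_mul] at h1
        rw [ha, mul_one, h1] at h2
        simp only [nf, rule, if_true, zero_add, add_zero, mul_zero, sub_zero, zero_mul, mul_one, ← hz] at h2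
        have h3 := mul_left_cancel (mul_right_cancel h2)
        rw [sub_eq_add_neg, pw_add hz3, mul_eq_left] at h3
        exact neg_eq_zero.1 (zpw _ h3)
      subst hj
      have hk : k = 0 := zpw k (by simpa [nf, pw_zero, ← hz] using ha)
      rw [hk]; rfl
    · exfalso
      set x := nf u v d (i, j, k, 0)
      have hx : x * d = 1 := by
        rw [← ha]
        simp [x, nf, show (1 : ZMod 2).val = 1 from rfl]
      have hrule : ∀ a : ZMod 3 × ZMod 3 × ZMod 3, rule (a.1, a.2.1, a.2.2, 0)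
          (rule (a.1, a.2.1, a.2.2, 0) (a.1, a.2.1, a.2.2, 0)) = 0 := by decide +kernel
      have hx3 : x * (x * x) = 1 := by rw [nf_mul h, nf_mul h, hrule (i, j, k), nf_zero h]
      have hxd : x = d := by rw [eq_inv_of_mul_eq_one_left hx, inv_eq_of_mul_eq_one_right h.d2]
      rw [hxd, h.d2, mul_one] at hx3
      exact h.dne hx3
  constructor
  · intro a b hab
    have hinv : ∀ b : Idx, ∃ b' : Idx, rule b b' = 0 ∧ rule b' b = 0 := by decide +kernel
    obtain ⟨b', hb1, -⟩ := hinv b
    have h1 : nf u v d (rule a b') = 1 := by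
      rw [← nf_mul h, hab, nf_mul h, hb1, nf_zero h]
    have hcancel : ∀ a b b' : Idx, rule b b' = 0 → rule a b' = 0 → a = b := by
      have huniq : ∀ b' : Idx, ∃ c : Idx, ∀ a : Idx, rule a b' = 0 → a = c := by decide +kernel
      intro a b b' e1 e2
      obtain ⟨c, hc⟩ := huniq b'
      rw [hc a e2, hc b e1]
    exact hcancel a b b' hb1 (hone _ h1)
  · intro g
    have hg : g ∈ Subgroup.closure ({u, v, d} : Set G) := h.gen ▸ Subgroup.mem_top g
    induction hg using Subgroup.closure_induction with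
    | mem x hx =>
      rcases hx with rfl | rfl | rfl
      · exact ⟨(1, 0, 0, 0), by simp [nf, pw_zero, pw_one]⟩
      · exact ⟨(0, 1, 0, 0), by simp [nf, pw_zero, pw_one]⟩
      · exact ⟨(0, 0, 0, 1), by simp [nf, pw_zero, show (1 : ZMod 2).val = 1 from rfl]⟩
    | one => exact ⟨0, nf_zero h⟩
    | mul x y _ _ hx hy =>
      obtain ⟨a, rfl⟩ := hx
      obtain ⟨b, rfl⟩ := hy
      exact ⟨_, (nf_mul h a b).symm⟩
    | inv x _ hx =>
      obtain ⟨a, rfl⟩ := hx
      have hinv : ∀ a : Idx, ∃ a' : Idx, rule a a' = 0 := by decide +kernel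
      obtain ⟨a', ha'⟩ := hinv a
      exact ⟨a', eq_inv_of_mul_eq_one_right (by rw [nf_mul h, ha', nf_zero h])⟩

omit h in
/-- Two groups with these generators and relations are isomorphic. -/
theorem nonempty_mulEquiv {G' : Type*} [Group G'] {u' v' d' : G'} (h : Rel u v d) (h' : Rel u' v' d') :
    Nonempty (G ≃* G') := by
  let e := (Equiv.ofBijective _ (nf_bijective h)).symm.trans (Equiv.ofBijective _ (nf_bijective h'))
  refine ⟨MulEquiv.mk e fun x y => ?_⟩
  obtain ⟨a, rfl⟩ := (nf_bijective h).2 x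
  obtain ⟨b, rfl⟩ := (nf_bijective h).2 y
  have he : ∀ a, e (nf u v d a) = nf u' v' d' a := fun a => by
    simp [e, Equiv.ofBijective_symm_apply_apply]
  show e _ = e _ * e _
  rw [nf_mul h, he, he, he, nf_mul h']

omit h in
theorem card_eq (h : Rel u v d) : Nat.card G = 54 := by
  rw [← Nat.card_congr (Equiv.ofBijective _ (nf_bijective h))]
  simp [Nat.card_prod]

end Cfsg.Agent.ThreeTrans.HeisTwo
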