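import Cfsg.Prelude.Def_Classical
import Cfsg.Agent.Classical.HermGroup
import Cfsg.Agent.ThreeTrans.HeisTwo

/-!
# The derived group of SU₃(2)
-/

set_option autoImplicit false

open Cfsg.Agent.Classical Cfsg.Agent.Classical.Herm
open scoped Matrix
open scoped commutatorElement

namespace Cfsg.Agent.ThreeTrans.SU32

/-- The field with four elements. -/
inductive F4 where
  | o | e | w | w'
  deriving DecidableEq

namespace F4

instance : Fintype F4 := ⟨{o, e, w, w'}, fun x => by cases x <;> decide⟩
instance : Zero F4 := ⟨o⟩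
instance : One F4 := ⟨e⟩
instance : Inhabited F4 := ⟨o⟩

instance : Add F4 := ⟨fun
  | o, b => b
  | a, o => a
  | e, e => o | e, w => w' | e, w' => w
  | w, e => w' | w, w => o | w, w' => e
  | w', e => w | w', w => e | w', w' => o⟩

instance : Neg F4 := ⟨fun a => a⟩

instance : Mul F4 := ⟨fun
  | o, _ => o
  | _, o => o
  | e, b => b
  | a, e => a
  | w, w => w' | w, w' => e
  | w', w => e | w', w' => w⟩

instance : Inv F4 := ⟨fun | o => o | e => e | w => w' | w' => w⟩

instance : Field F4 where
  add_assoc := by decide +kernel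
  zero_add := by decide +kernel
  add_zero := by decide +kernel
  nsmul := nsmulRec
  zsmul := zsmulRec
  neg_add_cancel := by decide +kernel
  add_comm := by decide +kernel
  left_distrib := by decide +kernel
  right_distrib := by decide +kernel
  zero_mul := by decide +kernel
  mul_zero := by decide +kernel
  mul_assoc := by decide +kernel
  one_mul := by decide +kernel
  mul_one := by decide +kernel
  mul_comm := by decide +kernel
  exists_pair_ne := ⟨o, e, by decide⟩
  mul_inv_cancel := by decide +kernel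
  inv_zero := rfl
  nnqsmul := _
  nnqsmul_def := fun _ _ => rfl
  qsmul := _
  qsmul_def := fun _ _ => rfl

theorem card_eq : Fintype.card F4 = 4 := rfl

/-- The automorphism of order two. -/
def frob : F4 →+* F4 where
  toFun a := a * a
  map_one' := rfl
  map_mul' := by decide +kernel
  map_zero' := rfl
  map_add' := by decide +kernel

theorem frob_pow (a : F4) : frob a = a ^ 2 := (sq a).symm

theorem frob_invol : IsInvol frob := by
  refine ⟨fun h => ?_, by decide +kernel⟩
  have := RingHom.congr_fun h w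
  exact absurd this (by decide)

theorem card_fix : Nat.card (fixField frob) = 2 := by
  have h : ∀ a : F4, frob a = a ↔ a = o ∨ a = e := by decide +kernel
  rw [← Nat.card_congr (Equiv.subtypeEquivRight (p := fun a : F4 => a = o ∨ a = e)
    (q := fun a => a ∈ fixField frob) fun a => (h a).symm.trans mem_fixField.symm),
    Nat.card_eq_fintype_card]
  rfl

end F4

open F4

/-- The sesquilinear product. -/
def form (u v : Fin 3 → F4) : F4 := u 0 * u 0 * v 0 + u 1 * u 1 * v 1 + u 2 * u 2 * v 2

theorem hermB_eq (u v : Fin 3 → F4) : hermB 3 frob u v = form u v := by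
  rw [hermB_apply, Fin.sum_univ_three]
  rfl

/-- The matrix of a transvection. -/
def tvM (v : Fin 3 → F4) : Matrix (Fin 3) (Fin 3) F4 :=
  Matrix.of fun i j => (if i = j then 1 else 0) + v i * (v j * v j)

theorem tvM_mulVec (v x : Fin 3 → F4) : tvM v *ᵥ x = x + form v x • v := by
  funext i
  fin_cases i <;>
    · simp [tvM, Matrix.mulVec, dotProduct, Fin.sum_univ_three, form]
      ring

/-- An element of `SU₃(2)` from a matrix. -/
def mk (M : Matrix (Fin 3) (Fin 3) F4) (hd : M.det = 1)
    (h : ∀ i j, form (fun k => M k i) (fun k => M k j) = if i = j then 1 else 0) : Cfsg.SU 3 F4 2 :=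
  ⟨⟨M, hd⟩, (mem_SU_iff frob_pow _).2 ((preserves_iff_cols M).2 fun i j => by
    simp only [Matrix.mulVec_single_one, hermB_eq]
    exact h i j)⟩

theorem form_eq (A : Cfsg.SU 3 F4 2) (u v : Fin 3 → F4) :
    form (A.1.1 *ᵥ u) (A.1.1 *ᵥ v) = form u v := by
  rw [← hermB_eq, ← hermB_eq]
  exact (mem_SU_iff frob_pow A.1).1 A.2 u v

/-- The transvections. -/
def T : Set (Cfsg.SU 3 F4 2) := {A | ∃ v, v ≠ 0 ∧ form v v = 0 ∧ A.1.1 = tvM v}

theorem normal_closure_T : (Subgroup.closure T).Normal := by
  constructor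
  intro n hn g
  induction hn using Subgroup.closure_induction with
  | mem A hA =>
    obtain ⟨v, hv, hv0, hA⟩ := hA
    refine Subgroup.subset_closure ⟨g.1.1 *ᵥ v, fun h => hv ?_, (form_eq g v v).trans hv0, ?_⟩
    · calc v = (g⁻¹ * g).1.1 *ᵥ v := by simp
        _ = 0 := by
          rw [Subgroup.coe_mul, Matrix.SpecialLinearGroup.coe_mul, ← Matrix.mulVec_mulVec, h,
            Matrix.mulVec_zero]
    · refine Matrix.ext_of_mulVec_single fun i => ?_
      generalize (Pi.single i (1 : F4) : Fin 3 → F4) = x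
      have hgx : g.1.1 *ᵥ ((g⁻¹).1.1 *ᵥ x) = x := by
        rw [Matrix.mulVec_mulVec, ← Matrix.SpecialLinearGroup.coe_mul, ← Subgroup.coe_mul, mul_inv_cancel,
          OneMemClass.coe_one, Matrix.SpecialLinearGroup.coe_one, Matrix.one_mulVec]
      rw [Subgroup.coe_mul, Subgroup.coe_mul, Matrix.SpecialLinearGroup.coe_mul,
        Matrix.SpecialLinearGroup.coe_mul, ← Matrix.mulVec_mulVec, ← Matrix.mulVec_mulVec, hA,
        tvM_mulVec, tvM_mulVec, Matrix.mulVec_add, Matrix.mulVec_smul, hgx]
      congr 2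
      rw [← form_eq g v, hgx]
  | one => simp
  | mul a b _ _ ha hb => simpa [mul_assoc] using mul_mem ha hb
  | inv a _ ha => simpa [mul_assoc] using inv_mem ha

/-- First generator. -/
def gd : Cfsg.SU 3 F4 2 := mk (tvM ![e, e, o]) (by decide +kernel) (by decide +kernel)
/-- Second generator. -/
def ge : Cfsg.SU 3 F4 2 := mk (tvM ![o, e, e]) (by decide +kernel) (by decide +kernel)
/-- Third generator. -/
def gf : Cfsg.SU 3 F4 2 := mk (tvM ![e, w, o]) (by decide +kernel) (by decide +kernel)
/-- An element of order four. -/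
def ga : Cfsg.SU 3 F4 2 :=
  mk (Matrix.of ![![e, w, e], ![w, e, e], ![w, w, w']]) (by decide +kernel) (by decide +kernel)
/-- An element of order four. -/
def gb : Cfsg.SU 3 F4 2 :=
  mk (Matrix.of ![![e, w, w], ![w, e, w], ![e, e, w']]) (by decide +kernel) (by decide +kernel)

/-- The inverse of `ga`. -/
def gai : Cfsg.SU 3 F4 2 :=
  mk (Matrix.of ![![e, w', w'], ![w', e, w'], ![e, e, w]]) (by decide +kernel) (by decide +kernel)
/-- The inverse of `gb`. -/
def gbi : Cfsg.SU 3 F4 2 :=
  mk (Matrix.of ![![e, w', e], ![w', e, e], ![w', w', w]]) (by decide +kernel) (by decide +kernel)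

theorem words : ∀ v : Fin 3 → F4, v ≠ 0 → form v v = 0 → tvM v ∈
    [gd.1.1, ge.1.1, gf.1.1, gd.1.1 * ge.1.1 * gd.1.1, gd.1.1 * gf.1.1 * gd.1.1,
      ge.1.1 * gf.1.1 * ge.1.1, ge.1.1 * gd.1.1 * gf.1.1 * gd.1.1 * ge.1.1,
      gf.1.1 * gd.1.1 * ge.1.1 * gd.1.1 * gf.1.1,
      gf.1.1 * ge.1.1 * gd.1.1 * gf.1.1 * gd.1.1 * ge.1.1 * gf.1.1] := by decide +kernel

theorem sq_gd : gd * gd = 1 := Subtype.ext (Subtype.ext (by decide +kernel))
theorem sq_ge : ge * ge = 1 := Subtype.ext (Subtype.ext (by decide +kernel))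
theorem sq_gf : gf * gf = 1 := Subtype.ext (Subtype.ext (by decide +kernel))

theorem closure_T : Subgroup.closure T = Subgroup.closure {gd, ge, gf} := by
  refine le_antisymm ((Subgroup.closure_le _).2 ?_) ((Subgroup.closure_le _).2 ?_)
  · rintro A ⟨v, hv, hv0, hA⟩
    have hd : gd ∈ Subgroup.closure {gd, ge, gf} := Subgroup.subset_closure (by simp)
    have he : ge ∈ Subgroup.closure {gd, ge, gf} := Subgroup.subset_closure (by simp)
    have hf : gf ∈ Subgroup.closure {gd, ge, gf} := Subgroup.subset_closure (by simp)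
    have key : ∀ B ∈ Subgroup.closure {gd, ge, gf}, B.1.1 = A.1.1 →
        A ∈ Subgroup.closure {gd, ge, gf} := fun B hB h => by
      rwa [show A = B from Subtype.ext (Subtype.ext h.symm)]
    have h := words v hv hv0
    rw [← hA] at h
    simp only [List.mem_cons, List.not_mem_nil, or_false] at h
    rcases h with h | h | h | h | h | h | h | h | h
    · exact key gd hd h.symm
    · exact key ge he h.symm
    · exact key gf hf h.symm
    · exact key (gd * ge * gd) (mul_mem (mul_mem hd he) hd) h.symm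
    · exact key (gd * gf * gd) (mul_mem (mul_mem hd hf) hd) h.symm
    · exact key (ge * gf * ge) (mul_mem (mul_mem he hf) he) h.symm
    · exact key (ge * gd * gf * gd * ge) (mul_mem (mul_mem (mul_mem (mul_mem he hd) hf) hd) he) h.symm
    · exact key (gf * gd * ge * gd * gf) (mul_mem (mul_mem (mul_mem (mul_mem hf hd) he) hd) hf) h.symm
    · exact key (gf * ge * gd * gf * gd * ge * gf)
        (mul_mem (mul_mem (mul_mem (mul_mem (mul_mem (mul_mem hf he) hd) hf) hd) he) hf) h.symm
  · rintro A (rfl | rfl | rfl) <;>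
      exact Subgroup.subset_closure ⟨_, by decide +kernel, by decide +kernel, rfl⟩

/-- The derived group has the relations of the group of order 54. -/
theorem exists_rel : ∃ u v d : ↥(commutator (Cfsg.SU 3 F4 2)), HeisTwo.Rel u v d := by
  set K := Subgroup.closure ({gd, ge, gf} : Set (Cfsg.SU 3 F4 2)) with hK
  have hKT : Subgroup.closure T = K := closure_T
  have hKn : K.Normal := hKT ▸ normal_closure_T
  have hd : gd ∈ K := Subgroup.subset_closure (by simp)
  have he : ge ∈ K := Subgroup.subset_closure (by simp)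
  have hf : gf ∈ K := Subgroup.subset_closure (by simp)
  have ext : ∀ A B : Cfsg.SU 3 F4 2, A.1.1 = B.1.1 → A = B := fun A B h => Subtype.ext (Subtype.ext h)
  have ext' : ∀ A B : K, A.1.1.1 = B.1.1.1 → A = B := fun A B h => Subtype.ext (ext _ _ h)
  have hrel : HeisTwo.Rel (⟨gd * ge, mul_mem hd he⟩ : K) ⟨gd * gf, mul_mem hd hf⟩ ⟨gd, hd⟩ := by
    have hdi : gd⁻¹ = gd := inv_eq_of_mul_eq_one_right sq_gd
    have hei : ge⁻¹ = ge := inv_eq_of_mul_eq_one_right sq_ge
    have hfi : gf⁻¹ = gf := inv_eq_of_mul_eq_one_right sq_gf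
    refine ⟨Subtype.ext (show (gd * ge) ^ 3 = 1 from ext _ _ (by decide +kernel)),
      Subtype.ext (show (gd * gf) ^ 3 = 1 from ext _ _ (by decide +kernel)),
      Subtype.ext sq_gd, Subtype.ext ?_, Subtype.ext ?_, Subtype.ext ?_, Subtype.ext ?_, ?_, ?_, ?_⟩
    · show gd * (gd * ge) * gd = (gd * ge)⁻¹
      rw [mul_inv_rev, hdi, hei, ← mul_assoc gd gd, sq_gd, one_mul]
    · show gd * (gd * gf) * gd = (gd * gf)⁻¹
      rw [mul_inv_rev, hdi, hfi, ← mul_assoc gd gd, sq_gd, one_mul]
    · show gd * ge * (gd * gf) * (gd * ge)⁻¹ * (gd * gf)⁻¹ * (gd * ge) =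
        gd * ge * (gd * ge * (gd * gf) * (gd * ge)⁻¹ * (gd * gf)⁻¹)
      rw [mul_inv_rev, mul_inv_rev, hdi, hei, hfi]
      exact ext _ _ (by decide +kernel)
    · show gd * ge * (gd * gf) * (gd * ge)⁻¹ * (gd * gf)⁻¹ * (gd * gf) =
        gd * gf * (gd * ge * (gd * gf) * (gd * ge)⁻¹ * (gd * gf)⁻¹)
      rw [mul_inv_rev, mul_inv_rev, hdi, hei, hfi]
      exact ext _ _ (by decide +kernel)
    · intro h
      have h' : gd * ge * (gd * gf) * (gd * ge)⁻¹ * (gd * gf)⁻¹ = 1 := congrArg Subtype.val h
      rw [mul_inv_rev, mul_inv_rev, hdi, hei, hfi] at h'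
      exact absurd (congrArg (fun A : Cfsg.SU 3 F4 2 => A.1.1) h') (by decide +kernel)
    · intro h
      have h' : gd = 1 := congrArg Subtype.val h
      exact absurd (congrArg (fun A : Cfsg.SU 3 F4 2 => A.1.1) h') (by decide +kernel)
    · rw [eq_top_iff]
      rintro ⟨x, hx⟩ -
      set L := Subgroup.closure ({⟨gd * ge, mul_mem hd he⟩, ⟨gd * gf, mul_mem hd hf⟩, ⟨gd, hd⟩} : Set K)
      have h : x ∈ L.map K.subtype := by
        refine (Subgroup.closure_le _).2 ?_ hx
        have h1 : gd * ge ∈ L.map K.subtype := ⟨_, Subgroup.subset_closure (Or.inl rfl), rfl⟩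
        have h2 : gd * gf ∈ L.map K.subtype := ⟨_, Subgroup.subset_closure (Or.inr (Or.inl rfl)), rfl⟩
        have h3 : gd ∈ L.map K.subtype := ⟨_, Subgroup.subset_closure (Or.inr (Or.inr rfl)), rfl⟩
        rintro y (rfl | rfl | rfl)
        · exact h3
        · have := mul_mem h3 h1
          rwa [← mul_assoc, sq_gd, one_mul] at this
        · have := mul_mem h3 h2
          rwa [← mul_assoc, sq_gd, one_mul] at this
      obtain ⟨y, hy, hyx⟩ := h
      exact (show y = ⟨x, hx⟩ from Subtype.ext hyx) ▸ hy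
  -- the derived group is this subgroup
  have hcardK : Nat.card K = 54 := HeisTwo.card_eq hrel
  have hcard : Nat.card (Cfsg.SU 3 F4 2) = 216 := by
    have h := card_SU_mul_eq_GU (n := 3) (q := 2) frob_invol frob_pow card_fix (by norm_num)
    rw [card_GU_formula frob_invol frob_pow card_fix] at h
    simp [Finset.prod_range_succ] at h
    omega
  have hidx : K.index = 2 ^ 2 := by
    have := K.index_mul_card
    rw [hcardK, hcard] at this
    omega
  have hle : commutator (Cfsg.SU 3 F4 2) ≤ K := by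
    have := Fact.mk Nat.prime_two
    have hcomm := IsPGroup.commutative_of_card_eq_prime_sq (p := 2) (G := Cfsg.SU 3 F4 2 ⧸ K) hidx
    refine Subgroup.commutator_le.2 fun a _ b _ => ?_
    rw [← QuotientGroup.eq_one_iff, ← QuotientGroup.mk'_apply, map_commutatorElement,
      commutatorElement_eq_one_iff_commute]
    exact hcomm _ _
  have hge : K ≤ commutator (Cfsg.SU 3 F4 2) := by
    have hai : ga⁻¹ = gai := inv_eq_of_mul_eq_one_right (ext _ _ (by decide +kernel))
    have hbi : gb⁻¹ = gbi := inv_eq_of_mul_eq_one_right (ext _ _ (by decide +kernel))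
    have hdc : gd ∈ commutator (Cfsg.SU 3 F4 2) := by
      rw [show gd = ⁅ga, gb⁆ by
        rw [commutatorElement_def, hai, hbi]; exact ext _ _ (by decide +kernel)]
      exact Subgroup.commutator_mem_commutator (Subgroup.mem_top _) (Subgroup.mem_top _)
    have hn : (commutator (Cfsg.SU 3 F4 2)).Normal := inferInstance
    rw [hK, Subgroup.closure_le]
    rintro y (rfl | rfl | rfl)
    · exact hdc
    · rw [SetLike.mem_coe, show ge = (gd * ge) * gd * (gd * ge)⁻¹ by
        rw [mul_inv_rev, inv_eq_of_mul_eq_one_right sq_gd, inv_eq_of_mul_eq_one_right sq_ge]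
        exact ext _ _ (by decide +kernel)]
      exact hn.conj_mem _ hdc _
    · rw [SetLike.mem_coe, show gf = (gd * gf) * gd * (gd * gf)⁻¹ by
        rw [mul_inv_rev, inv_eq_of_mul_eq_one_right sq_gd, inv_eq_of_mul_eq_one_right sq_gf]
        exact ext _ _ (by decide +kernel)]
      exact hn.conj_mem _ hdc _
  rw [le_antisymm hle hge]
  exact ⟨_, _, _, hrel⟩

end Cfsg.Agent.ThreeTrans.SU32
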