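import Cfsg.Agent.ThreeTrans.PlaneIso

/-!
# Arcs in the planes of the unitary model

A member `z` moving `a` and `b` gives the double conjugation `twist a b z`, exchanging the two. In
a plane through `a`, `b` and `x` every point moved by `z` is on a side of the quadrangle
`a, b, x, twist a b z x`.
-/

set_option autoImplicit false

open Cfsg Cfsg.Agent.Classical Cfsg.Agent.Classical.Herm Module

namespace Cfsg.Agent.ThreeTrans

/-- The conjugation by `(z b z)(z a z)`. -/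
def twist {G : Type*} [Group G] (a b z x : G) : G :=
  (z * b * z) * ((z * a * z) * x * (z * a * z)) * (z * b * z)

/-- What is used about arcs. -/
structure Arcs {G : Type*} [Group G] (S : Set G) : Prop where
  arc : ∀ a ∈ S, ∀ b ∈ dperp S a, ∀ x ∈ S, Commute x a → Commute x b → x ∉ ln S a b →
    ∀ z ∈ S, ¬ Commute z a → ¬ Commute z b → ¬ Commute z x →
      twist a b z x ∈ S ∧ twist a b z x ≠ x ∧
      ∀ p ∈ pl S a b x, ¬ Commute z p → p ∈ ln S a b ∨ p ∈ ln S a x ∨ p ∈ ln S b x ∨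
        p ∈ ln S a (twist a b z x) ∨ p ∈ ln S b (twist a b z x) ∨ p ∈ ln S x (twist a b z x)
  six : ∀ a ∈ S, ∀ b ∈ dperp S a, ∀ r ∈ S, Commute r a → Commute r b → r ∉ ln S a b →
    ∀ z ∈ S, ¬ Commute z a → ¬ Commute z b →
      6 ≤ {u | u ∈ pl S a b r ∧ u ∉ ln S a b ∧ ¬ Commute z u}.ncard

variable {G K : Type*} [Group G] [Group K] {S : Set G} {T : Set K} {φ : G → K}

theorem SetIso.twist (h : SetIso S T φ) (hS : ClosedSet S) {a b z x : G} (ha : a ∈ S) (hb : b ∈ S)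
    (hz : z ∈ S) (hx : x ∈ S) :
    φ (twist a b z x) = Cfsg.Agent.ThreeTrans.twist (φ a) (φ b) (φ z) (φ x) := by
  have h1 := hS.conj z hz a ha
  have h2 := hS.conj z hz b hb
  unfold ThreeTrans.twist
  rw [h.conj _ h2 _ (hS.conj _ h1 x hx), h.conj _ h1 x hx, h.conj z hz b hb, h.conj z hz a ha]

theorem SetIso.arcs (h : SetIso S T φ) (hS : ClosedSet S) (hT : Arcs T) : Arcs S := by
  have hm : ∀ {x}, x ∈ S → φ x ∈ T := fun hx => h.bij.mapsTo hx
  have hq : ∀ {p q}, p ∈ S → q ∈ dperp S p → φ q ∈ dperp T (φ p) := fun hp hq =>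
    (h.restrict hp).bij.mapsTo hq
  have hc : ∀ {x y}, x ∈ S → y ∈ S → Commute x y → Commute (φ x) (φ y) := fun hx hy hxy =>
    (h.comm _ hx _ hy).2 hxy
  have hn : ∀ {x y}, x ∈ S → y ∈ S → ¬ Commute x y → ¬ Commute (φ x) (φ y) := fun hx hy hxy hh =>
    hxy ((h.comm _ hx _ hy).1 hh)
  have hl : ∀ {p q x}, p ∈ S → q ∈ S → x ∈ S → φ x ∈ ln T (φ p) (φ q) → x ∈ ln S p q :=
    fun {p q x} hp hq hx hh => by
      rw [← h.ln_image hp hq] at hh
      obtain ⟨e, he, heq⟩ := hh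
      rwa [← h.bij.injOn he.1 hx heq]
  refine ⟨fun a ha b hb x hx h1 h2 h3 z hz h4 h5 h6 => ?_,
    fun a ha b hb r hr h1 h2 h3 z hz h4 h5 => ?_⟩
  · obtain ⟨-, k2, k3⟩ := hT.arc _ (hm ha) _ (hq ha hb) _ (hm hx) (hc hx ha h1) (hc hx hb.1 h2)
      (fun hh => h3 (hl ha hb.1 hx hh)) _ (hm hz) (hn hz ha h4) (hn hz hb.1 h5) (hn hz hx h6)
    have hS' : ThreeTrans.twist a b z x ∈ S := hS.conj _ (hS.conj z hz b hb.1) _
      (hS.conj _ (hS.conj z hz a ha) x hx)
    rw [← h.twist hS ha hb.1 hz hx] at k2 k3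
    refine ⟨hS', fun hh => k2 (by rw [hh]), fun p hp hzp => ?_⟩
    have hp' : φ p ∈ pl T (φ a) (φ b) (φ x) := h.pl_image ha hb.1 hx ▸ ⟨p, hp, rfl⟩
    rcases k3 _ hp' (hn hz hp.1 hzp) with k | k | k | k | k | k
    · exact Or.inl (hl ha hb.1 hp.1 k)
    · exact Or.inr (Or.inl (hl ha hx hp.1 k))
    · exact Or.inr (Or.inr (Or.inl (hl hb.1 hx hp.1 k)))
    · exact Or.inr (Or.inr (Or.inr (Or.inl (hl ha hS' hp.1 k))))
    · exact Or.inr (Or.inr (Or.inr (Or.inr (Or.inl (hl hb.1 hS' hp.1 k)))))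
    · exact Or.inr (Or.inr (Or.inr (Or.inr (Or.inr (hl hx hS' hp.1 k)))))
  · have h6 := hT.six _ (hm ha) _ (hq ha hb) _ (hm hr) (hc hr ha h1) (hc hr hb.1 h2)
      (fun hh => h3 (hl ha hb.1 hr hh)) _ (hm hz) (hn hz ha h4) (hn hz hb.1 h5)
    rw [show {u | u ∈ pl T (φ a) (φ b) (φ r) ∧ u ∉ ln T (φ a) (φ b) ∧ ¬ Commute (φ z) u} =
      φ '' {u | u ∈ pl S a b r ∧ u ∉ ln S a b ∧ ¬ Commute z u} from ?_,
      (h.bij.injOn.mono fun u hu => hu.1.1).ncard_image] at h6
    · exact h6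
    apply Set.ext
    intro k
    constructor
    · rintro ⟨hk, hk1, hk2⟩
      rw [← h.pl_image ha hb.1 hr] at hk
      obtain ⟨u, hu, rfl⟩ := hk
      exact ⟨u, ⟨hu, fun hh => hk1 (h.ln_image ha hb.1 ▸ ⟨u, hh, rfl⟩),
        fun hh => hk2 (hc hz hu.1 hh)⟩, rfl⟩
    · rintro ⟨u, ⟨hu, hu1, hu2⟩, rfl⟩
      exact ⟨h.pl_image ha hb.1 hr ▸ ⟨u, hu, rfl⟩, fun hh => hu1 (hl ha hb.1 hu.1 hh),
        hn hz hu.1 hu2⟩

namespace UModel

variable {F V : Type*} [Field F] [AddCommGroup V] [Module F V] {θ : F →+* F}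
  {B : V →ₛₗ[θ] V →ₗ[F] F} (hB : Space B) {E : Set K} {tp : Pt B → K} (hM : Model B E tp)

include hB hM

/-- A point moved by `z` can be scaled to product one with it. -/
theorem exists_normal (z a : Pt B) (h : B z.1 a.1 ≠ 0) :
    ∃ a' : Pt B, tp a' = tp a ∧ B z.1 a'.1 = 1 := by
  refine ⟨⟨(B z.1 a.1)⁻¹ • a.1, smul_ne_zero (inv_ne_zero h) a.2.1, by simp [a.2.2]⟩,
    tp_smul hB hM a _ rfl, by simp [inv_mul_cancel₀ h]⟩

theorem conj_val (z a : Pt B) : ∃ u : Pt B, u.1 = a.1 + B z.1 a.1 • z.1 ∧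
    tp z * tp a * tp z = tp u := exists_move hB hM z a

/-- The points of a plane are the combinations of three of them. -/
theorem mem_pl {b c r v : Pt B} (hbc : B b.1 c.1 = 0) (hind : ∀ k : F, c.1 ≠ k • b.1)
    (hbr : B b.1 r.1 = 0) (hcr : B c.1 r.1 = 0) (hr : tp r ∉ ln E (tp b) (tp c)) :
    tp v ∈ pl E (tp b) (tp c) (tp r) ↔
      ∃ α β γ : F, v.1 = α • b.1 + β • c.1 + γ • r.1 := by
  constructor
  · intro hv
    have hq : tp c ∈ dperp E (tp b) := (mem_dperp hM b c).2 ⟨hbc, hind⟩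
    obtain ⟨k1, k2, k3⟩ := commute_pl (tp_mem hM b) hq (tp_mem hM r)
      ((hM.comm_iff _ _).2 ((symm_zero hB).1 hbr)) ((hM.comm_iff _ _).2 ((symm_zero hB).1 hcr)) hv
    rw [hM.comm_iff] at k1 k2 k3
    obtain ⟨a, z, z₂, Q', s, t, hQ, -, -, -, -, -, -, -, -, -, -, -, -, -, -, -, -, -, -, hspan⟩ :=
      exists_frame hB b.2.1 b.2.2 c.2.1 c.2.2 r.2.2 hbc hbr hcr hind (frame_of hB hM hbc hind hr)
    have hv' := hspan v.1 k1 k2 k3
    refine ⟨B a v.1 - B z₂ v.1 * s, B z v.1 - B z₂ v.1 * t, B z₂ v.1, ?_⟩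
    conv_lhs => rw [hv']
    rw [hQ, smul_add, smul_add, smul_smul, smul_smul, sub_smul, sub_smul]
    abel
  · rintro ⟨α, β, γ, h⟩
    refine ⟨tp_mem hM v, fun y hy h1 h2 h3 => ?_⟩
    obtain ⟨w, rfl⟩ := exists_tp hM hy
    rw [hM.comm_iff] at h1 h2 h3 ⊢
    rw [h]
    simp [h1, h2, h3]

theorem arcs (hF : Nat.card F = 4) [Finite K] : Arcs E := by
  classical
  have := hB.finF
  have := Fintype.ofFinite F
  refine ⟨fun ga hga gb hgb gx hgx hxa hxb hxl gz hgz hza hzb hzx => ?_,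
    fun ga hga gb hgb gr hgr hra hrb hrl gz hgz hza hzb => ?_⟩
  · obtain ⟨z, rfl⟩ := exists_tp hM hgz
    obtain ⟨a₀, rfl⟩ := exists_tp hM hga
    obtain ⟨b₀, rfl⟩ := exists_tp hM hgb.1
    obtain ⟨x₀, rfl⟩ := exists_tp hM hgx
    rw [hM.comm_iff] at hza hzb hzx
    obtain ⟨a, ea, za⟩ := exists_normal hB hM z a₀ hza
    obtain ⟨b, eb, zb⟩ := exists_normal hB hM z b₀ hzb
    obtain ⟨x, ex, zx⟩ := exists_normal hB hM z x₀ hzx
    rw [← ea] at hgb hxa hxl ⊢
    rw [← eb] at hgb hxb hxl ⊢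
    rw [← ex] at hxa hxb hxl ⊢
    obtain ⟨hab, hind⟩ := (mem_dperp hM a b).1 hgb
    rw [hM.comm_iff] at hxa hxb
    have hax := (symm_zero hB).1 hxa
    have hbx := (symm_zero hB).1 hxb
    have hba := (symm_zero hB).1 hab
    have haz := symm_one hB za
    have hbz := symm_one hB zb
    have hfr := frame_of hB hM hab hind hxl
    obtain ⟨u₁, hu₁, e₁⟩ := conj_val hB hM z a
    obtain ⟨u₂, hu₂, e₂⟩ := conj_val hB hM z b
    rw [za, one_smul] at hu₁
    rw [zb, one_smul] at hu₂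
    obtain ⟨u₃, hu₃, e₃⟩ := conj_val hB hM u₁ x
    obtain ⟨x', hx', e₄⟩ := conj_val hB hM u₂ u₃
    have he : twist (tp a) (tp b) (tp z) (tp x) = tp x' := by
      rw [twist, e₁, e₂, e₃, e₄]
    have hx'v : x'.1 = a.1 + b.1 + x.1 := by
      have h3 : u₃.1 = x.1 + (a.1 + z.1) := by
        rw [hu₃, hu₁]
        simp [hax, zx]
      have h4 : B u₂.1 u₃.1 = 1 := by
        rw [hu₂, h3]
        simp [hbx, hba, hbz, zx, za, z.2.2, add_self' hB]
      rw [hx', h4, one_smul, h3, hu₂]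
      have := vadd_self hB z.1
      linear_combination (norm := module) this
    rw [he]
    have hne : tp x' ≠ tp x := fun h => by
      obtain ⟨k, hk⟩ := (hM.eq_iff x' x).1 h
      rw [hx'v] at hk
      rcases eq_or_ne k 1 with rfl | hk1
      · rw [one_smul] at hk
        refine hind 1 ?_
        rw [one_smul]
        have := vadd_self hB a.1
        linear_combination (norm := module) -hk - this
      · have h1 : (1 - k) ≠ 0 := sub_ne_zero.2 (Ne.symm hk1)
        refine hfr ((1 - k)⁻¹ * k) ((1 - k)⁻¹ * k) ?_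
        refine smul_right_injective V h1 (show (1 - k) • x.1 = (1 - k) • _ from ?_)
        rw [smul_add, smul_smul, smul_smul, mul_inv_cancel_left₀ h1]
        linear_combination (norm := module) hk
    refine ⟨tp_mem hM x', hne, fun p hp hzp => ?_⟩
    obtain ⟨v, rfl⟩ := exists_tp hM hp.1
    rw [hM.comm_iff] at hzp
    obtain ⟨α, β, γ, hv⟩ := (mem_pl hB hM hab hind hax hbx hxl).1 hp
    have hsum : α + β + γ ≠ 0 := by
      intro h
      refine hzp ?_
      rw [hv]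
      simpa [za, zb, zx] using h
    have hax' : B a.1 x'.1 = 0 := by simp [hx'v, hab, hax, a.2.2]
    have hbx' : B b.1 x'.1 = 0 := by simp [hx'v, hba, hbx, b.2.2]
    have hxx' : B x.1 x'.1 = 0 := by simp [hx'v, hxa, hxb, x.2.2]
    have hia : ∀ k : F, x.1 ≠ k • a.1 := fun k h => hfr k 0 (by simpa using h)
    have hib : ∀ k : F, x.1 ≠ k • b.1 := fun k h => hfr 0 k (by simpa using h)
    have hia' : ∀ k : F, x'.1 ≠ k • a.1 := fun k h => hfr (k - 1) (-1) (by
      rw [hx'v] at h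
      linear_combination (norm := module) h)
    have hib' : ∀ k : F, x'.1 ≠ k • b.1 := fun k h => hfr (-1) (k - 1) (by
      rw [hx'v] at h
      linear_combination (norm := module) h)
    have hix' : ∀ k : F, x'.1 ≠ k • x.1 := fun k h => hne (tp_smul hB hM x x' h)
    rcases eq_or_ne γ 0 with hγ | hγ
    · exact Or.inl ((mem_ln hB hM a b hab hind v).2 ⟨α, β, by rw [hv, hγ, zero_smul, add_zero]⟩)
    rcases eq_or_ne β 0 with hβ | hβ
    · exact Or.inr (Or.inl ((mem_ln hB hM a x hax hia v).2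
        ⟨α, γ, by rw [hv, hβ, zero_smul, add_zero]⟩))
    rcases eq_or_ne α 0 with hα | hα
    · exact Or.inr (Or.inr (Or.inl ((mem_ln hB hM b x hbx hib v).2
        ⟨β, γ, by rw [hv, hα, zero_smul, zero_add]⟩)))
    rcases eq_or_ne β γ with hβγ | hβγ
    · exact Or.inr (Or.inr (Or.inr (Or.inl ((mem_ln hB hM a x' hax' hia' v).2
        ⟨α - γ, γ, by rw [hv, hβγ, hx'v]; module⟩))))
    rcases eq_or_ne α γ with hαγ | hαγ
    · exact Or.inr (Or.inr (Or.inr (Or.inr (Or.inl ((mem_ln hB hM b x' hbx' hib' v).2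
        ⟨β - γ, γ, by rw [hv, hαγ, hx'v]; module⟩)))))
    rcases eq_or_ne α β with hαβ | hαβ
    · exact Or.inr (Or.inr (Or.inr (Or.inr (Or.inr ((mem_ln hB hM x x' hxx' hix' v).2
        ⟨γ - β, β, by rw [hv, hαβ, hx'v]; module⟩)))))
    exfalso
    have hcard : ({0, α, β, γ} : Finset F).card = 4 := by
      rw [Finset.card_insert_of_notMem, Finset.card_insert_of_notMem, Finset.card_pair hβγ]
      · simp [hαβ, hαγ]
      · simp [hα.symm, hβ.symm, hγ.symm]
    have h4 := Finset.eq_univ_of_card _ (by rw [hcard, ← Nat.card_eq_fintype_card, hF])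
    have hm := Finset.mem_univ (α + β)
    rw [← h4] at hm
    simp only [Finset.mem_insert, Finset.mem_singleton] at hm
    rcases hm with h | h | h | h
    · exact hαβ (eq_of_add hB _ _ h)
    · exact hβ (by linear_combination h)
    · exact hα (by linear_combination h)
    · exact hsum (by rw [h, add_self' hB])
  · obtain ⟨z, rfl⟩ := exists_tp hM hgz
    obtain ⟨a₀, rfl⟩ := exists_tp hM hga
    obtain ⟨b₀, rfl⟩ := exists_tp hM hgb.1
    obtain ⟨r, rfl⟩ := exists_tp hM hgr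
    rw [hM.comm_iff] at hza hzb
    obtain ⟨a, ea, za⟩ := exists_normal hB hM z a₀ hza
    obtain ⟨b, eb, zb⟩ := exists_normal hB hM z b₀ hzb
    rw [← ea] at hgb hra hrl ⊢
    rw [← eb] at hgb hrb hrl ⊢
    obtain ⟨hab, hind⟩ := (mem_dperp hM a b).1 hgb
    rw [hM.comm_iff] at hra hrb
    have har := (symm_zero hB).1 hra
    have hbr := (symm_zero hB).1 hrb
    have hba := (symm_zero hB).1 hab
    have hfr := frame_of hB hM hab hind hrl
    let w : F × Fˣ → V := fun k => (k.1 + k.2 + k.2 * B z.1 r.1) • a.1 +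
      (1 + k.1 + k.2) • b.1 + (k.2 : F) • r.1
    have hw0 : ∀ k, w k ≠ 0 := fun k h => hfr _ _ (smul_right_injective V k.2.ne_zero
      (show (k.2 : F) • r.1 = (k.2 : F) • ((-(k.2 : F)⁻¹ * (k.1 + k.2 + k.2 * B z.1 r.1)) • a.1 +
          (-(k.2 : F)⁻¹ * (1 + k.1 + k.2)) • b.1) by
        rw [smul_add, smul_smul, smul_smul, ← mul_assoc, ← mul_assoc, mul_neg,
          mul_inv_cancel₀ k.2.ne_zero]
        linear_combination (norm := module) h))
    have hww : ∀ k, B (w k) (w k) = 0 := fun k => by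
      simp [w, a.2.2, b.2.2, r.2.2, hab, hba, har, hra, hbr, hrb]
    have hwz : ∀ k, B z.1 (w k) = 1 := fun k => by
      simp only [w, map_add, map_smul, smul_eq_mul, za, zb, mul_one]
      linear_combination add_self' hB k.1 + add_self' hB (k.2 : F) +
        add_self' hB ((k.2 : F) * B z.1 r.1)
    let f : F × Fˣ → Pt B := fun k => ⟨w k, hw0 k, hww k⟩
    have hinj : Function.Injective fun k => tp (f k) := by
      intro k k' h
      obtain ⟨c, hc⟩ := (hM.eq_iff (f k) (f k')).1 h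
      change w k' = c • w k at hc
      have h1 := congrArg (B z.1) hc
      rw [map_smul, hwz, hwz, smul_eq_mul, mul_one] at h1
      rw [← h1, one_smul] at hc
      simp only [w] at hc
      have h2 : (k'.2 : F) = k.2 := by
        by_contra hne
        have h2 : (k'.2 : F) - k.2 ≠ 0 := sub_ne_zero.2 hne
        refine hfr _ _ (smul_right_injective V h2 (show ((k'.2 : F) - k.2) • r.1 = _ • (
          (((k'.2 : F) - k.2)⁻¹ * ((k.1 + k.2 + k.2 * B z.1 r.1) -
            (k'.1 + k'.2 + k'.2 * B z.1 r.1))) • a.1 +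
          (((k'.2 : F) - k.2)⁻¹ * ((1 + k.1 + k.2) - (1 + k'.1 + k'.2))) • b.1) by
          rw [smul_add, smul_smul, smul_smul, mul_inv_cancel_left₀ h2, mul_inv_cancel_left₀ h2]
          linear_combination (norm := module) hc))
      refine Prod.ext ?_ (Units.ext h2.symm)
      by_contra hne
      refine hind (-1) (smul_right_injective V (sub_ne_zero.2 hne)
        (show (k.1 - k'.1) • b.1 = (k.1 - k'.1) • ((-1 : F) • a.1) from ?_))
      rw [h2] at hc
      linear_combination (norm := module) -hc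
    have hsub : Set.range (fun k => tp (f k)) ⊆
        {u | u ∈ pl E (tp a) (tp b) (tp r) ∧ u ∉ ln E (tp a) (tp b) ∧ ¬ Commute (tp z) u} := by
      rintro - ⟨k, rfl⟩
      refine ⟨(mem_pl hB hM hab hind har hbr hrl).2 ⟨_, _, _, rfl⟩, fun h => ?_, fun h => ?_⟩
      · obtain ⟨α, β, hv⟩ := (mem_ln hB hM a b hab hind _).1 h
        change w k = _ at hv
        simp only [w] at hv
        refine hfr _ _ (smul_right_injective V k.2.ne_zero (show (k.2 : F) • r.1 = (k.2 : F) • (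
          ((k.2 : F)⁻¹ * (α - (k.1 + k.2 + k.2 * B z.1 r.1))) • a.1 +
            ((k.2 : F)⁻¹ * (β - (1 + k.1 + k.2))) • b.1) by
          rw [smul_add, smul_smul, smul_smul, mul_inv_cancel_left₀ k.2.ne_zero,
            mul_inv_cancel_left₀ k.2.ne_zero]
          linear_combination (norm := module) hv))
      · rw [hM.comm_iff] at h
        exact one_ne_zero ((hwz k).symm.trans h)
    refine le_trans ?_ (Set.ncard_le_ncard hsub (Set.toFinite _))
    rw [← Nat.card_coe_set_eq, Nat.card_range_of_injective hinj, Nat.card_prod, Nat.card_units, hF]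
    norm_num

end UModel

theorem arcs_layer {X : Type*} [Group X] [Finite X] {D₀ : Set X}
    (hD : IsThreeTranspositionGroup (D₀ \ {1})) (h : IsOfTypeM22 X D₀) :
    ∀ t ∈ D₀ \ {1}, Arcs (dperp (D₀ \ {1}) t) := by
  obtain ⟨⟨hcls, -, hN⟩, -, -⟩ := layerData_of_M22 hD h
  obtain ⟨-, d, hd0, c, -, hdc, ⟨F, hFld, hFt, hF, ⟨e⟩⟩, -, -, -⟩ := h
  have hd : d ∈ D₀ \ {1} := ⟨hd0, fun hh => hdc (by rw [hh]; exact Commute.one_left c)⟩
  set H := Subgroup.closure {y : X | y ∈ D₀ ∧ y ≠ d ∧ Commute d y}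
  have hH : H = Subgroup.closure (dperp (D₀ \ {1}) d) := closure_congr_one (dperp_diff_iff d)
  have hcard : 2 ^ 15 ∣ Nat.card (H ⧸ Subgroup.center H) := by
    rw [Nat.card_congr e.toEquiv]
    exact two_pow_dvd_psu hF
  have : IsSimpleGroup (H ⧸ Subgroup.center H) :=
    (MulEquiv.isSimpleGroup_congr e).2 (Cfsg.Agent.S0283.result
      (by rw [hF]; norm_num : Fintype.card F = 2 ^ 2) 6 (by norm_num) (by norm_num))
  have hgrp := lowImage_group hD hH
  have hG := good_of_simple (not_isMulCommutative_of_two_pow_dvd hgrp hcard) hgrp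
  obtain ⟨q, hq, -⟩ := hG.2.1
  obtain ⟨θ, tp, hB, hM⟩ := psu_model hF e hgrp ⟨q, hq⟩
  intro t ht
  obtain ⟨φ, hφ⟩ := exists_layer_iso hD hd hH hcls hG hN ht
  exact hφ.arcs ((closedSet_of_group hD).dperp t)
    (UModel.arcs hB hM (by rw [Nat.card_eq_fintype_card, hF]))

/-- The layers of a set of type M(22) have arcs. -/
theorem arcs_of_M22 [Finite G] {D : Set G} (hD : IsThreeTranspositionGroup D)
    (h : IsOfTypeM22 G D) : ∀ t ∈ D, Arcs (dperp D t) := by
  have e : D \ {1} = D := Set.sdiff_singleton_eq_self fun h1 => ne_one hD.1 h1 rfl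
  have := arcs_layer (D₀ := D) (by rwa [e]) h
  rwa [e] at this

end Cfsg.Agent.ThreeTrans
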