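import Cfsg.Agent.ThreeTrans.ResidueM22
import Cfsg.Agent.ThreeTrans.UnitaryArc
import Cfsg.Agent.AutPSU.Structure
import Cfsg.Agent.RankOne.Semilinear

/-!
# The centraliser of a product of two commuting members in type M(22)

For commuting members `a`, `b` the centraliser `C` of `a * b` contains `pairCen a b` with index two,
and `C` modulo the kernel of the residue map is the automorphism group of PSU(4, 2).
-/

set_option autoImplicit false

open Cfsg

namespace Cfsg.Agent.ThreeTrans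

variable {G : Type*} [Group G] {D : Set G}

/-- Every pair of commuting members has a residue. -/
theorem exists_residue [Finite G] (hD : IsThreeTranspositionGroup D) (h22 : IsOfTypeM22 G D)
    (hcls : IsThreeTranspositionClass D) :
    ∃ (F : Type) (_ : Field F) (_ : Fintype F), Fintype.card F = 4 ∧
      ∀ a ∈ D, ∀ b ∈ dperp D a, ∃ φ : ↥(pairCen a b) →* PSU 4 F 2, Residue D a b F φ := by
  have e : D \ {1} = D := Set.sdiff_singleton_eq_self fun h1 => ne_one hD.1 h1 rfl
  have hres := residue_diff (D₀ := D) (by rwa [e]) h22 h22.1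
  rw [e] at hres
  obtain ⟨d, hd, F, hFld, hFt, hF, hres⟩ := hres
  refine ⟨F, hFld, hFt, hF, fun a ha b hb => ?_⟩
  obtain ⟨g, rfl⟩ := class_isConj hcls hd ha
  have hc := hD.2.1
  have hb' : g⁻¹ * b * g ∈ dperp D d := by
    have := dperp_conj hc g⁻¹ hb
    simpa [mul_assoc] using this
  obtain ⟨b₀, rfl⟩ : ∃ b₀, g * b₀ * g⁻¹ = b := ⟨g⁻¹ * b * g, by group⟩
  replace hb' : b₀ ∈ dperp D d := by simpa [mul_assoc] using hb'
  obtain ⟨φ, hφ⟩ := hres b₀ hb'
  have hmem : ∀ {k : G}, k ∈ pairCen (g * d * g⁻¹) (g * b₀ * g⁻¹) ↔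
      g⁻¹ * k * g ∈ pairCen d b₀ := by
    intro k
    rw [mem_pairCen, mem_pairCen, ← commute_conj g (g⁻¹ * k * g) d,
      ← commute_conj g (g⁻¹ * k * g) b₀, show g * (g⁻¹ * k * g) * g⁻¹ = k by group]
  let ε : ↥(pairCen (g * d * g⁻¹) (g * b₀ * g⁻¹)) ≃* ↥(pairCen d b₀) :=
    { toFun := fun k => ⟨g⁻¹ * k * g, hmem.1 k.2⟩
      invFun := fun k => ⟨g * k * g⁻¹, hmem.2 (by
        rw [show g⁻¹ * (g * (k : G) * g⁻¹) * g = k by group]; exact k.2)⟩
      left_inv := fun k => Subtype.ext (show g * (g⁻¹ * (k : G) * g) * g⁻¹ = k by group)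
      right_inv := fun k => Subtype.ext (show g⁻¹ * (g * (k : G) * g⁻¹) * g = k by group)
      map_mul' := fun k l => Subtype.ext (show g⁻¹ * ((k : G) * l) * g =
        g⁻¹ * (k : G) * g * (g⁻¹ * (l : G) * g) by group) }
  have hV : ∀ {u : G}, u ∈ Subgroup.closure ({d, b₀} : Set G) →
      g * u * g⁻¹ ∈ Subgroup.closure ({g * d * g⁻¹, g * b₀ * g⁻¹} : Set G) := by
    intro u hu
    have h : (Subgroup.closure ({d, b₀} : Set G)).map (MulAut.conj g).toMonoidHom ≤
        Subgroup.closure ({g * d * g⁻¹, g * b₀ * g⁻¹} : Set G) := by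
      rw [MonoidHom.map_closure, Subgroup.closure_le]
      rintro - ⟨x, rfl | rfl, rfl⟩
      exacts [Subgroup.subset_closure (Or.inl rfl), Subgroup.subset_closure (Or.inr rfl)]
    exact h ⟨u, hu, rfl⟩
  refine ⟨φ.comp ε.toMonoidHom, hφ.surj.comp ε.surjective, ?_, fun k => ?_, fun k hk => ?_,
    fun k l hk hl => ?_⟩
  · rw [← hφ.card]
    exact Nat.card_congr (ε.toEquiv.subtypeEquiv fun k => Iff.rfl)
  · refine (hφ.iff_one (ε k)).trans ⟨fun h x hx => ?_, fun h x hx => ?_⟩
    · obtain ⟨y, rfl⟩ : ∃ y, g * y * g⁻¹ = x := ⟨g⁻¹ * x * g, by group⟩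
      have hy : y ∈ dperp (dperp D d) b₀ := by
        obtain ⟨⟨h1, h2, h3⟩, h4, h5⟩ := hx
        refine ⟨⟨?_, fun e => h2 (by rw [e]), (commute_conj g d y).1 h3⟩,
          fun e => h4 (by rw [e]), (commute_conj g b₀ y).1 h5⟩
        have := hc g⁻¹ _ h1
        simpa [mul_assoc] using this
      rw [show (k : G) * (g * y * g⁻¹) * (k : G)⁻¹ =
        g * ((ε k : G) * y * (ε k : G)⁻¹) * g⁻¹ from show _ =
          g * ((g⁻¹ * (k : G) * g) * y * (g⁻¹ * (k : G) * g)⁻¹) * g⁻¹ by group]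
      exact (commute_conj g _ _).2 (h y hy)
    · have hx' : g * x * g⁻¹ ∈ dperp (dperp D (g * d * g⁻¹)) (g * b₀ * g⁻¹) :=
        ⟨dperp_conj hc g hx.1, fun e => hx.2.1 (mul_left_cancel (mul_right_cancel e)),
          (commute_conj g b₀ x).2 hx.2.2⟩
      have := h _ hx'
      rw [show (k : G) * (g * x * g⁻¹) * (k : G)⁻¹ =
        g * ((ε k : G) * x * (ε k : G)⁻¹) * g⁻¹ from show _ =
          g * ((g⁻¹ * (k : G) * g) * x * (g⁻¹ * (k : G) * g)⁻¹) * g⁻¹ by group] at this
      exact (commute_conj g _ _).1 this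
  · have := hV (hφ.sq (ε k) hk)
    rwa [show g * (ε k : G) ^ 2 * g⁻¹ = (k : G) ^ 2 from
      show g * (g⁻¹ * (k : G) * g) ^ 2 * g⁻¹ = _ by rw [sq, sq]; group] at this
  · have := hV (hφ.comm (ε k) (ε l) hk hl)
    rwa [show g * ((ε k : G) * (ε l : G) * (ε k : G)⁻¹ * (ε l : G)⁻¹) * g⁻¹ =
        (k : G) * l * (k : G)⁻¹ * (l : G)⁻¹ from
      show g * ((g⁻¹ * (k : G) * g) * (g⁻¹ * (l : G) * g) * (g⁻¹ * (k : G) * g)⁻¹ *
        (g⁻¹ * (l : G) * g)⁻¹) * g⁻¹ = _ by group] at this

section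

variable {a b w z : G}

theorem twist_eq (hD : IsThreeTranspositionSet D) (ha : a ∈ D) (hb : b ∈ D) (hz : z ∈ D) (x : G) :
    twist a b z x = z * b * z * (z * a * z) * x * (z * b * z * (z * a * z))⁻¹ := by
  simp only [twist, mul_inv_rev, inv_eq hD ha, inv_eq hD hb, inv_eq hD hz, mul_assoc]

theorem twist_left (hD : IsThreeTranspositionSet D) (ha : a ∈ D) (hb : b ∈ D) (hz : z ∈ D)
    (hza : ¬ Commute z a) (hzb : ¬ Commute z b) : twist a b z a = b := by
  have h1 : (z * a * z) * a * (z * a * z) = z := by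
    rw [braid hD hz ha hza]
    simp only [mul_assoc, mul_self_mul hD ha]
    rw [← mul_assoc z a, ← mul_assoc (z * a) z, braid hD hz ha hza]
    simp only [mul_assoc, mul_self_mul hD ha, mul_self hD ha, mul_one]
  rw [twist, h1, braid hD hz hb hzb]
  simp only [mul_assoc, mul_self_mul hD hb]
  rw [← mul_assoc z b, ← mul_assoc (z * b) z, braid hD hz hb hzb]
  simp only [mul_assoc, mul_self_mul hD hb, mul_self_mul hD hz, mul_self hD hb, mul_one]

theorem twist_right (hD : IsThreeTranspositionSet D) (ha : a ∈ D) (hb : b ∈ D) (hz : z ∈ D)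
    (hab : Commute a b) (hza : ¬ Commute z a) (hzb : ¬ Commute z b) : twist a b z b = a := by
  have h1 : (z * a * z) * b * (z * a * z) = a * (b * z * b) * a := by
    rw [braid hD hz ha hza]
    calc a * z * a * b * (a * z * a) = a * z * (a * b * a) * z * a := by simp only [mul_assoc]
      _ = a * (z * b * z) * a := by rw [conj_self_of_commute hD ha hab]; simp only [mul_assoc]
      _ = a * (b * z * b) * a := by rw [braid hD hz hb hzb]
  rw [twist, h1, braid hD hz hb hzb]
  calc b * z * b * (a * (b * z * b) * a) * (b * z * b)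
      = b * z * (b * a * b) * z * (b * a * b) * z * b := by simp only [mul_assoc]
    _ = b * (z * a * z) * a * z * b := by
        rw [conj_self_of_commute hD hb hab.symm]; simp only [mul_assoc]
    _ = b * a * b := by
        rw [braid hD hz ha hza]
        simp only [mul_assoc, mul_self_mul hD ha, mul_self_mul hD hz]
    _ = a := conj_self_of_commute hD hb hab.symm

/-- A member commutes with its double conjugate. -/
theorem commute_twist (hD : IsThreeTranspositionGroup D) (ha : a ∈ D) (hb : b ∈ D) (hz : z ∈ D)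
    (hab : Commute a b) (hza : ¬ Commute z a) (hzb : ¬ Commute z b) {x : G} (hx : x ∈ D)
    (hxa : Commute x a) (hxb : Commute x b) : Commute x (twist a b z x) := by
  have hT := hD.1
  by_cases hxz : Commute x z
  · have h : Commute x (z * b * z * (z * a * z)) :=
      ((hxz.mul_right hxb).mul_right hxz).mul_right ((hxz.mul_right hxa).mul_right hxz)
    rw [twist_eq hT ha hb hz, ← h.eq, mul_inv_cancel_right]
  have he : z * x * z ∈ D := conj_mem hT hD.2.1 hz hx
  have hea : ∀ c ∈ D, Commute x c → ¬ Commute z c → ¬ Commute (z * x * z) c := by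
    intro c hc hxc hzc h
    refine hxz ?_
    have h1 := (commute_conj z (z * x * z) c).2 h
    rw [inv_eq hT hz, conj_twice (mul_self hT hz), braid hT hz hc hzc] at h1
    have h2 := (commute_conj c x (c * z * c)).2 h1
    rwa [inv_eq hT hc, conj_self_of_commute hT hc hxc.symm, conj_twice (mul_self hT hc)] at h2
  have h := commute_conj_pair hT hb ha he hab.symm (hea b hb hxb hzb) (hea a ha hxa hza)
  have h1 := (commute_conj z _ _).2 h
  rw [inv_eq hT hz, conj_twice (mul_self hT hz)] at h1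
  convert h1 using 1
  rw [twist]
  calc z * b * z * (z * a * z * x * (z * a * z)) * (z * b * z)
      = z * b * (a * (z * x * z) * a) * b * z := by
        simp only [mul_assoc, mul_self_mul hT hz]
    _ = z * (b * a * (z * x * z) * (a * b)) * z := by simp only [mul_assoc]
    _ = z * (b * a * (z * x * z) * (b * a)) * z := by rw [hab.eq]

/-- The three further members of a line have the product of the triple. -/
theorem factor_second (hD : IsThreeTranspositionGroup D) (hZ : Subgroup.center G = ⊥)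
    (hM : M22Data D) {c : G} (ha : a ∈ D) (hb : b ∈ dperp D a) (hc : c ∈ dperp (dperp D a) b) :
    ∃ x₁ x₂ x₃, Factor D 3 (a * b * c) [x₁, x₂, x₃] ∧
      ln (dperp D a) b c = {b, c, x₁, x₂, x₃} ∧ [b, c, x₁, x₂, x₃].Nodup ∧
      ∀ p ∈ [x₁, x₂, x₃], p ∈ dperp D a := by
  obtain ⟨x₁, x₂, x₃, hl, hnd, hco, hprod⟩ := exists_second_triple hD hZ hM ha hb hc
  have hsub : ∀ {p}, p ∈ [x₁, x₂, x₃] → p ∈ [b, c, x₁, x₂, x₃] := fun hp => by
    simp only [List.mem_cons] at hp ⊢; tauto
  have hS : ∀ p ∈ [x₁, x₂, x₃], p ∈ dperp D a := fun p hp => by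
    have : p ∈ ln (dperp D a) b c := by rw [hl]; simpa using hsub hp
    exact this.1
  refine ⟨x₁, x₂, x₃, ⟨(List.nodup_cons.1 (List.nodup_cons.1 hnd).2).2, rfl, fun p hp => (hS p hp).1,
    fun p hp q hq => hco p (hsub hp) q (hsub hq), ?_⟩, hl, hnd, hS⟩
  rw [List.prod_cons, List.prod_cons, List.prod_cons, List.prod_nil, mul_one, ← mul_assoc, hprod]

theorem factor_base (ha : a ∈ D) (hb : b ∈ dperp D a) {c : G} (hc : c ∈ dperp (dperp D a) b) :
    Factor D 3 (a * b * c) [a, b, c] := by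
  refine ⟨?_, rfl, ?_, ?_, by simp [mul_assoc]⟩
  · simp [hb.2.1.symm, hc.1.2.1.symm, hc.2.1.symm]
  · simp only [List.mem_cons, List.not_mem_nil, or_false]
    rintro p (rfl | rfl | rfl)
    exacts [ha, hb.1, hc.1.1]
  · simp only [List.mem_cons, List.not_mem_nil, or_false]
    rintro p (rfl | rfl | rfl) q (rfl | rfl | rfl)
    exacts [Commute.refl _, hb.2.2, hc.1.2.2, hb.2.2.symm, Commute.refl _, hc.2.2, hc.1.2.2.symm,
      hc.2.2.symm, Commute.refl _]

/-- A line in one layer gives a line in another. -/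
theorem mem_ln_swap (hD : IsThreeTranspositionGroup D) (hZ : Subgroup.center G = ⊥)
    (hM : M22Data D) (ha : a ∈ D) (hb : b ∈ dperp D a) (hw : w ∈ dperp (dperp D a) b) {x : G}
    (hx : x ∈ ln (dperp D a) b w) (hxb : x ≠ b) (hxw : x ≠ w) : x ∈ ln (dperp D w) a b := by
  obtain ⟨x₁, x₂, x₃, hX, hXl, -, hXS⟩ := factor_second hD hZ hM ha hb hw
  have haw : a ∈ dperp D w := dperp_symm ha hw.1
  have hbw : b ∈ dperp (dperp D w) a :=
    ⟨⟨hb.1, hw.2.1.symm, hw.2.2.symm⟩, hb.2.1, hb.2.2⟩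
  obtain ⟨y₁, y₂, y₃, hY, hYl, -, hYS⟩ := factor_second hD hZ hM hw.1.1 haw hbw
  rw [show w * a * b = a * b * w from
    (mul_assoc w a b).trans (hw.1.2.2.symm.mul_right hw.2.2.symm).eq] at hY
  have h₀ := factor_base ha hb hw
  obtain ⟨l₂, -, -, hall⟩ := two_factorisations hD hZ hM h₀
  have hX2 := (hall _ hX).resolve_left fun h => (hXS a ((h a).2 (by simp))).2.1 rfl
  have hY2 := (hall _ hY).resolve_left fun h => (hYS w ((h w).2 (by simp))).2.1 rfl
  rw [hXl] at hx
  simp only [Set.mem_insert_iff, Set.mem_singleton_iff] at hx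
  have h1 : x ∈ [x₁, x₂, x₃] := by
    simp only [List.mem_cons, List.not_mem_nil, or_false]; tauto
  have h2 := (hY2 x).2 ((hX2 x).1 h1)
  rw [hYl]
  simp only [List.mem_cons, List.not_mem_nil, or_false] at h2
  simp only [Set.mem_insert_iff, Set.mem_singleton_iff]
  tauto

/-- A point on a line in the layer of `w` makes `w` a factor. -/
theorem mem_of_collinear (hD : IsThreeTranspositionGroup D) (hZ : Subgroup.center G = ⊥)
    (hM : M22Data D) {u v p o₁ o₂ o₃ : G} (hw : w ∈ D) (hu : u ∈ dperp D w)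
    (hv : v ∈ dperp D w) (hp : p ∈ ln (dperp D w) u v)
    (hnd : [u, v, p, o₁, o₂, o₃].Nodup) (hmem : ∀ x ∈ [u, v, p, o₁, o₂, o₃], x ∈ D)
    (hco : ∀ x ∈ [u, v, p, o₁, o₂, o₃], ∀ y ∈ [u, v, p, o₁, o₂, o₃], Commute x y)
    (hone : [u, v, p, o₁, o₂, o₃].prod = 1) : w = o₁ ∨ w = o₂ ∨ w = o₃ := by
  classical
  have hT := hD.1
  simp only [List.nodup_cons, List.mem_cons, List.not_mem_nil, or_false, not_or, List.nodup_nil,
    and_true] at hnd
  obtain ⟨⟨nuv, nup, nu1, nu2, nu3⟩, ⟨nvp, nv1, nv2, nv3⟩, ⟨np1, np2, np3⟩, ⟨n12, n13⟩, n23, -⟩ :=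
    hnd
  have hv' : v ∈ dperp (dperp D w) u :=
    ⟨hv, Ne.symm nuv, hco u (by simp) v (by simp)⟩
  obtain ⟨y₁, y₂, y₃, hY, hYl, -, hYS⟩ := factor_second hD hZ hM hw hu hv'
  have hpY : p ∈ [y₁, y₂, y₃] := by
    rw [hYl] at hp
    simp only [Set.mem_insert_iff, Set.mem_singleton_iff] at hp
    simp only [List.mem_cons, List.not_mem_nil, or_false]
    tauto
  have he := hY.erase hT hpY
  obtain ⟨hn', hlen', hmem', hco', hprod'⟩ := he
  obtain ⟨s, t, hst⟩ := List.length_eq_two.1 hlen'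
  have hs : ∀ q ∈ [s, t], q ∈ [y₁, y₂, y₃] ∧ q ≠ p := fun q hq => by
    rw [← hst] at hq
    exact ⟨List.mem_of_mem_erase hq, (hY.1.mem_erase_iff.1 hq).1⟩
  rw [hst] at hn' hco' hprod'
  simp only [List.prod_cons, List.prod_nil, mul_one] at hprod'
  have hpw : Commute p w := (hYS p hpY).2.2.symm
  have hpu : Commute p u := hco p (by simp) u (by simp)
  have hpv : Commute p v := hco p (by simp) v (by simp)
  have hfac : Factor D 3 (u * v * p) [w, s, t] := by
    refine ⟨?_, rfl, ?_, ?_, ?_⟩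
    · refine List.nodup_cons.2 ⟨fun h => (hYS w (hs w h).1).2.1 rfl, hn'⟩
    · intro q hq
      rcases List.mem_cons.1 hq with rfl | hq
      · exact hw
      · exact (hYS q (hs q hq).1).1
    · intro q hq q' hq'
      rcases List.mem_cons.1 hq with rfl | h1 <;> rcases List.mem_cons.1 hq' with rfl | h2
      · exact Commute.refl _
      · exact (hYS q' (hs q' h2).1).2.2
      · exact (hYS q (hs q h1).1).2.2.symm
      · exact hco' q h1 q' h2
    · simp only [List.prod_cons, List.prod_nil, mul_one]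
      rw [hprod', ← mul_assoc w p, ← hpw.eq]
      calc p * w * (w * u * v) = p * (u * v) := by
            simp only [mul_assoc, mul_self_mul hT hw]
        _ = u * v * p := (hpu.mul_right hpv).eq
  have h₀ : Factor D 3 (u * v * p) [u, v, p] := by
    refine ⟨by simp [nuv, nup, nvp], rfl, fun q hq => hmem q ?_, fun q hq q' hq' =>
      hco q ?_ q' ?_, by simp [mul_assoc]⟩ <;>
      simp only [List.mem_cons, List.not_mem_nil, or_false] at * <;> tauto
  have h₁ : Factor D 3 (u * v * p) [o₁, o₂, o₃] := by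
    refine ⟨by simp [n12, n13, n23], rfl, fun q hq => hmem q ?_, fun q hq q' hq' =>
      hco q ?_ q' ?_, ?_⟩
    rotate_left 3
    · simp only [List.prod_cons, List.prod_nil, mul_one] at hone ⊢
      have hinv : ∀ q ∈ [u, v, p, o₁, o₂, o₃], q * q = 1 := fun q hq => mul_self hT (hmem q hq)
      have h : (o₁ * (o₂ * o₃)) * (o₁ * (o₂ * o₃)) = 1 := by
        have c12 := hco o₁ (by simp) o₂ (by simp)
        have c13 := hco o₁ (by simp) o₃ (by simp)
        have c23 := hco o₂ (by simp) o₃ (by simp)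
        calc (o₁ * (o₂ * o₃)) * (o₁ * (o₂ * o₃))
            = (o₁ * o₁) * ((o₂ * o₃) * (o₂ * o₃)) := (c12.mul_right c13).symm.mul_mul_mul_comm _ _
          _ = 1 := by
            rw [hinv o₁ (by simp), c23.symm.mul_mul_mul_comm, hinv o₂ (by simp),
              hinv o₃ (by simp), one_mul, one_mul]
      rw [← mul_assoc v p, ← mul_assoc u, ← mul_assoc u v] at hone
      exact mul_right_cancel (h.trans hone.symm)
    all_goals simp only [List.mem_cons, List.not_mem_nil, or_false] at *; tauto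
  obtain ⟨l₂, -, -, hall⟩ := two_factorisations hD hZ hM h₀
  have hw2 := (hall _ hfac).resolve_left fun h => by
    have := (h w).1 (by simp)
    simp only [List.mem_cons, List.not_mem_nil, or_false] at this
    rcases this with e | e | e
    exacts [hu.2.1 e.symm, hv.2.1 e.symm, (hYS p hpY).2.1 e.symm]
  have ho2 := (hall _ h₁).resolve_left fun h => by
    have := (h o₁).1 (by simp)
    simp only [List.mem_cons, List.not_mem_nil, or_false] at this
    rcases this with e | e | e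
    exacts [nu1 e.symm, nv1 e.symm, np1 e.symm]
  simpa using (ho2 w).2 ((hw2 w).1 (by simp))

/-- Lines through `b` in the layer of `a` lie in planes of the layer of `w`. -/
theorem line_sub_plane (hD : IsThreeTranspositionGroup D) (hZ : Subgroup.center G = ⊥)
    (hM : M22Data D) (ha : a ∈ D) (hb : b ∈ dperp D a) (hw : w ∈ dperp (dperp D a) b) {x : G}
    (hx : x ∈ dperp D w) (hxA : x ∈ dperp (dperp D a) b) (hxl : x ∉ ln (dperp D w) a b) {p : G}
    (hp : p ∈ ln (dperp D a) b x) : p ∈ pl (dperp D w) a b x := by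
  have hwA : w ∈ dperp D a := hw.1
  have hwp : Commute w p := hp.2 w hwA hw.2.2.symm hx.2.2
  have hpw : p ≠ w := by
    rintro rfl
    have hpair := ((hM.layerLines a ha).pair b hb x hxA b (mem_ln_left hb) p hp
      hw.2.1.symm).2
    exact hxl (mem_ln_swap hD hZ hM ha hb hw (hpair ▸ mem_ln_right hxA.1) hxA.2.1 hx.2.1)
  refine ⟨⟨hp.1.1, hpw, hwp⟩, fun y hy k1 k2 k3 => ?_⟩
  rcases eq_or_ne y a with rfl | hya
  · exact hp.1.2.2
  · exact hp.2 y ⟨hy.1, hya, k1.symm⟩ k2 k3

/-- In a class kept by the double conjugation a moved member leaves the others fixed. -/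
theorem moved_rest [Finite G] (hD : IsThreeTranspositionGroup D) (hZ : Subgroup.center G = ⊥)
    (hF : M22Full D) (hA : ∀ t ∈ D, Arcs (dperp D t)) (ha : a ∈ D) (hb : b ∈ dperp D a)
    (hw : w ∈ dperp (dperp D a) b) (hz : z ∈ dperp D w) (hza : ¬ Commute z a)
    (hzb : ¬ Commute z b) {x : G} (hxS : x ∈ dperp D w) (hxA : x ∈ dperp (dperp D a) b)
    (hxl : x ∉ ln (dperp D w) a b) (hzx : ¬ Commute z x)
    (hyl0 : twist a b z x ∈ ln (dperp D a) b x) :
    twist a b z x ≠ x ∧ ∀ p ∈ ln (dperp D a) b x,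
      p = b ∨ p = x ∨ p = twist a b z x ∨ Commute z p := by
  classical
  have hT := hD.1
  have hM := hF.data
  set S := dperp D w with hS
  have haS : a ∈ S := dperp_symm ha hw.1
  have hbS : b ∈ dperp S a := ⟨⟨hb.1, hw.2.1.symm, hw.2.2.symm⟩, hb.2.1, hb.2.2⟩
  have hax : Commute a x := hxA.1.2.2
  have hbx : Commute b x := hxA.2.2
  have hsub : ∀ p ∈ ln (dperp D a) b x, p ∈ pl S a b x := fun p hp =>
    line_sub_plane hD hZ hM ha hb hw hxS hxA hxl hp
  have hPP : ∀ u ∈ pl S a b x, ∀ v ∈ pl S a b x, Commute u v := by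
    intro u hu v hv
    obtain ⟨h1, h2, h3⟩ := commute_pl haS hbS hxS hax.symm hbx.symm hu
    exact hv.2 u hu.1 h1.symm h2.symm h3.symm
  obtain ⟨-, hne, harc⟩ := (hA w hw.1.1).arc a haS b hbS x hxS hax.symm hbx.symm hxl z hz hza
    hzb hzx
  refine ⟨hne, fun p hp => ?_⟩
  by_contra hcon
  push Not at hcon
  obtain ⟨npb, npx, npy, hzp⟩ := hcon
  set y := twist a b z x with hy
  have hyl := hyl0
  have hty : twist a b z a = b := twist_left hT ha hb.1 hz.1 hza hzb
  have nyb : y ≠ b := fun e => hxA.1.2.1 (by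
    have h := e.trans hty.symm
    rw [hy, twist_eq hT ha hb.1 hz.1, twist_eq hT ha hb.1 hz.1] at h
    exact mul_left_cancel (mul_right_cancel h))
  obtain ⟨x₁, x₂, x₃, hX, hXl, hXnd, -⟩ := factor_second hD hZ hM ha hb hxA
  have hin : ∀ {q}, q ∈ ln (dperp D a) b x → q ≠ b → q ≠ x → q ∈ [x₁, x₂, x₃] := by
    intro q hq h1 h2
    rw [hXl] at hq
    simp only [Set.mem_insert_iff, Set.mem_singleton_iff] at hq
    simp only [List.mem_cons, List.not_mem_nil, or_false]
    tauto
  have hyX := hin hyl nyb hne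
  have hpX := hin hp npb npx
  obtain ⟨q, hq⟩ := List.length_eq_one_iff.1 (show (([x₁, x₂, x₃].erase y).erase p).length = 1 by
    rw [List.length_erase_of_mem ((List.mem_erase_of_ne npy).2 hpX), List.length_erase_of_mem hyX]
    rfl)
  have hperm : [x₁, x₂, x₃].Perm [y, p, q] := by
    refine (List.perm_cons_erase hyX).trans (List.Perm.cons _ ?_)
    rw [← hq]
    exact List.perm_cons_erase ((List.mem_erase_of_ne npy).2 hpX)
  have hqX : q ∈ [x₁, x₂, x₃] := hperm.mem_iff.2 (by simp)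
  obtain ⟨-, hndX⟩ := List.nodup_cons.1 (List.nodup_cons.1 hXnd).2
  have hnd3 : [y, p, q].Nodup := hperm.nodup_iff.1 hndX
  have hnd6 : [a, b, x, y, p, q].Nodup := by
    have h5 : ([b, x] ++ [y, p, q]).Nodup :=
      (List.Perm.append_left [b, x] hperm).nodup_iff.1 hXnd
    refine List.nodup_cons.2 ⟨fun h => ?_, h5⟩
    have hnl : ∀ {u : G}, u ∈ ln (dperp D a) b x → a ≠ u := fun hu e => hu.1.2.1 e.symm
    simp only [List.mem_cons, List.not_mem_nil, or_false] at h
    rcases h with e | e | e | e | e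
    exacts [hnl (mem_ln_left hb) e, hnl (mem_ln_right hxA.1) e, hnl hyl e, hnl hp e,
      hnl (hXl ▸ by simp only [List.mem_cons, List.not_mem_nil, or_false] at hqX
                    simp only [Set.mem_insert_iff, Set.mem_singleton_iff]; tauto) e]
  have hql : q ∈ ln (dperp D a) b x := by
    rw [hXl]
    simp only [List.mem_cons, List.not_mem_nil, or_false] at hqX
    simp only [Set.mem_insert_iff, Set.mem_singleton_iff]
    tauto
  have hsix : ∀ u ∈ [a, b, x, y, p, q], u ∈ pl S a b x := by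
    simp only [List.mem_cons, List.not_mem_nil, or_false]
    rintro u (rfl | rfl | rfl | rfl | rfl | rfl)
    exacts [⟨haS, fun _ _ h _ _ => h⟩, ⟨hbS.1, fun _ _ _ h _ => h⟩, ⟨hxS, fun _ _ _ _ h => h⟩,
      hsub _ hyl, hsub _ hp, hsub _ hql]
  have hone : [a, b, x, y, p, q].prod = 1 := by
    have h1 : [y, p, q].prod = a * b * x := by
      rw [← hperm.prod_eq' (List.pairwise_of_forall_mem_list hX.2.2.2.1), hX.2.2.2.2]
    have h2 : [a, b, x].prod = a * b * x := by simp [mul_assoc]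
    rw [show [a, b, x, y, p, q] = [a, b, x] ++ [y, p, q] from rfl, List.prod_append, h1, h2]
    have c1 : Commute (a * b) x := hax.mul_left hbx
    rw [c1.symm.mul_mul_mul_comm, mul_self hT hxA.1.1, mul_one, hb.2.2.symm.mul_mul_mul_comm,
      mul_self hT ha, mul_self hT hb.1, one_mul]
  -- three of the six are not collinear
  have hex : ∀ u v o₁ o₂ o₃ : G, p ∈ ln S u v → [u, v, p, o₁, o₂, o₃].Perm [a, b, x, y, p, q] →
      False := by
    intro u v o₁ o₂ o₃ hl hpm
    have hin6 : ∀ k ∈ [u, v, p, o₁, o₂, o₃], k ∈ pl S a b x := fun k hk => hsix k (hpm.mem_iff.1 hk)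
    have h := mem_of_collinear hD hZ hM hw.1.1 (hin6 u (by simp)).1 (hin6 v (by simp)).1 hl
      (hpm.nodup_iff.2 hnd6) (fun k hk => (hin6 k hk).1.1)
      (fun k hk k' hk' => hPP k (hin6 k hk) k' (hin6 k' hk'))
      ((hpm.prod_eq' (List.pairwise_of_forall_mem_list fun k hk k' hk' =>
        hPP k (hin6 k hk) k' (hin6 k' hk'))).trans hone)
    rcases h with e | e | e
    exacts [(hin6 o₁ (by simp)).1.2.1 e.symm, (hin6 o₂ (by simp)).1.2.1 e.symm,
      (hin6 o₃ (by simp)).1.2.1 e.symm]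
  have six : ∀ {l : List G}, l.length = 6 → [a, b, x, y, p, q] ⊆ l →
      l.Perm [a, b, x, y, p, q] := fun hlen hsub =>
    ((List.subperm_of_subset hnd6 hsub).perm_of_length_le (by rw [hlen]; rfl)).symm
  rcases harc p (hsub p hp) hzp with k | k | k | k | k | k
  · exact hex a b x y q k (six rfl (by simp))
  · exact hex a x b y q k (six rfl (by simp))
  · exact hex b x a y q k (six rfl (by simp))
  · exact hex a y b x q k (six rfl (by simp))
  · exact hex b y a x q k (six rfl (by simp))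
  · exact hex x y a b q k (six rfl (by simp))

/-- The double conjugation does not preserve the lines through `b`. -/
theorem no_twin [Finite G] (hD : IsThreeTranspositionGroup D) (hZ : Subgroup.center G = ⊥)
    (hF : M22Full D) (hA : ∀ t ∈ D, Arcs (dperp D t)) (ha : a ∈ D) (hb : b ∈ dperp D a)
    (hw : w ∈ dperp (dperp D a) b) (hz : z ∈ dperp D w) (hza : ¬ Commute z a)
    (hzb : ¬ Commute z b)
    (htw : ∀ x ∈ dperp (dperp D a) b, twist a b z x ∈ ln (dperp D a) b x) : False := by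
  classical
  have hT := hD.1
  have hM := hF.data
  set S := dperp D w with hS
  have haS : a ∈ S := dperp_symm ha hw.1
  have hbS : b ∈ dperp S a := ⟨⟨hb.1, hw.2.1.symm, hw.2.2.symm⟩, hb.2.1, hb.2.2⟩
  obtain ⟨r, hr, hra, hrb, hrl⟩ := (hF.planes w hw.1.1).ext a haS b hbS
  have h6 := (hA w hw.1.1).six a haS b hbS r hr hra hrb hrl z hz hza hzb
  set P := pl S a b r
  set M := {u | u ∈ P ∧ u ∉ ln S a b ∧ ¬ Commute z u}
  set L := {u | u ∈ P ∧ Commute z u}
  have hPc : ∀ u ∈ P, Commute a u ∧ Commute b u ∧ Commute r u := fun u hu =>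
    commute_pl haS hbS hr hra hrb hu
  have hPP : ∀ u ∈ P, ∀ v ∈ P, Commute u v := by
    intro u hu v hv
    obtain ⟨h1, h2, h3⟩ := hPc u hu
    exact hv.2 u hu.1 h1.symm h2.symm h3.symm
  have hL5 : L.ncard ≤ 5 := (hF.planes w hw.1.1).bound P (fun u hu => hu.1) hPP z hz a
    ⟨haS, fun y _ h _ _ => h⟩ hza
  have hxab : ∀ x ∈ S, Commute a x → Commute b x → x ∉ ln S a b → x ∈ dperp (dperp D a) b :=
    fun x hx h1 h2 h3 => ⟨⟨hx.1, fun e => h3 (by rw [e]; exact mem_ln_left haS), h1⟩,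
      fun e => h3 (by rw [e]; exact mem_ln_right hbS.1), h2⟩
  -- the members of `M`
  have hMx : ∀ x ∈ M, x ∈ dperp (dperp D a) b ∧
      (∀ p ∈ ln (dperp D a) b x, p ∈ P) ∧ twist a b z x ≠ x ∧
      ∀ p ∈ ln (dperp D a) b x, p = b ∨ p = x ∨ p = twist a b z x ∨ Commute z p := by
    rintro x ⟨hxP, hxl, hzx⟩
    obtain ⟨hax, hbx, -⟩ := hPc x hxP
    have hxA := hxab x hxP.1 hax hbx hxl
    obtain ⟨hne, hrest⟩ := moved_rest hD hZ hF hA ha hb hw hz hza hzb hxP.1 hxA hxl hzx (htw x hxA)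
    refine ⟨hxA, fun p hp => ?_, hne, hrest⟩
    have hsub := line_sub_plane hD hZ hM ha hb hw hxP.1 hxA hxl hp
    exact ⟨hsub.1, fun y hy k1 k2 k3 => hsub.2 y hy k1 k2 (hxP.2 y hy k1 k2 k3)⟩
  -- the count
  have htwo : ∀ x ∈ M, 2 ≤ ((Set.toFinite L).toFinset.filter
      fun f => f ∈ ln (dperp D a) b x ∧ f ≠ b).card := by
    intro x hx
    obtain ⟨hxA, hsubP, -, hall⟩ := hMx x hx
    have h5 := (hM.layerLines a ha).five b hb x hxA
    have hsub : ln (dperp D a) b x ⊆ (↑((Set.toFinite L).toFinset.filter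
        fun f => f ∈ ln (dperp D a) b x ∧ f ≠ b) : Set G) ∪ {b, x, twist a b z x} := by
      intro p hp
      rcases hall p hp with e | e | e | hzp
      iterate 3 exact Or.inr (by simp [e])
      by_cases hpb : p = b
      · exact Or.inr (by simp [hpb])
      refine Or.inl ?_
      simp only [Finset.coe_filter, Set.Finite.mem_toFinset, Set.mem_ofPred_eq]
      exact ⟨⟨hsubP p hp, hzp⟩, hp, hpb⟩
    have h := (Set.ncard_le_ncard hsub (Set.toFinite _)).trans (Set.ncard_union_le _ _)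
    rw [h5, Set.ncard_coe_finset] at h
    have h3 := Set.ncard_insert_le b ({x, twist a b z x} : Set G)
    have h4 := Set.ncard_insert_le x ({twist a b z x} : Set G)
    rw [Set.ncard_singleton] at h4
    omega
  have hfib : ∀ f ∈ L, ((Set.toFinite M).toFinset.filter
      fun x => f ∈ ln (dperp D a) b x ∧ f ≠ b).card ≤ 2 := by
    intro f _
    rcases Finset.eq_empty_or_nonempty ((Set.toFinite M).toFinset.filter
      fun x => f ∈ ln (dperp D a) b x ∧ f ≠ b) with he | ⟨x₀, hx₀⟩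
    · simp [he]
    simp only [Finset.mem_filter, Set.Finite.mem_toFinset] at hx₀
    obtain ⟨hxA₀, -, -, hall₀⟩ := hMx x₀ hx₀.1
    refine (Finset.card_le_card (t := {x₀, twist a b z x₀}) fun x hx => ?_).trans Finset.card_le_two
    simp only [Finset.mem_filter, Set.Finite.mem_toFinset] at hx
    obtain ⟨hxA, -, -, -⟩ := hMx x hx.1
    have hl := hM.layerLines a ha
    have heq : ln (dperp D a) b x = ln (dperp D a) b x₀ :=
      ((hl.pair b hb x hxA b (mem_ln_left hb) f hx.2.1 hx.2.2.symm).2).symm.trans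
        (hl.pair b hb x₀ hxA₀ b (mem_ln_left hb) f hx₀.2.1 hx₀.2.2.symm).2
    rcases hall₀ x (heq ▸ mem_ln_right hxA.1) with e | e | e | h
    · exact absurd e hxA.2.1
    · simp [e]
    · simp [e]
    · exact absurd h hx.1.2.2
  have hcount := Finset.card_mul_le_card_mul (fun x f => f ∈ ln (dperp D a) b x ∧ f ≠ b)
    (s := (Set.toFinite M).toFinset) (t := (Set.toFinite L).toFinset) (m := 2) (n := 2)
    (fun x hx => htwo x ((Set.Finite.mem_toFinset _).1 hx))
    (fun f hf => hfib f ((Set.Finite.mem_toFinset _).1 hf))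
  rw [← Set.ncard_eq_toFinset_card M, ← Set.ncard_eq_toFinset_card L] at hcount
  omega

/-- Only the pair centralises the layer of the pair. -/
theorem mem_of_central (hD : IsThreeTranspositionGroup D) (hZ : Subgroup.center G = ⊥)
    (hF : M22Full D) (ha : a ∈ D) (hb : b ∈ dperp D a) {c : G} (hca : Commute c a)
    (hcb : Commute c b) (hc : ∀ x ∈ dperp (dperp D a) b, Commute c x) :
    c ∈ Subgroup.closure ({a, b} : Set G) := by
  have hT := hD.1
  have hfix : ∀ {c x : G}, Commute c x → c * x * c⁻¹ = x := fun {c x} h => by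
    rw [h.eq, mul_inv_cancel_right]
  have hcl := (closedSet_of_group hD).dperp a
  have hmemA : ∀ e ∈ dperp D a, c * e * c⁻¹ ∈ dperp D a := fun e he => by
    have := dperp_conj hD.2.1 c he
    rwa [hfix hca] at this
  have hmove : ∀ e ∈ dperp D a, ¬ Commute e b → c * e * c⁻¹ = e ∨ c * e * c⁻¹ = b * e * b := by
    intro e he heb
    rcases (hF.links a ha).hyp b hb e he _ (hmemA e he) (fun h => heb h.symm) fun y hy hyb hye => by
        have hyne : y ≠ b := fun h => heb (h ▸ hye.symm)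
        have hcy := hfix (hc y ⟨hy, hyne, hyb.symm⟩)
        have := (commute_conj c y e).2 hye
        rwa [hcy] at this with h | h | h
    · exact absurd (by rw [← commute_conj c, h, hfix hcb]) heb
    · exact Or.inl h
    · exact Or.inr h
  have hcc : ∀ e ∈ dperp D a, c * (c * e * c⁻¹) * c⁻¹ = e := by
    intro e he
    by_cases heb : Commute e b
    · rcases eq_or_ne e b with rfl | hne
      · rw [hfix hcb, hfix hcb]
      · rw [hfix (hc e ⟨he, hne, heb.symm⟩), hfix (hc e ⟨he, hne, heb.symm⟩)]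
    rcases hmove e he heb with h | h
    · rw [h, h]
    · rw [h]
      have hbb := hfix hcb
      calc c * (b * e * b) * c⁻¹ = (c * b * c⁻¹) * (c * e * c⁻¹) * (c * b * c⁻¹) := by group
        _ = e := by rw [hbb, h]; exact conj_twice (mul_self hT hb.1)
  have hkey : ∀ {u : G}, Commute u a → (∀ e ∈ dperp D a, u * e * u⁻¹ = e) → u = 1 ∨ u = a :=
    fun hua hu => eq_one_or_eq_of_centralises hD hZ hF.data hF.links ha hua
      fun e he => mul_inv_eq_iff_eq_mul.1 (hu e he)
  have hsym : Sym (dperp D a) fun e => c * e * c⁻¹ := by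
    refine ⟨hmemA, hcc, fun x _ y _ h => (commute_conj c x y).2 h, fun x _ y _ => ?_⟩
    show c * (x * y * x) * c⁻¹ = _
    group
  have hstar : Star (dperp D a) fun e => c * e * c⁻¹ := by
    intro e he hee hne
    exfalso
    by_cases heb : Commute e b
    · rcases eq_or_ne e b with rfl | hne'
      · exact hne (hfix hcb)
      · exact hne (hfix (hc e ⟨he, hne', heb.symm⟩))
    rcases hmove e he heb with h | h
    · exact hne h
    · simp only [h] at hee
      exact commute_conj_mem hT he.1 hb.1 heb hee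
  have hamem : a ∈ Subgroup.closure ({a, b} : Set G) := Subgroup.subset_closure (Or.inl rfl)
  have hbmem : b ∈ Subgroup.closure ({a, b} : Set G) := Subgroup.subset_closure (Or.inr rfl)
  rcases (hF.data.layerNice a ha).rigid _ hsym hstar with h | ⟨s, hs, h⟩
  · rcases hkey hca h with e | e <;> rw [e]
    exacts [one_mem _, hamem]
  · have hsb : s = b := by
      by_contra hne
      have hbs : Commute b s := by
        have h1 : c * b * c⁻¹ = s * b * s := h b hb
        rw [hfix hcb] at h1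
        exact (commute_of_conj_eq hT hs.1 h1.symm).symm
      obtain ⟨x, hx, hxs⟩ := (hF.data.layerNice a ha).sep b hb s ⟨hs, hne, hbs⟩
      have h1 : c * x * c⁻¹ = s * x * s := h x hx.1
      rw [hfix (hc x hx)] at h1
      exact hxs (commute_of_conj_eq hT hs.1 h1.symm).symm
    subst hsb
    rcases hkey (u := s * c) (hb.2.2.symm.mul_left hca) (fun e he => by
      calc s * c * e * (s * c)⁻¹ = s * (c * e * c⁻¹) * s⁻¹ := by group
        _ = e := by
          rw [show c * e * c⁻¹ = s * e * s from h e he, inv_eq hT hb.1]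
          exact conj_twice (mul_self hT hb.1)) with e | e
    · rw [show c = s from (mul_left_cancel (a := s) (by rw [e, mul_self hT hb.1]))]
      exact hbmem
    · rw [show c = s * a from by rw [← e, mul_self_mul hT hb.1]]
      exact mul_mem hbmem hamem

end

/-- A commutative simple group has prime order. -/
theorem center_psu_four {F : Type} [Field F] [Fintype F] (hF : Fintype.card F = 4) :
    Subgroup.center (PSU 4 F 2) = ⊥ := by
  have : IsSimpleGroup (PSU 4 F 2) := Cfsg.Agent.S0283.result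
    (by rw [hF]; norm_num : Fintype.card F = 2 ^ 2) 4 (by norm_num) (by norm_num)
  refine (Subgroup.Normal.eq_bot_or_eq_top inferInstance).resolve_right fun h => ?_
  letI : CommGroup (PSU 4 F 2) := Group.commGroupOfCenterEqTop h
  have hp := IsSimpleGroup.prime_card (α := PSU 4 F 2)
  rw [card_psu_four hF] at hp
  norm_num at hp

theorem card_mulAut_psu_four {F : Type} [Field F] [Fintype F] (hF : Fintype.card F = 4) :
    Nat.card (MulAut (PSU 4 F 2)) = 51840 := by
  haveI : CharP F 2 := charP_of_card_eq_prime_pow (f := 2) (by rw [hF]; norm_num)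
  haveI : Fact (Nat.Prime 2) := ⟨Nat.prime_two⟩
  obtain ⟨σ, hu⟩ := AutPSU.exists_uctx (F := F) (q := 2) (by rw [hF]; norm_num)
  letI : Algebra (ZMod 2) F := ZMod.algebra F 2
  have hr : Module.finrank (ZMod 2) F = 2 := by
    have h := Module.card_eq_pow_finrank (K := ZMod 2) (V := F)
    rw [hF, ZMod.card] at h
    exact (Nat.pow_right_injective le_rfl (show 2 ^ 2 = 2 ^ _ from h)).symm
  rw [AutPSU.card_mulAut hu 2 (by norm_num) (by norm_num), RankOne.card_ringAut_eq_finrank, hr,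
    card_psu_four hF]
  norm_num

/-- The centraliser of the product of a commuting pair, with the kernel described by the layer. -/
theorem pair_centralizer_kernel [Finite G] (hD : IsThreeTranspositionGroup D)
    (hcls : IsThreeTranspositionClass D) (h22 : IsOfTypeM22 G D) {a b : G} (ha : a ∈ D)
    (hb : b ∈ dperp D a) :
    let C := Subgroup.centralizer ({a * b} : Set G)
    let V := Subgroup.closure ({a, b} : Set G)
    pairCen a b ≤ C ∧ ((pairCen a b).subgroupOf C).index = 2 ∧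
      (Subgroup.center ↥(pairCen a b)).map (pairCen a b).subtype = V ∧
      ∃ E : Subgroup G, V ≤ E ∧ E ≤ C ∧ (∀ c ∈ C, ∀ x ∈ E, c * x * c⁻¹ ∈ E) ∧
        Nat.card E = 2 ^ 10 ∧ (E ≤ pairCen a b ∧
          ∀ x ∈ pairCen a b, (∀ y ∈ dperp (dperp D a) b, Commute y (x * y * x⁻¹)) → x ∈ E) ∧
        (∀ x ∈ E, ∀ y ∈ E, x * y * x⁻¹ * y⁻¹ ∈ V ∧ x ^ 2 ∈ V) ∧
        ∃ (_ : (E.subgroupOf C).Normal) (F : Type) (_ : Field F) (_ : Fintype F),
          Fintype.card F = 4 ∧ Nonempty (↥C ⧸ E.subgroupOf C ≃* MulAut (PSU 4 F 2)) := by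
  intro C V
  classical
  have hT := hD.1
  have hc := hD.2.1
  have hZ : Subgroup.center G = ⊥ := h22.1
  have hM22 := m22Full hD h22
  have hA := arcs_of_M22 hD h22
  obtain ⟨F, hFld, hFt, hF, hres⟩ := exists_residue hD h22 hcls
  obtain ⟨φ, hφ⟩ := hres a ha b hb
  set A := dperp (dperp D a) b with hAdef
  have hAD : ∀ {x}, x ∈ A → x ∈ D := fun hx => hx.1.1
  have hAK : ∀ {x}, x ∈ A → x ∈ pairCen a b := fun hx => mem_pairCen.2 ⟨hx.1.2.2.symm, hx.2.2.symm⟩
  have hmemC : ∀ {g}, g ∈ C ↔ Commute g (a * b) := fun {g} => by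
    rw [Subgroup.mem_centralizer_singleton_iff]; exact Iff.rfl
  have hKC : pairCen a b ≤ C := fun g hg =>
    hmemC.2 ((mem_pairCen.1 hg).1.mul_right (mem_pairCen.1 hg).2)
  have haK : a ∈ pairCen a b := mem_pairCen.2 ⟨Commute.refl a, hb.2.2⟩
  have hbK : b ∈ pairCen a b := mem_pairCen.2 ⟨hb.2.2.symm, Commute.refl b⟩
  have hcab : ∀ g ∈ C, (g * a * g⁻¹ = a ∧ g * b * g⁻¹ = b) ∨
      (g * a * g⁻¹ = b ∧ g * b * g⁻¹ = a) := by
    intro g hg
    have hprod : g * a * g⁻¹ * (g * b * g⁻¹) = a * b := by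
      calc g * a * g⁻¹ * (g * b * g⁻¹) = g * (a * b) * g⁻¹ := by group
        _ = a * b := by rw [(hmemC.1 hg).eq, mul_inv_cancel_right]
    rcases pair_unique hT hM22.data.noTwins ha hb.1 (hc g a ha) (hc g b hb.1) hb.2.2 hb.2.1.symm
      ((commute_conj g a b).2 hb.2.2) (fun e => hb.2.1.symm (mul_left_cancel (mul_right_cancel e)))
      hprod.symm with h | h
    · refine Or.inl ⟨h, ?_⟩
      rw [h] at hprod
      exact mul_left_cancel hprod
    · refine Or.inr ⟨h, ?_⟩
      rw [h] at hprod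
      exact mul_left_cancel (hprod.trans hb.2.2.eq)
  have hKiff : ∀ g ∈ C, g ∈ pairCen a b ↔ g * a * g⁻¹ = a := by
    intro g hg
    rw [mem_pairCen]
    refine ⟨fun h => mul_inv_eq_iff_eq_mul.2 h.1, fun h => ?_⟩
    rcases hcab g hg with ⟨h1, h2⟩ | ⟨h1, -⟩
    · exact ⟨mul_inv_eq_iff_eq_mul.1 h1, mul_inv_eq_iff_eq_mul.1 h2⟩
    · exact absurd (h1.symm.trans h) hb.2.1
  have hAC : ∀ g ∈ C, ∀ x ∈ A, g * x * g⁻¹ ∈ A := by
    intro g hg x hx
    have h1 := (commute_conj g a x).2 hx.1.2.2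
    have h2 := (commute_conj g b x).2 hx.2.2
    have n1 : g * x * g⁻¹ ≠ g * a * g⁻¹ := fun e => hx.1.2.1 (mul_left_cancel (mul_right_cancel e))
    have n2 : g * x * g⁻¹ ≠ g * b * g⁻¹ := fun e => hx.2.1 (mul_left_cancel (mul_right_cancel e))
    rcases hcab g hg with ⟨e1, e2⟩ | ⟨e1, e2⟩ <;> rw [e1] at h1 n1 <;> rw [e2] at h2 n2
    · exact ⟨⟨hc g x hx.1.1, n1, h1⟩, n2, h2⟩
    · exact ⟨⟨hc g x hx.1.1, n2, h2⟩, n1, h1⟩
  -- members moving both
  obtain ⟨w, hw⟩ := (hM22.data.layerNice a ha).rich b hb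
  have haS : a ∈ dperp D w := dperp_symm ha hw.1
  have hbS : b ∈ dperp (dperp D w) a := ⟨⟨hb.1, hw.2.1.symm, hw.2.2.symm⟩, hb.2.1, hb.2.2⟩
  obtain ⟨r, hr, hra, hrb, hrl⟩ := (hM22.planes w hw.1.1).ext a haS b hbS
  obtain ⟨z, hz, -, hza, hzb⟩ := (hM22.links w hw.1.1).mover r hr a
    ⟨haS, fun e => hrl (e ▸ mem_ln_left haS), hra⟩ b
    ⟨hbS.1, fun e => hrl (e ▸ mem_ln_right hbS.1), hrb⟩ hb.2.2
  set t := z * b * z * (z * a * z) with ht
  have hta : t * a * t⁻¹ = b := (twist_eq hT ha hb.1 hz.1 a).symm.trans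
    (twist_left hT ha hb.1 hz.1 hza hzb)
  have htb : t * b * t⁻¹ = a := (twist_eq hT ha hb.1 hz.1 b).symm.trans
    (twist_right hT ha hb.1 hz.1 hb.2.2 hza hzb)
  have htC : t ∈ C := by
    refine hmemC.2 (mul_inv_eq_iff_eq_mul.1 ?_)
    calc t * (a * b) * t⁻¹ = t * a * t⁻¹ * (t * b * t⁻¹) := by group
      _ = a * b := by rw [hta, htb, hb.2.2.eq]
  have htK : t ∉ pairCen a b := fun h => hb.2.1 (hta.symm.trans ((hKiff t htC).1 h))
  have hswap : ∀ g ∈ C, g ∉ pairCen a b → g * a * g⁻¹ = b ∧ g * b * g⁻¹ = a := fun g hg hgK =>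
    (hcab g hg).resolve_left fun h => hgK ((hKiff g hg).2 h.1)
  have hindex : ((pairCen a b).subgroupOf C).index = 2 := by
    rw [Subgroup.index_eq_two_iff]
    refine ⟨⟨t, htC⟩, fun g => ?_⟩
    simp only [Subgroup.mem_subgroupOf, Subgroup.coe_mul]
    by_cases hg : (g : G) ∈ pairCen a b
    · refine Or.inr ⟨hg, fun h => htK ?_⟩
      have := mul_mem (inv_mem hg) h
      rwa [inv_mul_cancel_left] at this
    · refine Or.inl ⟨(hKiff _ (mul_mem g.2 htC)).2 ?_, hg⟩
      calc (g : G) * t * a * ((g : G) * t)⁻¹ = (g : G) * (t * a * t⁻¹) * (g : G)⁻¹ := by group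
        _ = a := by rw [hta, (hswap _ g.2 hg).2]
  -- the centre
  have hVK : V ≤ pairCen a b := (Subgroup.closure_le _).2 (by
    rintro x (rfl | rfl)
    exacts [haK, hbK])
  have hcenter : (Subgroup.center ↥(pairCen a b)).map (pairCen a b).subtype = V := by
    refine le_antisymm ?_ ((Subgroup.closure_le _).2 ?_)
    · rintro - ⟨g, hg, rfl⟩
      exact mem_of_central hD hZ hM22 ha hb (mem_pairCen.1 g.2).1 (mem_pairCen.1 g.2).2
        fun x hx => congrArg Subtype.val ((Subgroup.mem_center_iff.1 hg) ⟨x, hAK hx⟩).symm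
    · rintro x (rfl | rfl)
      · exact ⟨⟨_, haK⟩, Subgroup.mem_center_iff.2 fun g => Subtype.ext
          (mem_pairCen.1 g.2).1.eq, rfl⟩
      · exact ⟨⟨_, hbK⟩, Subgroup.mem_center_iff.2 fun g => Subtype.ext
          (mem_pairCen.1 g.2).2.eq, rfl⟩
  -- conjugation by the centraliser
  have hnormK : ∀ g ∈ C, ∀ k ∈ pairCen a b, g * k * g⁻¹ ∈ pairCen a b := by
    intro g hg k hk
    obtain ⟨h1, h2⟩ := mem_pairCen.1 hk
    have e1 := (commute_conj g k a).2 h1
    have e2 := (commute_conj g k b).2 h2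
    rcases hcab g hg with ⟨f1, f2⟩ | ⟨f1, f2⟩ <;> rw [f1] at e1 <;> rw [f2] at e2
    exacts [mem_pairCen.2 ⟨e1, e2⟩, mem_pairCen.2 ⟨e2, e1⟩]
  let cc : C → ↥(pairCen a b) → ↥(pairCen a b) := fun g k => ⟨g * k * (g : G)⁻¹, hnormK g g.2 k k.2⟩
  have hone : ∀ (g : C) (k : ↥(pairCen a b)), φ k = 1 → φ (cc g k) = 1 := by
    intro g k hk
    refine (hφ.iff_one _).2 fun x hx => ?_
    have hx' := hAC _ (inv_mem g.2) x hx
    rw [inv_inv] at hx'
    have h := (commute_conj (g : G) _ _).2 ((hφ.iff_one k).1 hk _ hx')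
    convert h using 1
    · group
    · show (g : G) * k * (g : G)⁻¹ * x * ((g : G) * k * (g : G)⁻¹)⁻¹ = _
      group
  have hccmul : ∀ (g : C) (k l : ↥(pairCen a b)), cc g (k * l) = cc g k * cc g l := fun g k l =>
    Subtype.ext (show (g : G) * ((k : G) * l) * (g : G)⁻¹ =
      (g : G) * k * (g : G)⁻¹ * ((g : G) * l * (g : G)⁻¹) by group)
  have hwell : ∀ (g : C) (k l : ↥(pairCen a b)), φ k = φ l → φ (cc g k) = φ (cc g l) := by
    intro g k l h
    have h1 : φ (k⁻¹ * l) = 1 := by rw [map_mul, map_inv, h, inv_mul_cancel]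
    have h2 := hone g _ h1
    calc φ (cc g k) = φ (cc g k) * φ (cc g (k⁻¹ * l)) := by rw [h2, mul_one]
      _ = φ (cc g l) := by rw [← map_mul, ← hccmul, mul_inv_cancel_left]
  let f : C → PSU 4 F 2 → PSU 4 F 2 := fun g p => φ (cc g (Function.surjInv hφ.surj p))
  have hf : ∀ (g : C) (k : ↥(pairCen a b)), f g (φ k) = φ (cc g k) := fun g k =>
    hwell g _ _ (Function.surjInv_eq hφ.surj _)
  have hcomp : ∀ (g h : C) (k : ↥(pairCen a b)), cc g (cc h k) = cc (g * h) k := fun g h k =>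
    Subtype.ext (show (g : G) * ((h : G) * k * (h : G)⁻¹) * (g : G)⁻¹ =
      (g : G) * h * k * ((g : G) * h)⁻¹ by group)
  have hcc1 : ∀ k, cc 1 k = k := fun k => Subtype.ext (show (1 : G) * k * (1 : G)⁻¹ = k by group)
  have hinv : ∀ (g : C) p, f g⁻¹ (f g p) = p := by
    intro g p
    obtain ⟨k, rfl⟩ := hφ.surj p
    rw [hf g k, hf g⁻¹ (cc g k), hcomp, inv_mul_cancel, hcc1]
  let Φ : C →* MulAut (PSU 4 F 2) :=
    MonoidHom.mk' (fun g =>
      { toFun := f g
        invFun := f g⁻¹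
        left_inv := hinv g
        right_inv := fun p => by
          have := hinv g⁻¹ p
          rwa [inv_inv] at this
        map_mul' := fun p q => by
          obtain ⟨k, rfl⟩ := hφ.surj p
          obtain ⟨l, rfl⟩ := hφ.surj q
          rw [← map_mul, hf, hf, hf, hccmul, map_mul] })
      fun g h => by
        ext p
        obtain ⟨k, rfl⟩ := hφ.surj p
        show f (g * h) (φ k) = f g (f h (φ k))
        rw [hf h k, hf g (cc h k), hf (g * h) k, hcomp]
  have hΦ : ∀ (g : C) (k : ↥(pairCen a b)), Φ g (φ k) = φ (cc g k) := hf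
  set E := φ.ker.map (pairCen a b).subtype with hEdef
  have hEK : ∀ {x}, x ∈ E → ∃ h : x ∈ pairCen a b, φ ⟨x, h⟩ = 1 := by
    rintro - ⟨k, hk, rfl⟩
    exact ⟨k.2, hk⟩
  have hKE : ∀ k : ↥(pairCen a b), φ k = 1 → (k : G) ∈ E := fun k hk => ⟨k, hk, rfl⟩
  have hEC : ∀ c ∈ C, ∀ x ∈ E, c * x * c⁻¹ ∈ E := fun c hc x hx => by
    obtain ⟨h, h1⟩ := hEK hx
    exact hKE _ (hone ⟨c, hc⟩ ⟨x, h⟩ h1)
  have hEcard : Nat.card E = 2 ^ 10 := by
    rw [← hφ.card]
    exact (Nat.card_congr (φ.ker.equivMapOfInjective _ (Subgroup.subtype_injective _)).toEquiv).symm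
  have hVE : V ≤ E := (Subgroup.closure_le _).2 (by
    have key : ∀ (u : G) (hu : u ∈ pairCen a b), (∀ x ∈ A, Commute u x) → u ∈ E := fun u hu h =>
      hKE ⟨u, hu⟩ ((hφ.iff_one _).2 fun x hx => by
        show Commute x (u * x * u⁻¹)
        rw [(h x hx).eq, mul_inv_cancel_right])
    rintro x (rfl | rfl)
    exacts [key _ haK fun y hy => hy.1.2.2, key _ hbK fun y hy => hy.2.2])
  -- the kernel of the action
  have hker : Φ.ker = E.subgroupOf C := by
    apply le_antisymm
    · intro g hg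
      have htriv : ∀ k, φ (cc g k) = φ k := fun k => by
        rw [← hΦ, show Φ g = 1 from hg]; rfl
      rw [Subgroup.mem_subgroupOf]
      by_cases hgK : (g : G) ∈ pairCen a b
      · refine hKE ⟨g, hgK⟩ ?_
        have : φ ⟨g, hgK⟩ ∈ Subgroup.center (PSU 4 F 2) := Subgroup.mem_center_iff.2 fun p => by
          obtain ⟨k, rfl⟩ := hφ.surj p
          have h := htriv k
          rw [show cc g k = ⟨(g : G), hgK⟩ * k * (⟨(g : G), hgK⟩ : ↥(pairCen a b))⁻¹ from rfl,
            map_mul, map_mul, map_inv, mul_inv_eq_iff_eq_mul] at h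
          exact h.symm
        rwa [center_psu_four hF, Subgroup.mem_bot] at this
      exfalso
      -- a trivially acting element exchanging the pair
      have htwin : ∀ c : C, (∀ k, φ (cc c k) = φ k) → ∀ x ∈ A, ∀ y ∈ A, Commute x y →
          Commute ((c : G) * x * (c : G)⁻¹) y := by
        intro c hc' x hx y hy hxy
        by_contra hn
        have hu := hAC c c.2 x hx
        set u : ↥(pairCen a b) := ⟨_, hAK hu⟩
        set y' : ↥(pairCen a b) := ⟨y, hAK hy⟩
        have heq : φ u = φ ⟨x, hAK hx⟩ := hc' ⟨x, hAK hx⟩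
        have h2 : φ (u * y') ^ 2 = 1 := by
          rw [map_mul, heq, ← map_mul, ← map_pow, ← map_one φ]
          refine congrArg φ (Subtype.ext ?_)
          simp only [Subgroup.coe_pow, Subgroup.coe_mul, Subgroup.coe_one, sq]
          rw [hxy.symm.mul_mul_mul_comm, mul_self hT (hAD hx), mul_self hT (hAD hy), one_mul]
        have h3 : φ (u * y') ^ 3 = 1 := by
          rw [← map_pow, ← map_one φ]
          refine congrArg φ (Subtype.ext ?_)
          simp only [Subgroup.coe_pow, Subgroup.coe_mul, Subgroup.coe_one]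
          exact cube_of_not_commute hT (hAD hu) (hAD hy) hn
        have hmem : u * y' ∈ φ.ker := by
          rw [MonoidHom.mem_ker]
          rwa [pow_succ, h2, one_mul] at h3
        have hord : orderOf (u * y') = 3 := by
          rw [← Subgroup.orderOf_coe]
          exact orderOf_mul_of_not_commute hT (hAD hu) (hAD hy) hn
        have := φ.ker.orderOf_dvd_natCard hmem
        rw [hord, hφ.card] at this
        norm_num at this
      have hk : t⁻¹ * g ∈ pairCen a b := (hKiff _ (mul_mem (inv_mem htC) g.2)).2 (by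
        calc t⁻¹ * g * a * (t⁻¹ * g)⁻¹ = t⁻¹ * ((g : G) * a * (g : G)⁻¹) * t := by group
          _ = a := by rw [(hswap _ g.2 hgK).1, ← hta]; group)
      have htw0 : ∀ x ∈ A, Commute x (t * x * t⁻¹) := fun x hx => by
        rw [← twist_eq hT ha hb.1 hz.1]
        exact commute_twist hD ha hb.1 hz.1 hb.2.2 hza hzb (hAD hx) hx.1.2.2.symm hx.2.2.symm
      have hk1 : φ ⟨t⁻¹ * g, hk⟩ = 1 := (hφ.iff_one _).2 fun x hx => by
        show Commute x (t⁻¹ * g * x * (t⁻¹ * g)⁻¹)
        rw [← commute_conj t, show t * (t⁻¹ * g * x * (t⁻¹ * g)⁻¹) * t⁻¹ =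
          (g : G) * x * (g : G)⁻¹ by group]
        exact (htwin g htriv x hx _ (hAC t htC x hx) (htw0 x hx)).symm
      let tC : C := ⟨t, htC⟩
      have httriv : ∀ k, φ (cc tC k) = φ k := by
        intro k
        set q : ↥(pairCen a b) := ⟨t⁻¹ * g, hk⟩
        have h1 := htriv (q⁻¹ * k * q)
        rw [map_mul φ (q⁻¹ * k) q, map_mul φ q⁻¹ k, map_inv, hk1] at h1
        simp only [inv_one, one_mul, mul_one] at h1
        rw [← h1]
        refine congrArg φ (Subtype.ext ?_)
        show t * (k : G) * t⁻¹ = (g : G) * ((t⁻¹ * g)⁻¹ * k * (t⁻¹ * g)) * (g : G)⁻¹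
        group
      refine no_twin hD hZ hM22 hA ha hb hw hz hza hzb fun x hx => ?_
      rw [twist_eq hT ha hb.1 hz.1]
      refine ⟨(hAC t htC x hx).1, fun y hy hyb hyx => ?_⟩
      rcases eq_or_ne y b with rfl | hyne
      · exact (hAC t htC x hx).2.2
      · exact (htwin tC httriv x hx y ⟨hy, hyne, hyb.symm⟩ hyx.symm).symm
    · intro g hg
      obtain ⟨h, h1⟩ := hEK (Subgroup.mem_subgroupOf.1 hg)
      rw [MonoidHom.mem_ker]
      ext p
      obtain ⟨k, rfl⟩ := hφ.surj p
      rw [hΦ, MulAut.one_apply,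
        show cc g k = ⟨(g : G), h⟩ * k * (⟨(g : G), h⟩ : ↥(pairCen a b))⁻¹ from rfl,
        map_mul, map_mul, map_inv, h1, inv_one, one_mul, mul_one]
  have hEle : E ≤ C := fun x hx => hKC (hEK hx).1
  -- the count
  have hK : Nat.card ↥(pairCen a b) = 25920 * 2 ^ 10 := by
    rw [φ.ker.card_eq_card_quotient_mul_card_subgroup, hφ.card,
      Nat.card_congr (QuotientGroup.quotientKerEquivOfSurjective φ hφ.surj).toEquiv, card_psu_four hF]
  have hrange : Φ.range = ⊤ := by
    refine Subgroup.eq_top_of_card_eq _ ?_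
    have h1 := ((pairCen a b).subgroupOf C).card_mul_index
    rw [hindex, Nat.card_congr (Subgroup.subgroupOfEquivOfLe hKC).toEquiv, hK] at h1
    have h2 := Φ.ker.card_eq_card_quotient_mul_card_subgroup
    rw [hker, Nat.card_congr (Subgroup.subgroupOfEquivOfLe hEle).toEquiv, hEcard, ← hker,
      Nat.card_congr (QuotientGroup.quotientKerEquivRange Φ).toEquiv] at h2
    rw [card_mulAut_psu_four hF]
    omega
  haveI hnormal : (E.subgroupOf C).Normal := hker ▸ inferInstance
  refine ⟨hKC, hindex, hcenter, E, hVE, hEle, hEC, hEcard, ⟨fun x hx => (hEK hx).1,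
    fun x hx h => hKE ⟨x, hx⟩ ((hφ.iff_one _).2 h)⟩, fun x hx y hy => ?_, hnormal, F, hFld,
    hFt, hF, ⟨(QuotientGroup.quotientMulEquivOfEq hker.symm).trans
      (QuotientGroup.quotientKerEquivOfSurjective Φ (MonoidHom.range_eq_top.1 hrange))⟩⟩
  obtain ⟨hxK, hx1⟩ := hEK hx
  obtain ⟨hyK, hy1⟩ := hEK hy
  exact ⟨hφ.comm ⟨x, hxK⟩ ⟨y, hyK⟩ hx1 hy1, hφ.sq ⟨x, hxK⟩ hx1⟩

/-- The centraliser of the product of a commuting pair. -/
theorem pair_centralizer [Finite G] (hD : IsThreeTranspositionGroup D)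
    (hcls : IsThreeTranspositionClass D) (h22 : IsOfTypeM22 G D) {a b : G} (ha : a ∈ D)
    (hb : b ∈ dperp D a) :
    let C := Subgroup.centralizer ({a * b} : Set G)
    let V := Subgroup.closure ({a, b} : Set G)
    pairCen a b ≤ C ∧ ((pairCen a b).subgroupOf C).index = 2 ∧
      (Subgroup.center ↥(pairCen a b)).map (pairCen a b).subtype = V ∧
      ∃ E : Subgroup G, V ≤ E ∧ E ≤ C ∧ (∀ c ∈ C, ∀ x ∈ E, c * x * c⁻¹ ∈ E) ∧
        Nat.card E = 2 ^ 10 ∧
        (∀ x ∈ E, ∀ y ∈ E, x * y * x⁻¹ * y⁻¹ ∈ V ∧ x ^ 2 ∈ V) ∧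
        ∃ (_ : (E.subgroupOf C).Normal) (F : Type) (_ : Field F) (_ : Fintype F),
          Fintype.card F = 4 ∧ Nonempty (↥C ⧸ E.subgroupOf C ≃* MulAut (PSU 4 F 2)) := by
  intro C V
  obtain ⟨h1, h2, h3, E, hVE, hEC, hconj, hcard, -, hrest⟩ :=
    pair_centralizer_kernel hD hcls h22 ha hb
  exact ⟨h1, h2, h3, E, hVE, hEC, hconj, hcard, hrest⟩

end Cfsg.Agent.ThreeTrans
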