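import Cfsg.Agent.ThreeTrans.OrthCohom
import Cfsg.Agent.ThreeTrans.PairCentralizer
import Cfsg.Agent.Classical.KleinIso
import Cfsg.Agent.Classical.QuadStd

/-!
# The automorphism group of PSU(4, 2) is the isometry group of the elliptic form in dimension six
-/

set_option autoImplicit false

open Cfsg Cfsg.Agent.Classical.Quad Cfsg.Agent.ThreeTrans.OrthCohom QuadraticMap

namespace Cfsg.Agent.ThreeTrans

theorem minusSix_span : ∀ x : (Fin 2 ⊕ Fin 2) ⊕ Fin 2 → ZMod 2,
    Cfsg.quadFormMinus 2 (ZMod 2) 1 1 x = 1 ∨ x = 0 ∨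
      ∃ u, Cfsg.quadFormMinus 2 (ZMod 2) 1 1 u = 1 ∧ Cfsg.quadFormMinus 2 (ZMod 2) 1 1 (x + u) = 1 := by
  decide +kernel

theorem minusSix_anisotropic : ∀ z₁ z₂ : ZMod 2,
    z₁ ^ 2 + (1 : ZMod 2) * z₁ * z₂ + 1 * z₂ ^ 2 = 0 → z₁ = 0 ∧ z₂ = 0 := by
  decide +kernel

/-- The isometry group in dimension six has trivial centre. -/
theorem center_oG_minusSix : Subgroup.center (oG (qM 2)) = ⊥ := by
  refine (Subgroup.eq_bot_iff_forall _).2 fun g hg => ext_oG fun x => ?_
  have hz2 : ∀ z : ZMod 2, z ≠ 0 → z = 1 := by decide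
  have hfix : ∀ v, qM 2 v = 1 → g.1 v = v := by
    intro v hv
    have hv0 : qM 2 v ≠ 0 := by rw [hv]; exact one_ne_zero
    have hg' : qM 2 (g.1 v) ≠ 0 := by rw [g.2 v]; exact hv0
    have h := conj_rO g hv0
    rw [← Subgroup.mem_center_iff.1 hg (rO hv0), mul_inv_cancel_right] at h
    obtain ⟨y, hy⟩ : ∃ y, polar (qM 2) y v ≠ 0 := by
      by_contra hcon
      push Not at hcon
      refine hv0 ?_
      rw [(show v = 0 from (nondegM2.1 v) fun y => by
        rw [polarBilin_apply_apply, polar_comm, hcon y]), map_zero]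
    have h1 := congrArg (fun k : oG (qM 2) => k.1 y) h
    simp only [rO_apply] at h1
    have h2 := sub_right_injective h1
    have hc1 : polar (qM 2) y v / qM 2 v = 1 := by
      rw [hv, div_one]
      exact (hz2 _ hy)
    rw [hc1, one_smul] at h2
    rcases eq_or_ne (polar (qM 2) y (g.1 v) / qM 2 (g.1 v)) 0 with h3 | h3
    · rw [h3, zero_smul] at h2
      exact absurd (h2 ▸ map_zero (qM 2)) hv0
    · rw [hz2 _ h3, one_smul] at h2
      exact h2.symm
  show g.1 x = x
  rcases minusSix_span x with h | rfl | ⟨u, hu, hxu⟩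
  · exact hfix x (by rw [qM_coe]; exact h)
  · exact map_zero _
  · have h1 := hfix (x + u) (by rw [qM_coe]; exact hxu)
    rw [map_add, hfix u (by rw [qM_coe]; exact hu)] at h1
    exact add_right_cancel h1

/-- The automorphism group of PSU(4, 2). -/
theorem mulAut_psu_four_equiv {F : Type} [Field F] [Fintype F] (hF : Fintype.card F = 4) :
    Nonempty (MulAut (PSU 4 F 2) ≃* isometryGroup (ZMod 2) (quadFormMinus 2 (ZMod 2) 1 1)) := by
  classical
  have hQ := qM_coe 2
  have hfin : Finite (oG (qM 2)) := Classical.Exc.oG_finite _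
  have hcardO : Nat.card (oG (qM 2)) = 51840 := by
    rw [← Nat.card_congr (oEquiv (qM 2)).toEquiv, hQ,
      card_isometryGroup_eq (minusCoord 2) (minusCoord_map 1 1 2),
      card_oG_minus minusSix_anisotropic (ZMod.card 2) 2]
    norm_num [Finset.prod_range_succ]
  obtain ⟨e₀⟩ := Classical.Exc.pomega_six_minus (F := ZMod 2) (K := F) (q := 2) (ZMod.card 2)
    (by rw [hF]; norm_num) 1 1 minusSix_anisotropic
  obtain ⟨e₁⟩ := Classical.Exc.pomega_equiv (Q := qM 2) (Q' := quadFormMinus 2 (ZMod 2) 1 1)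
    (LinearEquiv.refl (ZMod 2) ((Fin 2 ⊕ Fin 2) ⊕ Fin 2 → ZMod 2)) fun x => by rw [hQ]; rfl
  set W := (commutator (oG (qM 2)) : Subgroup (oG (qM 2)))
  have e₂ : W ⧸ Subgroup.center W ≃* PSU 4 F 2 := e₁.symm.trans e₀
  have hW := (Subgroup.center W).card_eq_card_quotient_mul_card_subgroup
  rw [Nat.card_congr e₂.toEquiv, card_psu_four hF] at hW
  have hprop : W ≠ ⊤ := by
    intro h
    have hc : Subgroup.center W = ⊥ := by
      refine (Subgroup.eq_bot_iff_forall _).2 fun g hg => Subtype.ext ?_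
      refine Subgroup.mem_bot.1 (center_oG_minusSix ▸ Subgroup.mem_center_iff.2 fun y => ?_)
      exact congrArg Subtype.val (Subgroup.mem_center_iff.1 hg ⟨y, h ▸ Subgroup.mem_top y⟩)
    rw [hc, Subgroup.card_bot, mul_one, h, Subgroup.card_top, hcardO] at hW
    norm_num at hW
  have hWc : Subgroup.center W = ⊥ := by
    refine Subgroup.eq_bot_of_card_eq _ ?_
    have h1 := W.card_mul_index
    have h2 : 1 < W.index := Subgroup.one_lt_index_of_ne_top hprop
    have h3 : 0 < Nat.card (Subgroup.center W) := Nat.card_pos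
    rw [hcardO] at h1
    by_contra h4
    have h5 : 25920 * 2 ≤ Nat.card W := by rw [hW]; exact Nat.mul_le_mul_left _ (by omega)
    have h6 := Nat.mul_le_mul h5 (show 2 ≤ W.index by omega)
    omega
  let e₃ : W ≃* PSU 4 F 2 :=
    ((QuotientGroup.quotientBot).symm.trans (QuotientGroup.quotientMulEquivOfEq hWc.symm)).trans e₂
  let f : oG (qM 2) →* MulAut W := MulAut.conjNormal
  have hinj : Function.Injective f := by
    refine (injective_iff_map_eq_one f).2 fun g hg => Subgroup.mem_bot.1 ?_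
    rw [← center_oG_minusSix]
    refine Subgroup.mem_center_iff.2 fun h => ?_
    have hcen : ∀ w : W, g * (w : oG (qM 2)) * g⁻¹ = w := fun w => by
      rw [← MulAut.conjNormal_apply, show MulAut.conjNormal g = f g from rfl, hg, MulAut.one_apply]
    have hk : g * h * g⁻¹ * h⁻¹ ∈ W := by
      rw [← commutatorElement_def]
      exact Subgroup.commutator_mem_commutator (Subgroup.mem_top g) (Subgroup.mem_top h)
    have hz : (⟨_, hk⟩ : W) ∈ Subgroup.center W := Subgroup.mem_center_iff.2 fun w => Subtype.ext (by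
      show (w : oG (qM 2)) * (g * h * g⁻¹ * h⁻¹) = g * h * g⁻¹ * h⁻¹ * w
      have h1 : h⁻¹ * w * h ∈ W := by
        have := Subgroup.Normal.conj_mem (inferInstance : W.Normal) w w.2 h⁻¹
        rwa [inv_inv] at this
      have k1 : g⁻¹ * w * g = w := by
        conv_lhs => rw [← hcen w]
        group
      have k2 : g * (h⁻¹ * w * h) * g⁻¹ = h⁻¹ * w * h := hcen ⟨_, h1⟩
      calc (w : oG (qM 2)) * (g * h * g⁻¹ * h⁻¹)
          = g * (g⁻¹ * w * g) * h * g⁻¹ * h⁻¹ := by group
        _ = g * w * h * g⁻¹ * h⁻¹ := by rw [k1]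
        _ = g * h * g⁻¹ * (g * (h⁻¹ * w * h) * g⁻¹) * h⁻¹ := by group
        _ = g * h * g⁻¹ * (h⁻¹ * w * h) * h⁻¹ := by rw [k2]
        _ = g * h * g⁻¹ * h⁻¹ * w := by group)
    rw [hWc, Subgroup.mem_bot] at hz
    have h2 : g * h * g⁻¹ * h⁻¹ = 1 := congrArg Subtype.val hz
    exact (mul_inv_eq_iff_eq_mul.1 (mul_inv_eq_one.1 h2)).symm
  have hcardA : Nat.card (MulAut W) = 51840 := by
    rw [Nat.card_congr (MulAut.congr e₃).toEquiv, card_mulAut_psu_four hF]
  have : Finite (MulAut W) := Nat.finite_of_card_ne_zero (by rw [hcardA]; norm_num)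
  exact ⟨((MulAut.congr e₃).symm.trans
    ((MulEquiv.ofBijective f ((Nat.bijective_iff_injective_and_card f).2
      ⟨hinj, by rw [hcardO, hcardA]⟩)).symm.trans (oEquiv (qM 2)).symm)).trans
    (MulEquiv.subgroupCongr (by rw [hQ]))⟩

end Cfsg.Agent.ThreeTrans
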