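import Cfsg.Agent.Classical.AltForm
import Cfsg.Agent.Classical.QuadForm

/-!
# Orthogonal groups over the field with two elements are generated by their transvections
-/

set_option autoImplicit false

namespace Cfsg.Agent.ThreeTrans.OrthTwo

open Module QuadraticMap Classical

variable {V : Type*} [AddCommGroup V] [Module (ZMod 2) V] {Q : QuadraticForm (ZMod 2) V}

theorem z2 (a : ZMod 2) : a = 0 ∨ a = 1 := by
  revert a
  decide

theorem polar_self_zero (x : V) : polar Q x x = 0 := by
  rw [Quad.polar_self', show (2 : ZMod 2) = 0 from rfl, zero_mul]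

theorem isAlt : (polarBilin Q : LinearMap.BilinForm (ZMod 2) V).IsAlt := polar_self_zero

theorem add_self (x : V) : x + x = 0 := by
  rw [← two_smul (ZMod 2) x, show (2 : ZMod 2) = 0 from rfl, zero_smul]

variable [FiniteDimensional (ZMod 2) V]

/-- Two orthogonal nonsingular vectors have a common nonsingular neighbour. -/
theorem exists_link (hQ : (polarBilin Q).Nondegenerate) (hn : 5 ≤ finrank (ZMod 2) V) {v w : V}
    (hv : Q v = 1) (hw : Q w = 1) (hne : v ≠ w) :
    ∃ u, Q u = 1 ∧ polar Q v u = 1 ∧ polar Q w u = 1 := by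
  have hsolve : ∀ a b : ZMod 2, ∃ u, polar Q v u = a ∧ polar Q w u = b := by
    let L : V →ₗ[ZMod 2] ZMod 2 × ZMod 2 := (polarBilin Q v).prod (polarBilin Q w)
    suffices LinearMap.range L = ⊤ by
      intro a b
      obtain ⟨u, hu⟩ := LinearMap.range_eq_top.1 this (a, b)
      exact ⟨u, congrArg Prod.fst hu, congrArg Prod.snd hu⟩
    have h0 : ∀ z : V, (∀ u, polar Q z u = 0) → z = 0 := fun z hz => hQ.1 z hz
    obtain ⟨a, ha⟩ : ∃ a, polar Q v a = 1 := by
      by_contra hc
      push Not at hc
      have := h0 v fun u => (z2 _).resolve_right (hc u)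
      rw [this, map_zero] at hv
      exact absurd hv (by decide)
    obtain ⟨b, hb⟩ : ∃ b, polar Q w b = 1 := by
      by_contra hc
      push Not at hc
      have := h0 w fun u => (z2 _).resolve_right (hc u)
      rw [this, map_zero] at hw
      exact absurd hw (by decide)
    obtain ⟨c, hc⟩ : ∃ c, polar Q (v + w) c = 1 := by
      by_contra hc
      push Not at hc
      have := h0 (v + w) fun u => (z2 _).resolve_right (hc u)
      exact hne (by rw [← add_zero v, ← add_self w, ← add_assoc, this, zero_add])
    have hspan : ((1, 0) : ZMod 2 × ZMod 2) ∈ LinearMap.range L ∧ ((0, 1) : ZMod 2 × ZMod 2) ∈ LinearMap.range L := by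
      rw [polar_add_left] at hc
      have m1 := LinearMap.mem_range_self L a
      have m2 := LinearMap.mem_range_self L b
      have m3 := LinearMap.mem_range_self L c
      simp only [L, LinearMap.prod_apply, Function.prod_apply, polarBilin_apply_apply] at m1 m2 m3
      rw [ha] at m1
      rw [hb] at m2
      rcases z2 (polar Q w a) with e1 | e1 <;> rcases z2 (polar Q v b) with e2 | e2 <;>
        rw [e1] at m1 <;> rw [e2] at m2
      · exact ⟨m1, m2⟩
      · exact ⟨m1, by simpa [L] using Submodule.sub_mem _ m2 m1⟩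
      · exact ⟨by simpa [L] using Submodule.sub_mem _ m1 m2, m2⟩
      · rcases z2 (polar Q v c) with e3 | e3 <;> rw [e3] at m3 hc
        · rw [zero_add] at hc
          rw [hc] at m3
          exact ⟨by simpa [L] using Submodule.sub_mem _ m1 m3, m3⟩
        · rw [add_eq_left] at hc
          rw [hc] at m3
          exact ⟨m3, by simpa [L] using Submodule.sub_mem _ m1 m3⟩
    rw [eq_top_iff]
    rintro ⟨x, y⟩ -
    have := Submodule.add_mem _ (Submodule.smul_mem _ x hspan.1) (Submodule.smul_mem _ y hspan.2)
    simpa using this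
  obtain ⟨a, hva, hwa⟩ := hsolve 1 0
  obtain ⟨b, hvb, hwb⟩ := hsolve 0 1
  by_contra hcon
  push Not at hcon
  set u₀ := a + b with hu₀
  have hu1 : polar Q v u₀ = 1 := by rw [hu₀, polar_add_right, hva, hvb, add_zero]
  have hu2 : polar Q w u₀ = 1 := by rw [hu₀, polar_add_right, hwa, hwb, zero_add]
  have h00 : Q u₀ = 0 := (z2 _).resolve_right fun h => hcon u₀ h hu1 hu2
  have hlin : ∀ z, polar Q v z = 0 → polar Q w z = 0 → Q z = polar Q u₀ z := by
    intro z hz1 hz2
    have h : Q (u₀ + z) = 0 := (z2 _).resolve_right fun h =>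
      hcon _ h (by rw [polar_add_right, hz1, hu1, add_zero]) (by rw [polar_add_right, hz2, hu2, add_zero])
    rw [Quad.map_add', h00, zero_add] at h
    rw [eq_neg_of_add_eq_zero_left h, ZModModule.neg_eq_self]
  have horth : ∀ z z', polar Q v z = 0 → polar Q w z = 0 → polar Q v z' = 0 → polar Q w z' = 0 →
      polar Q z z' = 0 := by
    intro z z' h1 h2 h1' h2'
    have h := hlin (z + z') (by rw [polar_add_right, h1, h1', add_zero])
      (by rw [polar_add_right, h2, h2', add_zero])
    rw [Quad.map_add', hlin z h1 h2, hlin z' h1' h2', polar_add_right] at h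
    simpa using h
  let K : V →ₗ[ZMod 2] (ZMod 2 × ZMod 2) × (ZMod 2 × ZMod 2) :=
    ((polarBilin Q v).prod (polarBilin Q w)).prod ((polarBilin Q a).prod (polarBilin Q b))
  have hK : Function.Injective K := by
    rw [injective_iff_map_eq_zero]
    intro r hr
    simp only [K, LinearMap.prod_apply, Function.prod_apply, polarBilin_apply_apply, Prod.mk_eq_zero] at hr
    obtain ⟨⟨r1, r2⟩, r3, r4⟩ := hr
    refine hQ.1 r fun y => ?_
    set y' := y + polar Q v y • a + polar Q w y • b with hy'
    have y1 : polar Q v y' = 0 := by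
      rw [hy', polar_add_right, polar_add_right, polar_smul_right, polar_smul_right, hva, hvb,
        smul_eq_mul, smul_eq_mul, mul_one, mul_zero, add_zero, ← two_mul, show (2 : ZMod 2) = 0 from rfl,
        zero_mul]
    have y2 : polar Q w y' = 0 := by
      rw [hy', polar_add_right, polar_add_right, polar_smul_right, polar_smul_right, hwa, hwb,
        smul_eq_mul, smul_eq_mul, mul_one, mul_zero, add_zero, ← two_mul, show (2 : ZMod 2) = 0 from rfl,
        zero_mul]
    have h := horth r y' r1 r2 y1 y2
    rw [hy', polar_add_right, polar_add_right, polar_smul_right, polar_smul_right, polar_comm Q r a,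
      polar_comm Q r b, r3, r4, smul_zero, smul_zero, add_zero, add_zero] at h
    exact h
  have := LinearMap.finrank_le_finrank_of_injective hK
  simp only [Module.finrank_prod, Module.finrank_self] at this
  omega

/-- The transvection in a nonsingular vector. -/
def IsTv (Q : QuadraticForm (ZMod 2) V) (t : V ≃ₗ[ZMod 2] V) : Prop :=
  ∃ v, Q v = 1 ∧ ∀ x, t x = x + polar Q x v • v

omit [FiniteDimensional (ZMod 2) V] in
theorem exists_tv {v : V} (hv : Q v = 1) :
    ∃ t, IsTv Q t ∧ t ∈ Quad.oG Q ∧ ∀ x, t x = x + polar Q x v • v := by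
  have h : Q v ≠ 0 := by rw [hv]; decide
  have e : ∀ x, Quad.refl h x = x + polar Q x v • v := fun x => by
    rw [Quad.refl_apply, hv, div_one, sub_eq_add_neg, ← neg_smul, ZModModule.neg_eq_self]
  exact ⟨Quad.refl h, ⟨v, hv, e⟩, Quad.refl_mem h, e⟩

/-- Every isometry is a product of transvections. -/
theorem oG_le_closure (hQ : (polarBilin Q).Nondegenerate) (hn : 5 ≤ finrank (ZMod 2) V) :
    Quad.oG Q ≤ Subgroup.closure {t | IsTv Q t} := by
  set H := Subgroup.closure {t | IsTv Q t}
  have hmove : ∀ u w, Q u = 1 → Q w = 1 → ∃ t ∈ H, t ∈ Quad.oG Q ∧ t u = w := by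
    have step : ∀ u w, Q u = 1 → Q w = 1 → polar Q u w = 1 → ∃ t ∈ H, t ∈ Quad.oG Q ∧ t u = w := by
      intro u w hu hw huw
      obtain ⟨t, ht, hto, hta⟩ := exists_tv (Q := Q) (v := u + w)
        (by rw [Quad.map_add', hu, hw, huw]; decide)
      refine ⟨t, Subgroup.subset_closure ht, hto, ?_⟩
      rw [hta, polar_add_right, polar_self_zero, huw, zero_add, one_smul, ← add_assoc, add_self, zero_add]
    intro u w hu hw
    by_cases he : u = w
    · exact ⟨1, one_mem _, one_mem _, by rw [he]; rfl⟩
    obtain ⟨z, hz, h1, h2⟩ := exists_link hQ hn hu hw he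
    obtain ⟨t, ht, hto, htu⟩ := step u z hu hz h1
    obtain ⟨s, hs, hso, hsz⟩ := step z w hz hw (by rw [polar_comm, h2])
    exact ⟨s * t, mul_mem hs ht, mul_mem hso hto, by rw [LinearEquiv.mul_apply, htu, hsz]⟩
  intro g₀ hg₀
  obtain ⟨x, hx⟩ : ∃ x, Q x = 1 := by
    by_contra hc
    push Not at hc
    have h0 : ∀ z : V, z = 0 := fun z => hQ.1 z fun y => by
      show polar Q z y = 0
      simp [polar, fun a => (z2 (Q a)).resolve_right (hc a)]
    have : Subsingleton V := ⟨fun a b => (h0 a).trans (h0 b).symm⟩
    rw [Module.finrank_zero_of_subsingleton] at hn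
    omega
  obtain ⟨t₀, ht₀, ht₀o, ht₀x⟩ := hmove (g₀ x) x (by rw [hg₀ x, hx]) hx
  suffices ∀ g ∈ Quad.oG Q, g x = x → g ∈ H by
    have h := this (t₀ * g₀) (mul_mem ht₀o hg₀) (by rw [LinearEquiv.mul_apply, ht₀x])
    simpa using mul_mem (inv_mem ht₀) h
  intro g hg hgx
  obtain ⟨y, hy⟩ : ∃ y, polar Q x y = 1 := by
    by_contra hc
    push Not at hc
    have h0 : x = 0 := hQ.1 x fun y => (z2 _).resolve_right (hc y)
    rw [h0, map_zero] at hx
    exact absurd hx (by decide)
  set B : LinearMap.BilinForm (ZMod 2) V := polarBilin Q with hB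
  have hA : B.IsAlt := isAlt
  have hBa : ∀ a b, B a b = polar Q a b := fun a b => rfl
  set S := Alt.redW B ⊤ x y with hS
  have hSN : Alt.NDon B S := Alt.ndon_redW hA (Alt.ndon_top hQ) trivial trivial hy
  -- the map induced on the section
  set L := Alt.rmap B x y with hL
  have hLapp : ∀ z, L z = z + polar Q z y • x + polar Q z x • y := fun z => by
    rw [hL, Alt.rmap_apply, sub_eq_add_neg, ← neg_smul, ZModModule.neg_eq_self]
    rfl
  have hLS : ∀ z, L z ∈ S := fun z => Alt.rmap_mem hA trivial trivial trivial hy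
  have hLx : ∀ z, polar Q (L z) x = 0 := fun z => by
    have := (Alt.mem_redW.1 (hLS z)).2.1
    rwa [hBa, polar_comm] at this
  have hLy : ∀ z, polar Q (L z) y = 0 := fun z => by
    have := (Alt.mem_redW.1 (hLS z)).2.2
    rwa [hBa, polar_comm] at this
  have hperp : ∀ z, polar Q z x = 0 → L z = z + polar Q z y • x := fun z hz => by
    rw [hLapp, hz, zero_smul, add_zero]
  let f : V →ₗ[ZMod 2] V := L ∘ₗ (g : V →ₗ[ZMod 2] V) ∘ₗ L + (LinearMap.id - L)
  have hf : ∀ z, f z = L (g (L z)) + (z + L z) := fun z => by
    show L (g (L z)) + (z - L z) = _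
    rw [sub_eq_add_neg, show -L z = L z by rw [← neg_one_smul (ZMod 2), ZModModule.neg_eq_self, one_smul]]
  have hiso : ∀ a b, polar Q (f a) (f b) = polar Q a b := by
    intro a b
    have hgx' : ∀ z, polar Q (g (L z)) x = 0 := fun z => by
      conv_lhs => rw [← hgx]
      rw [Quad.polar_eq_of_mem hg, hLx]
    rw [hf, hf]
    have e1 : ∀ z, z + L z = polar Q z y • x + polar Q z x • y := fun z => by
      rw [hLapp, ← add_assoc, ← add_assoc, add_self, zero_add]
    have e2 : polar Q (L (g (L a))) (L (g (L b))) = polar Q (L a) (L b) := by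
      rw [hperp _ (hgx' a), hperp _ (hgx' b)]
      simp only [polar_add_left, polar_add_right, polar_smul_left, polar_smul_right, smul_eq_mul,
        hgx', polar_comm Q x (g (L b)), polar_self_zero, mul_zero, add_zero,
        Quad.polar_eq_of_mem hg]
    have ha : a = L a + (a + L a) := by rw [add_left_comm, add_self, add_zero]
    have hb : b = L b + (b + L b) := by rw [add_left_comm, add_self, add_zero]
    conv_rhs => rw [ha, hb]
    rw [e1, e1]
    simp only [polar_add_left, polar_add_right, polar_smul_left, polar_smul_right, smul_eq_mul, e2,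
      hLx, hLy, polar_comm Q x (L _), polar_comm Q y (L _)]
  have hinj : Function.Injective f := by
    rw [injective_iff_map_eq_zero]
    intro z hz
    refine hQ.1 z fun w => ?_
    show polar Q z w = 0
    rw [← hiso, hz, polar_zero_left]
  set h := LinearEquiv.ofInjectiveEndo f hinj with hh
  have hhf : ∀ z, h z = f z := fun z => rfl
  have hmem : h ∈ Alt.TG B S := by
    refine Alt.mem_TG_of_fix hA hQ hSN (fun a b => hiso a b) fun z hz => ?_
    have hLz : L z = 0 := by
      by_contra h0
      obtain ⟨w, hw, hw'⟩ := hSN _ (hLS z) h0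
      apply hw'
      have hw1 := (Alt.mem_redW.1 hw).2
      have := hz w hw
      rw [hBa] at this ⊢
      rw [hLapp]
      simp only [polar_add_left, polar_smul_left, smul_eq_mul, this]
      rw [hBa, hBa] at hw1
      rw [hw1.1, hw1.2, mul_zero, mul_zero, add_zero, add_zero]
    rw [hhf, hf, hLz, map_zero, map_zero, zero_add, add_zero]
  -- lift along the section
  have lift : ∀ t ∈ Alt.TG B S, t x = x ∧ ∃ r ∈ H, r ∈ Quad.oG Q ∧ r x = x ∧
      ∀ z, polar Q z x = 0 → polar Q (t z) x = 0 ∧ ∃ c : ZMod 2, r z = t z + c • x := by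
    intro t ht
    have htx : ∀ {t}, t ∈ Alt.TG B S → t x = x := fun ht => Alt.TG_fix ht fun w hw =>
      (Alt.mem_redW.1 hw).2.1
    refine ⟨htx ht, ?_⟩
    induction ht using Subgroup.closure_induction with
    | mem t ht =>
      obtain ⟨v, hv, c, hc⟩ := ht
      have hvx : polar Q v x = 0 := by
        have := (Alt.mem_redW.1 hv).2.1
        rwa [hBa, polar_comm] at this
      have hperp' : ∀ z, polar Q z x = 0 → polar Q (t z) x = 0 := fun z hz => by
        rw [hc, polar_add_left, polar_smul_left, hz, hvx, smul_zero, add_zero]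
      rcases z2 c with rfl | rfl
      · exact ⟨1, one_mem _, one_mem _, rfl, fun z hz => ⟨hperp' z hz, 0, by simp [hc]⟩⟩
      · obtain ⟨u, hu, hu'⟩ : ∃ u, Q u = 1 ∧ ∃ e : ZMod 2, u = v + e • x := by
          rcases z2 (Q v) with e | e
          · exact ⟨v + x, by rw [Quad.map_add', e, hx, hvx]; decide, 1, by rw [one_smul]⟩
          · exact ⟨v, e, 0, by rw [zero_smul, add_zero]⟩
        obtain ⟨e, rfl⟩ := hu'
        obtain ⟨r, hr, hro, hra⟩ := exists_tv hu
        refine ⟨r, Subgroup.subset_closure hr, hro, ?_, fun z hz => ⟨hperp' z hz, polar Q z v * e, ?_⟩⟩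
        · rw [hra, polar_add_right, polar_smul_right, polar_self_zero, smul_zero, polar_comm, hvx,
            add_zero, zero_smul, add_zero]
        · rw [hra, hc, polar_add_right, polar_smul_right, hz, smul_zero, add_zero, one_mul, hBa,
            smul_add, smul_smul, add_assoc]
    | one => exact ⟨1, one_mem _, one_mem _, rfl, fun z hz => ⟨hz, 0, by simp⟩⟩
    | mul a b ha hb iha ihb =>
      obtain ⟨r, hr, hro, hrx, hrz⟩ := iha
      obtain ⟨s, hs, hso, hsx, hsz⟩ := ihb
      refine ⟨r * s, mul_mem hr hs, mul_mem hro hso, by rw [LinearEquiv.mul_apply, hsx, hrx],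
        fun z hz => ?_⟩
      obtain ⟨h1, c, h2⟩ := hsz z hz
      obtain ⟨h3, d, h4⟩ := hrz _ h1
      exact ⟨h3, d + c, by
        rw [LinearEquiv.mul_apply, LinearEquiv.mul_apply, h2, map_add, map_smul, hrx, h4, add_smul, add_assoc]⟩
    | inv a ha iha =>
      obtain ⟨r, hr, hro, hrx, hrz⟩ := iha
      have hrx' : r⁻¹ x = x := by
        conv_lhs => rw [← hrx]
        exact Alt.inv_apply_self r x
      refine ⟨r⁻¹, inv_mem hr, inv_mem hro, hrx', fun z hz => ?_⟩
      have h1 : polar Q (a⁻¹ z) x = 0 := by
        have h := Alt.TG_le_isoGroup hA S ha (a⁻¹ z) x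
        rw [Alt.apply_inv_self, htx ha, hBa, hBa] at h
        rw [← h, hz]
      obtain ⟨-, c, h2⟩ := hrz _ h1
      rw [Alt.apply_inv_self] at h2
      refine ⟨h1, c, ?_⟩
      have h3 := congrArg (fun w => r⁻¹ w) h2
      simp only [Alt.inv_apply_self, map_add, map_smul, hrx'] at h3
      rw [h3, add_assoc, add_self, add_zero]
  obtain ⟨-, r, hr, hro, hrx, hrz⟩ := lift h hmem
  -- what is left fixes the orthogonal of `x` pointwise
  set k := r⁻¹ * g with hk
  have hko : k ∈ Quad.oG Q := mul_mem (inv_mem hro) hg
  have hkx : k x = x := by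
    rw [hk, LinearEquiv.mul_apply, hgx]
    conv_lhs => rw [← hrx]
    exact Alt.inv_apply_self r x
  have hkfix : ∀ z, polar Q z x = 0 → k z = z := by
    intro z hz
    obtain ⟨hz', c, hc⟩ := hrz z hz
    have hgz : polar Q (g z) x = 0 := by
      conv_lhs => rw [← hgx]
      rw [Quad.polar_eq_of_mem hg, hz]
    have hgL : ∃ d : ZMod 2, r z = g z + d • x := by
      refine ⟨polar Q (g z) y + polar Q z y + c, ?_⟩
      have hLx0 : L x = 0 := by
        rw [hperp x (polar_self_zero x), hy, one_smul, add_self]
      have e : z + L z = polar Q z y • x := by rw [hperp z hz, ← add_assoc, add_self, zero_add]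
      rw [hc, hhf, hf, e, hperp z hz, map_add g, map_smul g, hgx, map_add L, map_smul L, hLx0,
        smul_zero, add_zero, hperp _ hgz, add_smul, add_smul]
      abel
    obtain ⟨d, hd⟩ := hgL
    have hkz : k z = z + d • x := by
      have h2 := congrArg (fun w => r⁻¹ w) hd
      simp only [Alt.inv_apply_self, map_add, map_smul] at h2
      have hrx' : r⁻¹ x = x := by
        conv_lhs => rw [← hrx]
        exact Alt.inv_apply_self r x
      rw [hrx'] at h2
      rw [hk, LinearEquiv.mul_apply]
      conv_rhs => rw [h2]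
      rw [add_assoc, add_self, add_zero]
    rcases z2 d with rfl | rfl
    · rw [hkz, zero_smul, add_zero]
    · exfalso
      have h := hko z
      rw [hkz, one_smul, Quad.map_add', hx, hz, add_zero, add_eq_left] at h
      exact absurd h (by decide)
  have hky : ∃ a : ZMod 2, k y = y + a • x := by
    refine ⟨polar Q (k y + y) y, ?_⟩
    set w := k y + y with hw
    suffices w + polar Q w y • x = 0 by
      rw [eq_neg_of_add_eq_zero_left this] at hw
      calc k y = (k y + y) + y := by rw [add_assoc, add_self, add_zero]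
        _ = _ := by rw [← hw, ← neg_one_smul (ZMod 2), ZModModule.neg_eq_self, one_smul, add_comm]
    refine hQ.1 _ fun z => ?_
    show polar Q _ z = 0
    set z' := z + polar Q z x • y with hz'
    have hzx : polar Q z' x = 0 := by
      rw [hz', polar_add_left, polar_smul_left, polar_comm Q y x, hy, smul_eq_mul, mul_one, ← two_mul,
        show (2 : ZMod 2) = 0 from rfl, zero_mul]
    have hwz : polar Q w z' = 0 := by
      rw [hw, polar_add_left]
      nth_rw 1 [← hkfix z' hzx]
      rw [Quad.polar_eq_of_mem hko, ← two_mul, show (2 : ZMod 2) = 0 from rfl, zero_mul]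
    have hz2 : z = z' + polar Q z x • y := by rw [hz', add_assoc, add_self, add_zero]
    rw [hz2]
    simp only [polar_add_left, polar_add_right, polar_smul_left, polar_smul_right, smul_eq_mul, hwz,
      polar_comm Q x z', hzx, hy, mul_zero, mul_one, add_zero, zero_add]
    generalize polar Q w y = a
    generalize polar Q z x = b
    revert a b
    decide
  obtain ⟨a, ha⟩ := hky
  have hdec : ∀ z, polar Q (z + polar Q z x • y) x = 0 := fun z => by
    rw [polar_add_left, polar_smul_left, polar_comm Q y x, hy, smul_eq_mul, mul_one, ← two_mul,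
      show (2 : ZMod 2) = 0 from rfl, zero_mul]
  have hkmem : k ∈ H := by
    obtain ⟨t, ht, hto, hta⟩ := exists_tv hx
    have hk' : ∀ z, k z = z + (a * polar Q z x) • x := fun z => by
      have h := hkfix _ (hdec z)
      rw [map_add, map_smul, ha, smul_add, smul_smul, ← add_assoc, add_comm (k z)] at h
      have h' : k z + (polar Q z x * a) • x = z := by
        have := congrArg (fun w => polar Q z x • y + w) h
        simp only [← add_assoc, add_self, zero_add] at this
        rw [this, add_right_comm, add_self, zero_add]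
      calc k z = k z + (polar Q z x * a) • x + (polar Q z x * a) • x := by rw [add_assoc, add_self, add_zero]
        _ = _ := by rw [h', mul_comm]
    rcases z2 a with rfl | rfl
    · rw [show k = 1 from LinearEquiv.ext fun z => by rw [hk', zero_mul, zero_smul, add_zero]; rfl]
      exact one_mem _
    · rw [show k = t from LinearEquiv.ext fun z => by rw [hk', hta, one_mul]]
      exact Subgroup.subset_closure ht
  simpa [hk] using mul_mem hr hkmem

end Cfsg.Agent.ThreeTrans.OrthTwo
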