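import Cfsg.Agent.Classical.OrthPOmega
import Cfsg.Agent.ThreeTrans.OrthTwo

/-!
# Crossed homomorphisms on the natural modules of small orthogonal groups over two elements

An orthogonal group is generated by rotations of `dim / 2` minus planes whose sum is the whole space,
so a crossed homomorphism is principal on generators.
-/

set_option autoImplicit false

namespace Cfsg.Agent.ThreeTrans.OrthCohom

open QuadraticMap Cfsg.Agent.Classical.Quad
open scoped commutatorElement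

/-- Parity of a mask below `2 ^ 8`. -/
def par (x : ℕ) : Bool :=
  let x := x ^^^ (x >>> 4)
  let x := x ^^^ (x >>> 2)
  let x := x ^^^ (x >>> 1)
  x % 2 == 1

/-- A transvection on masks. -/
def tN (a a' x : ℕ) : ℕ := if par (x &&& a') then x ^^^ a else x

/-- A product of two transvections on masks. -/
def tvN (g : ℕ × ℕ × ℕ × ℕ) (x : ℕ) : ℕ := tN g.1 g.2.2.1 (tN g.2.1 g.2.2.2 x)

section

variable {ι : Type} [Fintype ι] [DecidableEq ι]

/-- The vector of a mask. -/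
def dec (idx : ι → ℕ) (x : ℕ) : ι → ZMod 2 := fun i => if x.testBit (idx i) then 1 else 0

theorem dec_xor (idx : ι → ℕ) (x y : ℕ) : dec idx (x ^^^ y) = dec idx x + dec idx y := by
  funext i
  simp only [dec, Pi.add_apply, Nat.testBit_xor]
  cases x.testBit (idx i) <;> cases y.testBit (idx i) <;> decide

/-- The transvection with centre `u`. -/
def tV (q : (ι → ZMod 2) → ZMod 2) (u x : ι → ZMod 2) : ι → ZMod 2 := x + (q (x + u) - q x - q u) • u

/-- A product of two transvections. -/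
def tvV (q : (ι → ZMod 2) → ZMod 2) (u v x : ι → ZMod 2) : ι → ZMod 2 := tV q u (tV q v x)

/-- The data certifying the vanishing. -/
structure Cert (q : (ι → ZMod 2) → ZMod 2) (idx : ι → ℕ) where
  /-- dimension -/
  n : ℕ
  /-- number of planes -/
  k : ℕ
  /-- the rotations -/
  g : Fin k → ℕ × ℕ × ℕ × ℕ
  /-- the base norm one vector -/
  u0 : ℕ
  /-- orbit words -/
  words : List (List (Fin k))
  surj : ∀ x : ι → ZMod 2, ∃ y : Fin (2 ^ n), dec idx y = x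
  norm : ∀ i, q (dec idx (g i).1) = 1 ∧ q (dec idx (g i).2.1) = 1
  commu : ∀ i, ∀ x : Fin (2 ^ n),
    tvV q (dec idx (g i).1) (dec idx (g i).2.1) (dec idx x) = dec idx (tvN (g i) x)
  cube : ∀ i, ∀ x : Fin (2 ^ n), tvN (g i) (tvN (g i) (tvN (g i) x)) = x
  base : ∀ i, tvN (g i) u0 = u0 ∨ (u0 = (g i).1 ∧ tvN (g i) u0 = (g i).2.1)
  baseLt : u0 < 2 ^ n
  closed : ∀ i, ∀ x : Fin (2 ^ n), tvN (g i) x < 2 ^ n
  orbit : ∀ x : Fin (2 ^ n), q (dec idx x) = 1 → (x : ℕ) ∈ words.map (fun w => w.foldr (fun i y => tvN (g i) y) u0)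
  /-- the possible values at the rotations -/
  ch : Fin k → Fin 4 → ℕ
  choice : ∀ i, ∀ x : Fin (2 ^ n),
    dec idx ((x : ℕ) ^^^ (tvN (g i) x ^^^ tvN (g i) (tvN (g i) x))) = 0 → ∃ j, ch i j = x
  kill : ∀ e : Fin k → Fin 4, ∃ v : Fin (2 ^ n), ∀ i, tvN (g i) v ^^^ (v : ℕ) = ch i (e i)

variable {Q : QuadraticForm (ZMod 2) (ι → ZMod 2)}

theorem rO_eq {u : ι → ZMod 2} (hu : Q u ≠ 0) (x : ι → ZMod 2) : (rO hu).1 x = tV (⇑Q) u x := by
  rw [rO_apply, tV, sub_eq_add_neg, ← neg_smul]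
  congr 2
  rw [show Q u = 1 from (OrthTwo.z2 _).resolve_left hu, div_one, ZModModule.neg_eq_self]
  show polar (⇑Q) x u = _
  rw [polar]
  rw [show Q u = 1 from (OrthTwo.z2 _).resolve_left hu]

set_option maxHeartbeats 1000000 in
/-- Crossed homomorphisms are principal. -/
theorem principal (hQ : (polarBilin Q).Nondegenerate) (hgen : Subgroup.closure (reflSet Q) = ⊤)
    {idx : ι → ℕ} (C : Cert (⇑Q) idx)
    (f : ↥(Cfsg.Omega (ZMod 2) ⇑Q) → (ι → ZMod 2))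
    (hf : ∀ g h : ↥(Cfsg.Omega (ZMod 2) ⇑Q), f (g * h) = f g +
      Matrix.mulVec (((g : ↥(Cfsg.isometryGroup (ZMod 2) ⇑Q)) : GL ι (ZMod 2)) : Matrix ι ι (ZMod 2)) (f h)) :
    ∃ v : ι → ZMod 2, ∀ g : ↥(Cfsg.Omega (ZMod 2) ⇑Q), f g =
      Matrix.mulVec (((g : ↥(Cfsg.isometryGroup (ZMod 2) ⇑Q)) : GL ι (ZMod 2)) : Matrix ι ι (ZMod 2)) v - v := by
  classical
  let act : ↥(Cfsg.Omega (ZMod 2) ⇑Q) → (ι → ZMod 2) → (ι → ZMod 2) := fun g x => (oEquiv Q g.1).1 x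
  have hact : ∀ g x, act g x =
      Matrix.mulVec (((g : ↥(Cfsg.isometryGroup (ZMod 2) ⇑Q)) : GL ι (ZMod 2)) : Matrix ι ι (ZMod 2)) x := fun g x =>
    oEquiv_apply g.1 x
  simp only [← hact] at hf ⊢
  have hone : ∀ u v : {u : ι → ZMod 2 // Q u = 1}, Q u.1 ≠ 0 ∧ Q v.1 ≠ 0 := fun u v =>
    ⟨by rw [u.2]; exact one_ne_zero, by rw [v.2]; exact one_ne_zero⟩
  let r : {u : ι → ZMod 2 // Q u = 1} → oG Q := fun u => rO (hone u u).1
  have hrr : ∀ u, r u * r u = 1 := fun u => rO_mul_self _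
  have hpmem : ∀ u v, (oEquiv Q).symm (r u * r v) ∈ Cfsg.Omega (ZMod 2) ⇑Q := fun u v => by
    rw [mem_omega_iff, MulEquiv.apply_symm_apply]
    exact rO_mul_mem_commutator hQ _ _ (t := 1) (by rw [u.2, v.2, one_mul, one_mul])
  let p : {u : ι → ZMod 2 // Q u = 1} → {u : ι → ZMod 2 // Q u = 1} → ↥(Cfsg.Omega (ZMod 2) ⇑Q) :=
    fun u v => ⟨_, hpmem u v⟩
  have hp : ∀ u v x, act (p u v) x = tvV (⇑Q) u.1 v.1 x := fun u v x => by
    show (oEquiv Q ((oEquiv Q).symm (r u * r v))).1 x = _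
    rw [MulEquiv.apply_symm_apply, oG_mul_apply, rO_eq, rO_eq]
    rfl
  have hext : ∀ g h : ↥(Cfsg.Omega (ZMod 2) ⇑Q), (∀ x, act g x = act h x) → g = h := fun g h e =>
    Subtype.ext ((oEquiv Q).injective (ext_oG e))
  have hmul : ∀ g h x, act (g * h) x = act g (act h x) := fun g h x => by
    show (oEquiv Q (g.1 * h.1)).1 x = _
    rw [map_mul, oG_mul_apply]
  have hadd : ∀ g x y, act g (x + y) = act g x + act g y := fun g x y => map_add _ x y
  let gen : Fin C.k → ↥(Cfsg.Omega (ZMod 2) ⇑Q) := fun i => p ⟨_, (C.norm i).1⟩ ⟨_, (C.norm i).2⟩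
  have hgena : ∀ i, ∀ x : Fin (2 ^ C.n), act (gen i) (dec idx x) = dec idx (tvN (C.g i) x) := fun i x => by
    rw [hp]; exact C.commu i x
  have hgen3 : ∀ i, gen i * gen i * gen i = 1 := fun i => hext _ _ fun x => by
    obtain ⟨y, rfl⟩ := C.surj x
    rw [hmul, hmul, hgena, show tvN (C.g i) y = (⟨_, C.closed i y⟩ : Fin (2 ^ C.n)).val from rfl, hgena,
      show tvN (C.g i) (tvN (C.g i) y) = (⟨_, C.closed i ⟨_, C.closed i y⟩⟩ : Fin (2 ^ C.n)).val from rfl, hgena]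
    show dec idx (tvN (C.g i) (tvN (C.g i) (tvN (C.g i) y))) = (oEquiv Q ((1 : ↥(Cfsg.Omega (ZMod 2) ⇑Q)) : _)).1 _
    rw [C.cube, Subgroup.coe_one, map_one, oG_one_apply]
  -- values on the generators
  choose c hc using fun i => C.surj (f (gen i))
  have hf1 : f 1 = 0 := by
    have h := hf 1 1
    have h1 : act 1 (f 1) = f 1 := by
      show (oEquiv Q ((1 : ↥(Cfsg.Omega (ZMod 2) ⇑Q)) : _)).1 _ = _
      rw [Subgroup.coe_one, map_one, oG_one_apply]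
    rw [mul_one, h1] at h
    exact left_eq_add.1 h
  have hdec0 : ∀ i, dec idx ((c i : ℕ) ^^^ (tvN (C.g i) (c i) ^^^ tvN (C.g i) (tvN (C.g i) (c i)))) = 0 := by
    intro i
    rw [dec_xor, dec_xor, ← hgena, show tvN (C.g i) (c i) = (⟨_, C.closed i (c i)⟩ : Fin (2 ^ C.n)).val from rfl,
      ← hgena]
    show dec idx (c i) + (act (gen i) (dec idx (c i)) + act (gen i) (dec idx (tvN (C.g i) (c i)))) = 0
    rw [← hgena, hc, ← hadd]
    rw [← hf, ← hf, ← mul_assoc, hgen3, hf1]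
  choose e he using fun i => C.choice i (c i) (hdec0 i)
  obtain ⟨v, hv⟩ := C.kill e
  refine ⟨dec idx v, fun g => ?_⟩
  let K : Subgroup ↥(Cfsg.Omega (ZMod 2) ⇑Q) :=
    { carrier := {g | f g = act g (dec idx v) - dec idx v}
      one_mem' := by
        show f 1 = (oEquiv Q ((1 : ↥(Cfsg.Omega (ZMod 2) ⇑Q)) : _)).1 _ - _
        rw [hf1, Subgroup.coe_one, map_one, oG_one_apply, sub_self]
      mul_mem' := by
        intro a b ha hb
        show f (a * b) = act (a * b) (dec idx v) - dec idx v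
        rw [hf, show f a = _ from ha, show f b = _ from hb, hmul]
        show act a (dec idx v) - dec idx v + (oEquiv Q a.1).1 (act b (dec idx v) - dec idx v) = _
        rw [map_sub]
        show act a (dec idx v) - dec idx v + (act a (act b (dec idx v)) - act a (dec idx v)) = _
        abel
      inv_mem' := by
        intro a ha
        show f a⁻¹ = act a⁻¹ (dec idx v) - dec idx v
        have h := hf a⁻¹ a
        rw [inv_mul_cancel, hf1, show f a = _ from ha] at h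
        have h2 : act a⁻¹ (act a (dec idx v) - dec idx v) = dec idx v - act a⁻¹ (dec idx v) := by
          show (oEquiv Q (a⁻¹).1).1 _ = _
          rw [map_sub]
          show act a⁻¹ (act a (dec idx v)) - act a⁻¹ (dec idx v) = _
          rw [← hmul, inv_mul_cancel]
          show (oEquiv Q ((1 : ↥(Cfsg.Omega (ZMod 2) ⇑Q)) : _)).1 _ - _ = _
          rw [Subgroup.coe_one, map_one, oG_one_apply]
        rw [h2] at h
        rw [eq_neg_of_add_eq_zero_left h.symm, neg_sub] }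
  have hgK : ∀ i, gen i ∈ K := fun i => by
    show f (gen i) = act (gen i) (dec idx v) - dec idx v
    rw [hgena, ← hc, ← he i, ← hv i, dec_xor, sub_eq_add_neg, ZModModule.neg_eq_self]
  -- joined vectors
  let R : {u : ι → ZMod 2 // Q u = 1} → {u : ι → ZMod 2 // Q u = 1} → Prop := fun u v => p u v ∈ K
  have hpp : ∀ u v w, p u v * p v w = p u w := fun u v w => Subtype.ext <| by
    show (oEquiv Q).symm (r u * r v) * (oEquiv Q).symm (r v * r w) = (oEquiv Q).symm (r u * r w)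
    rw [← map_mul, mul_assoc (r u), ← mul_assoc (r v), hrr, one_mul]
  have hpuu : ∀ u, p u u = 1 := fun u => Subtype.ext <| by
    show (oEquiv Q).symm (r u * r u) = 1
    rw [hrr, map_one]
  have htrans : ∀ u v w, R u v → R v w → R u w := fun u v w h1 h2 => by
    show p u w ∈ K
    rw [← hpp u v w]
    exact mul_mem h1 h2
  have hsymm : ∀ u v, R u v → R v u := fun u v h => by
    have : p v u = (p u v)⁻¹ := eq_inv_of_mul_eq_one_left (by rw [hpp, hpuu])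
    show p v u ∈ K
    rw [this]
    exact inv_mem h
  have hact1 : ∀ (h : ↥(Cfsg.Omega (ZMod 2) ⇑Q)) (u : {u : ι → ZMod 2 // Q u = 1}), Q (act h u.1) = 1 := fun h u => by
    show Q ((oEquiv Q h.1).1 u.1) = 1
    rw [(oEquiv Q h.1).2, u.2]
  have hmove : ∀ h ∈ K, ∀ u v, R u v → R ⟨_, hact1 h u⟩ ⟨_, hact1 h v⟩ := fun h hh u v huv => by
    have : p ⟨_, hact1 h u⟩ ⟨_, hact1 h v⟩ = h * p u v * h⁻¹ := Subtype.ext <| (oEquiv Q).injective <| by
      show oEquiv Q ((oEquiv Q).symm (r _ * r _)) = oEquiv Q (h.1 * (oEquiv Q).symm (r u * r v) * h.1⁻¹)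
      rw [MulEquiv.apply_symm_apply, map_mul, map_mul, MulEquiv.apply_symm_apply, map_inv, ← conj_mul]
      show r _ * r _ = oEquiv Q h.1 * rO _ * (oEquiv Q h.1)⁻¹ * (oEquiv Q h.1 * rO _ * (oEquiv Q h.1)⁻¹)
      rw [conj_rO, conj_rO]
    show p _ _ ∈ K
    rw [this]
    exact mul_mem (mul_mem hh huv) (inv_mem hh)
  -- the base vector is joined to its images
  have hall : ∀ u v : {u : ι → ZMod 2 // Q u = 1}, R u v := by
    have hinv : ∀ w : List (Fin C.k), w.foldr (fun i y => tvN (C.g i) y) C.u0 < 2 ^ C.n ∧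
        (Q (dec idx (w.foldr (fun i y => tvN (C.g i) y) C.u0)) = Q (dec idx C.u0)) := by
      intro w
      induction w with
      | nil => exact ⟨C.baseLt, rfl⟩
      | cons i w ih =>
        rw [List.foldr_cons]
        refine ⟨C.closed i ⟨_, ih.1⟩, ?_⟩
        rw [← hgena i ⟨_, ih.1⟩]
        exact ((oEquiv Q (gen i).1).2 _).trans ih.2
    have key : ∀ u : {u : ι → ZMod 2 // Q u = 1}, ∃ hb : Q (dec idx C.u0) = 1, R ⟨_, hb⟩ u := by
      rintro ⟨u, hu⟩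
      obtain ⟨x, rfl⟩ := C.surj u
      obtain ⟨w, -, hw⟩ := List.mem_map.1 (C.orbit x hu)
      have hb : Q (dec idx C.u0) = 1 := by rw [← (hinv w).2, hw, hu]
      have horb : ∀ w : List (Fin C.k), ∀ u : {u : ι → ZMod 2 // Q u = 1},
          u.1 = dec idx (w.foldr (fun i y => tvN (C.g i) y) C.u0) → R ⟨_, hb⟩ u := by
        intro w
        induction w with
        | nil =>
          intro u hu'
          have : u = ⟨_, hb⟩ := Subtype.ext hu'
          rw [this]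
          show p _ _ ∈ K
          rw [hpuu]
          exact one_mem _
        | cons i w ih =>
          intro u hu'
          rw [List.foldr_cons] at hu'
          have hw0 : Q (dec idx (w.foldr (fun i y => tvN (C.g i) y) C.u0)) = 1 := (hinv w).2.trans hb
          have hm := hmove _ (hgK i) _ _ (ih ⟨_, hw0⟩ rfl)
          have e1 : (⟨_, hact1 (gen i) ⟨_, hw0⟩⟩ : {u : ι → ZMod 2 // Q u = 1}) = u :=
            Subtype.ext ((hgena i ⟨_, (hinv w).1⟩).trans hu'.symm)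
          rw [e1] at hm
          refine htrans _ _ _ ?_ hm
          have e0 : act (gen i) (dec idx C.u0) = dec idx (tvN (C.g i) C.u0) := hgena i ⟨_, C.baseLt⟩
          rcases C.base i with e | ⟨ea, eb⟩
          · rw [show (⟨_, hact1 (gen i) ⟨_, hb⟩⟩ : {u : ι → ZMod 2 // Q u = 1}) = ⟨_, hb⟩ from
              Subtype.ext (e0.trans (congrArg (dec idx) e))]
            show p _ _ ∈ K
            rw [hpuu]
            exact one_mem _
          · rw [show (⟨_, hact1 (gen i) ⟨_, hb⟩⟩ : {u : ι → ZMod 2 // Q u = 1}) = ⟨_, (C.norm i).2⟩ from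
              Subtype.ext (e0.trans (congrArg (dec idx) eb)),
              show (⟨_, hb⟩ : {u : ι → ZMod 2 // Q u = 1}) = ⟨_, (C.norm i).1⟩ from
              Subtype.ext (congrArg (dec idx) ea)]
            exact hgK i
      exact ⟨hb, horb w ⟨_, hu⟩ (congrArg (dec idx) hw.symm)⟩
    intro u v
    obtain ⟨hb, hu⟩ := key u
    obtain ⟨_, hv⟩ := key v
    exact htrans _ _ _ (hsymm _ _ hu) hv
  -- everything in the commutator subgroup is a product of pairs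
  let E : Subgroup (oG Q) := (K.map (Cfsg.Omega (ZMod 2) ⇑Q).subtype).map (oEquiv Q).toMonoidHom
  have hE : ∀ u v, r u * r v ∈ E := fun u v =>
    ⟨(p u v).1, ⟨p u v, hall u v, rfl⟩, (oEquiv Q).apply_symm_apply _⟩
  rcases isEmpty_or_nonempty {u : ι → ZMod 2 // Q u = 1} with hemp | ⟨⟨a⟩⟩
  · have hbot : Subgroup.closure (reflSet Q) = ⊥ := by
      rw [Subgroup.closure_eq_bot_iff]
      rintro _ ⟨u, hu, rfl⟩
      exact (hemp.false ⟨u, (OrthTwo.z2 _).resolve_left hu⟩).elim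
    have hg1 : oEquiv Q g.1 = 1 := Subgroup.mem_bot.1 (hbot ▸ hgen ▸ Subgroup.mem_top _)
    rw [show g = 1 from Subtype.ext ((oEquiv Q).injective (by rw [hg1, Subgroup.coe_one, map_one]))]
    exact K.one_mem
  set P : Subgroup (oG Q) := Subgroup.closure {y | ∃ u v, y = r u * r v} with hP
  have hPE : P ≤ E := (Subgroup.closure_le _).2 (by rintro _ ⟨u, v, rfl⟩; exact hE u v)
  have hPn : P.Normal := ⟨fun x hx k => by
    suffices P.map (MulAut.conj k).toMonoidHom ≤ P from this ⟨x, hx, rfl⟩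
    rw [hP, MonoidHom.map_closure, Subgroup.closure_le]
    rintro _ ⟨_, ⟨u, v, rfl⟩, rfl⟩
    refine Subgroup.subset_closure ⟨⟨k.1 u.1, by rw [k.2, u.2]⟩, ⟨k.1 v.1, by rw [k.2, v.2]⟩, ?_⟩
    show k * (r u * r v) * k⁻¹ = _
    rw [← conj_mul]
    show k * rO _ * k⁻¹ * (k * rO _ * k⁻¹) = rO _ * rO _
    rw [conj_rO, conj_rO]⟩
  let π := QuotientGroup.mk' P
  have htwo : ∀ x : oG Q, π x = 1 ∨ π x = π (r a) := by
    intro x
    have hx : x ∈ Subgroup.closure (reflSet Q) := hgen ▸ Subgroup.mem_top x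
    have hsame : ∀ u, π (r u) = π (r a) := fun u => by
      have h1 : π (r u * r a) = 1 := (QuotientGroup.eq_one_iff _).2 (Subgroup.subset_closure ⟨u, a, rfl⟩)
      rw [map_mul] at h1
      rw [eq_inv_of_mul_eq_one_left h1, ← map_inv, inv_eq_of_mul_eq_one_right (hrr a)]
    have hr : ∀ y ∈ reflSet Q, π y = π (r a) ∧ π y * π y = 1 := by
      rintro _ ⟨u, hu, rfl⟩
      exact ⟨hsame ⟨u, (OrthTwo.z2 _).resolve_left hu⟩, by rw [← map_mul, rO_mul_self, map_one]⟩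
    have haa : π (r a) * π (r a) = 1 := by rw [← map_mul, hrr, map_one]
    induction hx using Subgroup.closure_induction with
    | mem y hy => exact Or.inr (hr y hy).1
    | one => exact Or.inl (map_one _)
    | mul y z _ _ hy hz =>
      rcases hy with h | h <;> rcases hz with h' | h' <;> rw [map_mul, h, h']
      · exact Or.inl (one_mul _)
      · exact Or.inr (one_mul _)
      · exact Or.inr (mul_one _)
      · exact Or.inl haa
    | inv y _ hy =>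
      rcases hy with h | h <;> rw [map_inv, h]
      · exact Or.inl inv_one
      · exact Or.inr (inv_eq_of_mul_eq_one_right haa)
  have hcomm : commutator (oG Q) ≤ P := by
    rw [commutator_def, Subgroup.commutator_le]
    intro x _ y _
    rw [← QuotientGroup.eq_one_iff]
    show π ⁅x, y⁆ = 1
    rw [map_commutatorElement, commutatorElement_eq_one_iff_commute]
    rcases htwo x with h | h <;> rcases htwo y with h' | h' <;> rw [h, h'] <;>
      first | exact Commute.one_left _ | exact Commute.one_right _ | exact Commute.refl _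
  obtain ⟨g', ⟨g'', hg'', rfl⟩, hg'⟩ := hPE (hcomm ((mem_omega_iff g.1).1 g.2))
  have : g'' = g := Subtype.ext ((oEquiv Q).injective hg')
  exact this ▸ hg''

end

/-- The hyperbolic form. -/
def qP (m : ℕ) : QuadraticForm (ZMod 2) (Fin m ⊕ Fin m → ZMod 2) :=
  ∑ i : Fin m, linMulLin (LinearMap.proj (Sum.inl i)) (LinearMap.proj (Sum.inr i))

theorem qP_coe (m : ℕ) : ⇑(qP m) = Cfsg.quadFormPlus m (ZMod 2) := by
  funext v
  simp [qP, Cfsg.quadFormPlus, QuadraticMap.sum_apply]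

/-- The elliptic form. -/
def qM (m : ℕ) : QuadraticForm (ZMod 2) ((Fin m ⊕ Fin m) ⊕ Fin 2 → ZMod 2) :=
  (∑ i : Fin m, linMulLin (LinearMap.proj (Sum.inl (Sum.inl i))) (LinearMap.proj (Sum.inl (Sum.inr i)))) +
    (linMulLin (LinearMap.proj (Sum.inr 0)) (LinearMap.proj (Sum.inr 0)) +
      linMulLin (LinearMap.proj (Sum.inr 0)) (LinearMap.proj (Sum.inr 1)) +
      linMulLin (LinearMap.proj (Sum.inr 1)) (LinearMap.proj (Sum.inr 1)))

theorem qM_coe (m : ℕ) : ⇑(qM m) = Cfsg.quadFormMinus m (ZMod 2) 1 1 := by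
  funext v
  simp [qM, Cfsg.quadFormMinus, QuadraticMap.sum_apply, pow_two]

theorem nondeg_of_single {ι : Type} [Fintype ι] [DecidableEq ι] {Q : QuadraticForm (ZMod 2) (ι → ZMod 2)}
    (h : ∀ x : ι → ZMod 2, (∀ i, Q (x + Pi.single i 1) - Q x - Q (Pi.single i 1) = 0) → x = 0) :
    (polarBilin Q).Nondegenerate := nondeg_of fun x hx => h x fun i => hx _

/-- Bit positions for the hyperbolic form. -/
def idxP (m : ℕ) : Fin m ⊕ Fin m → ℕ := Sum.elim (fun i => i.val) (fun i => m + i.val)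

/-- Bit positions for the elliptic form. -/
def idxM (m : ℕ) : (Fin m ⊕ Fin m) ⊕ Fin 2 → ℕ := Sum.elim (idxP m) (fun j => 2 * m + j.val)

set_option maxHeartbeats 4000000 in
set_option maxRecDepth 100000 in
/-- The certificate in dimension 4. -/
def certM4 : Cert (Cfsg.quadFormMinus 1 (ZMod 2) 1 1) (idxM 1) where
  n := 4
  k := 2
  g := ![(3, 5, 3, 10), (4, 8, 8, 4)]
  u0 := 3
  words := [[], [1, 0, 1, 0], [0], [0, 0], [0, 1, 1, 0], [1, 0], [1, 0, 0], [0, 1, 0], [1, 1, 0], [1, 1, 0, 0]]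
  ch := ![![0, 3, 5, 6], ![0, 4, 8, 12]]
  surj := by decide +kernel
  norm := by decide +kernel
  commu := by decide +kernel
  cube := by decide +kernel
  base := by decide +kernel
  baseLt := by decide +kernel
  closed := by decide +kernel
  orbit := by decide +kernel
  choice := by decide +kernel
  kill := by decide +kernel

set_option maxHeartbeats 4000000 in
set_option maxRecDepth 100000 in
/-- The certificate in dimension 6. -/
def certM6 : Cert (Cfsg.quadFormMinus 2 (ZMod 2) 1 1) (idxM 2) where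
  n := 6
  k := 3
  g := ![(5, 20, 5, 33), (7, 56, 13, 50), (10, 24, 10, 34)]
  u0 := 5
  words := [[], [0, 1, 1, 0], [1, 2, 1, 2, 0, 1, 0], [2, 1, 1, 0], [2, 1, 2, 0, 1, 0], [2, 1, 1, 0, 0], [1, 2, 0, 1, 2, 1, 0, 0], [0, 0], [2, 1, 1, 2, 0, 1, 0], [1, 1, 0], [0], [1, 1, 0, 0], [1, 1, 2, 0, 1, 0], [2, 2, 1, 1, 0], [2, 2, 1, 1, 0, 0], [1, 2, 0, 1, 0], [2, 0, 1, 0], [1, 2, 2, 1, 0], [0, 1, 2, 1, 0, 0], [2, 2, 1, 0, 0], [1, 2, 2, 1, 0, 0], [2, 2, 1, 0], [2, 0, 1, 2, 1, 0, 0], [1, 0, 0], [1, 0], [1, 1, 2, 0, 1, 2, 1, 0, 0], [0, 1, 2, 2, 1, 0, 0], [2, 1, 0, 0], [2, 2, 0, 1, 0], [1, 2, 1, 0], [2, 1, 0], [1, 2, 1, 0, 0], [0, 1, 0], [2, 1, 2, 1, 0], [2, 1, 2, 1, 0, 0], [1, 0, 1, 0]]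
  ch := ![![0, 5, 17, 20], ![0, 7, 56, 63], ![0, 10, 18, 24]]
  surj := by decide +kernel
  norm := by decide +kernel
  commu := by decide +kernel
  cube := by decide +kernel
  base := by decide +kernel
  baseLt := by decide +kernel
  closed := by decide +kernel
  orbit := by decide +kernel
  choice := by decide +kernel
  kill := by decide +kernel

set_option maxHeartbeats 4000000 in
set_option maxRecDepth 100000 in
/-- The certificate in dimension 8. -/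
def certP8 : Cert (Cfsg.quadFormPlus 4 (ZMod 2)) (idxP 4) where
  n := 8
  k := 4
  g := ![(17, 69, 17, 84), (149, 27, 89, 177), (238, 38, 238, 98), (42, 251, 162, 191)]
  u0 := 17
  words := [[], [0, 1, 3, 3, 2, 0, 0], [3, 2, 0, 2, 0], [2, 3, 0, 1, 1, 0], [3, 3, 0, 2, 0], [0, 1, 1, 0], [1, 2, 3, 3, 1, 2, 3, 0, 1, 3, 2, 0, 0], [2, 2, 3, 0, 1, 3, 2, 0, 0], [1, 3, 0, 1, 3, 2, 0, 0], [1, 1, 3, 2, 0, 0], [0, 2, 2, 0], [1, 1, 3, 2, 2, 0], [2, 3, 0, 2, 0], [2, 3, 1, 1, 3, 2, 0], [0, 2, 3, 3, 2, 0, 0], [3, 3, 1, 2, 3, 3, 2, 0, 0], [3, 0, 1, 1, 0], [1, 1, 3, 2, 0], [2, 0, 1, 3, 3, 2, 0, 0], [1, 1, 3, 2, 2, 0, 0], [3, 0, 1, 3, 2, 0, 0], [2, 3, 1, 1, 3, 2, 0, 0], [2, 1, 2, 0, 1, 0], [3, 3, 1, 2, 3, 3, 2, 0], [3, 3, 1, 0, 1, 0], [0], [2, 0, 1, 0], [1, 3, 3, 2, 0], [2, 2, 3, 3, 0, 1, 2, 3, 3, 2, 0, 0], [3, 3, 2, 0, 0], [3, 1, 2, 3, 0, 1, 3, 2, 0, 0], [1, 1, 0, 0], [2, 3, 1, 0, 1, 0], [3, 3, 2, 2, 0, 1, 0], [0,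 0], [1, 3, 3, 2, 0, 0], [2, 0, 2, 3, 1, 1, 3, 2, 0, 0], [3, 2, 1, 2, 3, 0, 1, 3, 2, 0, 0], [3, 3, 2, 0], [1, 1, 0], [1, 3, 0, 2, 2, 0], [2, 2, 0], [1, 2, 3, 0, 1, 3, 2, 0, 0], [3, 1, 1, 0, 0], [3, 3, 0, 1, 2, 3, 3, 2, 0, 0], [2, 3, 3, 2, 0, 0], [3, 2, 0, 1, 0], [3, 1, 3, 2, 0], [1, 3, 2, 2, 3, 0, 1, 3, 2, 0, 0], [2, 2, 0, 0], [3, 1, 1, 0], [1, 3, 0, 2, 0], [3, 2, 2, 0, 1, 0], [2, 3, 3, 2, 0], [3, 1, 3, 2, 0, 0], [0, 2, 3, 1, 1, 3, 2, 0, 0], [3, 2, 0, 2, 3, 1, 1, 3, 2, 0, 0], [3, 3, 2, 2, 0, 0], [2, 1, 2, 3, 0, 1, 3, 2, 0, 0], [2, 3, 1, 1, 0, 0], [1, 3, 3, 0, 2, 0], [2, 0], [0, 1, 0], [3, 3, 1, 1, 0], [3, 0, 1, 2, 3, 3, 2, 0, 0], [2, 3, 3, 1, 2, 3, 0, 1, 3, 2, 0, 0], [1, 0, 1, 0], [3, 3, 2, 0, 1, 0], [3, 3, 2, 2, 0], [2, 3, 1, 1, 0], [2, 0, 0], [3, 3, 1, 1, 0, 0], [2, 3, 3, 0, 1, 2, 3, 3, 2, 0, 0], [3, 2, 2, 0, 0], [3, 1, 3, 0, 2, 0], [3, 2, 0], [2, 2, 0, 1, 0], [1, 3, 2, 2, 0], [0, 1, 3, 1, 3, 2,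 0, 0], [1, 3, 2, 0, 0], [2, 3, 3, 2, 0, 1, 0], [3, 2, 2, 0], [3, 3, 1, 2, 3, 0, 1, 3, 2, 0, 0], [3, 2, 0, 0], [1, 3, 2, 2, 0, 0], [0, 1, 2, 3, 3, 2, 0, 0], [1, 3, 2, 0], [3, 1, 0, 1, 0], [3, 3, 2, 0, 2, 0], [3, 1, 2, 3, 3, 2, 0], [3, 2, 1, 2, 0, 1, 0], [0, 2, 3, 3, 1, 2, 3, 0, 1, 3, 2, 0, 0], [0, 2, 0], [1, 1, 3, 3, 2, 0], [3, 3, 0, 1, 1, 0], [1, 0], [2, 3, 0, 2, 2, 0], [1, 2, 0, 1, 0], [3, 1, 2, 3, 3, 2, 0, 0], [0, 0, 2, 3, 3, 1, 2, 3, 0, 1, 3, 2, 0, 0], [1, 1, 3, 3, 2, 0, 0], [1, 0, 0], [3, 3, 0, 2, 2, 0], [0, 2, 3, 1, 1, 0], [3, 0, 2, 0], [3, 1, 1, 3, 2, 0], [3, 2, 2, 3, 0, 1, 3, 2, 0, 0], [1, 1, 2, 3, 3, 2, 0, 0], [0, 1, 3, 2, 0, 0], [1, 3, 1, 3, 2, 0, 0], [2, 0, 2, 0], [1, 2, 3, 3, 2, 0], [2, 3, 0, 1, 3, 2, 0, 0], [3, 1, 1, 3, 2, 0, 0], [1, 1, 2, 3, 3, 2, 0], [3, 0, 2, 2, 0], [1, 3, 1, 3, 2, 0], [2, 3, 2, 0, 2, 0], [0, 1, 3, 2, 2, 0, 0], [1, 2, 3, 3, 2, 0, 0]]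
  ch := ![![0, 17, 69, 84], ![0, 27, 142, 149], ![0, 38, 200, 238], ![0, 42, 209, 251]]
  surj := by decide +kernel
  norm := by decide +kernel
  commu := by decide +kernel
  cube := by decide +kernel
  base := by decide +kernel
  baseLt := by decide +kernel
  closed := by decide +kernel
  orbit := by decide +kernel
  choice := by decide +kernel
  kill := by decide +kernel

theorem nondegM1 : (polarBilin (qM 1)).Nondegenerate :=
  nondeg_of_single (by rw [qM_coe]; decide +kernel)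

theorem nondegM2 : (polarBilin (qM 2)).Nondegenerate :=
  nondeg_of_single (by rw [qM_coe]; decide +kernel)

theorem nondegP4 : (polarBilin (qP 4)).Nondegenerate :=
  nondeg_of_single (by rw [qP_coe]; decide +kernel)

/-- A basis of norm one vectors in dimension four, by masks. -/
def b4 : Fin 4 → ℕ := ![4, 8, 5, 6]

theorem b4_norm : ∀ i, Cfsg.quadFormMinus 1 (ZMod 2) 1 1 (dec (idxM 1) (b4 i)) = 1 := by decide +kernel

theorem b4_span : ∀ x : (Fin 1 ⊕ Fin 1) ⊕ Fin 2 → ZMod 2, ∃ c : Fin 4 → ZMod 2,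
    ∑ i, c i • dec (idxM 1) (b4 i) = x := by decide +kernel

/-- Polar values. -/
def p4 (x y : (Fin 1 ⊕ Fin 1) ⊕ Fin 2 → ZMod 2) : ZMod 2 :=
  Cfsg.quadFormMinus 1 (ZMod 2) 1 1 (x + y) - Cfsg.quadFormMinus 1 (ZMod 2) 1 1 x -
    Cfsg.quadFormMinus 1 (ZMod 2) 1 1 y

set_option maxRecDepth 100000 in
set_option synthInstance.maxSize 5000 in
theorem b4_step : ∀ k : Fin 4, ∀ y : Fin 16, Cfsg.quadFormMinus 1 (ZMod 2) 1 1 (dec (idxM 1) y) = 1 →
    (∀ j : Fin 4, j < k → p4 (dec (idxM 1) y) (dec (idxM 1) (b4 j)) = p4 (dec (idxM 1) (b4 k)) (dec (idxM 1) (b4 j))) →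
    (∀ j : Fin 4, j < k → dec (idxM 1) y ≠ dec (idxM 1) (b4 j)) →
    dec (idxM 1) y = dec (idxM 1) (b4 k) ∨ ∃ u w : Fin 16,
      Cfsg.quadFormMinus 1 (ZMod 2) 1 1 (dec (idxM 1) u) = 1 ∧ Cfsg.quadFormMinus 1 (ZMod 2) 1 1 (dec (idxM 1) w) = 1 ∧
      ((tV (Cfsg.quadFormMinus 1 (ZMod 2) 1 1) (dec (idxM 1) u) (dec (idxM 1) y) = dec (idxM 1) (b4 k) ∧
          ∀ j : Fin 4, j < k → tV (Cfsg.quadFormMinus 1 (ZMod 2) 1 1) (dec (idxM 1) u) (dec (idxM 1) (b4 j)) = dec (idxM 1) (b4 j)) ∨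
        (tvV (Cfsg.quadFormMinus 1 (ZMod 2) 1 1) (dec (idxM 1) u) (dec (idxM 1) w) (dec (idxM 1) y) = dec (idxM 1) (b4 k) ∧
          ∀ j : Fin 4, j < k → tvV (Cfsg.quadFormMinus 1 (ZMod 2) 1 1) (dec (idxM 1) u) (dec (idxM 1) w) (dec (idxM 1) (b4 j)) = dec (idxM 1) (b4 j))) := by
  decide +kernel

theorem b4_inj : ∀ i j : Fin 4, dec (idxM 1) (b4 i) = dec (idxM 1) (b4 j) → i = j := by decide +kernel

theorem dec4_surj : ∀ x : (Fin 1 ⊕ Fin 1) ⊕ Fin 2 → ZMod 2, ∃ y : Fin 16, dec (idxM 1) y = x := by decide +kernel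

theorem reflM1 : Subgroup.closure (reflSet (qM 1)) = ⊤ := by
  refine eq_top_iff.2 fun g _ => ?_
  let b : Fin 4 → ((Fin 1 ⊕ Fin 1) ⊕ Fin 2 → ZMod 2) := fun i => dec (idxM 1) (b4 i)
  suffices ∀ k ≤ 4, ∃ h ∈ Subgroup.closure (reflSet (qM 1)), ∀ j : Fin 4, j.val < k → (h * g).1 (b j) = b j by
    obtain ⟨h, hh, hb⟩ := this 4 le_rfl
    have : h * g = 1 := ext_oG fun x => by
      obtain ⟨c, rfl⟩ := b4_span x
      rw [oG_one_apply, map_sum]
      exact Finset.sum_congr rfl fun i _ => by rw [map_smul]; exact congrArg _ (hb i i.isLt)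
    rw [eq_inv_of_mul_eq_one_right this]
    exact inv_mem hh
  intro k hk
  induction k with
  | zero => exact ⟨1, one_mem _, fun j hj => absurd hj (Nat.not_lt_zero _)⟩
  | succ k ih =>
    obtain ⟨h, hh, hb⟩ := ih (by omega)
    set k' : Fin 4 := ⟨k, by omega⟩
    set t := h * g
    obtain ⟨y, hy⟩ := dec4_surj (t.1 (b k'))
    have hq : ∀ x, Cfsg.quadFormMinus 1 (ZMod 2) 1 1 (t.1 x) = Cfsg.quadFormMinus 1 (ZMod 2) 1 1 x := fun x => by
      rw [← qM_coe]; exact t.2 x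
    have h1 : Cfsg.quadFormMinus 1 (ZMod 2) 1 1 (dec (idxM 1) y) = 1 := by rw [hy, hq]; exact b4_norm _
    have h2 : ∀ j : Fin 4, j < k' → p4 (dec (idxM 1) y) (dec (idxM 1) (b4 j)) = p4 (b k') (b j) := fun j hj => by
      show p4 _ (b j) = _
      rw [hy, ← hb j hj]
      unfold p4
      rw [← map_add, hq, hq, hq, hb j hj]
    have h3 : ∀ j : Fin 4, j < k' → dec (idxM 1) y ≠ dec (idxM 1) (b4 j) := fun j hj e => by
      rw [hy] at e
      exact hj.ne (b4_inj _ _ (t.1.injective (e.trans (hb j hj).symm))).symm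
    have fin : ∀ s ∈ Subgroup.closure (reflSet (qM 1)), s.1 (dec (idxM 1) y) = b k' →
        (∀ j : Fin 4, j < k' → s.1 (b j) = b j) →
        ∃ h' ∈ Subgroup.closure (reflSet (qM 1)), ∀ j : Fin 4, j.val < k + 1 → (h' * g).1 (b j) = b j := by
      intro s hs hsy hsj
      refine ⟨s * h, mul_mem hs hh, fun j hj => ?_⟩
      rw [mul_assoc, oG_mul_apply]
      rcases Nat.lt_succ_iff_lt_or_eq.1 hj with r | r
      · rw [hb j r]; exact hsj j r
      · obtain rfl : j = k' := Fin.ext r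
        show s.1 (t.1 (b k')) = _
        rw [← hy, hsy]
    rcases b4_step k' y h1 h2 h3 with e | ⟨u, w, hu, hw, ⟨e1, e2⟩ | ⟨e1, e2⟩⟩
    · exact fin 1 (one_mem _) (by rw [oG_one_apply, e]) fun j _ => oG_one_apply _
    all_goals
      have hu' : qM 1 (dec (idxM 1) u) ≠ 0 := by rw [qM_coe, hu]; exact one_ne_zero
      have hw' : qM 1 (dec (idxM 1) w) ≠ 0 := by rw [qM_coe, hw]; exact one_ne_zero
      have ru : rO hu' ∈ Subgroup.closure (reflSet (qM 1)) := Subgroup.subset_closure ⟨_, hu', rfl⟩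
      have rw' : rO hw' ∈ Subgroup.closure (reflSet (qM 1)) := Subgroup.subset_closure ⟨_, hw', rfl⟩
    · exact fin (rO hu') ru (by rw [rO_eq, qM_coe]; exact e1) fun j hj => by rw [rO_eq, qM_coe]; exact e2 j hj
    · exact fin (rO hu' * rO hw') (mul_mem ru rw') (by rw [oG_mul_apply, rO_eq, rO_eq, qM_coe]; exact e1)
        fun j hj => by rw [oG_mul_apply, rO_eq, rO_eq, qM_coe]; exact e2 j hj

theorem reflM2 : Subgroup.closure (reflSet (qM 2)) = ⊤ := closure_reflSet nondegM2 (Or.inr (by simp))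

theorem reflP4 : Subgroup.closure (reflSet (qP 4)) = ⊤ := closure_reflSet nondegP4 (Or.inr (by simp))

/-- The vanishing, for a form given as a function. -/
theorem principal_of_eq {ι : Type} [Fintype ι] [DecidableEq ι] {Q : QuadraticForm (ZMod 2) (ι → ZMod 2)}
    (hQ : (polarBilin Q).Nondegenerate) (hgen : Subgroup.closure (reflSet Q) = ⊤)
    {q : (ι → ZMod 2) → ZMod 2} (hq : ⇑Q = q) {idx : ι → ℕ} (C : Cert q idx)
    (f : ↥(Cfsg.Omega (ZMod 2) q) → (ι → ZMod 2))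
    (hf : ∀ g h : ↥(Cfsg.Omega (ZMod 2) q), f (g * h) = f g +
      Matrix.mulVec (((g : ↥(Cfsg.isometryGroup (ZMod 2) q)) : GL ι (ZMod 2)) : Matrix ι ι (ZMod 2)) (f h)) :
    ∃ v : ι → ZMod 2, ∀ g : ↥(Cfsg.Omega (ZMod 2) q), f g =
      Matrix.mulVec (((g : ↥(Cfsg.isometryGroup (ZMod 2) q)) : GL ι (ZMod 2)) : Matrix ι ι (ZMod 2)) v - v := by
  subst hq
  exact principal hQ hgen C f hf

end Cfsg.Agent.ThreeTrans.OrthCohom
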