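import Cfsg.Agent.ThreeTrans.UnitaryClass

/-!
# Planes of the unitary model
-/

set_option autoImplicit false

open Cfsg Cfsg.Agent.Classical Cfsg.Agent.Classical.Herm Module

namespace Cfsg.Agent.ThreeTrans

/-- The plane of three commuting members. -/
def pl {G : Type*} [Group G] (S : Set G) (p q r : G) : Set G :=
  {e | e ∈ S ∧ ∀ y ∈ S, Commute y p → Commute y q → Commute y r → Commute y e}

/-- What is used about cliques and planes. -/
structure Planes {G : Type*} [Group G] (S : Set G) : Prop where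
  ext : ∀ p ∈ S, ∀ q ∈ dperp S p, ∃ r ∈ S, Commute r p ∧ Commute r q ∧ r ∉ ln S p q
  trans : ∀ p ∈ S, ∀ q ∈ dperp S p, ∀ x ∈ S, ∀ y ∈ S, ∀ z ∈ S, Commute x p → Commute x q →
    Commute y p → Commute y q → Commute z p → Commute z q → y ∉ ln S p q → Commute x y →
    Commute y z → Commute x z
  bound : ∀ C ⊆ S, (∀ u ∈ C, ∀ v ∈ C, Commute u v) → ∀ e ∈ S, ∀ c ∈ C, ¬ Commute e c →
    {u | u ∈ C ∧ Commute e u}.ncard ≤ 5
  size : ∀ p ∈ S, ∀ q ∈ dperp S p, ∀ r ∈ S, Commute r p → Commute r q → r ∉ ln S p q →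
    (pl S p q r).ncard ≤ 21
  five : ∀ p ∈ S, ∀ q ∈ dperp S p, ∀ r ∈ S, Commute r p → Commute r q → r ∉ ln S p q →
    ∀ e ∈ S, 5 ≤ {u | u ∈ pl S p q r ∧ Commute e u}.ncard
  traces : ∀ p ∈ S, ∀ q ∈ dperp S p, ∀ r ∈ S, Commute r p → Commute r q → r ∉ ln S p q →
    ∃ d : Fin 16 → G, (∀ i, d i ∈ S ∧ ¬ Commute (d i) p) ∧ ∀ i j, i ≠ j →
      ∀ u ∈ pl S p q r, ∀ v ∈ pl S p q r, Commute (d i) u → Commute (d i) v → Commute (d j) u →
        Commute (d j) v → u = v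

theorem commute_pl {G : Type*} [Group G] {S : Set G} {p q r u : G} (hp : p ∈ S) (hq : q ∈ dperp S p)
    (hr : r ∈ S) (hrp : Commute r p) (hrq : Commute r q) (hu : u ∈ pl S p q r) :
    Commute p u ∧ Commute q u ∧ Commute r u :=
  ⟨hu.2 p hp (Commute.refl p) hq.2.2 hrp.symm, hu.2 q hq.1 hq.2.2.symm (Commute.refl q) hrq.symm,
    hu.2 r hr hrp hrq (Commute.refl r)⟩

namespace UModel

variable {F V : Type*} [Field F] [AddCommGroup V] [Module F V] {θ : F →+* F}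
  {B : V →ₛₗ[θ] V →ₗ[F] F} (hB : Space B)

include hB

/-- A totally isotropic plane with a dual one. -/
theorem exists_frame {T P Q : V} (hT0 : T ≠ 0) (hTT : B T T = 0) (hP0 : P ≠ 0) (hPP : B P P = 0)
    (hQQ : B Q Q = 0) (hTP : B T P = 0) (hTQ : B T Q = 0) (hPQ : B P Q = 0)
    (hPT : ∀ k : F, P ≠ k • T) (hQ : ∀ α β : F, Q ≠ α • T + β • P) :
    ∃ (a z z₂ Q' : V) (s t : F), Q = Q' + s • T + t • P ∧ B Q' Q' = 0 ∧ B a a = 0 ∧ B z z = 0 ∧
      B z₂ z₂ = 0 ∧ B T Q' = 0 ∧ B P Q' = 0 ∧ B a T = 1 ∧ B a P = 0 ∧ B a Q' = 0 ∧ B z T = 0 ∧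
      B z P = 1 ∧ B z Q' = 0 ∧ B z₂ T = 0 ∧ B z₂ P = 0 ∧ B z₂ Q' = 1 ∧ B a z = 0 ∧ B a z₂ = 0 ∧
      B z z₂ = 0 ∧ ∀ v, B T v = 0 → B P v = 0 → B Q v = 0 →
        v = B a v • T + B z v • P + B z₂ v • Q' := by
  obtain ⟨a, z, haa, hzz, haT, haP, hzP, hzT, haz⟩ := exists_duals hB hT0 hTT hP0 hPP hTP hPT
  have hs := fun {x w : V} (h : B x w = 0) => (symm_zero hB).1 h
  have ho := fun {x w : V} (h : B x w = 1) => symm_one hB h
  set Q' := Q - B a Q • T - B z Q • P with hQ'def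
  have hTQ' : B T Q' = 0 := by simp [hQ'def, hTQ, hTT, hTP]
  have hPQ' : B P Q' = 0 := by simp [hQ'def, hPQ, hs hTP, hPP]
  have haQ : B a Q' = 0 := by simp [hQ'def, haT, haP]
  have hzQ : B z Q' = 0 := by simp [hQ'def, hzT, hzP]
  have hQQ' : B Q' Q' = 0 := by
    simp [hQ'def, hQQ, hTT, hPP, hTP, hs hTP, hTQ, hs hTQ, hPQ, hs hPQ]
  have hQ0 : Q' ≠ 0 := fun h => hQ (B a Q) (B z Q) (by
    rw [hQ'def, sub_sub, sub_eq_zero] at h; exact h)
  obtain ⟨r, hr⟩ := exists_pair hB hQ0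
  set r' := r - B T r • a - B a r • T - B P r • z - B z r • P with hr'
  have r1 : B r' T = 0 := hs (by simp [hr', hTT, hTP, ho haT, hs hzT])
  have r2 : B r' P = 0 := hs (by simp [hr', hs hTP, hPP, hs haP, ho hzP])
  have r3 : B r' a = 0 := hs (by simp [hr', haa, haT, haP, haz])
  have r4 : B r' z = 0 := hs (by simp [hr', hs haz, hzT, hzz, hzP])
  have r5 : B r' Q' = 1 := ho (by simp [hr', hs hTQ', hs hPQ', hs haQ, hs hzQ, ho hr])
  obtain ⟨c, hc⟩ : ∃ c, c + θ c = B r' r' := by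
    have := hB.finF
    exact exists_trace hB.herm.toIsInvol (Herm.fix_self hB.herm r')
  set z₂ := r' + c • Q' with hz₂
  have h22 : B z₂ z₂ = 0 := by
    simp [hz₂, hQQ', r5, ho r5]
    rw [← hc]
    linear_combination add_self' hB (c + θ c)
  have h2T : B z₂ T = 0 := by simp [hz₂, r1, hs hTQ']
  have h2P : B z₂ P = 0 := by simp [hz₂, r2, hs hPQ']
  have h2Q : B z₂ Q' = 1 := by simp [hz₂, r5, hQQ']
  have ha2 : B a z₂ = 0 := by simp [hz₂, hs r3, haQ]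
  have hz2 : B z z₂ = 0 := by simp [hz₂, hs r4, hzQ]
  refine ⟨a, z, z₂, Q', B a Q, B z Q, by rw [hQ'def]; abel, hQQ', haa, hzz, h22, hTQ', hPQ', haT, haP,
    haQ, hzT, hzP, hzQ, h2T, h2P, h2Q, haz, ha2, hz2, fun v h1 h2 h3 => ?_⟩
  have h4 : B Q' v = 0 := by simp [hQ'def, h1, h2, h3]
  exact plane_span hB hTT hPP hQQ' haa hzz h22 hTP hTQ' hPQ' haT haP haQ hzT hzP hzQ h2T h2P h2Q haz
    ha2 hz2 h1 h2 h4

variable {K : Type*} [Group K] {E : Set K} {tp : Pt B → K} (hM : Model B E tp)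

include hM

theorem frame_of {b c r : Pt B} (hbc : B b.1 c.1 = 0) (hind : ∀ k : F, c.1 ≠ k • b.1)
    (hr : tp r ∉ ln E (tp b) (tp c)) (α β : F) : r.1 ≠ α • b.1 + β • c.1 := fun h =>
  hr ((mem_ln hB hM b c hbc hind r).2 ⟨α, β, h⟩)

/-- Members commuting with a plane lie in it. -/
theorem plane_clique {p q y x z : K} (hp : p ∈ E) (hq : q ∈ dperp E p) (hy : y ∈ E) (hx : x ∈ E)
    (hz : z ∈ E) (hxp : Commute x p) (hxq : Commute x q) (hyp : Commute y p) (hyq : Commute y q)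
    (hzp : Commute z p) (hzq : Commute z q) (hy' : y ∉ ln E p q) (hxy : Commute x y)
    (hyz : Commute y z) : Commute x z := by
  obtain ⟨b, rfl⟩ := exists_tp hM hp
  obtain ⟨c, rfl⟩ := exists_tp hM hq.1
  obtain ⟨r, rfl⟩ := exists_tp hM hy
  obtain ⟨u, rfl⟩ := exists_tp hM hx
  obtain ⟨v, rfl⟩ := exists_tp hM hz
  obtain ⟨hbc, hind⟩ := (mem_dperp hM b c).1 hq
  rw [hM.comm_iff] at hxp hxq hyp hyq hzp hzq hxy hyz ⊢
  obtain ⟨a, z', z₂, Q', s, t, hQ, -, -, -, -, -, -, -, -, -, -, -, -, -, -, -, -, -, -, hspan⟩ :=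
    exists_frame hB b.2.1 b.2.2 c.2.1 c.2.2 r.2.2 hbc ((symm_zero hB).1 hyp)
      ((symm_zero hB).1 hyq) hind (frame_of hB hM hbc hind hy')
  have hv := hspan v.1 ((symm_zero hB).1 hzp) ((symm_zero hB).1 hzq) hyz
  have hQu : B u.1 Q' = 0 := by
    have h := hxy
    rw [hQ] at h
    simpa [hxp, hxq] using h
  rw [hv]
  simp [hxp, hxq, hQu]

theorem ext_line {p q : K} (hp : p ∈ E) (hq : q ∈ dperp E p) :
    ∃ r ∈ E, Commute r p ∧ Commute r q ∧ r ∉ ln E p q := by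
  obtain ⟨b, rfl⟩ := exists_tp hM hp
  obtain ⟨c, rfl⟩ := exists_tp hM hq.1
  obtain ⟨hbc, hind⟩ := (mem_dperp hM b c).1 hq
  obtain ⟨a, z, -, -, hab, hac, hzc, hzb, -⟩ := exists_duals hB b.2.1 b.2.2 c.2.1 c.2.2 hbc hind
  obtain ⟨v, hv0, hvv, h1, h2, h3, h4⟩ := exists_iso hB b.1 c.1 a z
  refine ⟨tp ⟨v, hv0, hvv⟩, tp_mem hM _, (hM.comm_iff _ _).2 ((symm_zero hB).1 h1),
    (hM.comm_iff _ _).2 ((symm_zero hB).1 h2), fun h => ?_⟩
  obtain ⟨α, β, hv⟩ := (mem_ln hB hM b c hbc hind _).1 h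
  change v = α • b.1 + β • c.1 at hv
  rw [hv] at h3 h4
  simp [hab, hac] at h3
  simp [hzb, hzc] at h4
  exact hv0 (by rw [hv, h3, h4, zero_smul, zero_smul, add_zero])

theorem clique_bound (hF : Nat.card F = 4) [Finite K] (C : Set K) (hC : C ⊆ E)
    (hcl : ∀ u ∈ C, ∀ v ∈ C, Commute u v) (e : K) (he : e ∈ E) (c : K) (hc : c ∈ C)
    (hec : ¬ Commute e c) : {u | u ∈ C ∧ Commute e u}.ncard ≤ 5 := by
  set D := {u | u ∈ C ∧ Commute e u}
  rcases Nat.lt_or_ge D.ncard 2 with h | h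
  · omega
  obtain ⟨u, v, hu, hv, hne⟩ := (Set.one_lt_ncard_iff (Set.toFinite _)).1 (show 1 < D.ncard by omega)
  have hvu : v ∈ dperp E u := ⟨hC hv.1, hne.symm, hcl u hu.1 v hv.1⟩
  rw [← (lines hB hM hF).five u (hC hu.1) v hvu]
  refine Set.ncard_le_ncard (fun w hw => ?_) (Set.toFinite _)
  by_contra hwl
  exact hec (plane_clique hB hM (hC hu.1) hvu (hC hw.1) he (hC hc) hu.2 hv.2 (hcl w hw.1 u hu.1)
    (hcl w hw.1 v hv.1) (hcl c hc u hu.1) (hcl c hc v hv.1) hwl hw.2 (hcl w hw.1 c hc))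

theorem planes (hF : Nat.card F = 4) [Finite K] : Planes E := by
  classical
  have := hB.finF
  refine ⟨fun p hp q hq => ext_line hB hM hp hq,
    fun p hp q hq x hx y hy z hz h1 h2 h3 h4 h5 h6 h7 h8 h9 =>
      plane_clique hB hM hp hq hy hx hz h1 h2 h3 h4 h5 h6 h7 h8 h9,
    clique_bound hB hM hF, ?_, ?_, ?_⟩
  · intro p hp q hq r hr hrp hrq hrl
    obtain ⟨b, rfl⟩ := exists_tp hM hp
    obtain ⟨c, rfl⟩ := exists_tp hM hq.1
    obtain ⟨w, rfl⟩ := exists_tp hM hr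
    obtain ⟨hbc, hind⟩ := (mem_dperp hM b c).1 hq
    have hrp' := (symm_zero hB).1 ((hM.comm_iff _ _).1 hrp)
    have hrq' := (symm_zero hB).1 ((hM.comm_iff _ _).1 hrq)
    obtain ⟨a, z, z₂, Q', s, t, hQ, -, -, -, -, -, -, -, -, -, -, -, -, -, -, -, -, -, -, hspan⟩ :=
      exists_frame hB b.2.1 b.2.2 c.2.1 c.2.2 w.2.2 hbc hrp' hrq' hind (frame_of hB hM hbc hind hrl)
    let g : F × F → K := fun k => if h : w.1 + k.1 • b.1 + k.2 • c.1 ≠ 0 ∧
      B (w.1 + k.1 • b.1 + k.2 • c.1) (w.1 + k.1 • b.1 + k.2 • c.1) = 0 then tp ⟨_, h⟩ else tp w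
    have hsub : pl E (tp b) (tp c) (tp w) ⊆ ln E (tp b) (tp c) ∪ Set.range g := by
      intro e he
      obtain ⟨k1, k2, k3⟩ := commute_pl hp hq hr hrp hrq he
      obtain ⟨v, rfl⟩ := exists_tp hM he.1
      rw [hM.comm_iff] at k1 k2 k3
      have hv := hspan v.1 k1 k2 k3
      set γ := B z₂ v.1
      rcases eq_or_ne γ 0 with hγ | hγ
      · exact Or.inl ((mem_ln hB hM b c hbc hind v).2 ⟨_, _, by
          rw [hv, hγ, zero_smul, add_zero]⟩)
      refine Or.inr ⟨(γ⁻¹ * B a v.1 - s, γ⁻¹ * B z v.1 - t), ?_⟩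
      have hval : w.1 + (γ⁻¹ * B a v.1 - s) • b.1 + (γ⁻¹ * B z v.1 - t) • c.1 = γ⁻¹ • v.1 := by
        conv_rhs => rw [hv]
        rw [hQ, smul_add, smul_add, inv_smul_smul₀ hγ, smul_smul, smul_smul, sub_smul, sub_smul]
        abel
      have hiso : w.1 + (γ⁻¹ * B a v.1 - s) • b.1 + (γ⁻¹ * B z v.1 - t) • c.1 ≠ 0 ∧
          B (w.1 + (γ⁻¹ * B a v.1 - s) • b.1 + (γ⁻¹ * B z v.1 - t) • c.1)
            (w.1 + (γ⁻¹ * B a v.1 - s) • b.1 + (γ⁻¹ * B z v.1 - t) • c.1) = 0 := by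
        rw [hval]
        exact ⟨smul_ne_zero (inv_ne_zero hγ) v.2.1, by simp [v.2.2]⟩
      simp only [g, dif_pos hiso]
      exact tp_smul hB hM v _ (k := γ⁻¹) hval
    refine (Set.ncard_le_ncard hsub (Set.toFinite _)).trans ((Set.ncard_union_le _ _).trans ?_)
    rw [(lines hB hM hF).five _ hp _ hq]
    have h16 : (Set.range g).ncard ≤ 16 := by
      rw [← Nat.card_coe_set_eq]
      refine (Finite.card_range_le g).trans ?_
      rw [Nat.card_prod, hF]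
    omega
  · intro p hp q hq r hr hrp hrq hrl e he
    obtain ⟨b, rfl⟩ := exists_tp hM hp
    obtain ⟨c, rfl⟩ := exists_tp hM hq.1
    obtain ⟨w, rfl⟩ := exists_tp hM hr
    obtain ⟨v, rfl⟩ := exists_tp hM he
    obtain ⟨hbc, hind⟩ := (mem_dperp hM b c).1 hq
    have hbw := (symm_zero hB).1 ((hM.comm_iff _ _).1 hrp)
    have hcw := (symm_zero hB).1 ((hM.comm_iff _ _).1 hrq)
    have hcb := (symm_zero hB).1 hbc
    have hwb := (symm_zero hB).1 hbw
    have hwc := (symm_zero hB).1 hcw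
    have hnot := frame_of hB hM hbc hind hrl
    -- two independent vectors of the plane perpendicular to `v`
    obtain ⟨a₁, a₂, a₃, b₁, b₂, b₃, hu, hw', hu0, huw⟩ : ∃ a₁ a₂ a₃ b₁ b₂ b₃ : F,
        B v.1 (a₁ • b.1 + a₂ • c.1 + a₃ • w.1) = 0 ∧ B v.1 (b₁ • b.1 + b₂ • c.1 + b₃ • w.1) = 0 ∧
        a₁ • b.1 + a₂ • c.1 + a₃ • w.1 ≠ 0 ∧
        ∀ k : F, b₁ • b.1 + b₂ • c.1 + b₃ • w.1 ≠ k • (a₁ • b.1 + a₂ • c.1 + a₃ • w.1) := by
      set x := B v.1 b.1
      set y := B v.1 c.1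
      set u := B v.1 w.1
      by_cases hx : x = 0
      · by_cases hy : y = 0
        · exact ⟨1, 0, 0, 0, 1, 0, by simp; exact hx, by simp; exact hy, by simp [b.2.1],
            fun k => by simpa using hind k⟩
        · refine ⟨1, 0, 0, 0, u, -y, by simp; exact hx, by simp [x, y, u]; ring, by simp [b.2.1],
            fun k hk => ?_⟩
          simp at hk
          refine hnot (-(y⁻¹ * k)) (y⁻¹ * u) ?_
          have h := congrArg (fun z => y⁻¹ • z) hk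
          simp only [smul_add, smul_neg, inv_smul_smul₀ hy, smul_smul] at h
          rw [neg_smul, ← h]
          abel
      · refine ⟨y, -x, 0, u, 0, -x, by simp [x, y]; ring, by simp [x, u]; ring, fun h => ?_,
          fun k hk => ?_⟩
        · simp at h
          refine hind (x⁻¹ * y) ?_
          rw [mul_smul, eq_inv_smul_iff₀ hx]
          exact (add_neg_eq_zero.1 h).symm
        · simp at hk
          refine hnot (x⁻¹ * u - x⁻¹ * (k * y)) (x⁻¹ * (k * x)) ?_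
          have h := congrArg (fun z => x⁻¹ • z) hk
          simp only [smul_add, smul_neg, inv_smul_smul₀ hx, smul_smul] at h
          rw [sub_smul]
          linear_combination (norm := module) -h
    have hiso : ∀ p₁ p₂ p₃ : F, B (p₁ • b.1 + p₂ • c.1 + p₃ • w.1) (p₁ • b.1 + p₂ • c.1 + p₃ • w.1) = 0 :=
      fun p₁ p₂ p₃ => by simp [b.2.2, c.2.2, w.2.2, hbc, hcb, hbw, hwb, hcw, hwc]
    set U : Pt B := ⟨_, hu0, hiso a₁ a₂ a₃⟩
    set W : Pt B := ⟨_, fun h => huw 0 (by rw [zero_smul]; exact h), hiso b₁ b₂ b₃⟩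
    have hUW : B U.1 W.1 = 0 := by
      simp [U, W, b.2.2, c.2.2, w.2.2, hbc, hcb, hbw, hwb, hcw, hwc]
    rw [← (lines hB hM hF).five _ (tp_mem hM U) _ ((mem_dperp hM U W).2 ⟨hUW, huw⟩)]
    refine Set.ncard_le_ncard ?_ (Set.toFinite _)
    intro g hg
    have hg1 := hg.1
    obtain ⟨o, rfl⟩ := exists_tp hM hg1
    obtain ⟨α, β, ho⟩ := (mem_ln hB hM U W hUW huw o).1 hg
    refine ⟨⟨tp_mem hM o, fun n hn h1 h2 h3 => ?_⟩, ?_⟩
    · obtain ⟨m, rfl⟩ := exists_tp hM hn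
      rw [hM.comm_iff] at h1 h2 h3 ⊢
      rw [ho]; simp [U, W, h1, h2, h3]
    · rw [hM.comm_iff, ho, map_add, map_smul, map_smul, hu, hw', smul_zero, smul_zero, add_zero]
  · intro p hp q hq r hr hrp hrq hrl
    obtain ⟨b, rfl⟩ := exists_tp hM hp
    obtain ⟨c, rfl⟩ := exists_tp hM hq.1
    obtain ⟨w, rfl⟩ := exists_tp hM hr
    obtain ⟨hbc, hind⟩ := (mem_dperp hM b c).1 hq
    have hrp' := (symm_zero hB).1 ((hM.comm_iff _ _).1 hrp)
    have hrq' := (symm_zero hB).1 ((hM.comm_iff _ _).1 hrq)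
    obtain ⟨a, z, z₂, Q', s, t, hQ, -, haa, hzz, h22, -, -, haT, haP, haQ, hzT, hzP, hzQ, h2T, h2P,
      h2Q, haz, ha2, hz2, hspan⟩ :=
      exists_frame hB b.2.1 b.2.2 c.2.1 c.2.2 w.2.2 hbc hrp' hrq' hind (frame_of hB hM hbc hind hrl)
    have hs := fun {x w : V} (h : B x w = 0) => (symm_zero hB).1 h
    obtain ⟨ε⟩ : Nonempty (Fin 16 ≃ F × F) := by
      have := Fintype.ofFinite F
      refine ⟨(Fintype.equivFinOfCardEq ?_).symm⟩
      rw [Fintype.card_prod, ← Nat.card_eq_fintype_card, hF]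
    set vec : F × F → V := fun k => a + θ k.1 • z + θ k.2 • z₂
    have hT : ∀ k, B (vec k) b.1 = 1 := fun k => by simp [vec, haT, hzT, h2T]
    have hP : ∀ k, B (vec k) c.1 = k.1 := fun k => by simp [vec, haP, hzP, h2P, hB.herm.invol]
    have hQv : ∀ k, B (vec k) Q' = k.2 := fun k => by simp [vec, haQ, hzQ, h2Q, hB.herm.invol]
    have hpt : ∀ k, vec k ≠ 0 ∧ B (vec k) (vec k) = 0 := fun k =>
      ⟨fun h => by have := hT k; rw [h] at this; simp at this,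
        by simp [vec, haa, hzz, h22, haz, hs haz, ha2, hs ha2, hz2, hs hz2]⟩
    refine ⟨fun i => tp ⟨vec (ε i), hpt (ε i)⟩, fun i => ⟨tp_mem hM _, fun h => ?_⟩, ?_⟩
    · rw [hM.comm_iff] at h
      exact one_ne_zero ((hT (ε i)).symm.trans h)
    intro i j hij e he e' he' d1 d2 d3 d4
    have hco : ∀ g ∈ pl E (tp b) (tp c) (tp w), ∀ v : Pt B, tp v = g →
        Commute (tp ⟨vec (ε i), hpt (ε i)⟩) g → Commute (tp ⟨vec (ε j), hpt (ε j)⟩) g →
        ∃ A C D : F, v.1 = A • b.1 + C • c.1 + D • Q' ∧ A + C * (ε i).1 + D * (ε i).2 = 0 ∧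
          A + C * (ε j).1 + D * (ε j).2 = 0 := by
      rintro g hg v rfl k1 k2
      obtain ⟨m1, m2, m3⟩ := commute_pl hp hq hr hrp hrq hg
      rw [hM.comm_iff] at k1 k2 m1 m2 m3
      have hv := hspan v.1 m1 m2 m3
      refine ⟨_, _, _, hv, ?_, ?_⟩
      · have := k1; rw [hv] at this; simpa [hT, hP, hQv] using this
      · have := k2; rw [hv] at this; simpa [hT, hP, hQv] using this
    obtain ⟨v, rfl⟩ := exists_tp hM he.1
    obtain ⟨v', rfl⟩ := exists_tp hM he'.1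
    obtain ⟨A, C, D, hv, e1, e2⟩ := hco _ he v rfl d1 d3
    obtain ⟨A', C', D', hv', e1', e2'⟩ := hco _ he' v' rfl d2 d4
    have hne : (ε i).1 ≠ (ε j).1 ∨ (ε i).2 ≠ (ε j).2 := by
      by_contra hcon
      push Not at hcon
      exact hij (ε.injective (Prod.ext hcon.1 hcon.2))
    -- both are multiples of one vector
    have hdet : C * D' = C' * D := by
      rcases hne with h | h
      · refine mul_left_cancel₀ (sub_ne_zero.2 h) ?_
        linear_combination D' * e1 - D' * e2 - D * e1' + D * e2'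
      · refine mul_left_cancel₀ (sub_ne_zero.2 h) ?_
        linear_combination -(C' * e1) + C' * e2 + C * e1' - C * e2'
    have hA : A * D' = A' * D ∧ A * C' = A' * C :=
      ⟨by linear_combination D' * e1 - D * e1' - (ε i).1 * hdet,
        by linear_combination C' * e1 - C * e1' + (ε i).2 * hdet⟩
    refine (hM.eq_iff v v').2 ?_
    by_cases hD : D = 0
    · by_cases hC : C = 0
      · exact absurd (by rw [hv, show A = 0 by simpa [hC, hD] using e1, hC, hD]; simp) v.2.1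
      · have hD' : D' = 0 := by simpa [hD, hC] using hdet
        refine ⟨C⁻¹ * C', ?_⟩
        rw [hv, hv', hD, hD', zero_smul, add_zero, add_zero, smul_add, smul_smul,
          smul_smul]
        congr 2 <;> field_simp
        linear_combination -hA.2
    · refine ⟨D⁻¹ * D', ?_⟩
      rw [hv, hv', smul_add, smul_add, smul_smul, smul_smul, smul_smul]
      congr 3 <;> field_simp
      · linear_combination -hA.1
      · linear_combination -hdet

end UModel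

end Cfsg.Agent.ThreeTrans
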