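import Cfsg.Agent.ThreeTrans.UnitaryPlane

/-!
# Properties of the unitary model used for the stabiliser of a member
-/

set_option autoImplicit false

open Cfsg Cfsg.Agent.Classical Cfsg.Agent.Classical.Herm Module

namespace Cfsg.Agent.ThreeTrans

/-- What is used about the layers for computing centralisers of members. -/
structure Links {G : Type*} [Group G] (S : Set G) : Prop where
  hyp : ∀ p ∈ S, ∀ q ∈ S, ∀ r ∈ S, ¬ Commute p q →
    (∀ y ∈ S, Commute y p → Commute y q → Commute y r) → r = p ∨ r = q ∨ r = p * q * p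
  tri : ∀ p ∈ S, ∀ q ∈ S, ¬ Commute p q → ∃ a b c : G, a ∈ S ∧ b ∈ S ∧ c ∈ S ∧
    (Commute a p ∧ Commute a q) ∧ (Commute b p ∧ Commute b q) ∧ (Commute c p ∧ Commute c q) ∧
      ¬ Commute a b ∧ ¬ Commute a c ∧ ¬ Commute b c ∧ ¬ Commute c (a * b * a)
  nine : ∀ x ∈ S, ∀ a ∈ S, ∀ b ∈ S, ∀ c ∈ S, ¬ Commute a b → ¬ Commute a c → ¬ Commute b c →
    ¬ Commute c (a * b * a) → ∃ m ∈ [a, b, c, a * b * a, a * c * a, b * c * b, c * (a * b * a) * c,
      a * (b * c * b) * a, b * (a * c * a) * b], Commute x m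
  mover : ∀ p ∈ S, ∀ q ∈ dperp S p, ∀ r ∈ dperp S p, Commute q r →
    ∃ z ∈ S, Commute z p ∧ ¬ Commute z q ∧ ¬ Commute z r
  join : ∀ p ∈ S, ∀ a ∈ S, ∀ b ∈ S, ∃ c ∈ dperp S p, Commute c a ∧ Commute c b

namespace UModel

variable {F V : Type*} [Field F] [AddCommGroup V] [Module F V] {θ : F →+* F}
  {B : V →ₛₗ[θ] V →ₗ[F] F} (hB : Space B)

include hB

theorem theta_sq {k : F} (hk : k ≠ 0) : θ k = k⁻¹ := eq_inv_of_mul_eq_one_right (norm_one hB hk)

/-- Arithmetic in the field with four elements. -/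
theorem nine_field (hF : Nat.card F = 4) {p q r : F} (hp : p ≠ 0) (hq : q ≠ 0) (hr : r ≠ 0)
    (hk : θ r + p * θ q ≠ 0) : p = 1 ∨ q = 1 ∨ r = 1 ∨
      (1 + p + (θ r + p * θ q) = 0) ∨ (1 + r + (q + r * p) = 0) ∨ (1 + q + (r + q * θ p) = 0) := by
  classical
  have := hB.finF
  have := Fintype.ofFinite F
  obtain ⟨w, hw⟩ : ∃ w : F, w ∉ ({0, 1} : Finset F) := by
    by_contra hcon
    push Not at hcon
    have h1 := Finset.card_le_card (s := (Finset.univ : Finset F)) (t := {0, 1}) fun x _ => hcon x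
    rw [Finset.card_univ, ← Nat.card_eq_fintype_card, hF] at h1
    have h2 : ({0, 1} : Finset F).card ≤ 2 := Finset.card_le_two
    omega
  simp only [Finset.mem_insert, Finset.mem_singleton, not_or] at hw
  obtain ⟨hw0, hw1⟩ := hw
  have hw1' : w + 1 ≠ 0 := fun h => hw1 (eq_of_add hB _ _ h)
  have hall : ∀ k : F, k = 0 ∨ k = 1 ∨ k = w ∨ k = w + 1 := by
    have hcard : ({0, 1, w, w + 1} : Finset F).card = 4 := by
      rw [Finset.card_insert_of_notMem, Finset.card_insert_of_notMem, Finset.card_pair]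
      · intro h; exact one_ne_zero (α := F) (by simpa using h)
      · simp [Ne.symm hw1, hw0]
      · simp [Ne.symm hw0, Ne.symm hw1']
    have h := Finset.eq_univ_of_card _ (by rw [hcard, ← Nat.card_eq_fintype_card, hF])
    intro k
    have := Finset.mem_univ k
    rw [← h] at this
    simpa using this
  have n1 := norm_one hB hw0
  have n2 := norm_one hB hw1'
  rw [map_add, map_one] at n2
  have hθ : θ w = w + 1 := by linear_combination n2 - n1 - add_self' hB (w + 1)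
  have hsq : w * w + w + 1 = 0 := by rw [hθ] at n1; linear_combination n1 + two hB
  rcases hall p with rfl | rfl | rfl | rfl
  · exact absurd rfl hp
  · exact Or.inl rfl
  all_goals rcases hall q with rfl | rfl | rfl | rfl
  all_goals first | exact absurd rfl hq | exact Or.inr (Or.inl rfl) | skip
  all_goals rcases hall r with rfl | rfl | rfl | rfl
  all_goals first | exact absurd rfl hr | exact Or.inr (Or.inr (Or.inl rfl)) | skip
  all_goals simp only [map_add, map_one, hθ] at hk ⊢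
  all_goals grind [two hB]

variable {K : Type*} [Group K] {E : Set K} {tp : Pt B → K} (hM : Model B E tp)

include hM

theorem nine (hF : Nat.card F = 4) {x a b c : K} (hx : x ∈ E) (ha : a ∈ E) (hb : b ∈ E) (hc : c ∈ E)
    (hab : ¬ Commute a b) (hac : ¬ Commute a c) (hbc : ¬ Commute b c)
    (habc : ¬ Commute c (a * b * a)) : ∃ m ∈ [a, b, c, a * b * a, a * c * a, b * c * b,
      c * (a * b * a) * c, a * (b * c * b) * a, b * (a * c * a) * b], Commute x m := by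
  obtain ⟨X, rfl⟩ := exists_tp hM hx
  -- representatives with value one against `X`
  have hrep : ∀ {g}, g ∈ E → Commute (tp X) g ∨ ∃ v : Pt B, tp v = g ∧ B X.1 v.1 = 1 := by
    intro g hg
    obtain ⟨v, rfl⟩ := exists_tp hM hg
    by_cases h : B X.1 v.1 = 0
    · exact Or.inl ((hM.comm_iff _ _).2 h)
    · refine Or.inr ⟨⟨(B X.1 v.1)⁻¹ • v.1, smul_ne_zero (inv_ne_zero h) v.2.1, by simp [v.2.2]⟩,
        tp_smul hB hM v _ rfl, by simp [inv_mul_cancel₀ h]⟩
  rcases hrep ha with h | ⟨u, rfl, hu⟩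
  · exact ⟨_, by simp, h⟩
  rcases hrep hb with h | ⟨v, rfl, hv⟩
  · exact ⟨_, by simp, h⟩
  rcases hrep hc with h | ⟨w, rfl, hw⟩
  · exact ⟨_, by simp, h⟩
  rw [hM.comm_iff] at hab hac hbc
  set p := B u.1 v.1 with hp
  set q := B u.1 w.1 with hq
  set r := B v.1 w.1 with hr
  obtain ⟨t₁, h1, h1'⟩ := exists_move hB hM u v
  obtain ⟨t₂, h2, h2'⟩ := exists_move hB hM u w
  obtain ⟨t₃, h3, h3'⟩ := exists_move hB hM v w
  obtain ⟨s₁, k1, k1'⟩ := exists_move hB hM w t₁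
  obtain ⟨s₂, k2, k2'⟩ := exists_move hB hM u t₃
  obtain ⟨s₃, k3, k3'⟩ := exists_move hB hM v t₂
  rw [h1', hM.comm_iff, h1] at habc
  simp only [h1', h2', h3', k1', k2', k3', List.mem_cons, List.not_mem_nil, or_false]
  have hsym : ∀ y z : V, B z y = θ (B y z) := fun y z => (hB.herm.symm y z).symm
  have hk : θ r + p * θ q ≠ 0 := by
    simpa [← hp, hr, hq, hsym v.1 w.1, hsym u.1 w.1] using habc
  have t : ∀ k : F, k ≠ 0 → k * θ k = 1 := fun k => norm_one hB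
  rcases nine_field hB hF hab hac hbc hk with h | h | h | h | h | h
  · refine ⟨tp t₁, by simp, (hM.comm_iff _ _).2 ?_⟩
    rw [h1]; simp [← hp, hu, hv, h, two hB]
  · refine ⟨tp t₂, by simp, (hM.comm_iff _ _).2 ?_⟩
    rw [h2]; simp [← hq, hu, hw, h, two hB]
  · refine ⟨tp t₃, by simp, (hM.comm_iff _ _).2 ?_⟩
    rw [h3]; simp [← hr, hv, hw, h, two hB]
  · refine ⟨tp s₁, by simp, (hM.comm_iff _ _).2 ?_⟩
    rw [k1, h1]
    simp [← hp, hu, hv, hw, hsym v.1 w.1, hsym u.1 w.1, ← hq, ← hr]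
    grind [t p hab, t q hac, t r hbc, two hB]
  · refine ⟨tp s₂, by simp, (hM.comm_iff _ _).2 ?_⟩
    rw [k2, h3]
    simp [← hp, hu, hv, hw, ← hq, ← hr]
    grind [t p hab, t q hac, t r hbc, two hB]
  · refine ⟨tp s₃, by simp, (hM.comm_iff _ _).2 ?_⟩
    rw [k3, h2]
    simp [← hp, hu, hv, hw, hsym u.1 v.1, ← hq, ← hr]
    grind [t p hab, t q hac, t r hbc, two hB]

/-- An isotropic partner-free triple in the perpendicular of a non-degenerate line. -/
theorem exists_tri {p q : K} (hp : p ∈ E) (hq : q ∈ E) (hpq : ¬ Commute p q) :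
    ∃ a b c : K, a ∈ E ∧ b ∈ E ∧ c ∈ E ∧
      (Commute a p ∧ Commute a q) ∧ (Commute b p ∧ Commute b q) ∧ (Commute c p ∧ Commute c q) ∧
      ¬ Commute a b ∧ ¬ Commute a c ∧ ¬ Commute b c ∧ ¬ Commute c (a * b * a) := by
  obtain ⟨P, rfl⟩ := exists_tp hM hp
  obtain ⟨Q, rfl⟩ := exists_tp hM hq
  rw [hM.comm_iff] at hpq
  have hs := fun {x w : V} (h : B x w = 0) => (symm_zero hB).1 h
  set g := (B P.1 Q.1)⁻¹ • Q.1 with hg
  have hPg : B P.1 g = 1 := by simp [hg, inv_mul_cancel₀ hpq]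
  have hgg : B g g = 0 := by simp [hg, Q.2.2]
  have hgP := symm_one hB hPg
  have hQg : ∀ x : V, B g x = 0 → B Q.1 x = 0 := fun x hx => by
    rw [show Q.1 = B P.1 Q.1 • g by rw [hg, smul_inv_smul₀ hpq]]; simp [hx]
  -- a hyperbolic pair
  obtain ⟨e, he0, hee, hPe, hge, -, -⟩ := exists_iso hB P.1 g 0 0
  obtain ⟨y, hy⟩ := exists_pair hB he0
  obtain ⟨f, hff, hPf, hgf, hfe⟩ := exists_pair_nonorth hB P.2.2 hgg hPg hPe hge he0
  set f' := (B e f)⁻¹ • f with hf'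
  have hef : B e f ≠ 0 := fun h => hfe (hs h)
  have h1 : B e f' = 1 := by simp [hf', inv_mul_cancel₀ hef]
  have h1' := symm_one hB h1
  have hff' : B f' f' = 0 := by simp [hf', hff]
  have hPf' : B P.1 f' = 0 := by simp [hf', hPf]
  have hgf' : B g f' = 0 := by simp [hf', hgf]
  -- a vector of norm one
  obtain ⟨z, hz0, hz⟩ := exists_perp hB ![P.1, g, e, f'] (by norm_num)
  have z1 : B P.1 z = 0 := hz 0
  have z2 : B g z = 0 := hz 1
  have z3 : B e z = 0 := hz 2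
  have z4 : B f' z = 0 := hz 3
  obtain ⟨n, hn1, hn2, hn3, hn4, hn⟩ : ∃ n, B P.1 n = 0 ∧ B g n = 0 ∧ B e n = 0 ∧ B f' n = 0 ∧ B n n = 1 := by
    rcases self_cases hB z with hzz | hzz
    swap
    · exact ⟨z, z1, z2, z3, z4, hzz⟩
    let W : Submodule F V := LinearMap.ker (B P.1) ⊓ LinearMap.ker (B g) ⊓ LinearMap.ker (B e) ⊓
      LinearMap.ker (B f')
    have hW : ∀ x, x ∈ W ↔ B P.1 x = 0 ∧ B g x = 0 ∧ B e x = 0 ∧ B f' x = 0 := fun x => by
      simp [W, LinearMap.mem_ker, and_assoc]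
    obtain ⟨y, hy⟩ := exists_pair hB hz0
    set y' := y - B g y • P.1 - B P.1 y • g - B f' y • e - B e y • f'
    have := hB.fin; have := hB.finF
    obtain ⟨n, hnW, hnn⟩ := Herm.exists_anisotropic hB.herm W ⟨z, (hW z).2 ⟨z1, z2, z3, z4⟩, y',
      (hW y').2 ⟨by simp [y', P.2.2, hPg, hPe, hPf'], by simp [y', hgP, hgg, hge, hgf'],
        by simp [y', hs hPe, hs hge, hee, h1], by simp [y', hs hPf', hs hgf', h1', hff']⟩, by
        simp [y', hs z1, hs z2, hs z3, hs z4, symm_one hB hy]⟩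
    obtain ⟨a1, a2, a3, a4⟩ := (hW n).1 hnW
    exact ⟨n, a1, a2, a3, a4, (self_cases hB n).resolve_left hnn⟩
  obtain ⟨w, hw⟩ : ∃ w : F, θ w ≠ w := by
    by_contra hcon
    push Not at hcon
    obtain ⟨c, hc⟩ : ∃ c, c + θ c = (1 : F) := by
      have := hB.finF
      exact exists_trace hB.herm.toIsInvol (map_one θ)
    rw [hcon, add_self' hB] at hc
    exact zero_ne_one hc
  have hw0 : w ≠ 0 := fun h => hw (by rw [h, map_zero])
  have hsum : w + θ w = 1 := by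
    rcases hB.fixed (w + θ w) (by rw [map_add, hB.herm.invol, add_comm]) with h | h
    · exact absurd (eq_of_add hB _ _ h).symm hw
    · exact h
  have hw1 : 1 + w ≠ 0 := fun h => hw (by rw [← eq_of_add hB _ _ h, map_one])
  set c := e + w • f' + n with hcdef
  have hec : B e c = w := by simp [hcdef, hee, h1, hn3]
  have hcc : B c c = 0 := by
    simp [hcdef, hee, hff', h1, h1', hn, hn3, hn4, hs hn3, hs hn4]
    linear_combination hsum + two hB
  have hc0 : c ≠ 0 := fun h => hw0 (by rw [← hec, h, map_zero])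
  have hfc : B f' c = 1 := by simp [hcdef, h1', hff', hn4]
  set a₀ : Pt B := ⟨e, he0, hee⟩
  set b₀ : Pt B := ⟨f', fun h => by rw [h, map_zero] at h1; exact zero_ne_one h1, hff'⟩
  set c₀ : Pt B := ⟨c, hc0, hcc⟩
  obtain ⟨t, ht, ht'⟩ := exists_move hB hM a₀ b₀
  have hperp : ∀ v : Pt B, B P.1 v.1 = 0 → B g v.1 = 0 → Commute (tp v) (tp P) ∧ Commute (tp v) (tp Q) :=
    fun v k1 k2 => ⟨(hM.comm_iff _ _).2 (hs k1), (hM.comm_iff _ _).2 (hs (hQg _ k2))⟩
  refine ⟨tp a₀, tp b₀, tp c₀, tp_mem hM _, tp_mem hM _, tp_mem hM _, hperp a₀ hPe hge,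
    hperp b₀ hPf' hgf', hperp c₀ (by simp [c₀, hcdef, hPe, hPf', hn1])
      (by simp [c₀, hcdef, hge, hgf', hn2]), ?_, ?_, ?_, ?_⟩
  all_goals rw [ht'] at *
  all_goals rw [hM.comm_iff]
  · simp [a₀, b₀, h1]
  · simp [a₀, c₀, hec, hw0]
  · simp [b₀, c₀, hfc]
  · intro h
    have h' := hs h
    rw [ht] at h'
    simp [a₀, b₀, c₀, h1, hec, hfc] at h'
    exact hw1 h'

theorem hyp_line {p q r : K} (hp : p ∈ E) (hq : q ∈ E) (hr : r ∈ E) (hpq : ¬ Commute p q)
    (h : ∀ y ∈ E, Commute y p → Commute y q → Commute y r) : r = p ∨ r = q ∨ r = p * q * p := by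
  obtain ⟨P, rfl⟩ := exists_tp hM hp
  obtain ⟨Q, rfl⟩ := exists_tp hM hq
  obtain ⟨R, rfl⟩ := exists_tp hM hr
  rw [hM.comm_iff] at hpq
  set k := B P.1 Q.1 with hk
  set g := k⁻¹ • Q.1 with hg
  have hPg : B P.1 g = 1 := by simp [hg, ← hk, inv_mul_cancel₀ hpq]
  have hgg : B g g = 0 := by simp [hg, Q.2.2]
  have hgP := symm_one hB hPg
  set α := B g R.1 with hα
  set β := B P.1 R.1 with hβ
  have hR : R.1 = α • P.1 + β • g := by
    by_contra hne
    obtain ⟨y, hyy, hPy, hgy, hyv⟩ := exists_pair_nonorth hB P.2.2 hgg hPg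
      (v := R.1 - α • P.1 - β • g) (by simp [P.2.2, hPg, hβ]) (by simp [hgP, hgg, hα])
      (fun e => hne (by rw [sub_sub, sub_eq_zero] at e; exact e))
    have hy0 : y ≠ 0 := fun e => hyv (by rw [e]; simp)
    have hyP := (symm_zero hB).1 hPy
    have hyg := (symm_zero hB).1 hgy
    have hyQ : B y Q.1 = 0 := by
      rw [show Q.1 = k • g by rw [hg, smul_inv_smul₀ hpq]]; simp [hyg]
    have hyR := h (tp ⟨y, hy0, hyy⟩) (tp_mem hM _) ((hM.comm_iff _ _).2 hyP) ((hM.comm_iff _ _).2 hyQ)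
    rw [hM.comm_iff] at hyR
    change B y R.1 = 0 at hyR
    simp [hyP, hyg, hyR] at hyv
  rcases eq_or_ne β 0 with hb | hb
  · exact Or.inl (tp_smul hB hM P R (k := α) (by rw [hR, hb, zero_smul, add_zero]))
  rcases eq_or_ne α 0 with ha | ha
  · exact Or.inr (Or.inl (tp_smul hB hM Q R (k := β * k⁻¹) (by
      rw [hR, ha, zero_smul, zero_add, hg, smul_smul])))
  refine Or.inr (Or.inr ?_)
  obtain ⟨T, hT, hT'⟩ := exists_move hB hM P Q
  rw [hT']
  refine tp_smul hB hM T R (k := β * k⁻¹) ?_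
  have hRR := R.2.2
  rw [hR] at hRR
  simp [P.2.2, hgg, hPg, hgP] at hRR
  have hab : α = β := by
    have e1 := norm_one hB ha
    have e2 := norm_one hB hb
    rcases hB.fixed (θ α * β) (by
      rw [map_mul, hB.herm.invol]
      linear_combination hRR - add_self' hB (θ α * β)) with hh | hh
    · exact absurd hh (mul_ne_zero ((map_ne_zero θ).2 ha) hb)
    · calc α = α * (θ α * β) := by rw [hh, mul_one]
        _ = β := by rw [← mul_assoc, e1, one_mul]
  rw [hR, hT, ← hk, hab, hg, smul_add, smul_smul, smul_smul, mul_assoc, inv_mul_cancel₀ hpq, mul_one,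
    add_comm]

theorem exists_mover {p q r : K} (hp : p ∈ E) (hq : q ∈ dperp E p) (hr : r ∈ dperp E p)
    (hqr : Commute q r) : ∃ z ∈ E, Commute z p ∧ ¬ Commute z q ∧ ¬ Commute z r := by
  obtain ⟨P, rfl⟩ := exists_tp hM hp
  obtain ⟨Q, rfl⟩ := exists_tp hM hq.1
  obtain ⟨R, rfl⟩ := exists_tp hM hr.1
  obtain ⟨hPQ, hind⟩ := (mem_dperp hM P Q).1 hq
  obtain ⟨hPR, hindR⟩ := (mem_dperp hM P R).1 hr
  by_cases hl : ∃ α β : F, R.1 = α • P.1 + β • Q.1
  · obtain ⟨α, β, hR⟩ := hl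
    obtain ⟨z, hzz, hzQ, hzP⟩ := exists_dual hB P.2.1 Q.2.2 ((symm_zero hB).1 hPQ) hind
    have hβ : β ≠ 0 := fun h => hindR α (by rw [hR, h, zero_smul, add_zero])
    have hz0 : z ≠ 0 := fun h => by rw [h] at hzQ; simp at hzQ
    refine ⟨tp ⟨z, hz0, hzz⟩, tp_mem hM _, (hM.comm_iff _ _).2 hzP, fun h => ?_, fun h => ?_⟩
    · rw [hM.comm_iff] at h
      exact one_ne_zero (hzQ.symm.trans h)
    · rw [hM.comm_iff, hR] at h
      simp [hzP, hzQ] at h
      exact hβ h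
  push Not at hl
  rw [hM.comm_iff] at hqr
  obtain ⟨a, z, z₂, Q', s, t, hR, -, -, hzz, h22, -, -, -, -, -, hzP, hzQ, hzQ', h2P, h2Q, h2Q', -, -,
    hz2, -⟩ := exists_frame hB P.2.1 P.2.2 Q.2.1 Q.2.2 R.2.2 hPQ hPR hqr hind hl
  set y := z + θ (1 + t) • z₂ with hy
  have hyP : B y P.1 = 0 := by simp [hy, hzP, h2P]
  have hyQ : B y Q.1 = 1 := by simp [hy, hzQ, h2Q]
  have hyR : B y R.1 = 1 := by
    rw [hR]; simp [hy, hzP, h2P, hzQ, h2Q, hzQ', h2Q', hB.herm.invol]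
    linear_combination add_self' hB t
  have hyy : B y y = 0 := by simp [hy, hzz, h22, hz2, (symm_zero hB).1 hz2]
  have hy0 : y ≠ 0 := fun h => by rw [h] at hyQ; simp at hyQ
  refine ⟨tp ⟨y, hy0, hyy⟩, tp_mem hM _, (hM.comm_iff _ _).2 hyP, fun h => ?_, fun h => ?_⟩
  · rw [hM.comm_iff] at h; exact one_ne_zero (hyQ.symm.trans h)
  · rw [hM.comm_iff] at h; exact one_ne_zero (hyR.symm.trans h)

theorem exists_join {p a b : K} (hp : p ∈ E) (ha : a ∈ E) (hb : b ∈ E) :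
    ∃ c ∈ dperp E p, Commute c a ∧ Commute c b := by
  obtain ⟨P, rfl⟩ := exists_tp hM hp
  obtain ⟨A, rfl⟩ := exists_tp hM ha
  obtain ⟨C, rfl⟩ := exists_tp hM hb
  obtain ⟨y, hy⟩ := exists_pair hB P.2.1
  obtain ⟨v, hv0, hvv, h1, h2, h3, h4⟩ := exists_iso hB P.1 A.1 C.1 y
  refine ⟨tp ⟨v, hv0, hvv⟩, (mem_dperp hM P _).2 ⟨h1, fun k hk => hv0 ?_⟩,
    (hM.comm_iff _ _).2 ((symm_zero hB).1 h2), (hM.comm_iff _ _).2 ((symm_zero hB).1 h3)⟩
  rw [show v = k • P.1 from hk, map_smul, smul_eq_mul, hy, mul_one] at h4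
  show v = 0
  rw [show v = k • P.1 from hk, h4, zero_smul]

theorem links (hF : Nat.card F = 4) : Links E :=
  ⟨fun _ hp _ hq _ hr h h' => hyp_line hB hM hp hq hr h h', fun _ hp _ hq h => exists_tri hB hM hp hq h,
    fun _ hx _ ha _ hb _ hc h1 h2 h3 h4 => nine hB hM hF hx ha hb hc h1 h2 h3 h4,
    fun _ hp _ hq _ hr h => exists_mover hB hM hp hq hr h, fun _ hp _ ha _ hb => exists_join hB hM hp ha hb⟩

end UModel

end Cfsg.Agent.ThreeTrans
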