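import Cfsg.Agent.ThreeTrans.UnitaryCentral
import Cfsg.Agent.ThreeTrans.UnitaryPlane
import Cfsg.Agent.ThreeTrans.UnitaryStab

/-!
# The stabiliser of a vector acting on the four-dimensional residue
-/

set_option autoImplicit false

open Cfsg Cfsg.Agent.Classical Cfsg.Agent.Classical.Herm Module

namespace Cfsg.Agent.ThreeTrans.UModel

variable {F V : Type*} [Field F] [AddCommGroup V] [Module F V] {θ : F →+* F}
  {B : V →ₛₗ[θ] V →ₗ[F] F} (hB : Space B)

include hB

/-- A hyperbolic pair together with an orthonormal frame of its perpendicular. -/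
structure Res (e : Pt B) where
  f : V
  ff : B f f = 0
  ef : B e.1 f = 1
  b : Fin 4 → V
  on : Herm.IsON B b
  eb : ∀ i, B e.1 (b i) = 0
  fb : ∀ i, B f (b i) = 0
  rep : ∀ x, B e.1 x = 0 → B f x = 0 → x = ∑ i, B (b i) x • b i

theorem exists_res (e : Pt B) : Nonempty (Res e) := by
  have := hB.fin; have := hB.finF
  obtain ⟨f, hff, hef⟩ := Herm.exists_hyp_partner hB.herm e.2.1 e.2.2
  obtain ⟨w, hw⟩ : ∃ w : F, θ w ≠ w := by
    by_contra hcon
    push Not at hcon
    obtain ⟨c, hc⟩ := Herm.exists_trace hB.herm.toIsInvol (a := (1 : F)) (map_one θ)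
    rw [hcon, add_self' hB] at hc
    exact zero_ne_one hc
  have hsum : w + θ w = 1 := by
    rcases hB.fixed (w + θ w) (by rw [map_add, hB.herm.invol, add_comm]) with h | h
    · exact absurd (eq_of_add hB _ _ h).symm hw
    · exact h
  have hfe' := symm_one hB hef
  let a : Fin 2 → V := ![e.1 + w • f, e.1 + θ w • f]
  have ha : Herm.IsON B a := by
    intro i j
    fin_cases i <;> fin_cases j <;>
      simp [a, e.2.2, hff, hef, hfe', hB.herm.invol, add_self' hB] <;> linear_combination hsum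
  obtain ⟨b, hb, hbP, hbs⟩ := Herm.exists_compl_frame hB.herm ha (d := 4) (by rw [hB.rank])
  have hperp : ∀ x, B e.1 x = 0 → B f x = 0 → x ∈ perpOf B a := fun x h1 h2 =>
    mem_perpOf.2 fun i => by fin_cases i <;> simp [a, h1, h2]
  have hboth : ∀ x, x ∈ perpOf B a → B e.1 x = 0 ∧ B f x = 0 := fun x hx => by
    have h0 := mem_perpOf.1 hx 0
    have h1 := mem_perpOf.1 hx 1
    simp [a, hB.herm.invol] at h0 h1
    have h2 : (w + θ w) * B f x = 0 := by linear_combination h0 + h1 - add_self' hB (B e.1 x)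
    rw [hsum, one_mul] at h2
    exact ⟨by simpa [h2] using h0, h2⟩
  exact ⟨⟨f, hff, hef, b, hb, fun i => (hboth _ (hbP i)).1, fun i => (hboth _ (hbP i)).2,
    fun x h1 h2 => hbs x (hperp x h1 h2)⟩⟩

variable {e : Pt B} (R : Res e)

/-- The vector with given coordinates. -/
def Res.up : (Fin 4 → F) →ₗ[F] V := ∑ i, (LinearMap.proj i : (Fin 4 → F) →ₗ[F] F).smulRight (R.b i)

/-- The coordinates. -/
def Res.down : V →ₗ[F] (Fin 4 → F) := LinearMap.pi fun i => B (R.b i)

theorem Res.up_apply (u : Fin 4 → F) : R.up u = ∑ i, u i • R.b i := by simp [Res.up]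

theorem Res.e_up (u : Fin 4 → F) : B e.1 (R.up u) = 0 := by simp [R.up_apply hB, map_sum, R.eb]

theorem Res.f_up (u : Fin 4 → F) : B R.f (R.up u) = 0 := by simp [R.up_apply hB, map_sum, R.fb]

theorem Res.down_up (u : Fin 4 → F) : R.down (R.up u) = u := funext fun i => by
  have : ∀ j, B (R.b i) (R.b j) = if i = j then 1 else 0 := R.on i
  simp [Res.down, R.up_apply hB, map_sum, this]

theorem Res.down_e : R.down e.1 = 0 := funext fun i => by
  simp [Res.down, (symm_zero hB).1 (R.eb i)]

theorem Res.split {x : V} (h : B e.1 x = 0) : x = R.up (R.down x) + B R.f x • e.1 := by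
  have hfe := symm_one hB R.ef
  have h1 := R.rep (x - B R.f x • e.1) (by simp [h, e.2.2]) (by simp [hfe])
  rw [R.up_apply hB]
  conv_lhs => rw [← sub_add_cancel x (B R.f x • e.1), h1]
  congr 1
  refine Finset.sum_congr rfl fun i _ => ?_
  simp [Res.down, (symm_zero hB).1 (R.eb i)]

theorem Res.form_up (u u' : Fin 4 → F) : B (R.up u) (R.up u') = hermB 4 θ u u' := by
  have : ∀ i j, B (R.b i) (R.b j) = if i = j then 1 else 0 := R.on
  simp [R.up_apply hB, hermB_apply, map_sum, this, mul_comm]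

theorem Res.form_split {x y : V} (hx : B e.1 x = 0) (hy : B e.1 y = 0) :
    B x y = hermB 4 θ (R.down x) (R.down y) := by
  conv_lhs => rw [R.split hB hx, R.split hB hy]
  simp [R.form_up hB, R.e_up hB, (symm_zero hB).1 (R.e_up hB _), e.2.2]

/-- The stabiliser of the vector. -/
def Stab (hB : Space B) (e : Pt B) : Subgroup (suG B) where
  carrier := {g | g.1 e.1 = e.1}
  mul_mem' := fun {a c} ha hc => by
    show a.1 (c.1 e.1) = e.1
    rw [show c.1 e.1 = e.1 from hc]; exact ha
  one_mem' := rfl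
  inv_mem' := fun {a} ha => by
    show a.1⁻¹ e.1 = e.1
    conv_lhs => rw [← show a.1 e.1 = e.1 from ha]
    exact Herm.inv_apply_self' _ _

theorem stab_perp (g : Stab hB e) {x : V} (h : B e.1 x = 0) : B e.1 (g.1.1 x) = 0 := by
  have := g.1.2.1 e.1 x
  rw [show g.1.1 e.1 = e.1 from g.2] at this
  rw [this, h]

/-- The action on coordinates. -/
def Res.act (g : Stab hB e) : (Fin 4 → F) →ₗ[F] (Fin 4 → F) :=
  (R.down).comp ((g.1.1 : V →ₗ[F] V).comp (R.up))

theorem Res.act_apply (g : Stab hB e) (u : Fin 4 → F) : R.act hB g u = R.down (g.1.1 (R.up u)) :=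
  rfl

theorem Res.down_map (g : Stab hB e) {x : V} (h : B e.1 x = 0) :
    R.down (g.1.1 x) = R.act hB g (R.down x) := by
  conv_lhs => rw [R.split hB h]
  rw [map_add, map_smul, show g.1.1 e.1 = e.1 from g.2, map_add, map_smul, R.down_e hB, smul_zero,
    add_zero]
  rfl

theorem Res.act_mul (g h : Stab hB e) (u : Fin 4 → F) :
    R.act hB (g * h) u = R.act hB g (R.act hB h u) :=
  R.down_map hB g (stab_perp hB h (R.e_up hB u))

theorem Res.act_one (u : Fin 4 → F) : R.act hB (1 : Stab hB e) u = u := R.down_up hB u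

theorem Res.act_form (g : Stab hB e) (u u' : Fin 4 → F) :
    hermB 4 θ (R.act hB g u) (R.act hB g u') = hermB 4 θ u u' := by
  rw [R.act_apply hB, R.act_apply hB,
    ← R.form_split hB (stab_perp hB g (R.e_up hB u)) (stab_perp hB g (R.e_up hB u')), g.1.2.1,
    R.form_up hB]

/-- The action as a linear equivalence. -/
def Res.equiv (g : Stab hB e) : (Fin 4 → F) ≃ₗ[F] (Fin 4 → F) :=
  LinearEquiv.ofLinearMap (R.act hB g) (R.act hB g⁻¹)
    (LinearMap.ext fun u => by rw [LinearMap.comp_apply, ← R.act_mul hB, mul_inv_cancel, R.act_one hB]; rfl)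
    (LinearMap.ext fun u => by rw [LinearMap.comp_apply, ← R.act_mul hB, inv_mul_cancel, R.act_one hB]; rfl)

theorem Res.equiv_apply (g : Stab hB e) (u : Fin 4 → F) : R.equiv hB g u = R.act hB g u := rfl

/-- The action is a homomorphism to the linear equivalences. -/
def Res.hom₀ : Stab hB e →* ((Fin 4 → F) ≃ₗ[F] (Fin 4 → F)) where
  toFun := R.equiv hB
  map_one' := LinearEquiv.ext fun u => R.act_one hB u
  map_mul' g h := LinearEquiv.ext fun u => R.act_mul hB g h u

theorem isHerm_four : IsHerm (hermB 4 θ) := hermB_isHerm hB.herm.toIsInvol 4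

theorem Res.hom_mem (g : Stab hB e) : R.hom₀ hB g ∈ suG (hermB 4 θ) := by
  have := hB.finF
  have hmem : g.1 ∈ perpGroup hB e.1 := mem_perpGroup hB g.2
  suffices ∀ g₀ : suG B, g₀ ∈ perpGroup hB e.1 → ∀ hg : g₀ ∈ Stab hB e,
      R.hom₀ hB ⟨g₀, hg⟩ ∈ suG (hermB 4 θ) from this _ hmem g.2
  intro g₀ hg₀
  induction hg₀ using Subgroup.closure_induction with
  | mem g h =>
    obtain ⟨u, hu, rfl⟩ := h
    intro hg
    have hiso : hermB 4 θ (R.down u.1) (R.down u.1) = 0 := by rw [← R.form_split hB hu hu, u.2.2]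
    have heq : R.hom₀ hB ⟨tr hB u, hg⟩ = tvU hiso 1 := LinearEquiv.ext fun x => by
      show R.down ((tr hB u).1 (R.up x)) = _
      rw [tvU_apply, tr_apply, map_add, map_smul, R.down_up hB, R.form_split hB hu (R.e_up hB x),
        R.down_up hB, one_mul]
    rw [heq]
    exact tvU_mem (isHerm_four hB) hiso (by rw [map_one]; exact two hB)
  | one => intro hg; rw [show (⟨1, hg⟩ : Stab hB e) = 1 from rfl, map_one]; exact one_mem _
  | mul a c ha hc iha ihc =>
    intro hg
    rw [show (⟨a * c, hg⟩ : Stab hB e) = ⟨a, perpGroup_fix hB ha⟩ * ⟨c, perpGroup_fix hB hc⟩ from rfl,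
      map_mul]
    exact mul_mem (iha _) (ihc _)
  | inv a ha iha =>
    intro hg
    rw [show (⟨a⁻¹, hg⟩ : Stab hB e) = (⟨a, perpGroup_fix hB ha⟩ : Stab hB e)⁻¹ from rfl, map_inv]
    exact inv_mem (iha _)

/-- The homomorphism to the special unitary group of the residue. -/
def Res.hom : Stab hB e →* suG (hermB 4 θ) := (R.hom₀ hB).codRestrict _ (R.hom_mem hB)

theorem Res.hom_apply (g : Stab hB e) (u : Fin 4 → F) : (R.hom hB g).1 u = R.act hB g u := rfl

theorem Res.hom_surjective : Function.Surjective (R.hom hB) := by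
  have := hB.fin; have := hB.finF
  have hgen := suG_eq_TUon (isHerm_four hB) (by rw [Module.finrank_fin_fun]; norm_num)
    (Or.inr (by rw [Module.finrank_fin_fun]; norm_num))
  have hle : (suG (hermB 4 θ)) ≤ (R.hom hB).range.map (Subgroup.subtype _) := by
    conv_lhs => rw [← hgen]
    refine (Subgroup.closure_le _).2 ?_
    rintro t ⟨v, -, c, hvv, hc, ht⟩
    by_cases hv0 : v = 0 ∨ c = 0
    · refine ⟨1, one_mem _, LinearEquiv.ext fun x => ?_⟩
      rw [ht x]
      rcases hv0 with h | h <;> simp [h]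
    push Not at hv0
    have hc1 : c = 1 := (hB.fixed c (eq_of_add hB _ _ hc).symm).resolve_left hv0.2
    set u : Pt B := ⟨R.up v, fun h => hv0.1 (by rw [← R.down_up hB v, h, map_zero]),
      by rw [R.form_up hB, hvv]⟩
    have hu : (tr hB u).1 e.1 = e.1 := by simp [tr_apply, u, (symm_zero hB).1 (R.e_up hB v)]
    refine ⟨R.hom hB ⟨tr hB u, hu⟩, ⟨_, rfl⟩, LinearEquiv.ext fun x => ?_⟩
    rw [ht x, show c * hermB 4 θ v x = hermB 4 θ v x by rw [hc1, one_mul]]
    show R.down ((tr hB u).1 (R.up x)) = _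
    rw [tr_apply, map_add, map_smul, R.down_up hB]
    show x + B (R.up v) (R.up x) • R.down (R.up v) = _
    rw [R.down_up hB, R.form_up hB]
  intro s
  obtain ⟨t, ⟨g, hg⟩, ht⟩ := hle s.2
  exact ⟨g, by rw [hg]; exact Subtype.ext ht⟩

/-- An element fixing the vector and its residue is trivial or the transvection. -/
theorem Res.eq_one_or_tr {g : Stab hB e} (h : ∀ i, g.1.1 (R.b i) = R.b i) :
    g.1 = 1 ∨ g.1 = tr hB e := by
  have hfe := symm_one hB R.ef
  set y := g.1.1 R.f with hy
  have hey : B e.1 y = 1 := by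
    rw [hy, show B e.1 (g.1.1 R.f) = B (g.1.1 e.1) (g.1.1 R.f) by rw [show g.1.1 e.1 = e.1 from g.2],
      g.1.2.1, R.ef]
  have hyy : B y y = 0 := by rw [hy, g.1.2.1, R.ff]
  have hby : ∀ i, B (R.b i) y = 0 := fun i => by
    rw [hy, show B (R.b i) (g.1.1 R.f) = B (g.1.1 (R.b i)) (g.1.1 R.f) by rw [h i], g.1.2.1]
    exact (symm_zero hB).1 (R.fb i)
  have hsplit : y = R.f + B R.f y • e.1 := by
    have h1 : B e.1 (y - R.f) = 0 := by simp [hey, R.ef]
    have h2 : R.down (y - R.f) = 0 := funext fun i => by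
      simp [Res.down, hby i, (symm_zero hB).1 (R.fb i)]
    have h3 := R.split hB h1
    rw [h2, map_zero, zero_add, map_sub, R.ff, sub_zero] at h3
    rw [← h3, add_sub_cancel]
  have hk : θ (B R.f y) = B R.f y := by
    have := hyy
    rw [hsplit] at this
    simp [R.ff, e.2.2, R.ef, hfe] at this
    linear_combination this - add_self' hB (B R.f y)
  -- linear maps agreeing on the pair and the frame are equal
  have hext : ∀ g' : suG B, g'.1 e.1 = e.1 → g'.1 R.f = y → (∀ i, g'.1 (R.b i) = R.b i) → g.1 = g' := by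
    intro g' h1 h2 h3
    refine ext_suG hB fun x => ?_
    have hx : x = (x - B e.1 x • R.f - B R.f x • e.1) + B e.1 x • R.f + B R.f x • e.1 := by abel
    have h4 := R.rep (x - B e.1 x • R.f - B R.f x • e.1) (by simp [R.ef, e.2.2]) (by simp [R.ff, hfe])
    rw [hx, h4]
    simp only [map_add, map_sum, map_smul, h, h3, h1, h2, ← hy, show g.1.1 e.1 = e.1 from g.2]
  rcases hB.fixed _ hk with h0 | h1
  · exact Or.inl (hext 1 rfl (show R.f = y by rw [hsplit, h0, zero_smul, add_zero]) fun i => rfl)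
  · refine Or.inr (hext (tr hB e) (by simp [tr_apply, e.2.2]) ?_ fun i => by simp [tr_apply, R.eb])
    rw [tr_apply, R.ef, one_smul, hsplit, h1, one_smul]

theorem Res.ker_fix {g : Stab hB e} (hg : R.hom hB g = 1) (i : Fin 4) :
    g.1.1 (R.b i) = R.b i + B R.f (g.1.1 (R.b i)) • e.1 := by
  conv_lhs => rw [R.split hB (stab_perp hB g (R.eb i))]
  congr 1
  rw [R.down_map hB g (R.eb i), ← R.hom_apply hB, hg]
  show R.up (R.down (R.b i)) = R.b i
  have h1 := R.rep (R.b i) (R.eb i) (R.fb i)
  rw [R.up_apply hB]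
  exact h1.symm

theorem Res.ker_sq {g : Stab hB e} (hg : R.hom hB g = 1) : (g * g).1 = 1 ∨ (g * g).1 = tr hB e := by
  refine R.eq_one_or_tr hB fun i => ?_
  show g.1.1 (g.1.1 (R.b i)) = R.b i
  rw [R.ker_fix hB hg i]
  simp only [map_add, map_smul, show g.1.1 e.1 = e.1 from g.2]
  rw [R.ker_fix hB hg i, add_assoc, ← R.ker_fix hB hg i]
  simp [add_assoc, vadd_self hB]

theorem Res.ker_comm {g h : Stab hB e} (hg : R.hom hB g = 1) (hh : R.hom hB h = 1) :
    (g * h * g⁻¹ * h⁻¹).1 = 1 ∨ (g * h * g⁻¹ * h⁻¹).1 = tr hB e := by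
  refine R.eq_one_or_tr hB fun i => ?_
  have hge : g.1.1 e.1 = e.1 := g.2
  have hhe : h.1.1 e.1 = e.1 := h.2
  show g.1.1 (h.1.1 (g.1.1⁻¹ (h.1.1⁻¹ (R.b i)))) = R.b i
  set u := g.1.1⁻¹ (h.1.1⁻¹ (R.b i)) with hu
  have h1 : h.1.1 (g.1.1 u) = R.b i := by
    rw [hu, ← LinearEquiv.mul_apply g.1.1, mul_inv_cancel]
    show h.1.1 (h.1.1⁻¹ (R.b i)) = _
    rw [← LinearEquiv.mul_apply, mul_inv_cancel]; rfl
  have h2 : ∀ x, B e.1 x = 0 → g.1.1 (h.1.1 x) = h.1.1 (g.1.1 x) := by
    intro x hx
    rw [R.split hB hx, R.up_apply hB]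
    simp only [map_add, map_sum, map_smul, hge, hhe]
    refine congrArg₂ _ (Finset.sum_congr rfl fun j _ => ?_) rfl
    congr 1
    rw [R.ker_fix hB hh j, R.ker_fix hB hg j]
    simp only [map_add, map_smul, hge, hhe]
    rw [R.ker_fix hB hh j, R.ker_fix hB hg j]
    simp only [map_add, map_smul, R.fb, symm_one hB R.ef, zero_add, smul_eq_mul, mul_one]
    abel
  have hu0 : B e.1 u = 0 := stab_perp hB g⁻¹ (stab_perp hB h⁻¹ (R.eb i))
  rw [h2 u hu0, h1]

/-- An element of the residue group mapping every isotropic point to a perpendicular one is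
trivial. -/
theorem eq_one_of_perp (hF : Nat.card F = 4) (s : suG (hermB 4 θ))
    (h : ∀ v : Fin 4 → F, hermB 4 θ v v = 0 → hermB 4 θ v (s.1 v) = 0) : s = 1 := by
  have hH := isHerm_four hB
  set M : Fin 4 → Fin 4 → F := fun i j => hermB 4 θ (Pi.single i 1) (s.1 (Pi.single j 1)) with hM
  have hon := isON_single (σ := θ) 4
  have hM' : ∀ i j, M i j = s.1 (Pi.single j 1) i := fun i j => by
    simp [hM, hermB_apply, Pi.single_apply, Finset.sum_ite_eq']
  have hpair : ∀ i j, i ≠ j → ∀ k : F, k ≠ 0 → M i i + M j j + k * M i j + θ k * M j i = 0 := by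
    intro i j hij k hk
    have h1 : hermB 4 θ (Pi.single i 1 + k • Pi.single j 1) (Pi.single i 1 + k • Pi.single j 1) = 0 := by
      have e1 : ∀ i j, hermB 4 θ (Pi.single i 1) (Pi.single j 1) = if i = j then 1 else 0 := hon
      simp [e1, hij, hij.symm]
      linear_combination norm_one hB hk + two hB
    have h2 := h _ h1
    simp only [map_add, map_smul, map_smulₛₗ, LinearMap.add_apply, LinearMap.smul_apply, smul_eq_mul,
      RingHom.id_apply] at h2
    linear_combination h2 - M j j * (norm_one hB hk)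
  obtain ⟨w, hw⟩ : ∃ w : F, θ w ≠ w := by
    by_contra hcon
    push Not at hcon
    have := hB.finF
    obtain ⟨c, hc⟩ := Herm.exists_trace hB.herm.toIsInvol (a := (1 : F)) (map_one θ)
    rw [hcon, add_self' hB] at hc
    exact zero_ne_one hc
  have hw0 : w ≠ 0 := fun h => hw (by rw [h, map_zero])
  have hsum : w + θ w = 1 := by
    rcases hB.fixed (w + θ w) (by rw [map_add, hB.herm.invol, add_comm]) with h | h
    · exact absurd (eq_of_add hB _ _ h).symm hw
    · exact h
  have hoff : ∀ i j, i ≠ j → M i i = M j j ∧ M i j = 0 := by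
    intro i j hij
    have h1 := hpair i j hij 1 one_ne_zero
    rw [map_one] at h1
    have h2 := hpair i j hij w hw0
    have h3 := hpair i j hij (θ w) ((map_ne_zero θ).2 hw0)
    rw [hB.herm.invol] at h3
    have hd : M i i = M j j := eq_of_add hB _ _ (by
      linear_combination h1 + h2 + h3 - (M i j + M j i) * hsum - (M i i + M j j + M i j + M j i) * two hB)
    refine ⟨hd, ?_⟩
    have h4 : M i j = M j i := eq_of_add hB _ _ (by
      linear_combination h1 - add_self' hB (M i i) + hd)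
    rw [← h4] at h2
    linear_combination h2 - hsum * M i j + hd - add_self' hB (M i i)
  have hscal : ∀ x, s.1 x = M 0 0 • x := by
    intro x
    have hx : x = ∑ j, x j • Pi.single j (1 : F) := by
      funext i; simp [Pi.single_apply, Finset.sum_apply]
    conv_lhs => rw [hx]
    funext i
    simp only [map_sum, map_smul, Finset.sum_apply, Pi.smul_apply, ← hM', smul_eq_mul]
    rw [Finset.sum_eq_single i]
    · rcases eq_or_ne i 0 with rfl | hi
      · rw [mul_comm]
      · rw [(hoff i 0 hi).1, mul_comm]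
    · intro j _ hj; rw [(hoff i j (Ne.symm hj)).2, mul_zero]
    · intro hh; exact absurd (Finset.mem_univ i) hh
  -- the scalar is one
  have hdet : M 0 0 ^ 4 = 1 := by
    have h1 := congrArg Units.val s.2.2
    rwa [LinearEquiv.coe_det, show (s.1 : (Fin 4 → F) →ₗ[F] _) = M 0 0 • LinearMap.id from
      LinearMap.ext hscal, LinearMap.det_smul, LinearMap.det_id, mul_one, Module.finrank_fin_fun] at h1
  have h3 : M 0 0 ^ 3 = 1 := by
    have := hB.finF
    have := Fintype.ofFinite F
    have h0 : M 0 0 ≠ 0 := fun h => by rw [h] at hdet; simp at hdet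
    have := FiniteField.pow_card_sub_one_eq_one (M 0 0) h0
    rwa [← Nat.card_eq_fintype_card, hF] at this
  have h1 : M 0 0 = 1 := by rw [pow_succ, h3, one_mul] at hdet; exact hdet
  exact Subtype.ext (LinearEquiv.ext fun x => by rw [hscal x, h1, one_smul]; rfl)

/-- An element fixing the vector lies in the kernel when it maps every perpendicular point to a
perpendicular one commuting with the same points. -/
theorem Res.hom_eq_one (hF : Nat.card F = 4) {g : Stab hB e}
    (h : ∀ x : Pt B, B e.1 x.1 = 0 → B x.1 (g.1.1 x.1) = 0) : R.hom hB g = 1 := by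
  refine eq_one_of_perp hB hF _ fun v hv => ?_
  by_cases hv0 : v = 0
  · simp [hv0]
  rw [R.hom_apply hB, R.act_apply hB]
  have hiso : B (R.up v) (R.up v) = 0 := by rw [R.form_up hB, hv]
  have hne : R.up v ≠ 0 := fun h => hv0 (by rw [← R.down_up hB v, h, map_zero])
  have h1 := h ⟨_, hne, hiso⟩ (R.e_up hB v)
  rw [R.form_split hB (R.e_up hB v) (stab_perp hB g (R.e_up hB v)), R.down_up hB] at h1
  exact h1

end Cfsg.Agent.ThreeTrans.UModel
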