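import Cfsg.Agent.ThreeTrans.CountM22
import Cfsg.Agent.ThreeTrans.UnitaryResidue

/-!
# The centraliser of two commuting members in type M(22) and its residue PSU(4, 2)
-/

set_option autoImplicit false

open Cfsg Cfsg.Agent.Classical Cfsg.Agent.Classical.Herm Module

namespace Cfsg.Agent.ThreeTrans

variable {G : Type*} [Group G] {D : Set G}

/-- The joint centraliser of two elements. -/
abbrev pairCen (a b : G) : Subgroup G :=
  Subgroup.centralizer ({a} : Set G) ⊓ Subgroup.centralizer ({b} : Set G)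

theorem mem_pairCen {a b g : G} : g ∈ pairCen a b ↔ Commute g a ∧ Commute g b := by
  simp only [pairCen, Subgroup.mem_inf, Subgroup.mem_centralizer_singleton_iff]
  exact Iff.rfl

/-- The homomorphism onto the residue, with what is used about its kernel. -/
structure Residue (D : Set G) (a b : G) (F : Type) [Field F] [Fintype F]
    (φ : ↥(pairCen a b) →* PSU 4 F 2) : Prop where
  surj : Function.Surjective φ
  card : Nat.card φ.ker = 2 ^ 10
  iff_one : ∀ g : ↥(pairCen a b), φ g = 1 ↔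
    ∀ x ∈ dperp (dperp D a) b, Commute x ((g : G) * x * (g : G)⁻¹)
  sq : ∀ g : ↥(pairCen a b), φ g = 1 → ((g : G)) ^ 2 ∈ Subgroup.closure ({a, b} : Set G)
  comm : ∀ g h : ↥(pairCen a b), φ g = 1 → φ h = 1 →
    (g : G) * h * (g : G)⁻¹ * (h : G)⁻¹ ∈ Subgroup.closure ({a, b} : Set G)

theorem card_psu_four {F : Type*} [Field F] [Fintype F] (hF : Fintype.card F = 4) :
    Nat.card (PSU 4 F 2) = 25920 := by
  have h := Cfsg.Agent.S0280.result (q := 2) (by rw [hF]; norm_num : Fintype.card F = 2 ^ 2) 4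
    (by norm_num)
  norm_num [Finset.prod_range_succ, Nat.even_iff] at h
  omega

/-- The residue group is PSU(4, 2). -/
theorem exists_psu_four_equiv {F : Type*} [Field F] [Fintype F] (hF : Fintype.card F = 4)
    {θ : F →+* F} (hB : UModel.Space (hermB 6 θ)) : Nonempty (suG (hermB 4 θ) ≃* PSU 4 F 2) := by
  obtain ⟨θ', hθq, hθ, hfix, -⟩ := exists_powHom (F := F) (q := 2) (by rw [hF]; norm_num)
  obtain rfl : θ = θ' := RingHom.ext fun x => by
    rw [hθq]
    rcases eq_or_ne x 0 with rfl | hx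
    · simp
    · have h1 := UModel.norm_one hB hx
      have h2 := FiniteField.pow_card_sub_one_eq_one x hx
      rw [hF] at h2
      refine mul_left_cancel₀ hx ?_
      rw [h1, ← pow_succ']
      exact h2.symm
  have hc : Subgroup.center (Cfsg.SU 4 F 2) = ⊥ :=
    Subgroup.eq_bot_of_card_eq _ (by rw [card_center_SU hθ hθq hfix (by norm_num)]; norm_num)
  exact ⟨(suEquiv 4 hθq).symm.trans (MulEquiv.ofBijective (QuotientGroup.mk' (Subgroup.center (Cfsg.SU 4 F 2)))
    ⟨(MonoidHom.ker_eq_bot_iff _).1 (by rw [QuotientGroup.ker_mk', hc]),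
      QuotientGroup.mk'_surjective _⟩)⟩

theorem residue_diff {X : Type*} [Group X] [Finite X] {D₀ : Set X}
    (hD : IsThreeTranspositionGroup (D₀ \ {1})) (h : IsOfTypeM22 X D₀) (hZ : Subgroup.center X = ⊥) :
    ∃ d ∈ D₀ \ {1}, ∃ (F : Type) (_ : Field F) (_ : Fintype F), Fintype.card F = 4 ∧
      ∀ b ∈ dperp (D₀ \ {1}) d, ∃ φ : ↥(pairCen d b) →* PSU 4 F 2,
        Residue (D₀ \ {1}) d b F φ := by
  classical
  have hfull := m22Full_diff hD h hZ
  have hcnt := counts_diff hD h hZ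
  obtain ⟨⟨hcls, -, hN⟩, -, -⟩ := layerData_of_M22 hD h
  obtain ⟨-, d, hd0, c, -, hdc, ⟨F, hFld, hFt, hF, ⟨e⟩⟩, -, -, -⟩ := h
  have hd : d ∈ D₀ \ {1} := ⟨hd0, fun hh => hdc (by rw [hh]; exact Commute.one_left c)⟩
  refine ⟨d, hd, F, hFld, hFt, hF, fun b hb => ?_⟩
  set H := Subgroup.closure {y : X | y ∈ D₀ ∧ y ≠ d ∧ Commute d y}
  have hH : H = Subgroup.closure (dperp (D₀ \ {1}) d) := closure_congr_one (dperp_diff_iff d)
  have hcard : 2 ^ 15 ∣ Nat.card (H ⧸ Subgroup.center H) := by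
    rw [Nat.card_congr e.toEquiv]
    exact two_pow_dvd_psu hF
  have : IsSimpleGroup (H ⧸ Subgroup.center H) :=
    (MulEquiv.isSimpleGroup_congr e).2 (Cfsg.Agent.S0283.result
      (by rw [hF]; norm_num : Fintype.card F = 2 ^ 2) 6 (by norm_num) (by norm_num))
  have hgrp := lowImage_group hD hH
  have hG := good_of_simple (not_isMulCommutative_of_two_pow_dvd hgrp hcard) hgrp
  obtain ⟨q, hq, -⟩ := hG.2.1
  obtain ⟨θ, hB, π, hsurj, hker, hpeq, hM⟩ := psu_hom hF e hgrp ⟨q, hq⟩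
  set D := D₀ \ {1} with hDdef
  have := hB.fin; have := hB.finF
  have hFn : Nat.card F = 4 := by rw [Nat.card_eq_fintype_card, hF]
  have hdH : d ∈ H := hH ▸ self_mem_closure_dperp hD hfull hZ hd
  have hcen : Subgroup.centralizer ({d} : Set X) = H :=
    hH ▸ centralizer_eq_closure hD hfull hZ hd
  have hKH : ∀ g : ↥(pairCen d b), (g : X) ∈ H := fun g => hcen ▸ (Subgroup.mem_inf.1 g.2).1
  -- the point of `b`
  set bH : H := ⟨b, mem_H hH hb⟩
  have hbne := mk_ne_one hD hd hH hcls hG hN (u := bH) hb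
  obtain ⟨v, hv⟩ := UModel.exists_tp hM (g := (bH : H ⧸ Subgroup.center H)) ⟨⟨bH, hb, rfl⟩, hbne⟩
  replace hv : π (UModel.tr hB v) = (bH : H ⧸ Subgroup.center H) := hv
  obtain ⟨R⟩ := UModel.exists_res hB v
  -- the map to the stabiliser of the vector
  have hinj : Function.Injective (π.comp (UModel.Stab hB v).subtype) := by
    refine (injective_iff_map_eq_one _).2 fun s hs => ?_
    have hs' : π s.1 = 1 := hs
    have hfix : ∀ p : Herm.Iso (hermB 6 θ), s.1 • p = p := by
      intro p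
      obtain ⟨u, hu0, hu, rfl⟩ := Herm.exists_pt p
      obtain ⟨u', hu'⟩ := UModel.exists_image hB s.1 ⟨u, hu0, hu⟩
      have h1 := UModel.tr_conj hB s.1 hu'
      have h2 : π (UModel.tr hB u') = π (UModel.tr hB ⟨u, hu0, hu⟩) := by
        rw [← h1, map_mul, map_mul, map_inv, hs']; simp
      obtain ⟨k, hk⟩ := (UModel.tr_eq_iff hB u' _).1 (hpeq _ _ h2)
      rw [Herm.smul_pt, Herm.pt_eq_iff]
      change u = k • u'.1 at hk
      rw [hu'] at hk
      have hk0 : k ≠ 0 := fun h => hu0 (by rw [hk, h, zero_smul])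
      exact ⟨k⁻¹, by nth_rw 1 [hk]; rw [inv_smul_smul₀ hk0]⟩
    obtain ⟨c, hc⟩ := Herm.scalar_of_fix_iso hB.herm (by rw [hB.rank]; norm_num) hfix
    have hc1 : c = 1 := by
      have := (hc v.1).symm.trans (show s.1.1 v.1 = v.1 from s.2)
      exact smul_left_injective F v.2.1 (show c • v.1 = (1 : F) • v.1 by rw [one_smul]; exact this)
    exact Subtype.ext (UModel.ext_suG hB fun x => by rw [hc x, hc1, one_smul]; rfl)
  let κ : ↥(pairCen d b) →* H ⧸ Subgroup.center H :=
    (QuotientGroup.mk' _).comp ((pairCen d b).subtype.codRestrict H hKH)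
  have hκ : ∀ g, κ g ∈ (π.comp (UModel.Stab hB v).subtype).range := by
    intro g
    have hgb : Commute (⟨g, hKH g⟩ : H) bH := Subtype.ext (mem_pairCen.1 g.2).2.eq
    obtain ⟨s, hs, hsx⟩ := UModel.exists_fix_lift hB π hsurj hker hpeq v (x := κ g) (by
      rw [hv]; exact hgb.map (QuotientGroup.mk' _))
    exact ⟨⟨s, hs⟩, hsx⟩
  let ψ : ↥(pairCen d b) →* ↥(UModel.Stab hB v) :=
    (MonoidHom.ofInjective hinj).symm.toMonoidHom.comp (κ.codRestrict _ hκ)
  have hψ : ∀ g, π (ψ g).1 = κ g := fun g =>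
    congrArg Subtype.val ((MonoidHom.ofInjective hinj).apply_symm_apply ⟨κ g, hκ g⟩)
  have hψsurj : Function.Surjective ψ := by
    intro s
    obtain ⟨x, hx⟩ := QuotientGroup.mk'_surjective (Subgroup.center H) (π s.1)
    have hs : Commute s.1 (UModel.tr hB v) := UModel.commute_of_fix hB s.1 v s.2
    have hc : Commute (x : H ⧸ Subgroup.center H) (bH : H ⧸ Subgroup.center H) := by
      rw [show (x : H ⧸ Subgroup.center H) = π s.1 from hx, ← hv]; exact hs.map π
    have hxb : (x : X) * b * (x : X)⁻¹ ∈ dperp D d := dperp_conj_H hD hH x.2 hb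
    have heq : x * bH * x⁻¹ = bH := by
      refine eq_of_mk_eq hD hH (u := x * bH * x⁻¹) (v := bH) hxb hb ?_ ?_
      · exact mk_ne_one hD hd hH hcls hG hN (u := x * bH * x⁻¹) hxb
      · rw [QuotientGroup.mk_mul, QuotientGroup.mk_mul, QuotientGroup.mk_inv, hc.eq,
          mul_inv_cancel_right]
    have hxK : (x : X) ∈ pairCen d b := mem_pairCen.2
      ⟨(commute_of_mem_H hH x.2).symm, mul_inv_eq_iff_eq_mul.1 (congrArg Subtype.val heq)⟩
    exact ⟨⟨x, hxK⟩, hinj (by
      show π (ψ ⟨x, hxK⟩).1 = π s.1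
      rw [hψ, ← hx]; rfl)⟩
  obtain ⟨e4⟩ := exists_psu_four_equiv hF hB
  set φ : ↥(pairCen d b) →* PSU 4 F 2 := e4.toMonoidHom.comp ((R.hom hB).comp ψ) with hφ
  have hφ1 : ∀ g, φ g = 1 ↔ R.hom hB (ψ g) = 1 := fun g => e4.map_eq_one_iff
  have hφsurj : Function.Surjective φ :=
    e4.surjective.comp ((R.hom_surjective hB).comp hψsurj)
  have hKc : Nat.card ↥(pairCen d b) = 26542080 := by
    obtain ⟨h1, -, h3⟩ := hcnt d hd
    have := card_eq_orbit_mul (Subgroup.centralizer ({d} : Set X)) b (dperp D d)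
      (fun g hg => by
        have h := dperp_conj hD.2.1 g hb
        rwa [Subgroup.mem_centralizer_singleton_iff.1 hg, mul_inv_cancel_right] at h)
      (fun y hy => by
        obtain ⟨k, hk, hkb⟩ := exists_mv hD hfull hd hb hy
        exact ⟨k, (SetLike.ext_iff.1 (centralizer_eq_closure hD hfull hZ hd) k).2 hk, hkb⟩)
    rw [h1, h3] at this
    change 18393661440 = 693 * Nat.card ↥(pairCen d b) at this
    omega
  -- members of the layer of both
  have hxK : ∀ (x : X) (hx : x ∈ dperp (dperp D d) b), ∃ w : UModel.Pt (hermB 6 θ),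
      hermB 6 θ v.1 w.1 = 0 ∧ π (UModel.tr hB w) =
        ((⟨x, mem_H hH hx.1⟩ : H) : H ⧸ Subgroup.center H) := by
    intro x hx
    have hne := mk_ne_one hD hd hH hcls hG hN (u := ⟨x, mem_H hH hx.1⟩) hx.1
    obtain ⟨w, hw⟩ := UModel.exists_tp hM
      (g := ((⟨x, mem_H hH hx.1⟩ : H) : H ⧸ Subgroup.center H)) ⟨⟨_, hx.1, rfl⟩, hne⟩
    refine ⟨w, (hM.comm_iff v w).1 ?_, hw⟩
    show Commute (π (UModel.tr hB v)) (π (UModel.tr hB w))
    rw [hv, hw]
    exact (show Commute bH ⟨x, mem_H hH hx.1⟩ from Subtype.ext hx.2.2.eq).map (QuotientGroup.mk' _)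
  refine ⟨φ, hφsurj, ?_, fun g => ⟨fun hg x hx => ?_, fun hg => ?_⟩, fun g hg => ?_, fun g g' hg hg' => ?_⟩
  · have h1 := Subgroup.card_eq_card_quotient_mul_card_subgroup φ.ker
    rw [Nat.card_congr (QuotientGroup.quotientKerEquivOfSurjective φ hφsurj).toEquiv, hKc,
      card_psu_four hF] at h1
    omega
  · obtain ⟨hxD, -, hbx⟩ := id hx
    obtain ⟨w, hw0, hw⟩ := hxK x hx
    have hs : ((ψ g).1.1) v.1 = v.1 := (ψ g).2
    obtain ⟨w', hw'⟩ := UModel.exists_image hB (ψ g).1 w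
    have h1 := UModel.tr_conj hB (ψ g).1 hw'
    have hperp : hermB 6 θ w.1 w'.1 = 0 := by
      rw [hw']
      have hd1 := R.form_split hB hw0 (UModel.stab_perp hB (ψ g) hw0)
      rw [hd1, R.down_map hB (ψ g) hw0, ← R.hom_apply hB, (hφ1 g).1 hg]
      show hermB 4 θ (R.down w.1) (R.down w.1) = 0
      rw [← R.form_split hB hw0 hw0, w.2.2]
    refine reflect hD hH (u := ⟨x, mem_H hH hxD⟩)
      (v := ⟨(g : X), hKH g⟩ * ⟨x, mem_H hH hxD⟩ * ⟨(g : X), hKH g⟩⁻¹) hxD
      (dperp_conj_H hD hH (hKH g) hxD) ?_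
    rw [QuotientGroup.mk_mul, QuotientGroup.mk_mul, QuotientGroup.mk_inv]
    show Commute _ (κ g * _ * (κ g)⁻¹)
    rw [← hψ g, ← hw, ← map_inv, ← map_mul, ← map_mul, h1]
    exact (hM.comm_iff w w').2 hperp
  · refine (hφ1 g).2 (R.hom_eq_one hB hFn fun w hw => ?_)
    by_cases hwv : π (UModel.tr hB w) = π (UModel.tr hB v)
    · obtain ⟨k, hk⟩ := (UModel.tr_eq_iff hB v w).1 (hpeq _ _ hwv).symm
      rw [hk, map_smul (ψ g).1.1, show (ψ g).1.1 v.1 = v.1 from (ψ g).2]
      simp [v.2.2]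
    obtain ⟨⟨xH, hxD, hxw⟩, -⟩ := UModel.tp_mem hM w
    have hxb : xH ≠ bH := fun h => hwv (by rw [← hxw, h, hv])
    have hx : (xH : X) ∈ dperp (dperp D d) b := by
      refine ⟨hxD, fun h => hxb (Subtype.ext h), reflect hD hH (u := bH) hb hxD ?_⟩
      rw [← hv, show (xH : H ⧸ Subgroup.center H) = π (UModel.tr hB w) from hxw]
      exact (hM.comm_iff v w).2 hw
    obtain ⟨w', hw'⟩ := UModel.exists_image hB (ψ g).1 w
    rw [← hw']
    refine (hM.comm_iff w w').1 ?_
    show Commute (π (UModel.tr hB w)) (π (UModel.tr hB w'))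
    rw [← UModel.tr_conj hB (ψ g).1 hw', map_mul, map_mul, map_inv, hψ, ← hxw]
    exact (show Commute xH (⟨(g : X), hKH g⟩ * xH * ⟨(g : X), hKH g⟩⁻¹) from
      Subtype.ext (hg _ hx).eq).map (QuotientGroup.mk' _)
  all_goals
    -- the kernel modulo the centre is the image of the transvection
    have back : ∀ y : ↥(pairCen d b), ((ψ y).1 = 1 ∨ (ψ y).1 = UModel.tr hB v) →
        (y : X) ∈ Subgroup.closure ({d, b} : Set X) := by
      intro y hy
      have hdmem : d ∈ Subgroup.closure ({d, b} : Set X) := Subgroup.subset_closure (Or.inl rfl)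
      have hbmem : b ∈ Subgroup.closure ({d, b} : Set X) := Subgroup.subset_closure (Or.inr rfl)
      have hz : ∀ z : H, z ∈ Subgroup.center H → (z : X) ∈ Subgroup.closure ({d, b} : Set X) := by
        intro z hz
        rcases eq_one_or_eq_of_centralises hD hZ hfull.data hfull.links hd
          (commute_of_mem_H hH z.2).symm (fun x hx =>
            (congrArg Subtype.val (Subgroup.mem_center_iff.1 hz ⟨x, mem_H hH hx⟩)).symm) with h | h
        · rw [h]; exact one_mem _
        · rw [h]; exact hdmem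
      have hyH := hψ y
      rcases hy with h | h
      · rw [h, map_one] at hyH
        exact hz ⟨y, hKH y⟩ ((QuotientGroup.eq_one_iff _).1 hyH.symm)
      · rw [h, hv] at hyH
        have h2 := hz _ (QuotientGroup.eq.1 hyH)
        have h3 := mul_mem hbmem h2
        simp [bH] at h3
        exact h3
  · rw [sq, ← Subgroup.coe_mul]
    refine back _ ?_
    rw [map_mul]
    exact R.ker_sq hB ((hφ1 g).1 hg)
  · rw [← Subgroup.coe_inv, ← Subgroup.coe_inv, ← Subgroup.coe_mul, ← Subgroup.coe_mul,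
      ← Subgroup.coe_mul]
    refine back _ ?_
    rw [map_mul, map_mul, map_mul, map_inv, map_inv]
    exact R.ker_comm hB ((hφ1 g).1 hg) ((hφ1 g').1 hg')

end Cfsg.Agent.ThreeTrans
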