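import Cfsg.Agent.ThreeTrans.CentralLift

/-!
# The centraliser of an involution over the group it generates
-/

set_option autoImplicit false

namespace Cfsg.Agent.ThreeTrans

variable {G : Type*} [Group G] (d : G) (hd : orderOf d = 2)
  [((Subgroup.zpowers d).subgroupOf (Subgroup.centralizer ({d} : Set G))).Normal]

include hd

theorem eq_one_or_eq_d {c : ↥(Subgroup.centralizer ({d} : Set G))}
    (hc : (QuotientGroup.mk c : _ ⧸ (Subgroup.zpowers d).subgroupOf (Subgroup.centralizer ({d} : Set G))) = 1) :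
    (c : G) = 1 ∨ (c : G) = d := by
  obtain ⟨n, hn⟩ := Subgroup.mem_zpowers_iff.1 (Subgroup.mem_subgroupOf.1 ((QuotientGroup.eq_one_iff _).1 hc))
  have hd2 : d ^ (2 : ℤ) = 1 := by
    have := pow_orderOf_eq_one d
    rw [hd] at this
    exact_mod_cast this
  rcases Int.emod_two_eq_zero_or_one n with h | h
  · exact Or.inl (by rw [← hn, ← Int.mul_ediv_add_emod n 2, h, zpow_add, zpow_mul, hd2, one_zpow, zpow_zero, mul_one])
  · exact Or.inr (by rw [← hn, ← Int.mul_ediv_add_emod n 2, h, zpow_add, zpow_mul, hd2, one_zpow, zpow_one, one_mul])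

theorem cov_centralizer : Lift.Cov (QuotientGroup.mk'
    ((Subgroup.zpowers d).subgroupOf (Subgroup.centralizer ({d} : Set G)))) := by
  refine ⟨QuotientGroup.mk'_surjective _, fun z hz c => Subtype.ext ?_, fun z hz => Subtype.ext ?_⟩ <;>
    rcases eq_one_or_eq_d d hd hz with h | h
  · show (z : G) * c = c * z
    rw [h, one_mul, mul_one]
  · show (z : G) * c = c * z
    rw [h]
    exact (Subgroup.mem_centralizer_singleton_iff.1 c.2).symm
  · show (z : G) * z = 1
    rw [h, one_mul]
  · show (z : G) * z = 1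
    rw [h]
    have := pow_orderOf_eq_one d
    rwa [hd, sq] at this

/-- The two conclusions from the lifting of involutions. -/
theorem lift_conclusion (hlift : ∀ q : _ ⧸ (Subgroup.zpowers d).subgroupOf (Subgroup.centralizer ({d} : Set G)),
    q * q = 1 → ∃ y : ↥(Subgroup.centralizer ({d} : Set G)), y * y = 1 ∧
      QuotientGroup.mk' ((Subgroup.zpowers d).subgroupOf (Subgroup.centralizer ({d} : Set G))) y = q) :
    (∀ x : ↥(Subgroup.centralizer ({d} : Set G)) ⧸ (Subgroup.zpowers d).subgroupOf (Subgroup.centralizer ({d} : Set G)),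
      orderOf x = 2 → ∃ y : ↥(Subgroup.centralizer ({d} : Set G)), orderOf y = 2 ∧
        (QuotientGroup.mk y : ↥(Subgroup.centralizer ({d} : Set G)) ⧸ (Subgroup.zpowers d).subgroupOf (Subgroup.centralizer ({d} : Set G))) = x) ∧
    ¬ ∃ g : G, g ^ 2 = d := by
  refine ⟨fun x hx => ?_, ?_⟩
  · obtain ⟨y, hy, hyx⟩ := hlift x (by have := pow_orderOf_eq_one x; rwa [hx, sq] at this)
    refine ⟨y, orderOf_eq_prime (by rw [sq, hy]) fun h1 => ?_, hyx⟩
    rw [h1, map_one] at hyx
    rw [← hyx, orderOf_one] at hx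
    omega
  · rintro ⟨g, hg⟩
    have hgC : g ∈ Subgroup.centralizer ({d} : Set G) :=
      Subgroup.mem_centralizer_singleton_iff.2 (by rw [← hg]; exact (Commute.self_pow g 2).eq)
    have hd1 : d ≠ 1 := fun h => by rw [h, orderOf_one] at hd; omega
    set c : ↥(Subgroup.centralizer ({d} : Set G)) := ⟨g, hgC⟩
    obtain ⟨y, hy, hyc⟩ := hlift (QuotientGroup.mk c) (by
      rw [← QuotientGroup.mk_mul, QuotientGroup.eq_one_iff, Subgroup.mem_subgroupOf]
      show g * g ∈ Subgroup.zpowers d
      rw [← sq, hg]; exact Subgroup.mem_zpowers d)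
    have := Lift.sq_congr (cov_centralizer d hd) (show QuotientGroup.mk' _ c = QuotientGroup.mk' _ y from hyc.symm)
    rw [hy] at this
    exact hd1 (by rw [← hg, sq]; exact congrArg Subtype.val this)

end Cfsg.Agent.ThreeTrans
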