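import Cfsg.Agent.ThreeTrans.CentralizerMember
import Cfsg.Agent.Classical.HermStab

/-!
# Numbers and orbits in type M(22)
-/

set_option autoImplicit false

open Cfsg Cfsg.Agent.Classical Cfsg.Agent.Classical.Herm Module

namespace Cfsg.Agent.ThreeTrans

namespace UModel

variable {F V : Type*} [Field F] [AddCommGroup V] [Module F V] {θ : F →+* F}
  {B : V →ₛₗ[θ] V →ₗ[F] F} (hB : Space B) {K : Type*} [Group K] {E : Set K} {tp : Pt B → K}
  (hM : Model B E tp)

include hB hM

/-- Every member has as many representing vectors as there are scalars other than zero. -/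
theorem card_reps (A : Set K) (hA : A ⊆ E) :
    Nat.card {v : Pt B // tp v ∈ A} = A.ncard * Nat.card Fˣ := by
  classical
  choose rep hrep using fun g : A => exists_tp hM (hA g.2)
  rw [← Nat.card_coe_set_eq A, ← Nat.card_prod]
  refine (Nat.card_congr (Equiv.ofBijective (fun x : A × Fˣ =>
    (⟨⟨(x.2 : F) • (rep x.1).1, smul_ne_zero x.2.ne_zero (rep x.1).2.1, by simp [(rep x.1).2.2]⟩, ?_⟩ :
      {v : Pt B // tp v ∈ A})) ⟨?_, ?_⟩)).symm
  · rw [tp_smul hB hM (rep x.1) _ (k := (x.2 : F)) rfl, hrep]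
    exact x.1.2
  · rintro ⟨g, k⟩ ⟨g', k'⟩ h
    have h1 : (k : F) • (rep g).1 = (k' : F) • (rep g').1 :=
      congrArg (fun v : {v : Pt B // tp v ∈ A} => v.1.1) h
    have hg : g = g' := Subtype.ext (by
      rw [← hrep g, ← hrep g']
      exact ((hM.eq_iff (rep g) (rep g')).2 ⟨(k' : F)⁻¹ * k, by
        rw [mul_smul, h1, inv_smul_smul₀ k'.ne_zero]⟩))
    subst hg
    exact Prod.ext rfl (Units.ext (smul_left_injective F (rep g).2.1 h1))
  · rintro ⟨v, hv⟩
    obtain ⟨k, hk⟩ := (hM.eq_iff (rep ⟨tp v, hv⟩) v).1 (hrep ⟨tp v, hv⟩)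
    have hk0 : k ≠ 0 := fun h => v.2.1 (by rw [hk, h, zero_smul])
    exact ⟨(⟨tp v, hv⟩, Units.mk0 k hk0), Subtype.ext (Subtype.ext hk.symm)⟩

end UModel

theorem card_model {F : Type*} [Field F] [Fintype F] (hF : Fintype.card F = 4) {θ : F →+* F}
    (hB : UModel.Space (hermB 6 θ)) {K : Type*} [Group K] [Finite K] {E : Set K}
    {tp : UModel.Pt (hermB 6 θ) → K} (hM : UModel.Model (hermB 6 θ) E tp) :
    E.ncard = 693 ∧ ∀ g ∈ E, (dperp E g).ncard = 180 := by
  classical
  have hσ : IsInvol θ := hB.herm.toIsInvol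
  have hq : Nat.card (fixField θ) = 2 := by
    have h := card_eq_fix_sq (F := F) hσ
    rw [Nat.card_eq_fintype_card (α := F), hF] at h
    nlinarith [h]
  have hU : Nat.card Fˣ = 3 := by
    rw [Nat.card_units, Nat.card_eq_fintype_card, hF]
  have hFc : Nat.card F = 4 := by rw [Nat.card_eq_fintype_card, hF]
  -- nonzero isotropic vectors with a property
  have hsplit : ∀ P : (Fin 6 → F) → Prop, P 0 →
      Nat.card {v : Fin 6 → F // hermB 6 θ v v = 0 ∧ P v} =
        Nat.card {v : UModel.Pt (hermB 6 θ) // P v.1} + 1 := by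
    intro P h0
    rw [← Finite.card_option]
    refine Nat.card_congr
      { toFun := fun v => if h : v.1 = 0 then none else some ⟨⟨v.1, h, v.2.1⟩, v.2.2⟩
        invFun := fun o => o.elim ⟨0, by simp, h0⟩ fun v => ⟨v.1.1, v.1.2.2, v.2⟩
        left_inv := fun v => by
          by_cases h : v.1 = 0
          · simp only [h, dite_true, Option.elim]
            exact Subtype.ext h.symm
          · simp only [h, dite_false, Option.elim]
        right_inv := fun o => by
          rcases o with _ | v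
          · simp
          · simp [v.1.2.1] }
  constructor
  · have h1 := card_herm_isotropic (σ := θ) hσ hq 6
    have h2 := hsplit (fun _ => True) trivial
    have h3 := UModel.card_reps hB hM E (subset_refl _)
    rw [Nat.card_congr (Equiv.subtypeEquivRight (q := fun v => hermB 6 θ v v = 0) fun v => by simp), h1] at h2
    have e : Nat.card {v : UModel.Pt (hermB 6 θ) // tp v ∈ E} =
        Nat.card {v : UModel.Pt (hermB 6 θ) // True} :=
      Nat.card_congr (Equiv.subtypeEquivRight fun v => iff_true_intro (UModel.tp_mem hM v))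
    rw [← e, h3, hU] at h2
    norm_num at h2
    omega
  · intro g hg
    obtain ⟨e, rfl⟩ := UModel.exists_tp hM hg
    have hli : LinearIndependent F ![e.1] := by
      rw [linearIndependent_unique_iff]
      simpa using e.2.1
    have h1 := HermStab.card_perp_frame hσ (n := 6) (i := 1) (by norm_num) (s := ![e.1]) hli
      (fun j l => by fin_cases j; fin_cases l; simpa using e.2.2)
    rw [hFc, card_herm_isotropic (σ := θ) hσ hq] at h1
    have h2 := hsplit (fun v => ∀ j, hermB 6 θ (![e.1] j) v = 0) (fun j => map_zero _)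
    have h3 := UModel.card_reps hB hM (insert (tp e) (dperp E (tp e)))
      (Set.insert_subset hg fun x hx => hx.1)
    have e' : Nat.card {v : UModel.Pt (hermB 6 θ) // tp v ∈ insert (tp e) (dperp E (tp e))} =
        Nat.card {v : UModel.Pt (hermB 6 θ) // ∀ j, hermB 6 θ (![e.1] j) v.1 = 0} := by
      refine Nat.card_congr (Equiv.subtypeEquivRight fun v => ?_)
      simp only [Fin.forall_fin_one, Matrix.cons_val_zero]
      rw [← hM.comm_iff, Set.mem_insert_iff]
      constructor
      · rintro (h | h)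
        · rw [h]
        · exact h.2.2
      · intro h
        exact or_iff_not_imp_left.2 fun hne => ⟨UModel.tp_mem hM v, hne, h⟩
    rw [h1] at h2
    rw [← e', h3, hU, Set.ncard_insert_of_notMem (fun h => h.2.1 rfl) (Set.toFinite _)] at h2
    norm_num at h2
    omega

theorem card_psu_six {F : Type*} [Field F] [Fintype F] (hF : Fintype.card F = 4) :
    Nat.card (PSU 6 F 2) = 9196830720 := by
  have h := Cfsg.Agent.S0280.result (q := 2) (by rw [hF]; norm_num : Fintype.card F = 2 ^ 2) 6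
    (by norm_num)
  norm_num [Finset.prod_range_succ, Nat.even_iff] at h
  omega

/-- Orbit and stabiliser of a conjugation action. -/
theorem card_eq_orbit_mul {G : Type*} [Group G] [Finite G] (M : Subgroup G) (x : G) (O : Set G)
    (h1 : ∀ g ∈ M, g * x * g⁻¹ ∈ O) (h2 : ∀ y ∈ O, ∃ g ∈ M, g * x * g⁻¹ = y) :
    Nat.card M = O.ncard * Nat.card ↥(M ⊓ Subgroup.centralizer ({x} : Set G)) := by
  choose t ht hty using h2
  rw [← Nat.card_coe_set_eq O, ← Nat.card_prod]
  refine (Nat.card_congr (Equiv.ofBijective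
    (fun p : O × ↥(M ⊓ Subgroup.centralizer ({x} : Set G)) =>
      (⟨t p.1 p.1.2 * p.2, mul_mem (ht _ _) (Subgroup.mem_inf.1 p.2.2).1⟩ : M)) ⟨?_, ?_⟩)).symm
  · rintro ⟨y, s⟩ ⟨y', s'⟩ h
    have h' : t y y.2 * (s : G) = t y' y'.2 * s' := congrArg Subtype.val h
    have hs : ∀ s : ↥(M ⊓ Subgroup.centralizer ({x} : Set G)), ∀ k : G,
        k * s * x * (k * s)⁻¹ = k * x * k⁻¹ := fun s k => by
      have := Subgroup.mem_centralizer_singleton_iff.1 (Subgroup.mem_inf.1 s.2).2
      rw [mul_assoc k, this]; group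
    have hy : y = y' := Subtype.ext (by rw [← hty y y.2, ← hty y' y'.2, ← hs s, h', hs s'])
    subst hy
    exact Prod.ext rfl (Subtype.ext (mul_left_cancel h'))
  · rintro ⟨g, hg⟩
    have hmem := h1 g hg
    refine ⟨(⟨_, hmem⟩, ⟨(t _ hmem)⁻¹ * g, Subgroup.mem_inf.2 ⟨mul_mem (inv_mem (ht _ hmem)) hg, ?_⟩⟩),
      Subtype.ext (mul_inv_cancel_left _ _)⟩
    refine Subgroup.mem_centralizer_singleton_iff.2 ?_
    have h := hty _ hmem
    calc (t _ hmem)⁻¹ * g * x = (t _ hmem)⁻¹ * (g * x * g⁻¹) * g := by group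
      _ = (t _ hmem)⁻¹ * (t _ hmem * x * (t _ hmem)⁻¹) * g := by rw [h]
      _ = x * ((t _ hmem)⁻¹ * g) := by group

variable {G : Type*} [Group G] {D : Set G}

section Orbits

variable (hD : IsThreeTranspositionGroup D) (hF : M22Full D)

include hD hF

/-- The centraliser of two commuting members is transitive on their common partners. -/
theorem exists_move_pair {a b c c' : G} (ha : a ∈ D) (hb : b ∈ dperp D a)
    (hc : c ∈ dperp (dperp D a) b) (hc' : c' ∈ dperp (dperp D a) b) :
    ∃ g : G, Commute g a ∧ Commute g b ∧ g * c * g⁻¹ = c' := by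
  have hT := hD.1
  have hA : ∀ {x}, x ∈ dperp D a → Commute x a := fun hx => hx.2.2.symm
  have hmul : ∀ {p q : G}, p ∈ D → q ∈ D → ¬ Commute p q → p * q * p * (p * q)⁻¹ = q := by
    intro p q hp hq hpq
    rw [mul_inv_rev, inv_eq hT hp, inv_eq hT hq]
    calc p * q * p * (q * p) = p * (q * p * q) * p := by simp only [mul_assoc]
      _ = q := by
        rw [braid hT hq hp fun h => hpq h.symm]
        simp only [mul_assoc, mul_self_mul hT hp, mul_self hT hp, mul_one]
  rcases eq_or_ne c' c with rfl | hne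
  · exact ⟨1, Commute.one_left _, Commute.one_left _, by simp⟩
  by_cases hcc : Commute c c'
  swap
  · exact ⟨c * c', (hA hc.1).mul_left (hA hc'.1), hc.2.2.symm.mul_left hc'.2.2.symm,
      hmul hc.1.1 hc'.1.1 hcc⟩
  obtain ⟨z, hz, hzb, hzc, hzc'⟩ := (hF.links a ha).mover b hb c hc c' hc' hcc
  refine ⟨z * c' * (c * z), ((hA hz).mul_left (hA hc'.1)).mul_left ((hA hc.1).mul_left (hA hz)),
    (hzb.mul_left hc'.2.2.symm).mul_left (hc.2.2.symm.mul_left hzb), ?_⟩
  calc z * c' * (c * z) * c * (z * c' * (c * z))⁻¹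
      = z * c' * (c * z * c * (c * z)⁻¹) * (z * c')⁻¹ := by group
    _ = z * c' * z * (z * c')⁻¹ := by rw [hmul hc.1.1 hz.1 fun h => hzc h.symm]
    _ = c' := hmul hz.1 hc'.1.1 hzc'

/-- All triples of commuting members are conjugate. -/
theorem exists_conj_triple [Finite G] (hcls : IsThreeTranspositionClass D) {a b c a' b' c' : G}
    (ha : a ∈ D) (hb : b ∈ dperp D a) (hc : c ∈ dperp (dperp D a) b) (ha' : a' ∈ D)
    (hb' : b' ∈ dperp D a') (hc' : c' ∈ dperp (dperp D a') b') :
    ∃ g : G, g * a * g⁻¹ = a' ∧ g * b * g⁻¹ = b' ∧ g * c * g⁻¹ = c' := by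
  obtain ⟨g₁, hg₁⟩ := class_isConj hcls ha ha'
  have hb₁ : g₁ * b * g₁⁻¹ ∈ dperp D a' := hg₁ ▸ dperp_conj hD.2.1 g₁ hb
  obtain ⟨g₂, hg₂, hg₂b⟩ := exists_mv hD hF ha' hb₁ hb'
  have hg₂a : Commute g₂ a' :=
    (commute_of_mem_H (D := D) (d := a') rfl hg₂).symm
  have hfix : g₂ * a' * g₂⁻¹ = a' := by rw [hg₂a.eq, mul_inv_cancel_right]
  have hA : g₂ * g₁ * a * (g₂ * g₁)⁻¹ = a' := by
    calc g₂ * g₁ * a * (g₂ * g₁)⁻¹ = g₂ * (g₁ * a * g₁⁻¹) * g₂⁻¹ := by group
      _ = a' := by rw [hg₁, hfix]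
  have hB : g₂ * g₁ * b * (g₂ * g₁)⁻¹ = b' := by
    calc g₂ * g₁ * b * (g₂ * g₁)⁻¹ = g₂ * (g₁ * b * g₁⁻¹) * g₂⁻¹ := by group
      _ = b' := hg₂b
  have hC : g₂ * g₁ * c * (g₂ * g₁)⁻¹ ∈ dperp (dperp D a') b' := by
    have h1 := dperp_conj hD.2.1 (g₂ * g₁) hc.1
    rw [hA] at h1
    refine ⟨h1, fun h => hc.2.1 ?_, ?_⟩
    · rw [← hB] at h
      exact mul_left_cancel (mul_right_cancel h)
    · rw [← hB]; exact (commute_conj _ b c).2 hc.2.2
  obtain ⟨g₃, h3a, h3b, h3c⟩ := exists_move_pair hD hF ha' hb' hC hc'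
  refine ⟨g₃ * (g₂ * g₁), ?_, ?_, ?_⟩
  · calc g₃ * (g₂ * g₁) * a * (g₃ * (g₂ * g₁))⁻¹ = g₃ * (g₂ * g₁ * a * (g₂ * g₁)⁻¹) * g₃⁻¹ := by group
      _ = a' := by rw [hA, h3a.eq, mul_inv_cancel_right]
  · calc g₃ * (g₂ * g₁) * b * (g₃ * (g₂ * g₁))⁻¹ = g₃ * (g₂ * g₁ * b * (g₂ * g₁)⁻¹) * g₃⁻¹ := by group
      _ = b' := by rw [hB, h3b.eq, mul_inv_cancel_right]
  · calc g₃ * (g₂ * g₁) * c * (g₃ * (g₂ * g₁))⁻¹ = g₃ * (g₂ * g₁ * c * (g₂ * g₁)⁻¹) * g₃⁻¹ := by group
      _ = c' := h3c

/-- A member is the product of five members of its layer. -/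
theorem self_mem_closure_dperp (hZ : Subgroup.center G = ⊥) {a : G} (ha : a ∈ D) :
    a ∈ Subgroup.closure (dperp D a) := by
  obtain ⟨b, hb⟩ := hF.data.nice.rich a ha
  obtain ⟨c, hc⟩ := (hF.data.layerNice a ha).rich b hb
  obtain ⟨x₁, x₂, x₃, hl, -, -, hprod⟩ := exists_second_triple hD hZ hF.data ha hb hc
  have hx : ∀ x ∈ [x₁, x₂, x₃], x ∈ Subgroup.closure (dperp D a) := fun x hx => by
    have hxl : x ∈ ln (dperp D a) b c := by
      rw [hl]; simp at hx ⊢; tauto
    exact Subgroup.subset_closure hxl.1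
  have e : a = x₁ * x₂ * x₃ * c * b := by
    rw [hprod]; simp [mul_assoc, mul_self hD.1 hb.1, mul_self_mul hD.1 hc.1.1]
  have hmem : x₁ * x₂ * x₃ * c * b ∈ Subgroup.closure (dperp D a) :=
    mul_mem (mul_mem (mul_mem (mul_mem (hx x₁ (by simp)) (hx x₂ (by simp))) (hx x₃ (by simp)))
      (Subgroup.subset_closure hc.1)) (Subgroup.subset_closure hb)
  rwa [← e] at hmem

/-- The centraliser of a member is generated by its partners. -/
theorem centralizer_eq_closure (hZ : Subgroup.center G = ⊥) {a : G} (ha : a ∈ D) :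
    Subgroup.centralizer ({a} : Set G) = Subgroup.closure (dperp D a) := by
  refine le_antisymm (fun g hg => ?_) ?_
  · have hmem := mem_memGroup_of_commute hD hF ha
      (show Commute g a from Subgroup.mem_centralizer_singleton_iff.1 hg)
    suffices memGroup D a ≤ _ from this hmem
    rw [memGroup, Subgroup.closure_le]
    rintro e ⟨he, hae⟩
    rcases eq_or_ne e a with rfl | hne
    · exact self_mem_closure_dperp hD hF hZ ha
    · exact Subgroup.subset_closure ⟨he, hne, hae⟩
  · rw [Subgroup.closure_le]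
    exact fun e he => Subgroup.mem_centralizer_singleton_iff.2 he.2.2.symm.eq

end Orbits

/-- The numbers of members in the layers and the order of the centraliser of a member. -/
theorem counts_diff {X : Type*} [Group X] [Finite X] {D₀ : Set X}
    (hD : IsThreeTranspositionGroup (D₀ \ {1})) (h : IsOfTypeM22 X D₀)
    (hZ : Subgroup.center X = ⊥) : ∀ a ∈ D₀ \ {1}, (dperp (D₀ \ {1}) a).ncard = 693 ∧
      (∀ b ∈ dperp (D₀ \ {1}) a, (dperp (dperp (D₀ \ {1}) a) b).ncard = 180) ∧
      Nat.card ↥(Subgroup.centralizer ({a} : Set X)) = 18393661440 := by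
  have hfull := m22Full_diff hD h hZ
  obtain ⟨⟨hcls, -, hN⟩, -, -⟩ := layerData_of_M22 hD h
  obtain ⟨-, d, hd0, c, -, hdc, ⟨F, hFld, hFt, hF, ⟨e⟩⟩, -, -, -⟩ := h
  have hd : d ∈ D₀ \ {1} := ⟨hd0, fun hh => hdc (by rw [hh]; exact Commute.one_left c)⟩
  set H := Subgroup.closure {y : X | y ∈ D₀ ∧ y ≠ d ∧ Commute d y}
  have hH : H = Subgroup.closure (dperp (D₀ \ {1}) d) := closure_congr_one (dperp_diff_iff d)
  have hcard : 2 ^ 15 ∣ Nat.card (H ⧸ Subgroup.center H) := by
    rw [Nat.card_congr e.toEquiv]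
    exact two_pow_dvd_psu hF
  have : IsSimpleGroup (H ⧸ Subgroup.center H) :=
    (MulEquiv.isSimpleGroup_congr e).2 (Cfsg.Agent.S0283.result
      (by rw [hF]; norm_num : Fintype.card F = 2 ^ 2) 6 (by norm_num) (by norm_num))
  have hgrp := lowImage_group hD hH
  have hG := good_of_simple (not_isMulCommutative_of_two_pow_dvd hgrp hcard) hgrp
  obtain ⟨q, hq, -⟩ := hG.2.1
  obtain ⟨θ, tp, hB, hM⟩ := psu_model hF e hgrp ⟨q, hq⟩
  obtain ⟨hnum, hnum'⟩ := card_model hF hB hM
  set D := D₀ \ {1} with hDdef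
  have hdH : d ∈ H := hH ▸ self_mem_closure_dperp hD hfull hZ hd
  have hZH : Nat.card (Subgroup.center H) = 2 := by
    have heq : (Subgroup.center H).map H.subtype = Subgroup.zpowers d := by
      refine le_antisymm ?_ ?_
      · rintro - ⟨z, hz, rfl⟩
        rcases eq_one_or_eq_of_centralises hD hZ hfull.data hfull.links hd
          (commute_of_mem_H hH z.2).symm (fun x hx =>
            (congrArg Subtype.val (Subgroup.mem_center_iff.1 hz ⟨x, mem_H hH hx⟩)).symm) with h | h
        · rw [Subgroup.coe_subtype, h]; exact one_mem _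
        · rw [Subgroup.coe_subtype, h]; exact Subgroup.mem_zpowers d
      · rw [Subgroup.zpowers_le]
        exact ⟨⟨d, hdH⟩, Subgroup.mem_center_iff.2 fun y =>
          Subtype.ext (commute_of_mem_H hH y.2).symm.eq, rfl⟩
    rw [← Subgroup.card_map_of_injective H.subtype_injective, heq, Nat.card_zpowers, hD.1.1 d hd]
  have hHc : Nat.card H = 18393661440 := by
    rw [Subgroup.card_eq_card_quotient_mul_card_subgroup (Subgroup.center H), hZH,
      Nat.card_congr e.toEquiv, card_psu_six hF]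
  intro a ha
  obtain ⟨φ, hφ⟩ := exists_layer_iso hD hd hH hcls hG hN ha
  refine ⟨hφ.ncard_eq.trans hnum, fun b hb => (hφ.restrict hb).ncard_eq.trans (hnum' _ (hφ.bij.mapsTo hb)),
    ?_⟩
  obtain ⟨g, hg⟩ := class_isConj hcls hd ha
  have hca : Subgroup.centralizer ({a} : Set X) =
      (Subgroup.centralizer ({d} : Set X)).map (MulAut.conj g).toMonoidHom := by
    apply le_antisymm
    · intro y hy
      refine ⟨g⁻¹ * y * g, Subgroup.mem_centralizer_singleton_iff.2 ?_, by simp [mul_assoc]⟩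
      have := Subgroup.mem_centralizer_singleton_iff.1 hy
      rw [← hg] at this
      calc g⁻¹ * y * g * d = g⁻¹ * (y * (g * d * g⁻¹)) * g := by group
        _ = d * (g⁻¹ * y * g) := by rw [this]; group
    · rintro - ⟨y, hy, rfl⟩
      refine Subgroup.mem_centralizer_singleton_iff.2 ?_
      show g * y * g⁻¹ * a = a * (g * y * g⁻¹)
      rw [← hg]
      exact ((commute_conj g y d).2 (Subgroup.mem_centralizer_singleton_iff.1 hy)).eq
  rw [hca, Subgroup.card_map_of_injective (MulAut.conj g).injective,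
    centralizer_eq_closure hD hfull hZ hd, ← hH, hHc]

theorem counts [Finite G] (hD : IsThreeTranspositionGroup D) (h : IsOfTypeM22 G D) :
    ∀ a ∈ D, (dperp D a).ncard = 693 ∧ (∀ b ∈ dperp D a, (dperp (dperp D a) b).ncard = 180) ∧
      Nat.card ↥(Subgroup.centralizer ({a} : Set G)) = 18393661440 := by
  have e : D \ {1} = D := Set.sdiff_singleton_eq_self fun h1 => ne_one hD.1 h1 rfl
  have := counts_diff (D₀ := D) (by rwa [e]) h h.1
  rwa [e] at this

/-- The centraliser of a product of three commuting members. -/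
theorem card_centralizer_triple [Finite G] (hD : IsThreeTranspositionGroup D)
    (hcls : IsThreeTranspositionClass D) (h22 : IsOfTypeM22 G D) {a b c : G} (ha : a ∈ D)
    (hb : b ∈ dperp D a) (hc : c ∈ dperp (dperp D a) b) :
    Nat.card ↥(Subgroup.centralizer ({a * b * c} : Set G)) = 2 ^ 16 * 3 ^ 3 := by
  classical
  have hT := hD.1
  have hF := m22Full hD h22
  have hZ := h22.1
  obtain ⟨hn1, hn2, hn3⟩ := counts hD h22 a ha
  set j := a * b * c with hj
  have nab : a ≠ b := hb.2.1.symm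
  have nac : a ≠ c := hc.1.2.1.symm
  have nbc : b ≠ c := hc.2.1.symm
  have h₀ : Factor D 3 j [a, b, c] := by
    refine ⟨by simp [nab, nac, nbc], rfl, fun x hx => ?_, fun x hx y hy => ?_, by simp [hj, mul_assoc]⟩
    · simp at hx; rcases hx with rfl | rfl | rfl
      exacts [ha, hb.1, hc.1.1]
    · simp at hx hy
      rcases hx with rfl | rfl | rfl <;> rcases hy with rfl | rfl | rfl
      exacts [Commute.refl _, hb.2.2, hc.1.2.2, hb.2.2.symm, Commute.refl _, hc.2.2, hc.1.2.2.symm,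
        hc.2.2.symm, Commute.refl _]
  obtain ⟨l₂, h₂, hne₂, hall⟩ := two_factorisations hD hZ hF.data h₀
  obtain ⟨hn', hlen', hmem', hcomm', hp'⟩ := id h₂
  obtain ⟨u, v, w, rfl⟩ := List.length_eq_three.1 hlen'
  -- conjugates of a factorisation
  have hmap : ∀ g ∈ Subgroup.centralizer ({j} : Set G), Factor D 3 j (List.map (fun x => g * x * g⁻¹) [a, b, c]) := by
    intro g hg
    obtain ⟨k1, k2, k3, k4, k5⟩ := h₀
    refine ⟨k1.map (fun x y e => mul_left_cancel (mul_right_cancel e)), by simp, fun x hx => ?_,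
      fun x hx y hy => ?_, ?_⟩
    · obtain ⟨z, hz, rfl⟩ := List.mem_map.1 hx
      exact hD.2.1 g z (k3 z hz)
    · obtain ⟨z, hz, rfl⟩ := List.mem_map.1 hx
      obtain ⟨t, ht, rfl⟩ := List.mem_map.1 hy
      exact (commute_conj g z t).2 (k4 z hz t ht)
    · have hgj := Subgroup.mem_centralizer_singleton_iff.1 hg
      calc (List.map (fun x => g * x * g⁻¹) [a, b, c]).prod = g * j * g⁻¹ := by
            simp only [List.map_cons, List.map_nil, List.prod_cons, List.prod_nil, hj]; group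
        _ = j := by rw [hgj, mul_inv_cancel_right]
  have htrans : ∀ a' b' c', Factor D 3 j [a', b', c'] → ∃ g ∈ Subgroup.centralizer ({j} : Set G),
      g * a * g⁻¹ = a' ∧ g * b * g⁻¹ = b' := by
    intro a' b' c' hf
    obtain ⟨k1, -, k3, k4, k5⟩ := hf
    simp only [List.nodup_cons, List.mem_cons, List.not_mem_nil, or_false, not_or] at k1
    obtain ⟨g, g1, g2, g3⟩ := exists_conj_triple hD hF hcls ha hb hc (k3 a' (by simp))
      (b' := b') (c' := c') ⟨k3 b' (by simp), Ne.symm k1.1.1, k4 a' (by simp) b' (by simp)⟩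
      ⟨⟨k3 c' (by simp), Ne.symm k1.1.2, k4 a' (by simp) c' (by simp)⟩, Ne.symm k1.2.1,
        k4 b' (by simp) c' (by simp)⟩
    refine ⟨g, Subgroup.mem_centralizer_singleton_iff.2 ?_, g1, g2⟩
    simp only [List.prod_cons, List.prod_nil, mul_one] at k5
    calc g * j = (g * a * g⁻¹) * ((g * b * g⁻¹) * (g * c * g⁻¹)) * g := by rw [hj]; group
      _ = j * g := by rw [g1, g2, g3, k5]
  have hperm : ∀ {l l' : List G}, List.Perm l l' → Factor D 3 j l → Factor D 3 j l' := by
    intro l l' hp hf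
    obtain ⟨k1, k2, k3, k4, k5⟩ := hf
    refine ⟨hp.nodup_iff.1 k1, hp.length_eq.symm.trans k2, fun x hx => k3 x (hp.mem_iff.2 hx),
      fun x hx y hy => k4 x (hp.mem_iff.2 hx) y (hp.mem_iff.2 hy), ?_⟩
    rw [← hp.prod_eq' (List.pairwise_of_forall_mem_list k4), k5]
  -- the orbit of `a`
  set M := Subgroup.centralizer ({j} : Set G)
  have hO : ({a, b, c, u, v, w} : Set G).ncard = 6 := by
    have hnd : [a, b, c, u, v, w].Nodup := by
      show ([a, b, c] ++ [u, v, w]).Nodup
      refine List.nodup_append.2 ⟨h₀.1, hn', fun x hx y hy e => ?_⟩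
      subst e
      exact hne₂ fun z => Factor.of_shared hT hF.data.noTwins h₀ h₂ hx hy z
    rw [show ({a, b, c, u, v, w} : Set G) = ↑([a, b, c, u, v, w].toFinset) by simp,
      Set.ncard_coe_finset, List.toFinset_card_of_nodup hnd]
    rfl
  rw [card_eq_orbit_mul M a {a, b, c, u, v, w} (fun g hg => ?_) (fun y hy => ?_), hO]
  swap
  · rcases hall _ (hmap g hg) with h | h
    all_goals
      have := (h (g * a * g⁻¹)).1 (by simp)
      simp at this ⊢
      tauto
  swap
  · simp only [Set.mem_insert_iff, Set.mem_singleton_iff] at hy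
    obtain ⟨b', c', hf⟩ : ∃ b' c', Factor D 3 j [y, b', c'] := by
      rcases hy with rfl | rfl | rfl | rfl | rfl | rfl
      · exact ⟨_, _, h₀⟩
      · exact ⟨_, _, hperm (List.Perm.swap _ _ _) h₀⟩
      · exact ⟨_, _, hperm (List.perm_append_comm (l₁ := [a, b]) (l₂ := [y])) h₀⟩
      · exact ⟨_, _, h₂⟩
      · exact ⟨_, _, hperm (List.Perm.swap _ _ _) h₂⟩
      · exact ⟨_, _, hperm (List.perm_append_comm (l₁ := [u, v]) (l₂ := [y])) h₂⟩
    obtain ⟨g, hg, hga, -⟩ := htrans y b' c' hf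
    exact ⟨g, hg, hga⟩
  -- the orbit of `b`
  rw [card_eq_orbit_mul (M ⊓ Subgroup.centralizer ({a} : Set G)) b {b, c} (fun g hg => ?_)
    (fun y hy => ?_), Set.ncard_pair nbc]
  swap
  · obtain ⟨hg1, hg2⟩ := Subgroup.mem_inf.1 hg
    have hga : g * a * g⁻¹ = a := by
      rw [Subgroup.mem_centralizer_singleton_iff.1 hg2, mul_inv_cancel_right]
    have := Factor.of_shared hT hF.data.noTwins (hmap g hg1) h₀ (s := a)
      (by simp [hga]) (by simp) (g * b * g⁻¹)
    have h := this.1 (by simp)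
    simp only [List.mem_cons, List.not_mem_nil, or_false] at h
    refine h.resolve_left fun e => ?_
    exact nab (mul_left_cancel (mul_right_cancel (hga.trans e.symm)))
  swap
  · rcases hy with rfl | rfl
    · exact ⟨1, one_mem _, by simp⟩
    · obtain ⟨g, hg, hga, hgb⟩ := htrans a y b (hperm ((List.Perm.swap _ _ _).cons a) h₀)
      exact ⟨g, Subgroup.mem_inf.2 ⟨hg, Subgroup.mem_centralizer_singleton_iff.2
        (mul_inv_eq_iff_eq_mul.1 hga)⟩, hgb⟩
  -- the pointwise stabiliser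
  set A := Subgroup.centralizer ({a} : Set G)
  set A₂ := A ⊓ Subgroup.centralizer ({b} : Set G)
  have hM3 : M ⊓ A ⊓ Subgroup.centralizer ({b} : Set G) = A₂ ⊓ Subgroup.centralizer ({c} : Set G) := by
    ext g
    simp only [A₂, A, M, Subgroup.mem_inf, Subgroup.mem_centralizer_singleton_iff]
    have e : ∀ {y : G}, g * y = y * g ↔ Commute g y := Iff.rfl
    simp only [e, hj]
    constructor
    · rintro ⟨⟨h1, h2⟩, h3⟩
      refine ⟨⟨h2, h3⟩, ?_⟩
      have := (h3.inv_right.mul_right (h2.inv_right)).mul_right h1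
      simpa [mul_assoc] using this
    · rintro ⟨⟨h2, h3⟩, h4⟩
      exact ⟨⟨(h2.mul_right h3).mul_right h4, h2⟩, h3⟩
  rw [hM3]
  have e1 := card_eq_orbit_mul A b (dperp D a) (fun g hg => by
      have hga : g * a * g⁻¹ = a := by
        rw [Subgroup.mem_centralizer_singleton_iff.1 hg, mul_inv_cancel_right]
      have h := dperp_conj hD.2.1 g hb
      rwa [hga] at h)
    (fun y hy => by
      obtain ⟨k, hk, hkb⟩ := exists_mv hD hF ha hb hy
      exact ⟨k, (SetLike.ext_iff.1 (centralizer_eq_closure hD hF hZ ha) k).2 hk, hkb⟩)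
  have e2 := card_eq_orbit_mul A₂ c (dperp (dperp D a) b) (fun g hg => by
      obtain ⟨hg1, hg2⟩ := Subgroup.mem_inf.1 hg
      have hga : g * a * g⁻¹ = a := by
        rw [Subgroup.mem_centralizer_singleton_iff.1 hg1, mul_inv_cancel_right]
      have hgb : g * b * g⁻¹ = b := by
        rw [Subgroup.mem_centralizer_singleton_iff.1 hg2, mul_inv_cancel_right]
      have h := dperp_conj hD.2.1 g hc.1
      rw [hga] at h
      refine ⟨h, fun e => hc.2.1 ?_, ?_⟩
      · rw [← hgb] at e
        exact mul_left_cancel (mul_right_cancel e)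
      · rw [← hgb]; exact (commute_conj g b c).2 hc.2.2)
    (fun y hy => by
      obtain ⟨g, g1, g2, g3⟩ := exists_move_pair hD hF ha hb hc hy
      exact ⟨g, Subgroup.mem_inf.2 ⟨Subgroup.mem_centralizer_singleton_iff.2 g1.eq,
        Subgroup.mem_centralizer_singleton_iff.2 g2.eq⟩, g3⟩)
  rw [hn2 b hb] at e2
  rw [hn1, hn3] at e1
  rw [show (2 : ℕ) ^ 16 * 3 ^ 3 = 1769472 by norm_num]
  change 18393661440 = 693 * Nat.card ↥A₂ at e1
  omega

end Cfsg.Agent.ThreeTrans
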