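import Cfsg.Agent.ThreeTrans.CoverOrbit

/-!
# The Thompson subgroup of a double cover of U₆(2)

The elementary abelian 2-subgroups of order `2 ^ 10` are the preimages of the radicals, and a
2-subgroup contains at most one of them.
-/

set_option autoImplicit false

open Cfsg Cfsg.Agent.Classical Cfsg.Agent.Classical.Herm Module

namespace Cfsg.Agent.ThreeTrans

/-- PSU(6, 2) as the quotient of the isometry group by its centre. -/
theorem psu_proj_center {F : Type*} [Field F] [Fintype F] (hF : Fintype.card F = 4) {X : Type*} [Group X]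
    (e : X ≃* Cfsg.PSU 6 F 2) :
    ∃ (θ : F →+* F) (_ : UModel.Space (hermB 6 θ)) (π : suG (hermB 6 θ) →* X),
      Function.Surjective π ∧ (∀ g, π g = 1 → g ∈ Subgroup.center (suG (hermB 6 θ)) ∧ g ^ 3 = 1) ∧
      ∀ g ∈ Subgroup.center (suG (hermB 6 θ)), π g = 1 := by
  obtain ⟨θ, hθq, hθ, hfix, -⟩ := exists_powHom (F := F) (q := 2) (by rw [hF]; norm_num)
  have hB : UModel.Space (hermB 6 θ) := by
    refine ⟨hermB_isHerm hθ 6, inferInstance, inferInstance, by rw [Module.finrank_fin_fun], ?_⟩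
    intro a ha
    rw [hθq] at ha
    have : a * (a - 1) = 0 := by linear_combination ha
    rcases mul_eq_zero.1 this with h | h
    · exact Or.inl h
    · exact Or.inr (sub_eq_zero.1 h)
  have hmap : (Subgroup.center (Cfsg.SU 6 F 2)).map (suEquiv 6 hθq).toMonoidHom
      = Subgroup.center (suG (hermB 6 θ)) := by
    ext x
    simp only [Subgroup.mem_map, Subgroup.mem_center_iff]
    constructor
    · rintro ⟨y, hy, rfl⟩ g
      obtain ⟨g', rfl⟩ := (suEquiv 6 hθq).surjective g
      simp only [MulEquiv.coe_toMonoidHom, ← map_mul, hy g']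
    · intro hx
      refine ⟨(suEquiv 6 hθq).symm x, fun g => (suEquiv 6 hθq).injective ?_, by simp⟩
      simp [hx]
  set ε := (QuotientGroup.congr _ _ (suEquiv 6 hθq) hmap).symm.trans e.symm
  refine ⟨θ, hB, ε.toMonoidHom.comp (QuotientGroup.mk' _), ε.surjective.comp (QuotientGroup.mk'_surjective _),
    fun g hg => ?_, fun g hg => ?_⟩
  · have hgc : g ∈ Subgroup.center (suG (hermB 6 θ)) := by
      rw [← QuotientGroup.eq_one_iff]
      exact ε.injective (by rw [map_one]; exact hg)
    refine ⟨hgc, ?_⟩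
    rw [← hmap] at hgc
    obtain ⟨y, hy, rfl⟩ := hgc
    have h3 : Nat.card (Subgroup.center (Cfsg.SU 6 F 2)) = 3 := by
      rw [card_center_SU hθ hθq hfix (by norm_num)]; norm_num
    have h1 : (⟨y, hy⟩ : Subgroup.center (Cfsg.SU 6 F 2)) ^ 3 = 1 := by
      rw [← h3]; exact pow_card_eq_one'
    rw [← map_pow, show y ^ 3 = 1 from congrArg Subtype.val h1, map_one]
  · show ε (g : suG (hermB 6 θ) ⧸ Subgroup.center (suG (hermB 6 θ))) = 1
    rw [(QuotientGroup.eq_one_iff g).2 hg, map_one]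

namespace UModel

variable {F V : Type*} [Field F] [AddCommGroup V] [Module F V] {θ : F →+* F}
  {B : V →ₛₗ[θ] V →ₗ[F] F} {C X : Type*} [Group C] [Group X]
  {hB : Space B} {ξ : C →* X} {π : suG B →* X} {z : C}

variable [Finite C] (hS : Setup hB ξ π z)

include hS

theorem card_le_two_mul (K : Subgroup C) : Nat.card K ≤ 2 * Nat.card (K.map ξ) := by
  classical
  have : Finite X := Finite.of_surjective ξ hS.cov.surj
  choose sec hsec using fun y : X => hS.cov.surj y
  refine (Nat.card_le_card_of_injective (fun c : K =>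
    ((⟨ξ c, Subgroup.mem_map_of_mem ξ c.2⟩ : K.map ξ), decide ((c : C) = sec (ξ c)))) ?_).trans ?_
  · intro c c' h
    simp only [Prod.mk.injEq, Subtype.mk.injEq, decide_eq_decide] at h
    refine Subtype.ext ?_
    by_cases h1 : (c : C) = sec (ξ c)
    · rw [h1, h.2.1 h1, h.1]
    · have hz : ∀ y : C, y ≠ sec (ξ y) → y = sec (ξ y) * z := fun y hy => by
        obtain ⟨k, hk, e⟩ := Lift.exists_ker hS.cov (show ξ y = ξ (sec (ξ y)) by rw [hsec])
        rcases hS.kern k hk with rfl | rfl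
        · rw [mul_one] at e; exact absurd e hy
        · exact e
      rw [hz _ h1, hz _ fun e => h1 (h.2.2 e), h.1]
  · rw [Nat.card_prod, mul_comm, show Nat.card Bool = 2 by simp]

theorem preRad_card (f : Frame B) : Nat.card (preRad ξ π f) = 1024 := by
  classical
  have := hB.fin; have := hB.finF; have := finite_suG hB
  have hinj : Nat.card (f.rad.map π) = 512 := by
    refine (Nat.card_congr (Equiv.ofBijective (fun g : f.rad => (⟨π g, Subgroup.mem_map_of_mem π g.2⟩ : f.rad.map π))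
      ⟨fun g g' h => Subtype.ext (hS.inj_sq (f.rad_sq hB g.2) (f.rad_sq hB g'.2) (f.rad_comm hB g.2 g'.2)
        (congrArg Subtype.val h)), ?_⟩)).symm.trans (f.card_rad hB)
    rintro ⟨_, g, hg, rfl⟩
    exact ⟨⟨g, hg⟩, rfl⟩
  refine le_antisymm ?_ ?_
  · refine (card_le_two_mul hS _).trans ?_
    rw [preRad, Subgroup.map_comap_eq_self_of_surjective hS.cov.surj, hinj]
  · choose sec hsec using fun y : X => hS.cov.surj y
    let Φ : f.rad.map π × Bool → preRad ξ π f := fun p =>
      ⟨if p.2 then sec p.1 * z else sec p.1, by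
        show ξ _ ∈ f.rad.map π
        split_ifs <;> simp [hsec, hS.z_map, p.1.2]⟩
    have hΦ : Function.Injective Φ := by
      rintro ⟨y, q⟩ ⟨y', q'⟩ h
      have h' := congrArg Subtype.val h
      have e : y = y' := Subtype.ext (by
        have := congrArg ξ h'
        simp only [Φ] at this
        revert this
        cases q <;> cases q' <;> simp [hsec, hS.z_map])
      subst e
      cases q <;> cases q' <;> simp [Φ, hS.z_ne] at h' ⊢
    have := Nat.card_le_card_of_injective Φ hΦ
    rw [Nat.card_prod, hinj, show Nat.card Bool = 2 by simp] at this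
    simpa using this

theorem preRad_move (f : Frame B) {c : C} {s : suG B} (hc : ξ c = π s) :
    (preRad ξ π f).map (MulAut.conj c).toMonoidHom = preRad ξ π (f.move s) := by
  refine Subgroup.eq_of_le_of_card_ge ?_ (le_of_eq ?_)
  · rintro _ ⟨y, ⟨g, hg, hgy⟩, rfl⟩
    refine ⟨s * g * s⁻¹, fun i => ?_, by
      show π (s * g * s⁻¹) = ξ (c * y * c⁻¹)
      simp [hc, hgy]⟩
    show s.1 (g.1 (s.1⁻¹ (s.1 (f.u i)))) = s.1 (f.u i)
    rw [Herm.inv_apply_self', hg i]
  · exact (preRad_card hS _).trans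
      ((preRad_card hS f).symm.trans (Subgroup.card_map_of_injective (MulAut.conj c).injective).symm)

/-- The transvections of a large elementary abelian subgroup. -/
theorem elem_structure (K : Subgroup C) (hK : ∀ c ∈ K, c * c = 1) :
    Nat.card K ≤ 1024 ∧ (Nat.card K = 1024 → (K.map ξ).comap ξ = K ∧
      ∃ T : Set (suG B), (∀ t ∈ T, ∃ w : V, B w w = 0 ∧ t = trv hB w) ∧ (∀ t ∈ T, π t ∈ K.map ξ) ∧
        (∀ t ∈ T, ∀ t' ∈ T, Commute t t') ∧ 512 ≤ Nat.card (Subgroup.closure T) ∧
        (Subgroup.closure T).map π = K.map ξ) := by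
  classical
  have := hB.fin; have := hB.finF; have := finite_suG hB
  have : Finite X := Finite.of_surjective ξ hS.cov.surj
  have hcomm : ∀ y ∈ K.map ξ, ∀ y' ∈ K.map ξ, Commute y y' := by
    rintro _ ⟨c, hc, rfl⟩ _ ⟨c', hc', rfl⟩
    refine Commute.map ?_ ξ
    have e3 := inv_eq_of_mul_eq_one_left (hK _ (mul_mem hc hc'))
    rw [mul_inv_rev, inv_eq_of_mul_eq_one_left (hK c hc), inv_eq_of_mul_eq_one_left (hK c' hc')] at e3
    exact e3.symm
  have hpc : ∀ g g' : suG B, g * g = 1 → g' * g' = 1 → π g ∈ K.map ξ → π g' ∈ K.map ξ → Commute g g' := by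
    intro g g' hg hg' hm hm'
    set k := g * g' * (g * g') with hk
    have hk1 : π k = 1 := by
      rw [hk, map_mul, map_mul, ((hcomm _ hm' _ hm)).mul_mul_mul_comm, ← map_mul, ← map_mul, hg, hg',
        map_one, one_mul]
    obtain ⟨hkc, hk3⟩ := hS.ker k hk1
    have hki : k⁻¹ = g' * g * (g' * g) := by
      rw [hk, mul_inv_rev, mul_inv_rev, inv_eq_of_mul_eq_one_left hg, inv_eq_of_mul_eq_one_left hg']
    have hkk : k⁻¹ = k := by
      have h1 : g * k * g = g' * g * (g' * g) := by
        rw [hk]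
        simp only [mul_assoc]
        rw [← mul_assoc g g, hg, one_mul]
      rw [hki, ← h1, Subgroup.mem_center_iff.1 hkc g, mul_assoc, hg, mul_one]
    have hk0 : k = 1 := by
      have h2 : k * k = 1 := by
        conv_lhs => arg 1; rw [← hkk]
        exact inv_mul_cancel k
      rwa [pow_succ, sq, h2, one_mul] at hk3
    have e3 := inv_eq_of_mul_eq_one_left hk0
    rw [mul_inv_rev, inv_eq_of_mul_eq_one_left hg, inv_eq_of_mul_eq_one_left hg'] at e3
    exact e3.symm
  let E : Subgroup (suG B) :=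
    { carrier := {g | g * g = 1 ∧ π g ∈ K.map ξ}
      one_mem' := ⟨one_mul 1, by rw [map_one]; exact one_mem _⟩
      mul_mem' := fun {g g'} hg hg' => ⟨by
        rw [(hpc g g' hg.1 hg'.1 hg.2 hg'.2).symm.mul_mul_mul_comm, hg.1, hg'.1, one_mul],
        by rw [map_mul]; exact mul_mem hg.2 hg'.2⟩
      inv_mem' := fun {g} hg => ⟨by rw [← mul_inv_rev, hg.1, inv_one],
        by rw [map_inv]; exact inv_mem hg.2⟩ }
  have hEmap : E.map π = K.map ξ := by
    refine le_antisymm (by rintro _ ⟨g, hg, rfl⟩; exact hg.2) fun y hy => ?_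
    obtain ⟨g, rfl⟩ := hS.surj y
    have hyy : π g * π g = 1 := by
      obtain ⟨c, hc, e⟩ := hy
      rw [← e, ← map_mul, hK c hc, map_one]
    have hgy : π (g ^ 3) = π g := by rw [map_pow, pow_succ, sq, hyy, one_mul]
    refine ⟨g ^ 3, ⟨?_, by rw [hgy]; exact hy⟩, hgy⟩
    rw [← pow_add, show 3 + 3 = 2 * 3 from rfl, pow_mul, sq]
    exact (hS.ker _ (by rw [map_mul, hyy])).2
  obtain ⟨hE1, hE2⟩ := elem_suG hB E fun g hg => hg.1
  have hle : Nat.card (K.map ξ) ≤ Nat.card E := hEmap ▸ Nat.card_le_card_of_surjective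
    (fun g : E => (⟨π g, Subgroup.mem_map_of_mem π g.2⟩ : E.map π))
    (by rintro ⟨_, g, hg, rfl⟩; exact ⟨⟨g, hg⟩, rfl⟩)
  have h2 := card_le_two_mul hS K
  refine ⟨by omega, fun h1024 => ?_⟩
  have hcm : (K.map ξ).comap ξ = K := by
    refine (Subgroup.eq_of_le_of_card_ge (Subgroup.le_comap_map ξ K) ?_).symm
    refine (card_le_two_mul hS _).trans ?_
    rw [Subgroup.map_comap_eq_self_of_surjective hS.cov.surj]
    omega
  obtain ⟨U, hU, hgen⟩ := hE2 (by omega)
  set T : Set (suG B) := {t | ∃ w ∈ U, t = trv hB w}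
  have hTc : ∀ t ∈ T, ∀ t' ∈ T, Commute t t' := by
    rintro _ ⟨w, hw, rfl⟩ _ ⟨w', hw', rfl⟩
    exact trv_comm hB (hU w hw w' hw')
  have hEc : E ≤ Subgroup.closure T := fun g hg => by
    obtain ⟨l, hl, rfl⟩ := hgen g hg
    refine list_prod_mem fun t ht => ?_
    obtain ⟨p, hp, rfl⟩ := List.mem_map.1 ht
    exact Subgroup.subset_closure ⟨p.1, hl p hp, (trv_pt hB p).symm⟩
  have hTsq : ∀ g ∈ Subgroup.closure T, g * g = 1 := by
    have hc : IsMulCommutative (Subgroup.closure T) :=
      Subgroup.isMulCommutative_closure fun t ht t' ht' => (hTc t ht t' ht').eq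
    intro g hg
    induction hg using Subgroup.closure_induction with
    | mem t ht => obtain ⟨w, -, rfl⟩ := ht; exact trv_sq hB w
    | one => exact one_mul 1
    | mul a b ha hb iha ihb =>
      have hab : Commute a b := congrArg Subtype.val (hc.is_comm.comm ⟨a, ha⟩ ⟨b, hb⟩)
      rw [hab.symm.mul_mul_mul_comm, iha, ihb, one_mul]
    | inv a _ iha => rw [← mul_inv_rev, iha, inv_one]
  have hE512 : Nat.card E = 512 := by omega
  have hEq : E = Subgroup.closure T :=
    Subgroup.eq_of_le_of_card_ge hEc (by rw [hE512]; exact (elem_suG hB _ hTsq).1)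
  refine ⟨hcm, T, ?_, fun t ht => ?_, hTc, by rw [← hEq, hE512], by rw [← hEq, hEmap]⟩
  · rintro _ ⟨w, hw, rfl⟩; exact ⟨w, hU w hw w hw, rfl⟩
  · exact (hEq.symm ▸ Subgroup.subset_closure ht : t ∈ E).2

/-- A 2-group contains at most one elementary abelian subgroup of order `2 ^ 10`. -/
theorem elem_unique (S : Subgroup C) (hS2 : IsPGroup 2 S) {K K' : Subgroup C} (hKS : K ≤ S) (hKS' : K' ≤ S)
    (hK : ∀ c ∈ K, c * c = 1) (hK' : ∀ c ∈ K', c * c = 1) (h : Nat.card K = 1024)
    (h' : Nat.card K' = 1024) : K = K' := by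
  classical
  have := hB.fin; have := hB.finF; have := finite_suG hB
  obtain ⟨e, T, hT, hTK, hTc, hT5, hTm⟩ := (elem_structure hS K hK).2 h
  obtain ⟨e', T', hT', hTK', hTc', hT5', hTm'⟩ := (elem_structure hS K' hK').2 h'
  have hall : ∀ t ∈ T ∪ T', (∃ w : V, B w w = 0 ∧ t = trv hB w) ∧ π t ∈ S.map ξ := fun t ht => by
    rcases ht with ht | ht
    · exact ⟨hT t ht, Subgroup.map_mono hKS (hTK t ht)⟩
    · exact ⟨hT' t ht, Subgroup.map_mono hKS' (hTK' t ht)⟩
  have hcom : ∀ t ∈ T ∪ T', ∀ t' ∈ T ∪ T', Commute t t' := by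
    intro t ht t' ht'
    obtain ⟨⟨w, hw, rfl⟩, hm⟩ := hall t ht
    obtain ⟨⟨w', hw', rfl⟩, hm'⟩ := hall t' ht'
    by_cases hww : B w w' = 0
    · exact trv_comm hB hww
    exfalso
    have hw0 : w ≠ 0 := fun e0 => hww (by rw [e0, map_zero, LinearMap.zero_apply])
    have hw0' : w' ≠ 0 := fun e0 => hww (by rw [e0, map_zero])
    rw [show trv hB w = tr hB ⟨w, hw0, hw⟩ from trv_pt hB ⟨w, hw0, hw⟩] at hm
    rw [show trv hB w' = tr hB ⟨w', hw0', hw'⟩ from trv_pt hB ⟨w', hw0', hw'⟩] at hm'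
    set p : Pt B := ⟨w, hw0, hw⟩
    set q : Pt B := ⟨w', hw0', hw'⟩
    set y := π (tr hB p * tr hB q) with hy
    have hy3 : y ^ 3 = 1 := by
      rw [hy, ← map_pow]
      have hb := tr_braid hB (v := p) (w := q) hww
      have : (tr hB p * tr hB q) ^ 3 = 1 := by
        calc (tr hB p * tr hB q) ^ 3
            = (tr hB p * tr hB q * tr hB p) * (tr hB q * tr hB p * tr hB q) := by
              simp [pow_succ, mul_assoc]
          _ = (tr hB q * tr hB p * tr hB q) * (tr hB q * tr hB p * tr hB q) := by rw [hb]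
          _ = 1 := by
              simp only [mul_assoc, tr_sq, mul_one]
              rw [← mul_assoc (tr hB q) (tr hB q), tr_sq, one_mul, ← mul_assoc (tr hB p) (tr hB p), tr_sq,
                one_mul, tr_sq]
      rw [this, map_one]
    obtain ⟨n, hn⟩ := (hS2.map ξ) ⟨y, by rw [hy, map_mul]; exact mul_mem hm hm'⟩
    have hy2 : y ^ 2 ^ n = 1 := congrArg Subtype.val hn
    have hy1 : y = 1 := by
      rw [← orderOf_eq_one_iff]
      exact Nat.eq_one_of_dvd_coprimes (Nat.Coprime.pow_right n (by norm_num : Nat.Coprime 3 2))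
        (orderOf_dvd_of_pow_eq_one hy3) (orderOf_dvd_of_pow_eq_one hy2)
    have heq : tr hB p = tr hB q := hS.tr_inj p q (by
      rw [hy, map_mul] at hy1
      rw [eq_inv_of_mul_eq_one_left hy1, ← map_inv, inv_eq_of_mul_eq_one_left (tr_sq hB q)])
    exact hww ((tr_commute_iff hB p q).1 (heq ▸ Commute.refl _))
  have hU : ∀ g ∈ Subgroup.closure (T ∪ T'), g * g = 1 := by
    have hc : IsMulCommutative (Subgroup.closure (T ∪ T')) :=
      Subgroup.isMulCommutative_closure fun t ht t' ht' => (hcom t ht t' ht').eq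
    intro g hg
    induction hg using Subgroup.closure_induction with
    | mem t ht => obtain ⟨⟨w, -, rfl⟩, -⟩ := hall t ht; exact trv_sq hB w
    | one => exact one_mul 1
    | mul a b ha hb iha ihb =>
      have hab : Commute a b := congrArg Subtype.val (hc.is_comm.comm ⟨a, ha⟩ ⟨b, hb⟩)
      rw [hab.symm.mul_mul_mul_comm, iha, ihb, one_mul]
    | inv a _ iha => rw [← mul_inv_rev, iha, inv_one]
  have h5 := (elem_suG hB _ hU).1
  have e1 : Subgroup.closure T = Subgroup.closure (T ∪ T') :=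
    Subgroup.eq_of_le_of_card_ge (Subgroup.closure_mono Set.subset_union_left) (h5.trans hT5)
  have e2 : Subgroup.closure T' = Subgroup.closure (T ∪ T') :=
    Subgroup.eq_of_le_of_card_ge (Subgroup.closure_mono Set.subset_union_right) (h5.trans hT5')
  rw [← e, ← e', ← hTm, ← hTm', e1, e2]

/-- The Thompson subgroup of a Sylow subgroup is the preimage of a radical, and every large
elementary abelian subgroup is conjugate to it. -/
theorem thompson_cover (S : Sylow 2 C) :
    ∃ f : Frame B, Cfsg.thompsonSubgroupOf 2 (S : Subgroup C) = preRad ξ π f ∧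
      ∀ K : Subgroup C, (∀ c ∈ K, c * c = 1) → Nat.card K = 1024 →
        ∃ h : C, K.map (MulAut.conj h).toMonoidHom = preRad ξ π f := by
  classical
  have : Fact (Nat.Prime 2) := ⟨Nat.prime_two⟩
  obtain ⟨f₀⟩ := exists_planeFrame hB
  have hp : ∀ K : Subgroup C, (∀ c ∈ K, c * c = 1) → IsPGroup 2 K := fun K hK c =>
    ⟨1, Subtype.ext (by show (c : C) ^ 2 ^ 1 = 1; rw [pow_one, sq]; exact hK c c.2)⟩
  have into : ∀ K : Subgroup C, (∀ c ∈ K, c * c = 1) →
      ∃ h : C, K.map (MulAut.conj h).toMonoidHom ≤ S := by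
    intro K hK
    obtain ⟨Q, hQ⟩ := (hp K hK).exists_le_sylow
    obtain ⟨h, hh⟩ := MulAction.exists_smul_eq C Q S
    refine ⟨h, ?_⟩
    rw [← hh, Sylow.coe_subgroup_smul]
    exact Subgroup.map_mono hQ
  obtain ⟨h₀, hh₀⟩ := into _ fun c hc => preRad_sq hS f₀ hc
  obtain ⟨s, hs⟩ := hS.surj (ξ h₀)
  set f := f₀.move s
  rw [preRad_move hS f₀ hs.symm] at hh₀
  set A := preRad ξ π f
  have hAsq : ∀ c ∈ A, c * c = 1 := fun c hc => preRad_sq hS f hc
  have hAc : Nat.card A = 1024 := preRad_card hS f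
  refine ⟨f, ?_, fun K hK hKc => ?_⟩
  swap
  · obtain ⟨h, hh⟩ := into K hK
    refine ⟨h, elem_unique hS S S.isPGroup' hh hh₀ ?_ hAsq ?_ hAc⟩
    · rintro _ ⟨c, hc, rfl⟩
      rw [← map_mul, hK c hc, map_one]
    · exact (Subgroup.card_map_of_injective (MulAut.conj h).injective).trans hKc
  set P : Subgroup C := (S : Subgroup C)
  have cardP : ∀ K : Subgroup P, Nat.card (K.map P.subtype) = Nat.card K := fun K =>
    Subgroup.card_map_of_injective P.subtype_injective
  have sqP : ∀ K : Subgroup P, IsElementaryAbelian 2 K → ∀ c ∈ K.map P.subtype, c * c = 1 := by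
    rintro K hK _ ⟨y, hy, rfl⟩
    have := hK.2 y hy
    rw [← map_mul, ← sq, this, map_one]
  have hA0 : IsElementaryAbelian 2 (A.subgroupOf P) := by
    refine ⟨⟨⟨fun a b => Subtype.ext (Subtype.ext
      (preRad_comm hS f (Subgroup.mem_subgroupOf.1 a.2) (Subgroup.mem_subgroupOf.1 b.2)).eq)⟩⟩, fun a ha => ?_⟩
    refine Subtype.ext ?_
    show ((a : C)) ^ 2 = 1
    rw [sq]
    exact hAsq _ (Subgroup.mem_subgroupOf.1 ha)
  have hA0c : Nat.card (A.subgroupOf P) = 1024 := by
    rw [Nat.card_congr (Subgroup.subgroupOfEquivOfLe hh₀).toEquiv, hAc]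
  have hle : ∀ K : Subgroup P, IsElementaryAbelian 2 K → Nat.card K ≤ 1024 := fun K hK =>
    cardP K ▸ (elem_structure hS _ (sqP K hK)).1
  have hmax : maxElementaryAbelianSubgroups 2 P = {A.subgroupOf P} := by
    ext K
    constructor
    · intro hK
      have hKc : Nat.card K = 1024 := le_antisymm (hle K hK.1) (hA0c ▸ hK.2 _ hA0)
      have := elem_unique hS P S.isPGroup' (K := K.map P.subtype) (K' := A)
        (Subgroup.map_subtype_le K) hh₀ (sqP K hK.1) hAsq (by rw [cardP, hKc]) hAc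
      show K = A.subgroupOf P
      rw [← this, Subgroup.subgroupOf, Subgroup.comap_map_eq_self_of_injective P.subtype_injective]
    · intro hK
      rw [Set.mem_singleton_iff.1 hK]
      exact ⟨hA0, fun K' hK' => hA0c ▸ hle K' hK'⟩
  show (Cfsg.thompsonSubgroup 2 P).map P.subtype = A
  rw [show Cfsg.thompsonSubgroup 2 P = A.subgroupOf P by
    show sSup (maxElementaryAbelianSubgroups 2 P) = _
    rw [hmax, sSup_singleton], Subgroup.map_subgroupOf_eq_of_le hh₀]

end UModel

end Cfsg.Agent.ThreeTrans
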