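import Cfsg.Agent.ThreeTrans.Structure

/-!
# Connected commuting graph, index two, primitivity
-/

set_option autoImplicit false

open Cfsg
open scoped commutatorElement

namespace Cfsg.Agent.ThreeTrans

variable {G : Type*} [Group G] {D : Set G} {a b c d x y : G}

/-- Reachability in the commuting graph is membership of the component. -/
theorem connected_iff_commBlock (hne : D.Nonempty) :
    (commutingGraph D).Connected ↔ ∀ a ∈ D, ∀ b ∈ D, b ∈ commBlock D a := by
  constructor
  · intro h a ha b hb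
    have hr := (SimpleGraph.reachable_iff_reflTransGen (⟨a, ha⟩ : D) ⟨b, hb⟩).1
      (h.preconnected ⟨a, ha⟩ ⟨b, hb⟩)
    have key : ∀ u w : D, Relation.ReflTransGen (commutingGraph D).Adj u w →
        (w : G) ∈ commBlock D (u : G) := by
      intro u w hr
      induction hr with
      | refl => exact mem_commBlock_self _
      | @tail v w' _ hvw ih =>
        refine ih.tail ⟨⟨v.2, w'.2⟩, ?_⟩
        rcases hvw.2 with h1 | h1
        · exact h1
        · exact h1.symm
    exact key _ _ hr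
  · intro h
    have : Nonempty D := hne.to_subtype
    refine ⟨fun u w => ?_⟩
    rw [SimpleGraph.reachable_iff_reflTransGen]
    have key : ∀ b, b ∈ commBlock D (u : G) → ∃ hb : b ∈ D,
        Relation.ReflTransGen (commutingGraph D).Adj u ⟨b, hb⟩ := by
      intro b hb
      induction hb with
      | refl => exact ⟨u.2, Relation.ReflTransGen.refl⟩
      | @tail v w' _ hvw ih =>
        obtain ⟨hv, hr⟩ := ih
        rcases eq_or_ne v w' with rfl | hne'
        · exact ⟨hv, hr⟩
        · exact ⟨hvw.1.2, hr.tail ⟨fun hh => hne' (congrArg Subtype.val hh), Or.inl hvw.2⟩⟩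
    obtain ⟨hb, hr⟩ := key w (h u u.2 w w.2)
    exact hr

section Class

variable [Finite G] (hD : IsThreeTranspositionClass D) (hD2 : ∃ a ∈ D, ∃ b ∈ D, a ≠ b)
  (h2 : pCore 2 G ≤ Subgroup.center G) (h3 : pCore 3 G ≤ Subgroup.center G)
  {L : Subgroup G} [L.Normal] (hL : IsQuasisimple L)

include hD hD2 h2 h3 hL

/-- A connected commuting graph forces index at most two. -/
theorem index_le_two (hconn : (commutingGraph D).Connected) : L.index ≤ 2 := by
  classical
  have hT := hD.1
  obtain ⟨a, ha, -⟩ := id hD2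
  let π := QuotientGroup.mk' L
  have hall : ∀ b ∈ D, π b = π a := by
    intro b hb
    have hmem := (connected_iff_commBlock ⟨a, ha⟩).1 hconn a ha b hb
    clear hb
    induction hmem with
    | refl => rfl
    | tail _ h ih =>
      rw [← ih]
      refine (QuotientGroup.eq.2 ?_).symm
      rw [inv_eq hT h.1.1]
      exact mul_mem_of_commute hD hD2 h2 h3 hL h.1.1 h.1.2 h.2
  have htop : Subgroup.zpowers (π a) = ⊤ := by
    rw [eq_top_iff, ← Subgroup.map_top_of_surjective π (QuotientGroup.mk'_surjective L), ← hD.2.2,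
      MonoidHom.map_closure, Subgroup.closure_le]
    rintro - ⟨b, hb, rfl⟩
    rw [hall b hb]
    exact Subgroup.mem_zpowers _
  rw [Subgroup.index_eq_card, ← Subgroup.card_top, ← htop, Nat.card_zpowers]
  refine orderOf_le_of_pow_eq_one two_pos ?_
  rw [sq, ← map_mul, mul_self hT ha, map_one]

variable (hidx : L.index ≤ 2)

include hidx

omit hD hD2 h2 h3 in
theorem commutator_eq : commutator G = L := by
  refine le_antisymm ?_ ?_
  · rw [← Subgroup.Normal.quotient_commutative_iff_commutator_le]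
    have hexp : ∀ q : G ⧸ L, q ^ 2 = 1 := fun q => by
      have h1 : q ^ Nat.card (G ⧸ L) = 1 := pow_card_eq_one'
      have hpos : 0 < Nat.card (G ⧸ L) := Nat.card_pos
      rw [← Subgroup.index_eq_card] at h1 hpos
      interval_cases hn : L.index
      · rw [pow_one] at h1; rw [h1, one_pow]
      · exact h1
    exact ⟨⟨fun u v => by
      have hinv : ∀ q : G ⧸ L, q⁻¹ = q := fun q => inv_eq_of_mul_eq_one_left (by rw [← sq]; exact hexp q)
      rw [← hinv (u * v), mul_inv_rev, hinv, hinv]⟩⟩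
  · rw [← Layer.qs_subgroup_perfect hL, commutator_def]
    exact Subgroup.commutator_mono le_top le_top

omit hD hD2 h2 h3 in
theorem perfect_derived : ⁅commutator G, commutator G⁆ = commutator G := by
  rw [commutator_eq hL hidx, Layer.qs_subgroup_perfect hL]

/-- Inside the derived group every solvable normal subgroup is central. -/
theorem solvable_le_center {M : Subgroup G} (hM : M.Normal) (hle : M ≤ commutator G)
    (hs : Group.IsSolvable M) : M ≤ Subgroup.center G := by
  rw [commutator_eq hL hidx] at hle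
  rcases Layer.qs_sub_normalized_cases hL hle
    (fun k _ => by rw [Subgroup.normalizer_eq_top]; trivial) with h | h
  · exact absurd (h ▸ hs) (Layer.qs_not_isSolvable hL)
  · refine le_trans ?_ (fitting_le_center hD h2 h3)
    have : IsMulCommutative M := ⟨⟨fun u v =>
      Subtype.ext (Layer.commute_of_commutator_eq_bot h u.2 (hle v.2))⟩⟩
    exact Core.le_fittingSubgroup_of_isMulCommutative

omit hidx hL in
theorem commute_of_map {π : G →* G ⧸ Subgroup.center G} (hπ : π = QuotientGroup.mk' _)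
    (ha : a ∈ D) (hb : b ∈ D) (h : Commute (π a) (π b)) : Commute a b := by
  have hT := hD.1
  by_contra hab
  have h1 : π ((a * b) ^ 2) = 1 := by
    rw [map_pow, map_mul, h.mul_pow, ← map_pow, ← map_pow, sq, sq, mul_self hT ha, mul_self hT hb,
      map_one, one_mul]
  have h3' := congrArg π (cube_of_not_commute hT ha hb hab)
  rw [pow_succ, map_mul, h1, one_mul, map_one] at h3'
  subst hπ
  exact hab ((eq_of_mul_mem_center hD hD2 h2 ha hb
    ((QuotientGroup.eq_one_iff _).1 h3')) ▸ Commute.refl a)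

omit hidx hL in
theorem eq_of_map {π : G →* G ⧸ Subgroup.center G} (hπ : π = QuotientGroup.mk' _)
    (ha : a ∈ D) (hb : b ∈ D) (h : π a = π b) : a = b := by
  subst hπ
  refine eq_of_mul_mem_center hD hD2 h2 ha hb ?_
  have := QuotientGroup.eq.1 h
  rwa [inv_eq hD.1 ha] at this

/-- The image in the central quotient satisfies the hypotheses of the rank-three theorem. -/
theorem quotient_hyps : IsThreeTranspositionClass ((QuotientGroup.mk' (Subgroup.center G)) '' D) ∧
    ⁅commutator (G ⧸ Subgroup.center G), commutator (G ⧸ Subgroup.center G)⁆ =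
      commutator (G ⧸ Subgroup.center G) ∧
    ∀ N : Subgroup (G ⧸ Subgroup.center G), N.Normal → N ≤ commutator (G ⧸ Subgroup.center G) →
      Group.IsSolvable N → N = ⊥ := by
  classical
  set Z := Subgroup.center G
  set π := QuotientGroup.mk' Z with hπ
  have hsurj : Function.Surjective π := QuotientGroup.mk'_surjective Z
  have hT := hD.1
  have hcom : commutator (G ⧸ Z) = (commutator G).map π := by
    rw [commutator_def, commutator_def, Subgroup.map_commutator,
      Subgroup.map_top_of_surjective π hsurj]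
  refine ⟨⟨⟨?_, ?_⟩, ?_, ?_⟩, ?_, ?_⟩
  · rintro - ⟨e, he, rfl⟩
    refine orderOf_eq_prime (by rw [sq, ← map_mul, mul_self hT he, map_one]) fun h => ?_
    exact not_mem_center hD hD2 he ((QuotientGroup.eq_one_iff e).1 h)
  · rintro - ⟨e, he, rfl⟩ - ⟨f, hf, rfl⟩
    rw [← map_mul, ← map_pow, ← map_pow]
    rcases hT.2 e he f hf with h | h
    · exact Or.inl (by rw [h, map_one])
    · exact Or.inr (by rw [h, map_one])
  · obtain ⟨d₀, hd₀, hd₀'⟩ := hD.2.1
    refine ⟨π d₀, ⟨d₀, hd₀, rfl⟩, ?_⟩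
    apply Set.ext
    intro q
    simp only [conjugatesOf, Set.mem_ofPred_eq, Set.mem_image]
    constructor
    · rintro ⟨e, he, rfl⟩
      obtain ⟨g, rfl⟩ := class_isConj hD hd₀ he
      exact isConj_iff.2 ⟨π g, by simp⟩
    · intro h
      obtain ⟨k, rfl⟩ := isConj_iff.1 h
      obtain ⟨g, rfl⟩ := hsurj k
      exact ⟨g * d₀ * g⁻¹, class_conj hD g d₀ hd₀, by simp⟩
  · rw [← MonoidHom.map_closure, hD.2.2, Subgroup.map_top_of_surjective π hsurj]
  · rw [hcom, ← Subgroup.map_commutator, perfect_derived hL hidx]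
  · intro N hN hNle hNs
    rw [eq_bot_iff]
    intro q hq
    obtain ⟨g, hg, rfl⟩ := (hcom ▸ hNle) hq
    have hM : (N.comap π ⊓ commutator G) ≤ Subgroup.center G := by
      refine solvable_le_center hD hD2 h2 h3 hL hidx
        (by have := hN.comap π; infer_instance) inf_le_right ?_
      set M : Subgroup G := N.comap π ⊓ commutator G
      let f : M →* N := (π.comp M.subtype).codRestrict N fun m => (Subgroup.mem_inf.1 m.2).1
      refine Group.isSolvable_of_ker_le_range (Subgroup.inclusion (inf_le_left : M ⊓ Z ≤ M)) f ?_ (hG' := ?_) (hG'' := hNs)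
      · rintro ⟨m, hm⟩ hm'
        have h1 : π m = 1 := congrArg Subtype.val hm'
        exact ⟨⟨m, hm, (QuotientGroup.eq_one_iff m).1 h1⟩, rfl⟩
      · exact Group.isSolvable_of_comm fun u v => Subtype.ext (Subgroup.mem_center_iff.1 v.2.2 u.1)
    exact (QuotientGroup.eq_one_iff g).2 (hM ⟨hq, hg⟩)

/-- The other partners of `a` are conjugate in the group they generate. -/
theorem exists_conj_dperp (ha : a ∈ D) (hb : b ∈ dperp D a) (hc : c ∈ dperp D a) :
    ∃ g ∈ Subgroup.closure (dperp D a), g * b * g⁻¹ = c := by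
  obtain ⟨hDb, hperf, hsol⟩ := quotient_hyps hD hD2 h2 h3 hL hidx
  set π := QuotientGroup.mk' (Subgroup.center G) with hπ
  have himg : ∀ {u : G}, u ∈ dperp D a → π u ∈ dperp (π '' D) (π a) := fun {u} hu =>
    ⟨⟨u, hu.1, rfl⟩, fun h => hu.2.1 (eq_of_map hD hD2 h2 h3 hπ hu.1 ha h), hu.2.2.map π⟩
  have heq : dperp (π '' D) (π a) = π '' dperp D a := by
    apply Set.ext
    intro q
    constructor
    · rintro ⟨⟨u, hu, rfl⟩, hne, hcm⟩
      exact ⟨u, ⟨hu, fun h => hne (by rw [h]), commute_of_map hD hD2 h2 h3 hπ ha hu hcm⟩, rfl⟩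
    · rintro ⟨u, hu, rfl⟩
      exact himg hu
  obtain ⟨k, hk, hkb⟩ := exists_conj_of_mem_dcomp hDb.1 (himg hb)
    (by rw [dcomp_eq_dperp hsol hperf hDb ⟨a, ha, rfl⟩ (himg hb)]; exact himg hc)
  rw [heq, ← MonoidHom.map_closure] at hk
  obtain ⟨g, hg, rfl⟩ := hk
  refine ⟨g, hg, eq_of_map hD hD2 h2 h3 hπ (class_conj hD g b hb.1) hc.1 ?_⟩
  rw [map_mul, map_mul, map_inv]; exact hkb

/-- Rank three. -/
theorem exists_conj_not_commute (ha : a ∈ D) (hb : b ∈ D) (hc : c ∈ D) (hab : ¬ Commute a b)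
    (hac : ¬ Commute a c) : ∃ g : G, g * a * g⁻¹ = a ∧ g * b * g⁻¹ = c := by
  obtain ⟨hDb, hperf, hsol⟩ := quotient_hyps hD hD2 h2 h3 hL hidx
  set π := QuotientGroup.mk' (Subgroup.center G) with hπ
  obtain ⟨k, hka, hkb⟩ := exists_commute_conj_not_commute hsol hperf hDb ⟨a, ha, rfl⟩ ⟨b, hb, rfl⟩
    ⟨c, hc, rfl⟩ (fun h => hab (commute_of_map hD hD2 h2 h3 hπ ha hb h))
    (fun h => hac (commute_of_map hD hD2 h2 h3 hπ ha hc h))
  obtain ⟨g, rfl⟩ := QuotientGroup.mk'_surjective (Subgroup.center G) k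
  refine ⟨g, eq_of_map hD hD2 h2 h3 hπ (class_conj hD g a ha) ha ?_,
    eq_of_map hD hD2 h2 h3 hπ (class_conj hD g b hb) hc (by rw [map_mul, map_mul, map_inv]; exact hkb)⟩
  simp only [map_mul, map_inv]
  rw [hka.eq, mul_inv_cancel_right]

theorem primitive : IsPrimitiveUnderConj D := by
  refine ⟨fun u hu v hv => class_isConj hD hu hv, hD2, fun B hBD hblock => ?_⟩
  by_cases hs : B.Subsingleton
  · exact Or.inl hs
  right
  have hc' := class_conj hD
  -- a conjugation moving some point of `B` into `B` fixes `B`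
  have hstab : ∀ g : G, ∀ u ∈ B, g * u * g⁻¹ ∈ B → ∀ w ∈ B, g * w * g⁻¹ ∈ B := by
    intro g u hu hgu w hw
    rcases hblock g with h | h
    · have h' : g * w * g⁻¹ ∈ (fun z => g * z * g⁻¹) '' B := ⟨w, hw, rfl⟩
      rwa [h] at h'
    · exact absurd hgu (Set.disjoint_left.1 h ⟨u, hu, rfl⟩)
  obtain ⟨u, hu, v, hv, huv⟩ := (Set.not_subsingleton_iff.1 hs)
  have hfull : ∀ (P : G → G → Prop), (∀ g p q, P p q → P (g * p * g⁻¹) (g * q * g⁻¹)) →
      (∀ q ∈ D, P u q → q ∈ B) → ∀ p ∈ B, ∀ q ∈ D, P p q → q ∈ B := by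
    intro P hP hbase p hp q hq hpq
    obtain ⟨g, rfl⟩ := class_isConj hD (hBD hu) (hBD hp)
    obtain ⟨q', hq', rfl⟩ := conj_partner hc' g hq
    have h := hP g⁻¹ _ _ hpq
    rw [show g⁻¹ * (g * u * g⁻¹) * g⁻¹⁻¹ = u by group,
      show g⁻¹ * (g * q' * g⁻¹) * g⁻¹⁻¹ = q' by group] at h
    exact hstab g u hu hp q' (hbase q' hq' h)
  by_cases huvc : Commute u v
  · refine commute_closed_eq hD (perfect_derived hL hidx) hBD ⟨u, hu⟩ ?_
    refine hfull Commute (fun g p q h => (commute_conj g p q).2 h) fun q hq huq => ?_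
    by_cases hqu : q = u
    · rwa [hqu]
    obtain ⟨g, hg, hgv⟩ := exists_conj_dperp hD hD2 h2 h3 hL hidx (hBD hu)
      (⟨hBD hv, huv.symm, huvc⟩ : v ∈ dperp D u) ⟨hq, hqu, huq⟩
    have hgu : g * u * g⁻¹ = u := by
      have hle : Subgroup.closure (dperp D u) ≤ Subgroup.centralizer ({u} : Set G) := by
        rw [Subgroup.closure_le]
        exact fun w hw => Subgroup.mem_centralizer_singleton_iff.2 hw.2.2.eq.symm
      rw [Subgroup.mem_centralizer_singleton_iff.1 (hle hg), mul_inv_cancel_right]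
    rw [← hgv]
    exact hstab g u hu (by rwa [hgu]) v hv
  · refine noncommute_closed_eq hD hBD ⟨u, hu⟩ ?_
    refine hfull (fun p q => ¬ Commute p q)
      (fun g p q h hh => h ((commute_conj g p q).1 hh)) fun q hq huq => ?_
    obtain ⟨g, hgu, hgv⟩ := exists_conj_not_commute hD hD2 h2 h3 hL hidx (hBD hu) (hBD hv) hq huvc huq
    rw [← hgv]
    exact hstab g u hu (by rwa [hgu]) v hv

/-- The group generated by a member's partners is maximal among the groups generated by members. -/
theorem dsubgroup_maximal (hd : d ∈ D) {H : Subgroup G} (hH : IsDSubgroup D H)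
    (hle : Subgroup.closure {y : G | y ∈ D ∧ Commute d y} ≤ H) :
    H = Subgroup.closure {y : G | y ∈ D ∧ Commute d y} ∨ H = ⊤ := by
  have hT := hD.1
  have hc' := class_conj hD
  by_cases hall : ∀ e ∈ D, e ∈ H → Commute d e
  · left
    refine le_antisymm ?_ hle
    rw [← show Subgroup.closure {e : G | e ∈ D ∧ e ∈ H} = H from hH]
    exact Subgroup.closure_mono fun e he => ⟨he.1, hall e he.1 he.2⟩
  right
  push Not at hall
  obtain ⟨e, he, heH, hde⟩ := hall
  have hperp : ∀ y ∈ D, Commute d y → y ∈ H := fun y hy hdy =>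
    hle (Subgroup.subset_closure ⟨hy, hdy⟩)
  have hdH : d ∈ H := hperp d hd (Commute.refl d)
  set Ω : Set G := {f | f ∈ D ∧ ∃ h ∈ H, h * d * h⁻¹ = f}
  have hpair : ∀ {p q : G}, p ∈ Ω → q ∈ D → q ∈ H → ¬ Commute p q → q ∈ Ω := by
    rintro p q ⟨hp, h, hh, hhd⟩ hq hqH hpq
    refine ⟨hq, p * q * h, mul_mem (mul_mem ?_ hqH) hh, ?_⟩
    · rw [← hhd]; exact mul_mem (mul_mem hh hdH) (inv_mem hh)
    · rw [show p * q * h * d * (p * q * h)⁻¹ = p * q * (h * d * h⁻¹) * (p * q)⁻¹ by group, hhd,
        mul_inv_rev, inv_eq hT hp, inv_eq hT hq]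
      calc p * q * p * (q * p) = q * p * q * (q * p) := by rw [braid hT hp hq hpq]
        _ = q := by simp only [mul_assoc, mul_self_mul hT hq, mul_self hT hp, mul_one]
  have hdΩ : d ∈ Ω := ⟨hd, 1, one_mem _, by group⟩
  have heΩ : e ∈ Ω := hpair hdΩ he heH hde
  have hdperp : ∀ y ∈ dperp D d, y ∈ Ω := by
    intro y hy
    obtain ⟨w, hw, hwe⟩ : ∃ w ∈ dperp D d, ¬ Commute w e := by
      by_contra hcon
      push Not at hcon
      have hne : d ≠ e := fun h => hde (h ▸ Commute.refl d)
      have hsub : dperp D d ⊆ dperp D e := fun x hx =>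
        ⟨hx.1, fun h => hde (h ▸ hx.2.2), (hcon x hx).symm⟩
      obtain ⟨g, hg⟩ := class_isConj hD hd he
      have hcard : (dperp D e).ncard ≤ (dperp D d).ncard := by
        refine Set.ncard_le_ncard_of_injOn (fun y => g⁻¹ * y * g) (fun y hy => ?_) ?_ (Set.toFinite _)
        · have := dperp_conj hc' g⁻¹ hy
          rwa [inv_inv, ← hg, show g⁻¹ * (g * d * g⁻¹) * g = d by group] at this
        · exact fun y _ z _ h => mul_left_cancel (mul_right_cancel h)
      have heq := Set.eq_of_subset_of_ncard_le hsub hcard (Set.toFinite _)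
      refine hne (eq_of_theta_central hD hD2 h3 hd he fun f hf => ?_)
      constructor
      · exact fun h => (hsub ⟨hf, h⟩).2
      · intro h
        exact (heq.symm ▸ (⟨hf, h⟩ : f ∈ dperp D e) : f ∈ dperp D d).2
    have hwΩ : w ∈ Ω := hpair heΩ hw.1 (hperp w hw.1 hw.2.2) (fun hh => hwe hh.symm)
    obtain ⟨-, h, hh, hhw⟩ := hwΩ
    obtain ⟨g, hg, hgy⟩ := exists_conj_dperp hD hD2 h2 h3 hL hidx hd hw hy
    have hgH : g ∈ H := by
      refine (Subgroup.closure_le H).2 ?_ hg
      exact fun z hz => hperp z hz.1 hz.2.2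
    refine ⟨hy.1, g * h, mul_mem hgH hh, ?_⟩
    rw [← hgy, ← hhw]; group
  have hΩ : Ω = D := by
    refine commute_closed_eq hD (perfect_derived hL hidx) (fun f hf => hf.1) ⟨d, hdΩ⟩ ?_
    rintro f ⟨hf, h, hh, rfl⟩ z hz hfz
    obtain ⟨z', hz', rfl⟩ := conj_partner hc' h hz
    rw [commute_conj] at hfz
    obtain ⟨hzD, k, hk, rfl⟩ : z' ∈ Ω := by
      by_cases hzd : z' = d
      · exact hzd ▸ hdΩ
      · exact hdperp z' ⟨hz', hzd, hfz⟩
    exact ⟨hz, h * k, mul_mem hh hk, by group⟩
  rw [eq_top_iff, ← hD.2.2, Subgroup.closure_le]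
  intro f hf
  obtain ⟨-, h, hh, rfl⟩ : f ∈ Ω := hΩ ▸ hf
  exact mul_mem (mul_mem hh hdH) (inv_mem hh)

end Class

section Prim

variable [Finite G]

omit [Finite G] in
theorem class_of_primitive (hD : IsThreeTranspositionGroup D) (hprim : IsPrimitiveUnderConj D) :
    IsThreeTranspositionClass D := by
  obtain ⟨a, ha, -⟩ := hprim.2.1
  refine ⟨hD.1, ⟨a, ha, ?_⟩, hD.2.2⟩
  apply Set.ext
  intro b
  simp only [conjugatesOf, Set.mem_ofPred_eq]
  constructor
  · intro hb; exact isConj_iff.2 (hprim.1 a ha b hb)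
  · intro h
    obtain ⟨g, rfl⟩ := isConj_iff.1 h
    exact hD.2.1 g a ha

omit [Finite G] in
/-- An invariant equivalence relation is trivial or everything. -/
theorem prim_classes (hD : IsThreeTranspositionGroup D) (hprim : IsPrimitiveUnderConj D)
    {R : G → G → Prop} (hrefl : ∀ a, R a a) (hsymm : ∀ {a b}, R a b → R b a)
    (htrans : ∀ {a b c}, R a b → R b c → R a c)
    (hconj : ∀ (g : G) {a b}, R a b → R (g * a * g⁻¹) (g * b * g⁻¹)) :
    (∀ a ∈ D, ∀ b ∈ D, R a b → a = b) ∨ ∀ a ∈ D, ∀ b ∈ D, R a b := by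
  by_cases h : ∀ a ∈ D, ∀ b ∈ D, R a b → a = b
  · exact Or.inl h
  right
  push Not at h
  obtain ⟨a, ha, b, hb, hab, hne⟩ := h
  set B : Set G := {z | z ∈ D ∧ R a z}
  have hblk : ∀ g : G, (fun z => g * z * g⁻¹) '' B = B ∨ Disjoint ((fun z => g * z * g⁻¹) '' B) B := by
    intro g
    by_cases hg : R a (g * a * g⁻¹)
    · left
      apply Set.ext
      intro z
      constructor
      · rintro ⟨w, ⟨hw, haw⟩, rfl⟩
        exact ⟨hD.2.1 g w hw, htrans hg (hconj g haw)⟩
      · rintro ⟨hz, haz⟩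
        obtain ⟨w, hw, rfl⟩ := conj_partner hD.2.1 g hz
        refine ⟨w, ⟨hw, ?_⟩, rfl⟩
        have := hconj g⁻¹ (htrans (hsymm hg) haz)
        rwa [show g⁻¹ * (g * a * g⁻¹) * g⁻¹⁻¹ = a by group,
          show g⁻¹ * (g * w * g⁻¹) * g⁻¹⁻¹ = w by group] at this
    · right
      rw [Set.disjoint_left]
      rintro z ⟨w, ⟨-, haw⟩, rfl⟩ ⟨-, haz⟩
      exact hg (htrans haz (hsymm (hconj g haw)))
  rcases hprim.2.2 B (fun z hz => hz.1) hblk with hB | hB
  · exact absurd (hB ⟨ha, hrefl a⟩ ⟨hb, hab⟩) hne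
  · intro u hu w hw
    have h1 : u ∈ B := hB.symm ▸ hu
    have h2 : w ∈ B := hB.symm ▸ hw
    exact htrans (hsymm h1.2) h2.2

/-- Primitive of width at least two: central cores and connected commuting graph. -/
theorem primitive_facts (hD : IsThreeTranspositionGroup D) (hprim : IsPrimitiveUnderConj D)
    (hw : ∃ a ∈ D, ∃ b ∈ D, a ≠ b ∧ Commute a b) :
    pCore 2 G ≤ Subgroup.center G ∧ pCore 3 G ≤ Subgroup.center G ∧
      (commutingGraph D).Connected := by
  obtain ⟨a, ha, b, hb, hne, hab⟩ := hw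
  have hcls := class_of_primitive hD hprim
  refine ⟨pCore_two_le_center_of_tau hD ?_, pCore_three_le_center_of_theta hD ?_, ?_⟩
  · rcases prim_classes hD hprim (R := Tau D) tau_refl tau_symm tau_trans
      (fun g => tau_conj hD.2.1 g) with h | h
    · exact h
    · exfalso
      obtain ⟨e, he, hae⟩ := exists_not_commute hcls ⟨a, ha, b, hb, hne⟩ ha
      exact hae (commute_of_tau ha (h a ha e he))
  · rcases prim_classes hD hprim (R := Theta D) theta_refl theta_symm theta_trans
      (fun g => theta_conj hD.2.1 g) with h | h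
    · exact h
    · exact absurd hab (not_commute_of_theta hb (h a ha b hb) hne)
  · rw [connected_iff_commBlock ⟨a, ha⟩]
    rcases prim_classes hD hprim (R := fun u w => commBlock D w = commBlock D u) (fun _ => rfl)
      (fun h => h.symm) (fun h h' => h'.trans h)
      (fun g u w h => by rw [← image_commBlock hD.2.1, ← image_commBlock hD.2.1, h]) with h | h
    · exact absurd (h a ha b hb (commBlock_eq_of_commute ha hb hab)) hne
    · intro u hu w hw
      rw [← h u hu w hw]
      exact mem_commBlock_self w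

end Prim

end Cfsg.Agent.ThreeTrans
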