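import Cfsg.Agent.ThreeTrans.BaseM23

/-!
# Type M(23): order, width, simplicity, involutions
-/

set_option autoImplicit false

open Cfsg

namespace Cfsg.Agent.ThreeTrans

universe u

section M22

variable {X : Type*} [Group X] [Finite X] {E : Set X}

/-- The order of a group of type M(22). -/
theorem card_M22 (hE : IsThreeTranspositionGroup E) (hcls : IsThreeTranspositionClass E)
    (h22 : IsOfTypeM22 X E) : Nat.card X = 3510 * 18393661440 := by
  obtain ⟨-, a, ha, -⟩ := id h22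
  rw [← Subgroup.card_top, card_eq_orbit_mul ⊤ a E (fun g _ => hE.2.1 g a ha)
    (fun y hy => (class_isConj hcls ha hy).imp fun g hg => ⟨Subgroup.mem_top g, hg⟩), top_inf_eq,
    (counts hE h22 a ha).2.2, (m22Layer hE h22).card]

/-- A group of type M(22) is simple. -/
theorem simple_M22 (hE : IsThreeTranspositionGroup E) (hcls : IsThreeTranspositionClass E)
    (h22 : IsOfTypeM22 X E) : IsSimpleGroup X := by
  have he : E \ {1} = E := Set.sdiff_singleton_eq_self fun h1 => ne_one hE.1 h1 rfl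
  obtain ⟨F, _, _, hF, hq⟩ := m22_quotient (by rwa [he]) h22
  rw [he] at hq
  have : IsSimpleGroup (PSU 6 F 2) := Cfsg.Agent.S0283.result
    (by rw [hF]; norm_num : Fintype.card F = 2 ^ 2) 6 (by norm_num) (by norm_num)
  obtain ⟨-, a, ha, -⟩ := id h22
  have hp := perfect_M22 hE h22
  refine simple_of_fixed_members hE hcls hp
    (fun t ht => exists_commute_of_perfect hE.2.1 hp (by rw [(m22Layer hE h22).card]) ht)
    (fun d hd => ⟨centralizer_perfect_M22 hE h22 hd, ?_⟩) ⟨a, ha⟩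
  obtain ⟨χ, hχ, hker⟩ := hq d hd
  exact ⟨PSU 6 F 2, inferInstance, χ, inferInstance, hχ, hker⟩

/-- A commuting pair can be moved to any other. -/
theorem exists_conj_pair (hE : IsThreeTranspositionGroup E) (hcls : IsThreeTranspositionClass E)
    (hF : M22Full E) {a b a' b' : X} (ha : a ∈ E) (hb : b ∈ dperp E a) (ha' : a' ∈ E)
    (hb' : b' ∈ dperp E a') : ∃ g : X, g * a * g⁻¹ = a' ∧ g * b * g⁻¹ = b' := by
  obtain ⟨g, hg⟩ := class_isConj hcls ha ha'
  obtain ⟨k, hk, hkb⟩ := exists_mv hE hF ha' (hg ▸ dperp_conj hE.2.1 g hb) hb'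
  have hka : Commute k a' := (commute_of_mem_H (D := E) (d := a') rfl hk).symm
  refine ⟨k * g, ?_, ?_⟩
  · rw [show k * g * a * (k * g)⁻¹ = k * (g * a * g⁻¹) * k⁻¹ by group, hg, hka.eq, mul_inv_cancel_right]
  · rw [← hkb]; group

end M22

variable {G : Type u} [Group G] [Finite G] {D : Set G}
  {X : Type u} [Group X] [Finite X] {E : Set X}
  (hD : IsThreeTranspositionGroup D) (hcls : IsThreeTranspositionClass D) (hM : M23Data D)
  (hE : IsThreeTranspositionGroup E) (hclsE : IsThreeTranspositionClass E) (h22 : IsOfTypeM22 X E)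
  (hcov : ∀ b ∈ D, Cover23 D E b)

include hD hcls hM hE hclsE h22 hcov

omit hcls hM hclsE in
theorem layers23 : ∀ t ∈ D, M22Layer (dperp D t) := fun t ht => by
  obtain ⟨χ, ψ, -, -, -, hiso⟩ := (hcov t ht).maps
  exact hiso.m22Layer (m22Layer hE h22)

/-- The order of the centraliser of a member. -/
theorem card_centralizer23 {b : G} (hb : b ∈ D) :
    Nat.card ↥(Subgroup.centralizer ({b} : Set G)) = 2 * (3510 * 18393661440) := by
  obtain ⟨χ, ψ, hχ, hker, -, -⟩ := (hcov b hb).maps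
  have hk : χ.ker.map (Subgroup.centralizer ({b} : Set G)).subtype = Subgroup.zpowers b := by
    refine le_antisymm ?_ ?_
    · rintro - ⟨x, hx, rfl⟩
      rcases (hker x).1 hx with h | h
      · rw [Subgroup.coe_subtype, h]; exact one_mem _
      · rw [Subgroup.coe_subtype, h]; exact Subgroup.mem_zpowers b
    · rw [Subgroup.zpowers_le]
      exact ⟨⟨b, Subgroup.mem_centralizer_singleton_iff.2 rfl⟩, (hker _).2 (Or.inr rfl), rfl⟩
  rw [Subgroup.card_eq_card_quotient_mul_card_subgroup χ.ker,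
    Nat.card_congr (QuotientGroup.quotientKerEquivOfSurjective χ hχ).toEquiv, card_M22 hE hclsE h22,
    ← Subgroup.card_map_of_injective
      (Subgroup.centralizer ({b} : Set G)).subtype_injective, hk, Nat.card_zpowers, hD.1.1 b hb,
    mul_comm]

theorem card_M23 {a : G} (ha : a ∈ D) :
    Nat.card G = 2 ^ 18 * 3 ^ 13 * 5 ^ 2 * 7 * 11 * 13 * 17 * 23 := by
  rw [← Subgroup.card_top, card_eq_orbit_mul ⊤ a D (fun g _ => hD.2.1 g a ha)
    (fun y hy => (class_isConj hcls ha hy).imp fun g hg => ⟨Subgroup.mem_top g, hg⟩), top_inf_eq,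
    card_centralizer23 hD hcls hM hE hclsE h22 hcov ha,
    ncard_members23 hD (layers23 hD hE h22 hcov) ha]
  norm_num

theorem width_M23 {a : G} (ha : a ∈ D) : commutingWidth D = 23 := by
  have hL := layers23 hD hE h22 hcov
  refine IsGreatest.csSup_eq ⟨?_, ?_⟩
  · obtain ⟨C, hC, hCc, hC22⟩ := (hL a ha).width'
    refine ⟨insert a C, Set.insert_subset ha fun v hv => (hC hv).1, Set.toFinite _, ?_, ?_⟩
    · rintro u (rfl | hu) v (rfl | hv)
      exacts [Commute.refl _, (hC hv).2.2, (hC hu).2.2.symm, hCc u hu v hv]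
    · rw [Set.ncard_insert_of_notMem (fun h => (hC h).2.1 rfl) (Set.toFinite _), hC22]
  rintro n ⟨C, hC, hCf, hCc, rfl⟩
  rcases C.eq_empty_or_nonempty with rfl | ⟨a', ha'⟩
  · simp
  have h1 := Set.ncard_sdiff_singleton_add_one ha' hCf
  have h2 := (hL a' (hC ha')).width (C \ {a'}) (fun v hv => ⟨hC hv.1, hv.2, hCc a' ha' v hv.1⟩)
    fun u hu v hv => hCc u hu.1 v hv.1
  omega

theorem perfect_M23 : commutator G = ⊤ := by
  rw [eq_top_iff, ← hD.2.2, Subgroup.closure_le]
  intro b hb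
  have hmem : b ∈ Subgroup.centralizer ({b} : Set G) := Subgroup.mem_centralizer_singleton_iff.2 rfl
  rw [← (hcov b hb).perfect] at hmem
  exact Subgroup.commutator_mono le_top le_top hmem

theorem exists_fixed_member23 {t : G} (ht : t * t = 1) : ∃ x ∈ D, Commute t x := by
  obtain ⟨-, ⟨a, ha, -⟩, -⟩ := id hcls
  obtain ⟨x, hx, hfix⟩ := exists_fixed_of_odd (A := D)
    (by rw [ncard_members23 hD (layers23 hD hE h22 hcov) ha]; decide) (fun x => t * x * t⁻¹)
    (fun x hx => hD.2.1 t x hx) fun x _ => by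
      show t * (t * x * t⁻¹) * t⁻¹ = x
      rw [inv_eq_of_mul_eq_one_left ht]
      exact conj_twice ht
  exact ⟨x, hx, mul_inv_eq_iff_eq_mul.1 hfix⟩

theorem simple_M23 : IsSimpleGroup G := by
  obtain ⟨-, ⟨a, ha, -⟩, -⟩ := id hcls
  refine simple_of_fixed_members hD hcls (perfect_M23 hD hcls hM hE hclsE h22 hcov)
    (fun t ht => exists_fixed_member23 hD hcls hM hE hclsE h22 hcov ht)
    (fun b hb => ⟨(hcov b hb).perfect, ?_⟩) ⟨a, ha⟩
  obtain ⟨χ, ψ, hχ, hker, -, -⟩ := (hcov b hb).maps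
  exact ⟨X, inferInstance, χ, simple_M22 hE hclsE h22, hχ, hker⟩

/-- A product of three commuting partners of `b`, times `b`, is a product of three of them. -/
theorem shift23 {b x y z : G} (hb : b ∈ D) (hx : x ∈ dperp D b) (hy : y ∈ dperp (dperp D b) x)
    (hz : z ∈ dperp (dperp (dperp D b) x) y) : ∃ l, Factor D 3 (x * y * z * b) l := by
  have hmaps := (hcov b hb).maps
  set C := Subgroup.centralizer ({b} : Set G)
  obtain ⟨χ, ψ, hχ, hker, hagree, hiso⟩ := hmaps
  have hT := hD.1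
  have hm : ∀ {u}, u ∈ dperp D b → u ∈ C := fun hu =>
    Subgroup.mem_centralizer_singleton_iff.2 hu.2.2.symm.eq
  have hM22 := (m22Full hE h22).data
  have h₀ : Factor E 3 (ψ x * ψ y * ψ z) [ψ x, ψ y, ψ z] :=
    factor_three (hiso.bij.mapsTo hx) ((hiso.restrict hx).bij.mapsTo hy)
      (((hiso.restrict hx).restrict hy).bij.mapsTo hz)
  obtain ⟨l₂, h₂, hne₂, -⟩ := two_factorisations hE h22.1 hM22 h₀
  obtain ⟨hn, hlen, hmem, hco, hp⟩ := id h₂
  obtain ⟨p', q', r', rfl⟩ := List.length_eq_three.1 hlen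
  obtain ⟨p, hp', rfl⟩ := hiso.bij.surjOn (hmem p' (by simp))
  obtain ⟨q, hq', rfl⟩ := hiso.bij.surjOn (hmem q' (by simp))
  obtain ⟨r, hr', rfl⟩ := hiso.bij.surjOn (hmem r' (by simp))
  simp only [List.prod_cons, List.prod_nil, mul_one] at hp
  simp only [List.nodup_cons, List.mem_cons, List.not_mem_nil, or_false, not_or] at hn
  have npq : p ≠ q := fun e => hn.1.1 (congrArg ψ e)
  have npr : p ≠ r := fun e => hn.1.2 (congrArg ψ e)
  have nqr : q ≠ r := fun e => hn.2.1 (congrArg ψ e)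
  have cpq : Commute p q := (hiso.comm p hp' q hq').1 (hco _ (by simp) _ (by simp))
  have cpr : Commute p r := (hiso.comm p hp' r hr').1 (hco _ (by simp) _ (by simp))
  have cqr : Commute q r := (hiso.comm q hq' r hr').1 (hco _ (by simp) _ (by simp))
  set P : C := ⟨x, hm hx⟩ * ⟨y, hm hy.1⟩ * ⟨z, hm hz.1.1⟩
  set Q : C := ⟨p, hm hp'⟩ * ⟨q, hm hq'⟩ * ⟨r, hm hr'⟩
  have himg : χ (P⁻¹ * Q) = 1 := by
    rw [map_mul, map_inv, map_mul, map_mul, map_mul, map_mul, ← hagree, ← hagree, ← hagree,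
      ← hagree, ← hagree, ← hagree, mul_assoc (ψ p), hp, inv_mul_cancel]
  rcases (hker _).1 himg with h | h
  · exfalso
    have e : x * y * z = p * q * r := congrArg Subtype.val (inv_mul_eq_one.1 (Subtype.ext h : P⁻¹ * Q = 1))
    have h₀' : Factor E 3 (ψ x * ψ y * ψ z) [ψ p, ψ q, ψ r] := h₂
    rcases triple_unique hT hM.noTwins hM.noTwins2 hx.1 hy.1.1 hz.1.1.1 hp'.1 hq'.1 hr'.1 hy.2.2
      hz.1.2.2 hz.2.2 hy.2.1.symm hz.1.2.1.symm hz.2.1.symm cpq cpr cqr npq npr nqr e with e' | e' | e'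
    all_goals
      refine hne₂ fun w => Factor.of_shared hE.1 hM22.noTwins h₀ h₀' (s := ψ p) ?_ (by simp) w
      simp [e']
  · refine ⟨[p, q, r], by simp [npq, npr, nqr], rfl, fun u hu => ?_, fun u hu v hv => ?_, ?_⟩
    · simp at hu; rcases hu with rfl | rfl | rfl
      exacts [hp'.1, hq'.1, hr'.1]
    · simp at hu hv
      rcases hu with rfl | rfl | rfl <;> rcases hv with rfl | rfl | rfl
      exacts [Commute.refl _, cpq, cpr, cpq.symm, Commute.refl _, cqr, cpr.symm, cqr.symm, Commute.refl _]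
    · rw [Subgroup.coe_mul, Subgroup.coe_inv] at h
      have h' := inv_mul_eq_iff_eq_mul.1 h
      simp only [List.prod_cons, List.prod_nil, mul_one]
      rw [← mul_assoc]
      exact h'

/-- Every involution is a product of at most three commuting members. -/
theorem involution_M23 {t : G} (ht2 : t * t = 1) (ht1 : t ≠ 1) :
    ∃ n, 1 ≤ n ∧ n ≤ 3 ∧ ∃ l, Factor D n t l := by
  obtain ⟨b, hb, htb⟩ := exists_fixed_member23 hD hcls hM hE hclsE h22 hcov ht2
  have hmaps := (hcov b hb).maps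
  set C := Subgroup.centralizer ({b} : Set G)
  obtain ⟨χ, ψ, hχ, hker, hagree, hiso⟩ := hmaps
  have hm : ∀ {u}, u ∈ dperp D b → u ∈ C := fun hu =>
    Subgroup.mem_centralizer_singleton_iff.2 hu.2.2.symm.eq
  set τ : C := ⟨t, Subgroup.mem_centralizer_singleton_iff.2 htb.eq⟩
  have hdiv : ∀ P : C, χ P = χ τ → t = P ∨ t = (P : G) * b := fun P hP => by
    rcases (hker (P⁻¹ * τ)).1 (by rw [map_mul, map_inv, hP, inv_mul_cancel]) with h | h <;>
      rw [Subgroup.coe_mul, Subgroup.coe_inv] at h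
    · exact Or.inl (inv_mul_eq_one.1 h).symm
    · exact Or.inr (inv_mul_eq_iff_eq_mul.1 h)
  by_cases h1 : χ τ = 1
  · rcases (hker τ).1 h1 with h | h
    · exact absurd h ht1
    · exact ⟨1, le_rfl, by norm_num, [b], (show t = b from h).symm ▸ factor_one hb⟩
  obtain ⟨n, hn1, hn3, l, hl⟩ := involution_M22 hE h22
    (show χ τ * χ τ = 1 by rw [← map_mul, show τ * τ = 1 from Subtype.ext ht2, map_one]) h1
  obtain ⟨hnd, hlen, hmem, hco, hp⟩ := hl
  interval_cases n
  · obtain ⟨x', rfl⟩ := List.length_eq_one_iff.1 hlen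
    obtain ⟨x, hx, rfl⟩ := hiso.bij.surjOn (hmem x' (by simp))
    rcases hdiv ⟨x, hm hx⟩ (by rw [← hagree, ← hp]; simp) with h | h
    · exact ⟨1, le_rfl, by norm_num, [x], h ▸ factor_one hx.1⟩
    · exact ⟨2, by norm_num, by norm_num, [x, b], h ▸ factor_two hx.1 (dperp_symm hb hx)⟩
  · obtain ⟨x', y', rfl⟩ := List.length_eq_two.1 hlen
    obtain ⟨x, hx, rfl⟩ := hiso.bij.surjOn (hmem x' (by simp))
    obtain ⟨y, hy, rfl⟩ := hiso.bij.surjOn (hmem y' (by simp))
    simp only [List.nodup_cons, List.mem_cons, List.not_mem_nil, or_false, not_or] at hnd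
    have hyx : y ∈ dperp D x := ⟨hy.1, fun e => hnd.1 (congrArg ψ e.symm),
      (hiso.comm x hx y hy).1 (hco _ (by simp) _ (by simp))⟩
    rcases hdiv (⟨x, hm hx⟩ * ⟨y, hm hy⟩) (by rw [map_mul, ← hagree, ← hagree, ← hp]; simp) with h | h
    · exact ⟨2, by norm_num, by norm_num, [x, y], h ▸ factor_two hx.1 hyx⟩
    · exact ⟨3, by norm_num, le_rfl, [x, y, b], h ▸ factor_three hx.1 hyx
        ⟨dperp_symm hb hx, hy.2.1.symm, hy.2.2.symm⟩⟩
  · obtain ⟨x', y', z', rfl⟩ := List.length_eq_three.1 hlen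
    obtain ⟨x, hx, rfl⟩ := hiso.bij.surjOn (hmem x' (by simp))
    obtain ⟨y, hy, rfl⟩ := hiso.bij.surjOn (hmem y' (by simp))
    obtain ⟨z, hz, rfl⟩ := hiso.bij.surjOn (hmem z' (by simp))
    simp only [List.nodup_cons, List.mem_cons, List.not_mem_nil, or_false, not_or] at hnd
    have hxy := (hiso.comm x hx y hy).1 (hco _ (by simp) _ (by simp))
    have hxz := (hiso.comm x hx z hz).1 (hco _ (by simp) _ (by simp))
    have hyz := (hiso.comm y hy z hz).1 (hco _ (by simp) _ (by simp))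
    have hyb : y ∈ dperp (dperp D b) x := ⟨hy, fun e => hnd.1.1 (congrArg ψ e.symm), hxy⟩
    have hzb : z ∈ dperp (dperp (dperp D b) x) y :=
      ⟨⟨hz, fun e => hnd.1.2 (congrArg ψ e.symm), hxz⟩, fun e => hnd.2.1 (congrArg ψ e.symm), hyz⟩
    rcases hdiv (⟨x, hm hx⟩ * ⟨y, hm hy⟩ * ⟨z, hm hz⟩)
      (by rw [map_mul, map_mul, ← hagree, ← hagree, ← hagree, ← hp]; simp [mul_assoc]) with h | h
    · exact ⟨3, by norm_num, le_rfl, [x, y, z],
        h ▸ factor_three hx.1 ⟨hy.1, hyb.2⟩ ⟨⟨hz.1, hzb.1.2⟩, hzb.2⟩⟩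
    · obtain ⟨l', hl'⟩ := shift23 hD hcls hM hE hclsE h22 hcov hb hx hyb hzb
      exact ⟨3, by norm_num, le_rfl, l', h ▸ hl'⟩

/-- Three pairwise commuting members can be moved to any other three. -/
theorem exists_conj_triple23 {a b c a' b' c' : G} (ha : a ∈ D) (hb : b ∈ dperp D a)
    (hc : c ∈ dperp (dperp D a) b) (ha' : a' ∈ D) (hb' : b' ∈ dperp D a')
    (hc' : c' ∈ dperp (dperp D a') b') :
    ∃ g : G, g * a * g⁻¹ = a' ∧ g * b * g⁻¹ = b' ∧ g * c * g⁻¹ = c' := by
  obtain ⟨g₁, hg₁⟩ := class_isConj hcls ha ha'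
  set b₁ := g₁ * b * g₁⁻¹
  set c₁ := g₁ * c * g₁⁻¹
  have hb₁ : b₁ ∈ dperp D a' := hg₁ ▸ dperp_conj hD.2.1 g₁ hb
  have hc₁ : c₁ ∈ dperp (dperp D a') b₁ := ⟨hg₁ ▸ dperp_conj hD.2.1 g₁ hc.1,
    fun e => hc.2.1 (mul_left_cancel (mul_right_cancel e)), (commute_conj g₁ b c).2 hc.2.2⟩
  have hmaps := (hcov a' ha').maps
  set C := Subgroup.centralizer ({a'} : Set G)
  obtain ⟨χ, ψ, hχ, hker, hagree, hiso⟩ := hmaps
  obtain ⟨k, hk1, hk2⟩ := exists_conj_pair hE hclsE (m22Full hE h22) (hiso.bij.mapsTo hb₁)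
    ((hiso.restrict hb₁).bij.mapsTo hc₁) (hiso.bij.mapsTo hb') ((hiso.restrict hb').bij.mapsTo hc')
  obtain ⟨g₂, rfl⟩ := hχ k
  have hga : (g₂ : G) * a' * (g₂ : G)⁻¹ = a' := by
    rw [Subgroup.mem_centralizer_singleton_iff.1 g₂.2, mul_inv_cancel_right]
  have key : ∀ {u w : G}, u ∈ dperp D a' → w ∈ dperp D a' → χ g₂ * ψ u * (χ g₂)⁻¹ = ψ w →
      (g₂ : G) * u * (g₂ : G)⁻¹ = w := by
    intro u w hu hw e
    refine hiso.bij.injOn (hga ▸ dperp_conj hD.2.1 (g₂ : G) hu) hw ?_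
    rw [← e]
    set U : C := ⟨u, Subgroup.mem_centralizer_singleton_iff.2 hu.2.2.symm.eq⟩
    rw [show ψ u = χ U from hagree U, ← map_inv, ← map_mul, ← map_mul, ← hagree]
    rfl
  refine ⟨g₂ * g₁, ?_, ?_, ?_⟩
  · conv_rhs => rw [← hga, ← hg₁]
    group
  · rw [← key hb₁ hb' hk1]; simp only [b₁]; group
  · rw [← key hc₁.1 hc'.1 hk2]; simp only [c₁]; group

/-- The centralisers of products of two and three commuting members. -/
theorem card_centralizer_products {a b c : G} (ha : a ∈ D) (hb : b ∈ dperp D a)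
    (hc : c ∈ dperp (dperp D a) b) :
    Nat.card ↥(Subgroup.centralizer ({a * b} : Set G)) * 3510 = 4 * (3510 * 18393661440) ∧
    Nat.card ↥(Subgroup.centralizer ({a * b * c} : Set G)) * (3510 * 693) =
      12 * (3510 * 18393661440) := by
  classical
  have hT := hD.1
  have hL := layers23 hD hE h22 hcov
  have hfix : ∀ {g y : G}, g ∈ Subgroup.centralizer ({y} : Set G) → g * y * g⁻¹ = y := fun hg => by
    rw [Subgroup.mem_centralizer_singleton_iff.1 hg, mul_inv_cancel_right]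
  have hmk : ∀ {g y : G}, g * y * g⁻¹ = y → g ∈ Subgroup.centralizer ({y} : Set G) := fun h =>
    Subgroup.mem_centralizer_singleton_iff.2 (mul_inv_eq_iff_eq_mul.1 h)
  have hCa := card_centralizer23 hD hcls hM hE hclsE h22 hcov ha
  set A := Subgroup.centralizer ({a} : Set G) with hA
  set B := Subgroup.centralizer ({b} : Set G) with hB
  set C := Subgroup.centralizer ({c} : Set G) with hC
  have hex : ∀ {p}, p ∈ dperp D a → ∃ r, r ∈ dperp (dperp D a) p := fun hp => by
    have := (hL a ha).card1 _ hp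
    exact Set.nonempty_of_ncard_ne_zero (by rw [this]; norm_num)
  have hnab : a ≠ b := hb.2.1.symm
  have hnac : a ≠ c := hc.1.2.1.symm
  have hnbc : b ≠ c := hc.2.1.symm
  have h1 := card_eq_orbit_mul A b (dperp D a) (fun g hg => hfix hg ▸ dperp_conj hD.2.1 g hb)
    fun y hy => by
      obtain ⟨r, hr⟩ := hex hy
      obtain ⟨g, g1, g2, -⟩ := exists_conj_triple23 hD hcls hM hE hclsE h22 hcov ha hb hc ha hy hr
      exact ⟨g, hmk g1, g2⟩
  rw [(hL a ha).card, hCa] at h1
  have h2 := card_eq_orbit_mul (A ⊓ B) c (dperp (dperp D a) b) (fun g hg => by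
      obtain ⟨g1, g2⟩ := Subgroup.mem_inf.1 hg
      exact ⟨hfix g1 ▸ dperp_conj hD.2.1 g hc.1,
        fun e => hc.2.1 (mul_left_cancel (mul_right_cancel (e.trans (hfix g2).symm))),
        hfix g2 ▸ (commute_conj g b c).2 hc.2.2⟩)
    fun y hy => by
      obtain ⟨g, g1, g2, g3⟩ := exists_conj_triple23 hD hcls hM hE hclsE h22 hcov ha hb hc ha hb hy
      exact ⟨g, Subgroup.mem_inf.2 ⟨hmk g1, hmk g2⟩, g3⟩
  rw [(hL a ha).card1 b hb] at h2
  constructor
  · set M := Subgroup.centralizer ({a * b} : Set G)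
    have h3 := card_eq_orbit_mul M a {a, b} (fun g hg => by
        have hf := (factor_two ha hb).conj hD.2.1 g
        rw [hfix hg] at hf
        have := (Factor.pair hT hM.noTwins hf (factor_two ha hb) (g * a * g⁻¹)).1 (by simp)
        simpa using this)
      fun y hy => by
        rcases hy with rfl | rfl
        · exact ⟨1, one_mem _, by simp⟩
        · have hay := dperp_symm ha hb
          obtain ⟨r, hr⟩ : ∃ r, r ∈ dperp (dperp D y) a := Set.nonempty_of_ncard_ne_zero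
            (by rw [(hL y hb.1).card1 a hay]; norm_num)
          obtain ⟨g, g1, g2, -⟩ := exists_conj_triple23 hD hcls hM hE hclsE h22 hcov ha hb hc hb.1 hay hr
          refine ⟨g, hmk ?_, g1⟩
          rw [show g * (a * y) * g⁻¹ = g * a * g⁻¹ * (g * y * g⁻¹) by group, g1, g2, hb.2.2.eq]
    rw [Set.ncard_pair hnab] at h3
    have e : M ⊓ A = A ⊓ B := by
      ext g
      simp only [Subgroup.mem_inf]
      constructor
      · rintro ⟨g1, g2⟩
        refine ⟨g2, hmk (mul_left_cancel (a := a) ?_)⟩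
        calc a * (g * b * g⁻¹) = g * a * g⁻¹ * (g * b * g⁻¹) := by rw [hfix g2]
          _ = g * (a * b) * g⁻¹ := by group
          _ = a * b := hfix g1
      · rintro ⟨g1, g2⟩
        refine ⟨hmk ?_, g1⟩
        calc g * (a * b) * g⁻¹ = g * a * g⁻¹ * (g * b * g⁻¹) := by group
          _ = a * b := by rw [hfix g1, hfix g2]
    rw [e] at h3
    rw [h3]
    linarith
  · set M := Subgroup.centralizer ({a * b * c} : Set G)
    have hperm : ∀ {g p q r : G}, g * a * g⁻¹ = p → g * b * g⁻¹ = q → g * c * g⁻¹ = r →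
        p * q * r = a * b * c → g ∈ M := fun {g p q r} e1 e2 e3 e => hmk <| by
      rw [← e, ← e1, ← e2, ← e3]
      rw [e1, e2, e3, e]
      calc g * (a * b * c) * g⁻¹ = g * a * g⁻¹ * (g * b * g⁻¹) * (g * c * g⁻¹) := by group
        _ = a * b * c := by rw [e1, e2, e3, e]
    have huniq : ∀ g ∈ M, ∀ w, w = a ∨ w = b ∨ w = c →
        g * w * g⁻¹ = a ∨ g * w * g⁻¹ = b ∨ g * w * g⁻¹ = c := by
      intro g hg w hw
      have hcA : Commute a b := hb.2.2
      have k : ∀ {p q : G}, Commute p q → Commute (g * p * g⁻¹) (g * q * g⁻¹) := fun h =>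
        (commute_conj g _ _).2 h
      have kn : ∀ {p q : G}, p ≠ q → g * p * g⁻¹ ≠ g * q * g⁻¹ := fun h e =>
        h (mul_left_cancel (mul_right_cancel e))
      have hprod : ∀ {p q r : G}, p * q * r = a * b * c → a * b * c =
          g * p * g⁻¹ * (g * q * g⁻¹) * (g * r * g⁻¹) := fun {p q r} e => by
        rw [show g * p * g⁻¹ * (g * q * g⁻¹) * (g * r * g⁻¹) = g * (p * q * r) * g⁻¹ by group, e]
        exact (hfix hg).symm
      have hm : ∀ {p}, p ∈ D → g * p * g⁻¹ ∈ D := fun hp => hD.2.1 g _ hp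
      rcases hw with rfl | rfl | rfl
      · exact triple_unique hT hM.noTwins hM.noTwins2 ha hb.1 hc.1.1 (hm ha) (hm hb.1) (hm hc.1.1)
          hb.2.2 hc.1.2.2 hc.2.2 hnab hnac hnbc (k hb.2.2) (k hc.1.2.2) (k hc.2.2) (kn hnab)
          (kn hnac) (kn hnbc) (hprod rfl)
      · exact triple_unique hT hM.noTwins hM.noTwins2 ha hb.1 hc.1.1 (hm hb.1) (hm ha) (hm hc.1.1)
          hb.2.2 hc.1.2.2 hc.2.2 hnab hnac hnbc (k hb.2.2.symm) (k hc.2.2) (k hc.1.2.2)
          (kn hnab.symm) (kn hnbc) (kn hnac) (hprod (by rw [hcA.eq]))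
      · exact triple_unique hT hM.noTwins hM.noTwins2 ha hb.1 hc.1.1 (hm hc.1.1) (hm ha) (hm hb.1)
          hb.2.2 hc.1.2.2 hc.2.2 hnab hnac hnbc (k hc.1.2.2.symm) (k hc.2.2.symm) (k hb.2.2)
          (kn hnac.symm) (kn hnbc.symm) (kn hnab)
          (hprod ((mul_assoc w a b).trans (hc.1.2.2.symm.mul_right hc.2.2.symm).eq))
    have h3 := card_eq_orbit_mul M a {a, b, c} (fun g hg => huniq g hg a (Or.inl rfl))
      fun y hy => by
        rcases hy with rfl | rfl | rfl
        · exact ⟨1, one_mem _, by simp⟩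
        · obtain ⟨g, g1, g2, g3⟩ := exists_conj_triple23 hD hcls hM hE hclsE h22 hcov ha hb hc hb.1
            (b' := a) (c' := c) (dperp_symm ha hb) ⟨⟨hc.1.1, hc.2⟩, hc.1.2⟩
          exact ⟨g, hperm g1 g2 g3 (by rw [hb.2.2.eq]), g1⟩
        · obtain ⟨g, g1, g2, g3⟩ := exists_conj_triple23 hD hcls hM hE hclsE h22 hcov ha hb hc hc.1.1
            (b' := a) (c' := b) (dperp_symm ha hc.1) ⟨⟨hb.1, hnbc, hc.2.2.symm⟩, hb.2⟩
          exact ⟨g, hperm g1 g2 g3
            ((mul_assoc y a b).trans (hc.1.2.2.symm.mul_right hc.2.2.symm).eq), g1⟩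
    have h4 := card_eq_orbit_mul (M ⊓ A) b {b, c} (fun g hg => by
        obtain ⟨g1, g2⟩ := Subgroup.mem_inf.1 hg
        rcases huniq g g1 b (Or.inr (Or.inl rfl)) with e | e | e
        · exact absurd (mul_left_cancel (mul_right_cancel (e.trans (hfix g2).symm))) hnab.symm
        · exact Or.inl e
        · exact Or.inr e)
      fun y hy => by
        rcases hy with rfl | rfl
        · exact ⟨1, one_mem _, by simp⟩
        · obtain ⟨g, g1, g2, g3⟩ := exists_conj_triple23 hD hcls hM hE hclsE h22 hcov ha hb hc ha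
            (b' := y) (c' := b) hc.1 ⟨hb, hnbc, hc.2.2.symm⟩
          exact ⟨g, Subgroup.mem_inf.2 ⟨hperm g1 g2 g3 (by
            rw [mul_assoc, ← hc.2.2.eq, ← mul_assoc]), hmk g1⟩, g2⟩
    rw [show ({a, b, c} : Set G).ncard = 3 from Set.ncard_eq_three.2 ⟨a, b, c, hnab, hnac, hnbc, rfl⟩]
      at h3
    rw [Set.ncard_pair hnbc] at h4
    have e : M ⊓ A ⊓ B = A ⊓ B ⊓ C := by
      ext g
      simp only [Subgroup.mem_inf]
      constructor
      · rintro ⟨⟨g1, g2⟩, g3⟩
        refine ⟨⟨g2, g3⟩, hmk (mul_left_cancel (a := a * b) ?_)⟩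
        calc a * b * (g * c * g⁻¹) = g * a * g⁻¹ * (g * b * g⁻¹) * (g * c * g⁻¹) := by
              rw [hfix g2, hfix g3]
          _ = g * (a * b * c) * g⁻¹ := by group
          _ = a * b * c := hfix g1
      · rintro ⟨⟨g1, g2⟩, g3⟩
        exact ⟨⟨hperm (hfix g1) (hfix g2) (hfix g3) rfl, g1⟩, g2⟩
    rw [e] at h4
    rw [h2] at h1
    rw [h3, h4]
    linarith

/-- The three classes of involutions of type M(23). -/
theorem involution_classes_M23 :
    (∀ m : ℕ, 1 ≤ m → m ≤ 3 → (∃ x : G, orderOf x = 2 ∧ ∃ l, Factor D m x l) ∧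
      ∀ x y : G, (∃ l, Factor D m x l) → (∃ l, Factor D m y l) → IsConj x y) ∧
    ∀ (m m' : ℕ) (x : G), 1 ≤ m → m ≤ 3 → 1 ≤ m' → m' ≤ 3 → (∃ l, Factor D m x l) →
      (∃ l, Factor D m' x l) → m = m' := by
  have hT := hD.1
  have hL := layers23 hD hE h22 hcov
  have hext : ∀ {a b : G}, a ∈ D → b ∈ dperp D a → ∃ c, c ∈ dperp (dperp D a) b := fun ha hb => by
    have := (hL _ ha).card1 _ hb
    exact Set.nonempty_of_ncard_ne_zero (by rw [this]; norm_num)
  have hcard : ∀ {m : ℕ} {x : G}, 1 ≤ m → m ≤ 3 → (∃ l, Factor D m x l) →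
      (m = 1 ∧ x ∈ D) ∨ (m = 2 ∧ ∃ a ∈ D, ∃ b ∈ dperp D a, x = a * b) ∨
        (m = 3 ∧ ∃ a ∈ D, ∃ b ∈ dperp D a, ∃ c ∈ dperp (dperp D a) b, x = a * b * c) := by
    rintro m x h1 h3 ⟨l, hn, hl, hmem, hco, hp⟩
    interval_cases m
    · obtain ⟨a, rfl⟩ := List.length_eq_one_iff.1 hl
      exact Or.inl ⟨rfl, by rw [← hp]; simpa using hmem⟩
    · obtain ⟨a, b, rfl⟩ := List.length_eq_two.1 hl
      simp only [List.nodup_cons, List.mem_cons, List.not_mem_nil, or_false, not_or] at hn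
      exact Or.inr (Or.inl ⟨rfl, a, hmem a (by simp), b,
        ⟨hmem b (by simp), Ne.symm hn.1, hco a (by simp) b (by simp)⟩, by rw [← hp]; simp⟩)
    · obtain ⟨a, b, c, rfl⟩ := List.length_eq_three.1 hl
      simp only [List.nodup_cons, List.mem_cons, List.not_mem_nil, or_false, not_or] at hn
      exact Or.inr (Or.inr ⟨rfl, a, hmem a (by simp), b,
        ⟨hmem b (by simp), Ne.symm hn.1.1, hco a (by simp) b (by simp)⟩, c,
        ⟨⟨hmem c (by simp), Ne.symm hn.1.2, hco a (by simp) c (by simp)⟩, Ne.symm hn.2.1,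
          hco b (by simp) c (by simp)⟩, by rw [← hp]; simp [mul_assoc]⟩)
  have key := fun {m} {x} h1 h3 h => hcard (m := m) (x := x) h1 h3 h
  have h1c := fun {a : G} (ha : a ∈ D) => card_centralizer23 hD hcls hM hE hclsE h22 hcov ha
  have h2c : ∀ {a b : G}, a ∈ D → b ∈ dperp D a →
      Nat.card ↥(Subgroup.centralizer ({a * b} : Set G)) * 3510 = 4 * (3510 * 18393661440) :=
    fun ha hb => by
      obtain ⟨c, hc⟩ := hext ha hb
      exact (card_centralizer_products hD hcls hM hE hclsE h22 hcov ha hb hc).1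
  have h3c := fun {a b c : G} (ha : a ∈ D) (hb : b ∈ dperp D a) (hc : c ∈ dperp (dperp D a) b) =>
    (card_centralizer_products hD hcls hM hE hclsE h22 hcov ha hb hc).2
  refine ⟨fun m h1 h3 => ⟨?_, fun x y hx hy => ?_⟩, fun m m' x h1 h3 h1' h3' hx hx' => ?_⟩
  · obtain ⟨-, ⟨a, ha, -⟩, -⟩ := id hcls
    obtain ⟨b, hb⟩ : ∃ b, b ∈ dperp D a :=
      Set.nonempty_of_ncard_ne_zero (by rw [(hL a ha).card]; norm_num)
    obtain ⟨c, hc⟩ := hext ha hb
    have hG := card_M23 hD hcls hM hE hclsE h22 hcov ha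
    have hord : ∀ {x : G}, x * x = 1 →
        Nat.card ↥(Subgroup.centralizer ({x} : Set G)) < Nat.card G → orderOf x = 2 := by
      intro x h hlt
      refine orderOf_eq_prime (by rw [sq, h]) fun h1 => ?_
      rw [h1, Subgroup.centralizer_eq_top_iff_subset.2 (by simp), Subgroup.card_top] at hlt
      exact lt_irrefl _ hlt
    interval_cases m
    · exact ⟨a, hT.1 a ha, _, factor_one ha⟩
    · exact ⟨a * b, hord ((factor_two ha hb).sq_eq_one hT) (by
        have := h2c ha hb; norm_num at hG; omega), _, factor_two ha hb⟩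
    · exact ⟨a * b * c, hord ((factor_three ha hb hc).sq_eq_one hT) (by
        have := h3c ha hb hc; norm_num at hG; omega), _, factor_three ha hb hc⟩
  · rcases key h1 h3 hx with ⟨rfl, k1⟩ | ⟨rfl, a, ha, b, hb, rfl⟩ | ⟨rfl, a, ha, b, hb, c, hc, rfl⟩
    · rcases key h1 h3 hy with ⟨-, k2⟩ | ⟨h, -⟩ | ⟨h, -⟩
      exacts [isConj_iff.2 (class_isConj hcls k1 k2), absurd h (by norm_num), absurd h (by norm_num)]
    · rcases key h1 h3 hy with ⟨h, -⟩ | ⟨-, a', ha', b', hb', rfl⟩ | ⟨h, -⟩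
      · exact absurd h (by norm_num)
      · obtain ⟨c, hc⟩ := hext ha hb
        obtain ⟨c', hc'⟩ := hext ha' hb'
        obtain ⟨g, g1, g2, -⟩ := exists_conj_triple23 hD hcls hM hE hclsE h22 hcov ha hb hc ha' hb' hc'
        exact isConj_iff.2 ⟨g, by rw [← g1, ← g2]; group⟩
      · exact absurd h (by norm_num)
    · rcases key h1 h3 hy with ⟨h, -⟩ | ⟨h, -⟩ | ⟨-, a', ha', b', hb', c', hc', rfl⟩
      exacts [absurd h (by norm_num), absurd h (by norm_num),
        isConj_iff.2 ((exists_conj_triple23 hD hcls hM hE hclsE h22 hcov ha hb hc ha' hb' hc').imp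
          fun g ⟨g1, g2, g3⟩ => by rw [← g1, ← g2, ← g3]; group)]
  · rcases key h1 h3 hx with ⟨rfl, k⟩ | ⟨rfl, a, ha, b, hb, e⟩ | ⟨rfl, a, ha, b, hb, c, hc, e⟩ <;>
    rcases key h1' h3' hx' with ⟨rfl, k'⟩ | ⟨rfl, a', ha', b', hb', e'⟩ |
      ⟨rfl, a', ha', b', hb', c', hc', e'⟩ <;> first
      | rfl
      | (exfalso
         have q := h1c k
         first
          | (have q' := h2c ha' hb'; rw [← e'] at q'; omega)
          | (have q' := h3c ha' hb' hc'; rw [← e'] at q'; omega))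
      | (exfalso
         have q := h2c ha hb
         rw [← e] at q
         first
          | (have q' := h1c k'; omega)
          | (have q' := h3c ha' hb' hc'; rw [← e'] at q'; omega))
      | (exfalso
         have q := h3c ha hb hc
         rw [← e] at q
         first
          | (have q' := h1c k'; omega)
          | (have q' := h2c ha' hb'; rw [← e'] at q'; omega))

end Cfsg.Agent.ThreeTrans
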