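import Cfsg.Agent.ThreeTrans.PrimeUnitary
import Cfsg.Agent.ThreeTrans.InvolM23

/-!
# Fixed members of elements of prime order
-/

set_option autoImplicit false

open Cfsg
open scoped Pointwise

namespace Cfsg.Agent.ThreeTrans

variable {G : Type*} [Group G]

/-- The members of an invariant set commuting with an element of prime order, modulo that prime. -/
theorem ncard_fixed_modEq [Finite G] {S : Set G} {x : G} (hS : ∀ u ∈ S, x * u * x⁻¹ ∈ S) {p : ℕ}
    (hp : p.Prime) (hx : x ^ p = 1) : {u | u ∈ S ∧ Commute x u}.ncard % p = S.ncard % p := by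
  classical
  have := Fact.mk hp
  have := (Set.toFinite S).fintype
  have hpow : ∀ (n : ℕ), ∀ u ∈ S, x ^ n * u * (x ^ n)⁻¹ ∈ S := by
    intro n
    induction n with
    | zero => intro u hu; simpa using hu
    | succ n ih =>
      intro u hu
      rw [show x ^ (n + 1) * u * (x ^ (n + 1))⁻¹ = x * (x ^ n * u * (x ^ n)⁻¹) * x⁻¹ by
        rw [pow_succ']; group]
      exact hS _ (ih u hu)
  have hinv : x⁻¹ = x ^ (p - 1) := inv_eq_of_mul_eq_one_right (by
    rw [← pow_succ', Nat.sub_add_cancel hp.pos, hx])
  let σ : Equiv.Perm S :=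
    { toFun := fun u => ⟨x * u * x⁻¹, hS u u.2⟩
      invFun := fun u => ⟨x⁻¹ * u * x⁻¹⁻¹, by rw [hinv]; exact hpow _ u u.2⟩
      left_inv := fun u => Subtype.ext (by group)
      right_inv := fun u => Subtype.ext (by group) }
  have hσ : ∀ (n : ℕ) (u : S), ((σ ^ n) u : G) = x ^ n * u * (x ^ n)⁻¹ := by
    intro n
    induction n with
    | zero => intro u; simp
    | succ n ih =>
      intro u
      rw [pow_succ', Equiv.Perm.mul_apply]
      show x * ((σ ^ n) u : G) * x⁻¹ = _
      rw [ih u]
      group
  have h := Equiv.Perm.card_compl_support_modEq (p := p) (n := 1) (σ := σ)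
    (Equiv.ext fun u => Subtype.ext (by rw [pow_one, hσ, hx]; simp))
  rw [← Nat.card_eq_fintype_card, Nat.card_coe_set_eq] at h
  rw [← h]
  congr 1
  rw [← Set.ncard_coe_finset, ← Set.ncard_image_of_injective _ Subtype.val_injective]
  congr 1
  ext u
  constructor
  · rintro ⟨hu, hc⟩
    refine ⟨⟨u, hu⟩, ?_, rfl⟩
    simp only [Finset.coe_compl, Set.mem_compl_iff, Finset.mem_coe, Equiv.Perm.mem_support, not_not]
    exact Subtype.ext (mul_inv_eq_iff_eq_mul.2 hc.eq)
  · rintro ⟨u, hu, rfl⟩
    simp only [Finset.coe_compl, Set.mem_compl_iff, Finset.mem_coe, Equiv.Perm.mem_support, not_not] at hu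
    exact ⟨u.2, mul_inv_eq_iff_eq_mul.1 (congrArg Subtype.val hu)⟩

/-- An element of prime order commutes with some member of an invariant set of size prime to it. -/
theorem exists_fixed_of_pow [Finite G] {S : Set G} {x : G} (hS : ∀ u ∈ S, x * u * x⁻¹ ∈ S) {p : ℕ}
    (hp : p.Prime) (hx : x ^ p = 1) (hn : ¬ p ∣ S.ncard) : ∃ u ∈ S, Commute x u := by
  refine Set.nonempty_of_ncard_ne_zero (s := {u | u ∈ S ∧ Commute x u}) fun h => hn (Nat.dvd_of_mod_eq_zero ?_)
  rw [← ncard_fixed_modEq hS hp hx, h, Nat.zero_mod]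

/-- Centralising a subgroup of prime order is centralising one of its elements other than 1. -/
theorem exists_gen {X : Subgroup G} {p : ℕ} (hp : p.Prime) (hX : Nat.card X = p) :
    ∃ x : G, orderOf x = p ∧ Subgroup.zpowers x = X ∧
      Subgroup.centralizer (X : Set G) = Subgroup.centralizer ({x} : Set G) := by
  have := Fact.mk hp
  have : Finite X := Nat.finite_of_card_ne_zero (by rw [hX]; exact hp.ne_zero)
  have : Nontrivial X := Finite.one_lt_card_iff_nontrivial.1 (by rw [hX]; exact hp.one_lt)
  obtain ⟨g, hg⟩ := exists_ne (1 : X)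
  have ho : orderOf g = p := ((Nat.dvd_prime hp).1 (hX ▸ orderOf_dvd_natCard g)).resolve_left
    fun h => hg (orderOf_eq_one_iff.1 h)
  have hz : Subgroup.zpowers (g : G) = X := by
    refine Subgroup.eq_of_le_of_card_ge (Subgroup.zpowers_le.2 g.2) ?_
    rw [hX, Nat.card_zpowers, Subgroup.orderOf_coe, ho]
  refine ⟨g, by rw [Subgroup.orderOf_coe, ho], hz, ?_⟩
  conv_lhs => rw [← hz]
  rw [Subgroup.zpowers_eq_closure, Subgroup.centralizer_closure]

/-- In a nonabelian simple group the conditions for transitivity on the members which do not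
commute with one of them hold. -/
theorem sol_perf_of_simple (hG : IsSimpleGroup G) (hp : commutator G = ⊤) :
    (∀ N : Subgroup G, N.Normal → N ≤ commutator G → Group.IsSolvable N → N = ⊥) ∧
      ⁅commutator G, commutator G⁆ = commutator G := by
  refine ⟨fun N hN _ hs => ?_, by rw [hp, ← commutator_def, hp]⟩
  rcases hG.eq_bot_or_eq_top_of_normal N hN with h | h
  · exact h
  · subst h
    have : Nontrivial G := hG.toNontrivial
    exfalso
    have hs' : Group.IsSolvable G := Group.isSolvable_of_surjective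
      (f := (Subgroup.topEquiv : (⊤ : Subgroup G) ≃* G).toMonoidHom) Subgroup.topEquiv.surjective
    exact (Group.IsSolvable.commutator_lt_top_of_nontrivial G).ne hp

/-- Splitting a set at the members commuting with one of them. -/
theorem ncard_nonpartners [Finite G] {D : Set G} {a : G} (ha : a ∈ D) :
    {e | e ∈ D ∧ ¬ Commute a e}.ncard + ((dperp D a).ncard + 1) = D.ncard := by
  have hsplit : D = {e | e ∈ D ∧ ¬ Commute a e} ∪ insert a (dperp D a) := by
    apply Set.ext
    intro e
    constructor
    · intro he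
      by_cases hae : Commute a e
      · refine Or.inr ?_
        rcases eq_or_ne e a with rfl | hne
        · exact Set.mem_insert _ _
        · exact Set.mem_insert_of_mem _ ⟨he, hne, hae⟩
      · exact Or.inl ⟨he, hae⟩
    · rintro (h | rfl | h)
      exacts [h.1, ha, h.1]
  conv_rhs => rw [hsplit]
  rw [Set.ncard_union_eq ?_ (Set.toFinite _) (Set.toFinite _),
    Set.ncard_insert_of_notMem (fun h => h.2.1 rfl) (Set.toFinite _)]
  refine Set.disjoint_left.2 ?_
  rintro e he (rfl | he')
  · exact he.2 (Commute.refl _)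
  · exact he.2 he'.2.2

/-- The subgroup generated by subgroups of coprime orders, one normalising the other. -/
theorem card_sup_coprime [Finite G] {X P : Subgroup G} (hP : P ≤ Subgroup.normalizer (X : Set G))
    (hco : (Nat.card P).Coprime (Nat.card X)) :
    Nat.card ↥(P ⊔ X) = Nat.card P * Nat.card X := by
  refine le_antisymm ?_ (Nat.le_of_dvd Nat.card_pos (hco.mul_dvd_of_dvd_of_dvd
    (Subgroup.card_dvd_of_le le_sup_left) (Subgroup.card_dvd_of_le le_sup_right)))
  have h := Subgroup.coe_mul_of_left_le_normalizer_right P X hP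
  calc Nat.card ↥(P ⊔ X) = Nat.card ↑((P ⊔ X : Subgroup G) : Set G) := rfl
    _ = Nat.card ↑((P : Set G) * (X : Set G)) := by rw [h]
    _ ≤ _ := Set.natCard_mul_le

end Cfsg.Agent.ThreeTrans
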