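import Cfsg.Agent.ThreeTrans.WidthOne

/-!
# The two partner relations on a set of 3-transpositions

`Tau x y`: `x` and `y` commute with the same members; `Theta x y`: apart from themselves they commute
with the same members. The classes are the cosets of the 2-core, respectively of the 3-core.
-/

set_option autoImplicit false

open Cfsg

namespace Cfsg.Agent.ThreeTrans

variable {G : Type*} [Group G] {D : Set G} {x y z d e g : G}

/-- Same commuting partners. -/
def Tau (D : Set G) (x y : G) : Prop := ∀ e ∈ D, Commute x e ↔ Commute y e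

/-- Same commuting partners apart from themselves. -/
def Theta (D : Set G) (x y : G) : Prop :=
  ∀ e ∈ D, (e ≠ x ∧ Commute x e) ↔ (e ≠ y ∧ Commute y e)

theorem tau_refl (x : G) : Tau D x x := fun _ _ => Iff.rfl
theorem tau_symm (h : Tau D x y) : Tau D y x := fun e he => (h e he).symm
theorem tau_trans (h : Tau D x y) (h' : Tau D y z) : Tau D x z :=
  fun e he => (h e he).trans (h' e he)
theorem theta_refl (x : G) : Theta D x x := fun _ _ => Iff.rfl
theorem theta_symm (h : Theta D x y) : Theta D y x := fun e he => (h e he).symm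
theorem theta_trans (h : Theta D x y) (h' : Theta D y z) : Theta D x z :=
  fun e he => (h e he).trans (h' e he)

theorem conj_partner (hc : ∀ g : G, ∀ d ∈ D, g * d * g⁻¹ ∈ D) (g : G) {e : G} (he : e ∈ D) :
    ∃ e' ∈ D, g * e' * g⁻¹ = e :=
  ⟨g⁻¹ * e * g, by simpa using hc g⁻¹ e he, by group⟩

theorem tau_conj (hc : ∀ g : G, ∀ d ∈ D, g * d * g⁻¹ ∈ D) (g : G) (h : Tau D x y) :
    Tau D (g * x * g⁻¹) (g * y * g⁻¹) := by
  intro e he
  obtain ⟨e', he', rfl⟩ := conj_partner hc g he
  rw [commute_conj, commute_conj]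
  exact h e' he'

theorem theta_conj (hc : ∀ g : G, ∀ d ∈ D, g * d * g⁻¹ ∈ D) (g : G) (h : Theta D x y) :
    Theta D (g * x * g⁻¹) (g * y * g⁻¹) := by
  intro e he
  obtain ⟨e', he', rfl⟩ := conj_partner hc g he
  rw [commute_conj, commute_conj]
  simp only [ne_eq, mul_left_inj, mul_right_inj]
  exact h e' he'

theorem theta_eq_setOf :
    {w : G | w ∈ D ∧ {v : G | v ∈ D ∧ v ≠ d ∧ Commute d v} = {v : G | v ∈ D ∧ v ≠ w ∧ Commute w v}}
      = {w : G | w ∈ D ∧ Theta D d w} := by
  apply Set.ext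
  intro w
  constructor
  · rintro ⟨hw, h⟩
    refine ⟨hw, fun e he => ?_⟩
    constructor
    · intro hh
      have h2 : e ∈ {v : G | v ∈ D ∧ v ≠ d ∧ Commute d v} := ⟨he, hh⟩
      rw [h] at h2
      exact h2.2
    · intro hh
      have h2 : e ∈ {v : G | v ∈ D ∧ v ≠ w ∧ Commute w v} := ⟨he, hh⟩
      rw [← h] at h2
      exact h2.2
  · rintro ⟨hw, h⟩
    refine ⟨hw, Set.ext fun e => ?_⟩
    exact ⟨fun hh => ⟨hh.1, (h e hh.1).1 hh.2⟩, fun hh => ⟨hh.1, (h e hh.1).2 hh.2⟩⟩

theorem commute_of_tau (hx : x ∈ D) (h : Tau D x y) : Commute x y :=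
  ((h x hx).1 (Commute.refl x)).symm

theorem not_commute_of_theta (hy : y ∈ D) (h : Theta D x y) (hne : x ≠ y) : ¬ Commute x y :=
  fun hcm => ((h y hy).1 ⟨hne.symm, hcm⟩).1 rfl

/-- Conjugating by a related pair gives a related element. -/
theorem tau_move (hD : IsThreeTranspositionSet D) (hc : ∀ g : G, ∀ d ∈ D, g * d * g⁻¹ ∈ D)
    (hx : x ∈ D) (hy : y ∈ D) (hz : z ∈ D) (h : Tau D x y) :
    Tau D (x * y * z * (x * y)⁻¹) z := by
  have key : Tau D (x * z * x) (y * z * y) := by
    by_cases hzc : Commute x z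
    · rw [conj_self_of_commute hD hx hzc, conj_self_of_commute hD hy ((h z hz).1 hzc)]
      exact tau_refl z
    · rw [braid hD hx hz hzc, braid hD hy hz (fun hh => hzc ((h z hz).2 hh)),
        conj_involution hD hz, conj_involution hD hz]
      exact tau_conj hc z h
  have h2 := tau_conj hc x key
  rw [← conj_involution hD hx, ← conj_involution hD hx,
    show x * (x * z * x) * x = z by simp only [mul_assoc, mul_self_mul hD hx, mul_self hD hx, mul_one]]
    at h2
  rw [show x * y * z * (x * y)⁻¹ = x * (y * z * y) * x by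
    rw [mul_inv_rev, inv_eq hD hx, inv_eq hD hy]; simp only [mul_assoc]]
  exact tau_symm h2

theorem theta_move (hD : IsThreeTranspositionSet D) (hc : ∀ g : G, ∀ d ∈ D, g * d * g⁻¹ ∈ D)
    (hx : x ∈ D) (hy : y ∈ D) (hz : z ∈ D) (h : Theta D x y) :
    Theta D (x * y * z * (x * y)⁻¹) z := by
  have key : Theta D (x * z * x) (y * z * y) := by
    by_cases hxy : x = y
    · subst hxy; exact theta_refl _
    have hnc := not_commute_of_theta hy h hxy
    by_cases hzx : z = x
    · subst hzx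
      rw [mul_self hD hx, one_mul]
      have h2 := theta_conj hc y h
      rw [← conj_involution hD hy, ← conj_involution hD hy, mul_self hD hy, one_mul] at h2
      exact theta_trans h (theta_symm h2)
    by_cases hzy : z = y
    · subst hzy
      rw [mul_self hD hy, one_mul]
      have h2 := theta_conj hc x h
      rw [← conj_involution hD hx, ← conj_involution hD hx, mul_self hD hx, one_mul] at h2
      exact theta_trans (theta_symm h2) h
    by_cases hzc : Commute x z
    · rw [conj_self_of_commute hD hx hzc, conj_self_of_commute hD hy ((h z hz).1 ⟨hzx, hzc⟩).2]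
      exact theta_refl z
    · rw [braid hD hx hz hzc, braid hD hy hz (fun hh => hzc ((h z hz).2 ⟨hzy, hh⟩).2),
        conj_involution hD hz, conj_involution hD hz]
      exact theta_conj hc z h
  have h2 := theta_conj hc x key
  rw [← conj_involution hD hx, ← conj_involution hD hx,
    show x * (x * z * x) * x = z by simp only [mul_assoc, mul_self_mul hD hx, mul_self hD hx, mul_one]]
    at h2
  rw [show x * y * z * (x * y)⁻¹ = x * (y * z * y) * x by
    rw [mul_inv_rev, inv_eq hD hx, inv_eq hD hy]; simp only [mul_assoc]]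
  exact theta_symm h2

section Core

variable [Finite G] {p : ℕ} [Fact p.Prime]

/-- Products of related pairs lie in the `p`-core, if within each class they generate a `p`-group. -/
theorem mul_mem_pCore_of_classes (hc : ∀ g : G, ∀ d ∈ D, g * d * g⁻¹ ∈ D)
    {R : G → G → Prop} (hrefl : ∀ a, R a a)
    (hsymm : ∀ {a b}, R a b → R b a) (htrans : ∀ {a b c}, R a b → R b c → R a c)
    (hconj : ∀ (g : G) {a b}, R a b → R (g * a * g⁻¹) (g * b * g⁻¹))
    (hmove : ∀ {a b c}, a ∈ D → b ∈ D → c ∈ D → R a b → R (a * b * c * (a * b)⁻¹) c)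
    (hclass : ∀ x ∈ D, IsPGroup p
      (Subgroup.closure {n : G | ∃ a ∈ D, ∃ b ∈ D, R x a ∧ R x b ∧ n = a * b}))
    (hx : x ∈ D) (hy : y ∈ D) (h : R x y) : x * y ∈ pCore p G := by
  set N := Subgroup.closure {n : G | ∃ a ∈ D, ∃ b ∈ D, R a b ∧ n = a * b} with hN
  have hNn : N.Normal := by
    refine closure_normal ?_
    rintro g - ⟨a, ha, b, hb, hab, rfl⟩
    exact ⟨_, hc g a ha, _, hc g b hb, hconj g hab, by group⟩
  have hfix : ∀ n ∈ N, ∀ c ∈ D, R (n * c * n⁻¹) c := by
    intro n hn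
    induction hn using Subgroup.closure_induction with
    | mem n hn =>
      obtain ⟨a, ha, b, hb, hab, rfl⟩ := hn
      exact fun c hc' => hmove ha hb hc' hab
    | one => intro c _; simpa using hrefl c
    | mul u v _ _ hu hv =>
      intro c hc'
      have h1 := hconj u (hv c hc')
      have e : u * v * c * (u * v)⁻¹ = u * (v * c * v⁻¹) * u⁻¹ := by group
      rw [e]
      exact htrans h1 (hu c hc')
    | inv u _ hu =>
      intro c hc'
      have h1 := hconj u⁻¹ (hu c hc')
      rw [show u⁻¹ * (u * c * u⁻¹) * u⁻¹⁻¹ = c by group] at h1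
      exact hsymm h1
  set X := Subgroup.closure {n : G | ∃ a ∈ D, ∃ b ∈ D, R x a ∧ R x b ∧ n = a * b} with hX
  have hXN : X ≤ N := by
    refine Subgroup.closure_mono ?_
    rintro - ⟨a, ha, b, hb, h1, h2, rfl⟩
    exact ⟨a, ha, b, hb, htrans (hsymm h1) h2, rfl⟩
  have hconjX : ∀ k ∈ N, ∀ n ∈ X, k * n * k⁻¹ ∈ X := by
    intro k hk n hn
    induction hn using Subgroup.closure_induction with
    | mem n hn =>
      obtain ⟨a, ha, b, hb, h1, h2, rfl⟩ := hn
      refine Subgroup.subset_closure ⟨_, hc k a ha, _, hc k b hb, ?_, ?_, by group⟩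
      · exact htrans h1 (hsymm (hfix k hk a ha))
      · exact htrans h2 (hsymm (hfix k hk b hb))
    | one => simp
    | mul u v _ _ hu hv =>
      rw [show k * (u * v) * k⁻¹ = (k * u * k⁻¹) * (k * v * k⁻¹) by group]
      exact mul_mem hu hv
    | inv u _ hu =>
      rw [show k * u⁻¹ * k⁻¹ = (k * u * k⁻¹)⁻¹ by group]
      exact inv_mem hu
  have hXn : (X.subgroupOf N).Normal := ⟨fun n hn k => hconjX k.1 k.2 n.1 hn⟩
  have hmem : x * y ∈ X := Subgroup.subset_closure ⟨x, hx, y, hy, hrefl x, h, rfl⟩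
  have h1 : (⟨x * y, hXN hmem⟩ : N) ∈ pCore p N :=
    Core.le_pCore (hN := hXn) ((hclass x hx).comap_subtype) hmem
  have h2 : x * y ∈ (pCore p N).map N.subtype := ⟨_, h1, rfl⟩
  rw [Core.map_pCore_normal] at h2
  exact h2.1

end Core

theorem tau_mem_pCore [Finite G] (hD : IsThreeTranspositionSet D)
    (hc : ∀ g : G, ∀ d ∈ D, g * d * g⁻¹ ∈ D) (hx : x ∈ D) (hy : y ∈ D) (h : Tau D x y) :
    x * y ∈ pCore 2 G := by
  have : Fact (Nat.Prime 2) := ⟨Nat.prime_two⟩
  refine mul_mem_pCore_of_classes hc tau_refl tau_symm tau_trans (fun g => tau_conj hc g)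
    (tau_move hD hc) ?_ hx hy h
  intro u _ ⟨n, hn⟩
  set C := {a : G | a ∈ D ∧ Tau D u a}
  have hcomm : ∀ a ∈ C, ∀ b ∈ C, Commute a b := fun a ha b hb =>
    commute_of_tau ha.1 (tau_trans (tau_symm ha.2) hb.2)
  have hgen : {n : G | ∃ a ∈ D, ∃ b ∈ D, Tau D u a ∧ Tau D u b ∧ n = a * b} ⊆
      (Subgroup.closure C : Set G) := by
    rintro - ⟨a, ha, b, hb, h1, h2, rfl⟩
    exact mul_mem (Subgroup.subset_closure ⟨ha, h1⟩) (Subgroup.subset_closure ⟨hb, h2⟩)
  have hsq : ∀ m ∈ Subgroup.closure C, m ^ 2 = 1 ∧ ∀ c ∈ C, Commute m c := by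
    intro m hm
    induction hm using Subgroup.closure_induction with
    | mem a ha => exact ⟨by rw [sq, mul_self hD ha.1], hcomm a ha⟩
    | one => exact ⟨one_pow 2, fun c _ => Commute.one_left c⟩
    | mul a b _ hb' ha hb =>
      have hab : Commute a b := by
        have hle : Subgroup.closure C ≤ Subgroup.centralizer {a} := by
          rw [Subgroup.closure_le]
          intro c hc'
          exact Subgroup.mem_centralizer_singleton_iff.2 (ha.2 c hc').symm.eq
        exact (Subgroup.mem_centralizer_singleton_iff.1 (hle hb')).symm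
      exact ⟨by rw [hab.mul_pow, ha.1, hb.1, one_mul],
        fun c hc' => (ha.2 c hc').mul_left (hb.2 c hc')⟩
    | inv a _ ha => exact ⟨by rw [inv_pow, ha.1, inv_one], fun c hc' => (ha.2 c hc').inv_left⟩
  exact ⟨1, Subtype.ext (by simpa using (hsq n ((Subgroup.closure_le _).2 hgen hn)).1)⟩

theorem theta_mem_pCore [Finite G] (hD : IsThreeTranspositionSet D)
    (hc : ∀ g : G, ∀ d ∈ D, g * d * g⁻¹ ∈ D) (hx : x ∈ D) (hy : y ∈ D) (h : Theta D x y) :
    x * y ∈ pCore 3 G := by
  have : Fact (Nat.Prime 3) := ⟨Nat.prime_three⟩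
  refine mul_mem_pCore_of_classes hc theta_refl theta_symm theta_trans (fun g => theta_conj hc g)
    (theta_move hD hc) ?_ hx hy h
  intro u hu
  set C := {a : G | a ∈ D ∧ Theta D u a}
  set K := Subgroup.closure C with hK
  have hcube : ∀ a ∈ C, ∀ b ∈ C, (a * b) ^ 3 = 1 := by
    intro a ha b hb
    rcases eq_or_ne a b with rfl | hne
    · rw [mul_self hD ha.1, one_pow]
    · exact cube_of_not_commute hD ha.1 hb.1
        (not_commute_of_theta hb.1 (theta_trans (theta_symm ha.2) hb.2) hne)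
  have hinv : ∀ k ∈ K, ∀ a ∈ C, k * a * k⁻¹ ∈ C := by
    intro k hk
    have hgen : ∀ s ∈ C, ∀ a ∈ C, s * a * s⁻¹ ∈ C := by
      intro s hs a ha
      refine ⟨hc s a ha.1, ?_⟩
      have h1 := theta_conj hc s (theta_trans (theta_symm hs.2) ha.2)
      rw [mul_inv_cancel_right] at h1
      exact theta_trans hs.2 h1
    induction hk using Subgroup.closure_induction_left with
    | one => intro a ha; simpa using ha
    | mul_left s hs m _ ih =>
      intro a ha
      rw [show s * m * a * (s * m)⁻¹ = s * (m * a * m⁻¹) * s⁻¹ by group]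
      exact hgen s hs _ (ih a ha)
    | inv_mul_cancel s hs m _ ih =>
      intro a ha
      rw [inv_eq hD hs.1, show s * m * a * (s * m)⁻¹ = s * (m * a * m⁻¹) * s⁻¹ by group]
      exact hgen s hs _ (ih a ha)
  let T : Set K := {a | (a : G) ∈ C}
  have hT : IsCubeSet T :=
    { conj := fun k a ha => hinv k.1 k.2 a.1 ha
      ord := fun a ha => by rw [← Subgroup.orderOf_coe]; exact hD.1 a.1 ha.1
      cube := fun a ha b hb => Subtype.ext (hcube a.1 ha b.1 hb) }
  refine ((Core.pCore_isPGroup (p := 3) (G := K)).map K.subtype).to_le ?_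
  rw [Subgroup.closure_le]
  rintro - ⟨a, ha, b, hb, h1, h2, rfl⟩
  exact ⟨_, hT.mul_mem_pCore (a := ⟨a, Subgroup.subset_closure ⟨ha, h1⟩⟩)
    (b := ⟨b, Subgroup.subset_closure ⟨hb, h2⟩⟩) ⟨ha, h1⟩ ⟨hb, h2⟩, rfl⟩

theorem tau_of_mem_pCore (hD : IsThreeTranspositionSet D) (hx : x ∈ D) (hy : y ∈ D)
    (h : x⁻¹ * y ∈ pCore 2 G) : Tau D x y := by
  have key : ∀ {u v}, u ∈ D → v ∈ D → u⁻¹ * v ∈ pCore 2 G → ∀ e ∈ D,
      Commute u e → Commute v e := by
    intro u v hu hv huv e he hue
    by_contra hve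
    have h3 := cube_of_not_commute hD hv he hve
    let π := QuotientGroup.mk' (pCore 2 G)
    have huv' : π u = π v := QuotientGroup.eq.2 huv
    have h2 : π ((v * e) ^ 2) = 1 := by
      rw [map_pow, map_mul, ← huv', ← map_mul, ← map_pow, (sq_eq_one_iff hD hu he).2 hue, map_one]
    have h1 : π (v * e) = 1 := by
      have := congrArg π h3
      rw [pow_succ, map_mul, h2, one_mul, map_one] at this
      exact this
    have hmem : v * e ∈ pCore 2 G := (QuotientGroup.eq_one_iff _).1 h1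
    have h0 := eq_one_of_mem_pGroup Core.pCore_isPGroup hmem h3 (by norm_num)
    exact hve ((sq_eq_one_iff hD hv he).1 (by rw [h0, one_pow]))
  have h' : y⁻¹ * x ∈ pCore 2 G := by
    have := inv_mem h
    rwa [mul_inv_rev, inv_inv] at this
  exact fun e he => ⟨key hx hy h e he, key hy hx h' e he⟩

theorem theta_of_mem_pCore (hD : IsThreeTranspositionSet D) (hx : x ∈ D) (hy : y ∈ D)
    (h : x⁻¹ * y ∈ pCore 3 G) : Theta D x y := by
  let π := QuotientGroup.mk' (pCore 3 G)
  have key : ∀ {u v}, u ∈ D → v ∈ D → π u = π v → ∀ e ∈ D,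
      e ≠ u ∧ Commute u e → e ≠ v ∧ Commute v e := by
    intro u v hu hv huv e he ⟨heu, hue⟩
    have hne : π (u * e) ≠ 1 := by
      intro h1
      have h0 := eq_one_of_mem_pGroup Core.pCore_isPGroup ((QuotientGroup.eq_one_iff _).1 h1)
        ((sq_eq_one_iff hD hu he).2 hue) (by norm_num)
      exact heu (by have := eq_inv_of_mul_eq_one_right h0; rwa [inv_eq hD hu] at this)
    refine ⟨fun hev => hne ?_, ?_⟩
    · rw [hev, map_mul, huv, ← map_mul, mul_self hD hv, map_one]
    · by_contra hve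
      apply hne
      have h3 := congrArg π (cube_of_not_commute hD hv he hve)
      have h2 : π ((v * e) ^ 2) = 1 := by
        rw [map_pow, map_mul, ← huv, ← map_mul, ← map_pow, (sq_eq_one_iff hD hu he).2 hue, map_one]
      rw [pow_succ, map_mul, h2, one_mul, map_one] at h3
      rw [map_mul, huv, ← map_mul]
      exact h3
  have hπ : π x = π y := QuotientGroup.eq.2 h
  exact fun e he => ⟨key hx hy hπ e he, key hy hx hπ.symm e he⟩

theorem tau_iff [Finite G] (hD : IsThreeTranspositionGroup D) (hx : x ∈ D) (hy : y ∈ D) :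
    Tau D x y ↔ x⁻¹ * y ∈ pCore 2 G :=
  ⟨fun h => by rw [inv_eq hD.1 hx]; exact tau_mem_pCore hD.1 hD.2.1 hx hy h,
    tau_of_mem_pCore hD.1 hx hy⟩

theorem theta_iff [Finite G] (hD : IsThreeTranspositionGroup D) (hx : x ∈ D) (hy : y ∈ D) :
    Theta D x y ↔ x⁻¹ * y ∈ pCore 3 G :=
  ⟨fun h => by rw [inv_eq hD.1 hx]; exact theta_mem_pCore hD.1 hD.2.1 hx hy h,
    theta_of_mem_pCore hD.1 hx hy⟩

theorem pCore_eq_bot_of_no_solvable [Finite G] {p : ℕ} [Fact p.Prime]
    (hsol : ∀ N : Subgroup G, N.Normal → Group.IsSolvable N → N = ⊥) : pCore p G = ⊥ := by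
  have := (Core.pCore_isPGroup (p := p) (G := G)).isNilpotent
  exact hsol _ inferInstance inferInstance

theorem eq_of_tau [Finite G] (hD : IsThreeTranspositionSet D)
    (hc : ∀ g : G, ∀ d ∈ D, g * d * g⁻¹ ∈ D)
    (hsol : ∀ N : Subgroup G, N.Normal → Group.IsSolvable N → N = ⊥)
    (hx : x ∈ D) (hy : y ∈ D) (h : Tau D x y) : x = y := by
  have : Fact (Nat.Prime 2) := ⟨Nat.prime_two⟩
  have h1 := tau_mem_pCore hD hc hx hy h
  rw [pCore_eq_bot_of_no_solvable hsol, Subgroup.mem_bot] at h1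
  rw [mul_eq_one_iff_eq_inv.1 h1, inv_eq hD hy]

theorem eq_of_theta [Finite G] (hD : IsThreeTranspositionSet D)
    (hc : ∀ g : G, ∀ d ∈ D, g * d * g⁻¹ ∈ D)
    (hsol : ∀ N : Subgroup G, N.Normal → Group.IsSolvable N → N = ⊥)
    (hx : x ∈ D) (hy : y ∈ D) (h : Theta D x y) : x = y := by
  have : Fact (Nat.Prime 3) := ⟨Nat.prime_three⟩
  have h1 := theta_mem_pCore hD hc hx hy h
  rw [pCore_eq_bot_of_no_solvable hsol, Subgroup.mem_bot] at h1
  rw [mul_eq_one_iff_eq_inv.1 h1, inv_eq hD hy]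

end Cfsg.Agent.ThreeTrans
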