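import Cfsg.Agent.ThreeTrans.Fischer
import Cfsg.Agent.ThreeTrans.Relations

/-!
# The rank-three property

If the derived group is perfect and contains no nontrivial solvable normal subgroup, the centraliser
of a transposition is transitive on the other transpositions commuting with it and on those not
commuting with it.
-/

set_option autoImplicit false

open Cfsg

namespace Cfsg.Agent.ThreeTrans

variable {G : Type*} [Group G] {D : Set G} {a c c' x : G}

section

variable [Finite G]
  (hsol : ∀ N : Subgroup G, N.Normal → N ≤ commutator G → Group.IsSolvable N → N = ⊥)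
  (hperf : ⁅commutator G, commutator G⁆ = commutator G) (hD : IsThreeTranspositionClass D)

include hsol hD

theorem eq_of_theta_perfect {y : G} (hx : x ∈ D) (hy : y ∈ D) (h : Theta D x y) : x = y := by
  have : Fact (Nat.Prime 3) := ⟨Nat.prime_three⟩
  have hp : Group.IsSolvable (pCore 3 G) := by
    have := (Core.pCore_isPGroup (p := 3) (G := G)).isNilpotent
    infer_instance
  have h1 : x * y ∈ pCore 3 G ⊓ commutator G :=
    ⟨theta_mem_pCore hD.1 (class_conj hD) hx hy h, mul_mem_commutator hD hx hy⟩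
  rw [hsol (pCore 3 G ⊓ commutator G) inferInstance inf_le_right
    (Core.isSolvable_mono hp inf_le_left), Subgroup.mem_bot] at h1
  rw [mul_eq_one_iff_eq_inv.1 h1, inv_eq hD.1 hy]

/-- Not every partner of `a` commutes with a given non-partner. -/
theorem exists_dperp_not_commute (ha : a ∈ D) (hc : c ∈ D) (hac : ¬ Commute a c) :
    ∃ x ∈ dperp D a, ¬ Commute x c := by
  by_contra hcon
  push Not at hcon
  have hne : a ≠ c := fun h => hac (h ▸ Commute.refl a)
  have hsub : dperp D a ⊆ dperp D c := fun x hx =>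
    ⟨hx.1, fun h => hac (h ▸ hx.2.2), (hcon x hx).symm⟩
  obtain ⟨g, hg⟩ := class_isConj hD ha hc
  have hcard : (dperp D c).ncard ≤ (dperp D a).ncard := by
    refine Set.ncard_le_ncard_of_injOn (fun y => g⁻¹ * y * g) (fun y hy => ?_) ?_ (Set.toFinite _)
    · have := dperp_conj (class_conj hD) g⁻¹ hy
      rwa [inv_inv, ← hg, show g⁻¹ * (g * a * g⁻¹) * g = a by group] at this
    · exact fun y _ z _ h => mul_left_cancel (mul_right_cancel h)
  have heq := Set.eq_of_subset_of_ncard_le hsub hcard (Set.toFinite _)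
  refine hne (eq_of_theta_perfect hsol hD ha hc fun e he => ?_)
  constructor
  · intro h
    exact (heq ▸ (⟨he, h⟩ : e ∈ dperp D a) : e ∈ dperp D c).2
  · intro h
    exact (heq.symm ▸ (⟨he, h⟩ : e ∈ dperp D c) : e ∈ dperp D a).2

include hperf

/-- The centraliser is transitive on the other members commuting with `a`. -/
theorem exists_commute_conj_dperp {b b' : G} (ha : a ∈ D) (hb : b ∈ dperp D a)
    (hb' : b' ∈ dperp D a) : ∃ g : G, Commute g a ∧ g * b * g⁻¹ = b' := by
  obtain ⟨g, hg, hgb⟩ := exists_conj_of_mem_dcomp hD.1 hb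
    (by rw [dcomp_eq_dperp hsol hperf hD ha hb]; exact hb')
  refine ⟨g, ?_, hgb⟩
  have hle : Subgroup.closure (dperp D a) ≤ Subgroup.centralizer ({a} : Set G) := by
    rw [Subgroup.closure_le]
    exact fun y hy => Subgroup.mem_centralizer_singleton_iff.2 hy.2.2.eq.symm
  exact Subgroup.mem_centralizer_singleton_iff.1 (hle hg)

omit [Finite G] hsol hperf hD in
/-- The orbit of `c` under the centraliser of `a`. -/
def centOrbit (a c : G) : Set G := {w | ∃ g : G, Commute g a ∧ g * c * g⁻¹ = w}

omit [Finite G] hsol hperf hD in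
theorem centOrbit_eq_of_mem {a c w : G} (h : w ∈ centOrbit a c) :
    centOrbit a w = centOrbit a c := by
  obtain ⟨g, hg, rfl⟩ := h
  apply Set.ext
  intro u
  constructor
  · rintro ⟨k, hk, rfl⟩
    exact ⟨k * g, hk.mul_left hg, by group⟩
  · rintro ⟨k, hk, rfl⟩
    exact ⟨k * g⁻¹, hk.mul_left hg.inv_left, by group⟩

omit [Finite G] hsol hperf hD in
theorem centOrbit_self (a c : G) : c ∈ centOrbit a c := ⟨1, Commute.one_left a, by group⟩

omit [Finite G] hsol hperf in
theorem not_commute_of_centOrbit {a c w : G} (hc : c ∈ D) (hac : ¬ Commute a c)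
    (h : w ∈ centOrbit a c) : w ∈ D ∧ ¬ Commute a w := by
  obtain ⟨g, hg, rfl⟩ := h
  refine ⟨class_conj hD g c hc, fun hh => hac ?_⟩
  have : g * a * g⁻¹ = a := by rw [hg.eq, mul_inv_cancel_right]
  rw [← this] at hh
  exact (commute_conj g a c).1 hh

omit [Finite G] hsol hperf in
/-- Two commuting non-partners of `a` are in one orbit. -/
theorem centOrbit_of_commute (ha : a ∈ D) (hc : c ∈ D) (hc' : c' ∈ D) (hac : ¬ Commute a c)
    (hac' : ¬ Commute a c') (h : Commute c c') : centOrbit a c' = centOrbit a c := by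
  rcases eq_or_ne c c' with rfl | hne
  · rfl
  have hT := hD.1
  let φ := SmallPerm.hom (mul_self hT hc) (mul_self hT ha) (mul_self hT hc')
    (braid hT ha hc hac) h.symm.eq (braid hT hc' ha fun hh => hac' hh.symm)
  let σ : Equiv.Perm (Fin 4) := Equiv.swap 0 3 * Equiv.swap 1 2
  have h1 : σ * SmallPerm.s4 1 = SmallPerm.s4 1 * σ := by decide +kernel
  have h2 : σ * SmallPerm.s4 0 * σ⁻¹ = SmallPerm.s4 2 := by decide +kernel
  have h1' := congrArg φ h1
  have h2' := congrArg φ h2
  simp only [map_mul, map_inv, φ, SmallPerm.hom_gen] at h1' h2'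
  refine centOrbit_eq_of_mem ⟨φ σ, ?_, ?_⟩
  · exact h1'
  · exact h2'

omit [Finite G] hsol hperf in
/-- If `x` commutes with `a` and `c'` but not `c`, then the third point of `c, c'` is in the orbit of
`c`, unless `c` and `c'` already commute. -/
theorem third_mem_centOrbit (ha : a ∈ D) (hc : c ∈ D) (hc' : c' ∈ D) (hx : x ∈ dperp D a)
    (hac : ¬ Commute a c) (hxc : ¬ Commute x c) (hxc' : Commute x c') (hcc' : ¬ Commute c c')
    (hthird : ¬ Commute a (c * c' * c)) : c * c' * c ∈ centOrbit a c := by
  have hT := hD.1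
  have hcj := class_conj hD
  let φ := SmallPerm.hom (mul_self hT hc') (mul_self hT hc) (mul_self hT hx.1)
    (braid hT hc hc' hcc') hxc'.eq (braid hT hx.1 hc hxc)
  have h1 : (SmallPerm.s4 1 * SmallPerm.s4 0 * SmallPerm.s4 1) *
      (SmallPerm.s4 2 * SmallPerm.s4 1 * SmallPerm.s4 2) =
      (SmallPerm.s4 2 * SmallPerm.s4 1 * SmallPerm.s4 2) *
      (SmallPerm.s4 1 * SmallPerm.s4 0 * SmallPerm.s4 1) := by decide +kernel
  have h1' := congrArg φ h1
  simp only [map_mul, φ, SmallPerm.hom_gen] at h1'
  have hxc2 : x * c * x ∈ centOrbit a c :=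
    ⟨x, hx.2.2.symm, by rw [inv_eq hT hx.1]⟩
  have hA := not_commute_of_centOrbit hD hc hac hxc2
  have := centOrbit_of_commute hD ha hA.1 (conj_mem hT hcj hc hc') hA.2 hthird (Commute.symm h1')
  rw [centOrbit_eq_of_mem hxc2] at this
  rw [← this]
  exact centOrbit_self a _

/-- A non-partner of `a` has a common partner with `a`. -/
theorem exists_common (ha : a ∈ D) (hc : c ∈ D) (hac : ¬ Commute a c) :
    ∃ x ∈ dperp D a, Commute x c := by
  by_contra hcon
  push Not at hcon
  have hS : centOrbit a c = D := by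
    refine commute_closed_eq hD hperf (fun w hw => (not_commute_of_centOrbit hD hc hac hw).1)
      ⟨c, centOrbit_self a c⟩ ?_
    intro w hw e he hwe
    obtain ⟨hwD, haw⟩ := not_commute_of_centOrbit hD hc hac hw
    have hae : ¬ Commute a e := by
      intro hae
      obtain ⟨g, hg, rfl⟩ := hw
      have hea : e ≠ a := fun h => haw (h ▸ hwe.symm)
      have h1 := dperp_conj (class_conj hD) g⁻¹ (⟨he, hea, hae⟩ : e ∈ dperp D a)
      rw [show g⁻¹ * a * g⁻¹⁻¹ = a by rw [hg.inv_left.eq, mul_inv_cancel_right]] at h1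
      refine hcon _ h1 ((commute_conj g _ _).1 ?_)
      rw [show g * (g⁻¹ * e * g⁻¹⁻¹) * g⁻¹ = e by group]
      exact hwe.symm
    rw [← centOrbit_eq_of_mem hw, ← centOrbit_of_commute hD ha hwD he haw hae hwe]
    exact centOrbit_self a e
  have : a ∈ centOrbit a c := by rw [hS]; exact ha
  exact (not_commute_of_centOrbit hD hc hac this).2 (Commute.refl a)

/-- The centraliser is transitive on the members not commuting with `a`. -/
theorem exists_commute_conj_not_commute (ha : a ∈ D) (hc : c ∈ D) (hc' : c' ∈ D)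
    (hac : ¬ Commute a c) (hac' : ¬ Commute a c') : ∃ g : G, Commute g a ∧ g * c * g⁻¹ = c' := by
  classical
  show c' ∈ centOrbit a c
  by_contra hnot
  let tr : G → Set G := fun w => {x ∈ dperp D a | Commute x w}
  -- traces of members in different orbits are comparable
  have hcomp : ∀ u ∈ centOrbit a c, ∀ v ∈ centOrbit a c', tr u ⊆ tr v ∨ tr v ⊆ tr u := by
    intro u hu v hv
    obtain ⟨huD, hau⟩ := not_commute_of_centOrbit hD hc hac hu
    obtain ⟨hvD, hav⟩ := not_commute_of_centOrbit hD hc' hac' hv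
    have huv : centOrbit a u ≠ centOrbit a v := by
      rw [centOrbit_eq_of_mem hu, centOrbit_eq_of_mem hv]
      exact fun h => hnot (h.symm ▸ centOrbit_self a c')
    have hncuv : ¬ Commute u v := fun h => huv (centOrbit_of_commute hD ha huD hvD hau hav h).symm
    by_contra hn
    push Not at hn
    obtain ⟨x, hx, hxv⟩ := Set.not_subset.1 hn.1
    obtain ⟨y, hy, hyu⟩ := Set.not_subset.1 hn.2
    have hxnv : ¬ Commute x v := fun h => hxv ⟨hx.1, h⟩
    have hynu : ¬ Commute y u := fun h => hyu ⟨hy.1, h⟩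
    have hbr := braid hD.1 huD hvD hncuv
    by_cases h3 : Commute a (u * v * u)
    · refine huv ?_
      have hmem : v ∈ centOrbit a u := ⟨u * v * u, h3.symm, by
        rw [inv_eq hD.1 (conj_mem hD.1 (class_conj hD) huD hvD)]
        simp only [mul_assoc, mul_self_mul hD.1 huD]
        rw [← mul_assoc v u, ← mul_assoc (v * u)]
        rw [show u * (v * u * v * u) = (u * v * u) * (v * u) by simp only [mul_assoc], hbr]
        simp only [mul_assoc, mul_self_mul hD.1 hvD, mul_self_mul hD.1 huD, mul_self hD.1 huD,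
          mul_one]⟩
      exact (centOrbit_eq_of_mem hmem).symm
    · have h1 := third_mem_centOrbit hD ha huD hvD hy.1 hau hynu hy.2 hncuv h3
      have h2 := third_mem_centOrbit hD ha hvD huD hx.1 hav hxnv hx.2 (fun h => hncuv h.symm)
        (by rwa [← hbr])
      rw [← hbr] at h2
      exact huv ((centOrbit_eq_of_mem h1).symm.trans (centOrbit_eq_of_mem h2))
  have hsize : ∀ (w : G), ∀ u ∈ centOrbit a w, (tr u).ncard = (tr w).ncard := by
    intro w u hu
    obtain ⟨g, hg, rfl⟩ := hu
    have hga : g * a * g⁻¹ = a := by rw [hg.eq, mul_inv_cancel_right]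
    rw [← Set.ncard_image_of_injective (tr w) (f := fun x => g * x * g⁻¹)
      fun x y h => mul_left_cancel (mul_right_cancel h)]
    congr 1
    apply Set.ext
    intro z
    constructor
    · rintro ⟨hz, hzw⟩
      refine ⟨g⁻¹ * z * g, ⟨?_, ?_⟩, by group⟩
      · have h1 := dperp_conj (class_conj hD) g⁻¹ hz
        rwa [show g⁻¹ * a * g⁻¹⁻¹ = a by rw [hg.inv_left.eq, mul_inv_cancel_right], inv_inv] at h1
      · refine (commute_conj g _ _).1 ?_
        rwa [show g * (g⁻¹ * z * g) * g⁻¹ = z by group]
    · rintro ⟨z', ⟨hz', hzw⟩, rfl⟩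
      refine ⟨?_, (commute_conj g _ _).2 hzw⟩
      rw [← hga]; exact dperp_conj (class_conj hD) g hz'
  -- the smaller side is contained in every trace of the other
  have main : ∀ p q : G, p ∈ D → q ∈ D → ¬ Commute a p → ¬ Commute a q →
      (∀ u ∈ centOrbit a p, ∀ v ∈ centOrbit a q, tr u ⊆ tr v) → False := by
    intro p q hp hq hap haq hsub
    obtain ⟨x, hx, hxp⟩ := exists_common hsol hperf hD ha hp hap
    obtain ⟨y, hy, hyq⟩ := exists_dperp_not_commute hsol hD ha hq haq
    obtain ⟨g, hg, rfl⟩ := exists_commute_conj_dperp hsol hperf hD ha hx hy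
    have hmem : g * p * g⁻¹ ∈ centOrbit a p := ⟨g, hg, rfl⟩
    exact hyq (hsub _ hmem q (centOrbit_self a q) (show _ ∈ tr (g * p * g⁻¹) from
      ⟨hy, (commute_conj g x p).2 hxp⟩)).2
  rcases le_total (tr c).ncard (tr c').ncard with hle | hle
  · refine main c c' hc hc' hac hac' fun u hu v hv => ?_
    rcases hcomp u hu v hv with h | h
    · exact h
    · exact (Set.eq_of_subset_of_ncard_le h (by rwa [hsize c u hu, hsize c' v hv]) (Set.toFinite _)).ge
  · refine main c' c hc' hc hac' hac fun v hv u hu => ?_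
    rcases hcomp u hu v hv with h | h
    · exact (Set.eq_of_subset_of_ncard_le h (by rwa [hsize c u hu, hsize c' v hv]) (Set.toFinite _)).ge
    · exact h

end

end Cfsg.Agent.ThreeTrans
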