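import Cfsg.Agent.ThreeTrans.PairNormal
import Cfsg.Agent.ThreeTrans.PrimeLemmas
import Cfsg.Agent.ThreeTrans.RankThree
import Cfsg.Agent.ThreeTrans.Primitive
import Cfsg.Agent.ThreeTrans.CountM22
import Cfsg.Agent.Layer.FStar

/-!
# The joint centraliser of two members that do not commute

Counting gives the order of the joint centraliser; when it equals the order of the group generated by
the common partners modulo its centre, that group is the whole centraliser and has trivial centre.
-/

set_option autoImplicit false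

open Cfsg

namespace Cfsg.Agent.ThreeTrans

variable {G : Type*} [Group G] [Finite G] {D : Set G}

/-- The centraliser of a member is transitive on the members it moves. -/
theorem exists_conj_nc (hD : IsThreeTranspositionGroup D) (hprim : IsPrimitiveUnderConj D)
    (hZ : Subgroup.center G = ⊥) (hw : ∃ a ∈ D, ∃ b ∈ D, a ≠ b ∧ Commute a b) {a d a' d' : G}
    (ha : a ∈ D) (hd : d ∈ D) (hnc : ¬ Commute a d) (ha' : a' ∈ D) (hd' : d' ∈ D)
    (hnc' : ¬ Commute a' d') : ∃ g : G, g * a * g⁻¹ = a' ∧ g * d * g⁻¹ = d' := by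
  have hcls := class_of_primitive hD hprim
  obtain ⟨h2, h3, hconn⟩ := primitive_facts hD hprim hw
  obtain ⟨L, hLn, hLq, -, -⟩ := exists_quasisimple hcls hprim.2.1 h2 h3
  have hidx := index_le_two hcls hprim.2.1 h2 h3 hLq hconn
  have hperf := perfect_derived hLq hidx
  have hsol : ∀ M : Subgroup G, M.Normal → M ≤ commutator G → Group.IsSolvable M → M = ⊥ :=
    fun M hM hle hs => eq_bot_iff.2 (hZ ▸ solvable_le_center hcls hprim.2.1 h2 h3 hLq hidx hM hle hs)
  obtain ⟨g, hg⟩ := class_isConj hcls ha ha'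
  obtain ⟨k, hk, hkd⟩ := exists_commute_conj_not_commute hsol hperf hcls ha' (hD.2.1 g d hd) hd'
    (fun h => hnc ((commute_conj g a d).1 (hg.symm ▸ h))) hnc'
  refine ⟨k * g, ?_, ?_⟩
  · rw [show k * g * a * (k * g)⁻¹ = k * (g * a * g⁻¹) * k⁻¹ by group, hg, hk.eq, mul_inv_cancel_right]
  · rw [← hkd]; group

/-- Conjugation carries common partners to common partners. -/
theorem image_pairPerp (hc : ∀ g : G, ∀ x ∈ D, g * x * g⁻¹ ∈ D) (g a d : G) :
    (fun u => g * u * g⁻¹) '' pairPerp D a d = pairPerp D (g * a * g⁻¹) (g * d * g⁻¹) := by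
  apply Set.ext
  intro v
  constructor
  · rintro ⟨u, ⟨hu, h1, h2⟩, rfl⟩
    exact ⟨hc g u hu, (commute_conj g a u).2 h1, (commute_conj g d u).2 h2⟩
  · rintro ⟨hv, h1, h2⟩
    obtain ⟨u, hu, rfl⟩ := conj_partner hc g hv
    exact ⟨u, ⟨hu, (commute_conj g a u).1 h1, (commute_conj g d u).1 h2⟩, rfl⟩

theorem map_closure_pairPerp (hc : ∀ g : G, ∀ x ∈ D, g * x * g⁻¹ ∈ D) (g a d : G) :
    (Subgroup.closure (pairPerp D a d)).map (MulAut.conj g).toMonoidHom =
      Subgroup.closure (pairPerp D (g * a * g⁻¹) (g * d * g⁻¹)) := by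
  rw [MonoidHom.map_closure, ← image_pairPerp hc g a d]
  rfl

/-- Rewriting the generating set of a projective reflection group. -/
theorem proj_congr {s t : Set G} (h : s = t) {n : ℕ} {μ c : ZMod 3}
    (hs : IsProjReflectionGroupModThree (↥(Subgroup.closure s) ⧸ Subgroup.center ↥(Subgroup.closure s)) n μ c) :
    IsProjReflectionGroupModThree (↥(Subgroup.closure t) ⧸ Subgroup.center ↥(Subgroup.closure t)) n μ c := by
  subst h
  exact hs

/-- The joint centraliser, its order and the group generated by the common partners. -/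
theorem pair_joint (hD : IsThreeTranspositionGroup D) {N M : ℕ} (hN : 0 < N)
    (htrans : ∀ a ∈ D, ∀ d ∈ D, ¬ Commute a d → ∀ a' ∈ D, ∀ d' ∈ D, ¬ Commute a' d' →
      ∃ g : G, g * a * g⁻¹ = a' ∧ g * d * g⁻¹ = d')
    (hC : ∀ a ∈ D, Nat.card ↥(Subgroup.centralizer ({a} : Set G)) = N * M)
    (hnum : ∀ a ∈ D, {e | e ∈ D ∧ ¬ Commute a e}.ncard = N) {d₀ c₀ : G} (hd₀ : d₀ ∈ D) (hc₀ : c₀ ∈ D)
    (hnc₀ : ¬ Commute d₀ c₀)
    (hbase : Nat.card (↥(Subgroup.closure (pairPerp D d₀ c₀)) ⧸
      Subgroup.center ↥(Subgroup.closure (pairPerp D d₀ c₀))) ∣ M →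
      Nat.card (↥(Subgroup.closure (pairPerp D d₀ c₀)) ⧸
      Subgroup.center ↥(Subgroup.closure (pairPerp D d₀ c₀))) = M)
    {a d : G} (ha : a ∈ D) (hd : d ∈ D) (hnc : ¬ Commute a d) :
    Subgroup.closure (pairPerp D a d) = Subgroup.centralizer ({a, d} : Set G) ∧
      Subgroup.center ↥(Subgroup.closure (pairPerp D a d)) = ⊥ ∧
      Nonempty (↥(Subgroup.closure (pairPerp D a d)) ≃* (↥(Subgroup.closure (pairPerp D d₀ c₀)) ⧸
        Subgroup.center ↥(Subgroup.closure (pairPerp D d₀ c₀)))) ∧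
      Nat.card ↥(Subgroup.centralizer ({a, d} : Set G)) = M := by
  classical
  have hcard : ∀ a ∈ D, ∀ d ∈ D, ¬ Commute a d →
      Nat.card ↥(Subgroup.centralizer ({a, d} : Set G)) = M := by
    intro a ha d hd hnc
    have h := card_eq_orbit_mul (Subgroup.centralizer ({a} : Set G)) d {e | e ∈ D ∧ ¬ Commute a e}
      (fun g hg => by
        have hga : g * a * g⁻¹ = a := by
          rw [Subgroup.mem_centralizer_singleton_iff.1 hg, mul_inv_cancel_right]
        refine ⟨hD.2.1 g d hd, fun h => hnc ((commute_conj g a d).1 ?_)⟩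
        rwa [hga])
      (fun y hy => by
        obtain ⟨g, hga, hgd⟩ := htrans a ha d hd hnc a ha y hy.1 hy.2
        exact ⟨g, Subgroup.mem_centralizer_singleton_iff.2 (mul_inv_eq_iff_eq_mul.1 hga), hgd⟩)
    have e : Subgroup.centralizer ({a} : Set G) ⊓ Subgroup.centralizer ({d} : Set G) =
        Subgroup.centralizer ({a, d} : Set G) := by
      ext g
      rw [Subgroup.mem_inf, Subgroup.mem_centralizer_singleton_iff, Subgroup.mem_centralizer_singleton_iff,
        mem_centralizer_pair]
      exact ⟨fun h => ⟨h.1.symm, h.2.symm⟩, fun h => ⟨h.1.eq.symm, h.2.eq.symm⟩⟩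
    rw [hC a ha, hnum a ha, e] at h
    exact (Nat.eq_of_mul_eq_mul_left hN h).symm
  set K₀ := Subgroup.closure (pairPerp D d₀ c₀)
  have hM := hcard d₀ hd₀ c₀ hc₀ hnc₀
  have hle₀ : K₀ ≤ Subgroup.centralizer ({d₀, c₀} : Set G) := closure_pairPerp_le
  have hd1 : Nat.card ↥K₀ ∣ M := hM ▸ Subgroup.card_dvd_of_le hle₀
  have hq := hbase (dvd_trans (Subgroup.card_quotient_dvd_card _) hd1)
  have hK₀ : Nat.card ↥K₀ = M :=
    Nat.dvd_antisymm hd1 (hq ▸ Subgroup.card_quotient_dvd_card _)
  have hZ₀ : Subgroup.center ↥K₀ = ⊥ := by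
    have h := Subgroup.card_eq_card_quotient_mul_card_subgroup (Subgroup.center ↥K₀)
    rw [hq, hK₀] at h
    refine Subgroup.card_eq_one.1 (Nat.eq_of_mul_eq_mul_left (n := M) ?_ (by rw [← h, mul_one]))
    rw [← hK₀]; exact Nat.card_pos
  obtain ⟨g, hga, hgd⟩ := htrans d₀ hd₀ c₀ hc₀ hnc₀ a ha d hd hnc
  have hmap := map_closure_pairPerp hD.2.1 g d₀ c₀
  rw [hga, hgd] at hmap
  set K := Subgroup.closure (pairPerp D a d)
  let e : ↥K₀ ≃* ↥K := (K₀.equivMapOfInjective _ (MulAut.conj g).injective).trans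
    (MulEquiv.subgroupCongr hmap)
  refine ⟨Subgroup.eq_of_le_of_card_ge closure_pairPerp_le ?_, ?_,
    ⟨e.symm.trans (QuotientGroup.quotientBot.symm.trans (QuotientGroup.quotientMulEquivOfEq hZ₀.symm))⟩,
    hcard a ha d hd hnc⟩
  · rw [hcard a ha d hd hnc, ← Nat.card_congr e.toEquiv, hK₀]
  · rw [eq_bot_iff]
    intro z hz
    have : e.symm z ∈ Subgroup.center ↥K₀ := by
      refine Subgroup.mem_center_iff.2 fun u => e.injective ?_
      rw [map_mul, map_mul, e.apply_symm_apply]
      exact Subgroup.mem_center_iff.1 hz (e u)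
    rw [hZ₀, Subgroup.mem_bot, EmbeddingLike.map_eq_one_iff] at this
    exact Subgroup.mem_bot.2 this

/-- With few commuting pairs among the common partners, no element of order three of their group is
kept up to inversion by all of them. -/
theorem no_invariant (hD : IsThreeTranspositionGroup D) (hH : Hyp D) {a d : G} {n : ℕ}
    (hbig : ∀ m ∈ pairPerp D a d, (pairPerp (dperp D m) a d).ncard = n)
    (hlt : n + 3 < (pairPerp D a d).ncard)
    (hcen : Subgroup.center ↥(Subgroup.closure (pairPerp D a d)) = ⊥) {z : G}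
    (hzK : z ∈ Subgroup.closure (pairPerp D a d)) (hz1 : z ≠ 1) (hz3 : z ^ 3 = 1)
    (hk : ∀ k ∈ pairPerp D a d, k * z * k = z ∨ k * z * k = z⁻¹) : False := by
  classical
  have hT := hD.1
  obtain ⟨m, hm, hmz⟩ : ∃ m ∈ pairPerp D a d, m * z * m = z⁻¹ := by
    by_contra hcon
    push Not at hcon
    have hc : ∀ k ∈ pairPerp D a d, z * k = k * z := fun k hk' => by
      have h := (hk k hk').resolve_right (hcon k hk')
      calc z * k = k * z * k * k := by rw [h]
        _ = k * z := mul_mul_self hT hk'.1 _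
    have : (⟨z, hzK⟩ : Subgroup.closure (pairPerp D a d)) ∈
        Subgroup.center ↥(Subgroup.closure (pairPerp D a d)) := by
      refine Subgroup.mem_center_iff.2 fun u => Subtype.ext ?_
      have hle : Subgroup.closure (pairPerp D a d) ≤ Subgroup.centralizer ({z} : Set G) :=
        (Subgroup.closure_le _).2 fun k hk' => Subgroup.mem_centralizer_singleton_iff.2 (hc k hk').symm
      exact Subgroup.mem_centralizer_singleton_iff.1 (hle u.2)
    rw [hcen, Subgroup.mem_bot] at this
    exact hz1 (congrArg Subtype.val this)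
  set m' := m * z with hm'def
  have hmzm : m * z = z⁻¹ * m := by
    calc m * z = m * z * m * m := (mul_mul_self hT hm.1 _).symm
      _ = z⁻¹ * m := by rw [hmz]
  have hzinv : z * z = z⁻¹ := eq_inv_of_mul_eq_one_left (by rw [← hz3, pow_succ, sq])
  have hm'D : m' ∈ D := by
    have h := hD.2.1 z m hm.1
    have e : z * m * z⁻¹ = m' := by
      have h1 : z * m = m * z⁻¹ := by
        calc z * m = m * (m * z * m) := by rw [← mul_assoc, ← mul_assoc, mul_self hT hm.1, one_mul]
          _ = m * z⁻¹ := by rw [hmz]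
      rw [h1, hm'def, mul_assoc]
      congr 1
      rw [← mul_inv_rev, hzinv, inv_inv]
    rwa [e] at h
  have hprod : m * m' = z := mul_self_mul hT hm.1 z
  have hnc : ¬ Commute m m' := by
    intro h
    have h2 := (sq_eq_one_iff hT hm.1 hm'D).2 h
    rw [hprod, sq] at h2
    rw [hzinv, inv_eq_one] at h2
    exact hz1 h2
  have hsub : pairPerp D a d ⊆ {m, m', m * m' * m} ∪ pairPerp (dperp D m) a d := by
    intro k hk'
    rcases hk k hk' with h | h
    · refine Or.inr ?_
      have hc : Commute (m * m') k := by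
        rw [hprod]
        calc z * k = k * z * k * k := by rw [h]
          _ = k * z := mul_mul_self hT hk'.1 _
      obtain ⟨h1, h2⟩ := commute_of_commute_product hD hm.1 hm'D hnc hk'.1 hc
      exact ⟨⟨hk'.1, fun e => hnc (e ▸ h2).symm, h1⟩, hk'.2⟩
    · refine Or.inl ?_
      rw [← hprod] at h
      rcases inverting_members hD hm.1 hm'D hnc hH hk'.1 h with e | e | e <;> simp [e]
  have h1 := Set.ncard_le_ncard hsub (Set.toFinite _)
  have h2 := Set.ncard_union_le {m, m', m * m' * m} (pairPerp (dperp D m) a d)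
  have h3 : ({m, m', m * m' * m} : Set G).ncard ≤ 3 := by
    refine (Set.ncard_insert_le _ _).trans ?_
    have := Set.ncard_insert_le m' ({m * m' * m} : Set G)
    rw [Set.ncard_singleton] at this
    omega
  rw [hbig m hm] at h2
  omega

end Cfsg.Agent.ThreeTrans
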