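import Cfsg.Agent.ThreeTrans.OrthThree
import Cfsg.Agent.AutPOmega.OddNormal
import Cfsg.Agent.PrimeGraph.Orders
import Cfsg.Agent.S0292

/-!
# Orders of the projective reflection groups in dimensions six and seven over three elements
-/

set_option autoImplicit false

open Module QuadraticMap Cfsg.Agent.Classical.Quad

namespace Cfsg.Agent.ThreeTrans.PairOrders

variable {n : ℕ} {Q : QuadraticForm (ZMod 3) (Fin n → ZMod 3)} (hn : 5 ≤ n)
  (hQ : (polarBilin Q).Nondegenerate) {c : ZMod 3} (hc : c ≠ 0)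

include hn hQ hc

/-- The centre of the reflection group consists of scalars. -/
theorem card_center_le : Nat.card (Subgroup.center ↥(Cfsg.reflectionSubgroup (⇑Q) c)) ≤ 2 := by
  have h2 : (2 : ZMod 3) ≠ 0 := by decide
  have h5 : 5 ≤ finrank (ZMod 3) (Fin n → ZMod 3) := by rwa [finrank_fin_fun]
  set R := Cfsg.reflectionSubgroup (⇑Q) c
  have key : ∀ z : Subgroup.center ↥R, ∃ a : ZMod 3, (a = 1 ∨ a = -1) ∧
      ∀ x, (oEquiv Q ((z : R) : Cfsg.isometryGroup (ZMod 3) ⇑Q)).1 x = a • x := by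
    intro z
    set T := oEquiv Q ((z : R) : Cfsg.isometryGroup (ZMod 3) ⇑Q) with hT
    have hcomm : ∀ (e w : Fin n → ZMod 3) (he : Q e = 0) (hw : polar Q e w = 0) x,
        T.1 ((sO he hw).1 x) = (sO he hw).1 (T.1 x) := by
      intro e w he hw x
      obtain ⟨g, hg, hge⟩ : sO he hw ∈ (Cfsg.Omega (ZMod 3) ⇑Q).map (oEquiv Q).toMonoidHom := by
        rw [omega_map_eq hQ h5]; exact sO_mem_eo he hw
      have hgR : g ∈ R := OrthThree.omega_le hn hQ hc hg
      have h' : ((z : R) : Cfsg.isometryGroup (ZMod 3) ⇑Q) * g = g * ((z : R) : _) :=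
        (congrArg Subtype.val (Subgroup.mem_center_iff.1 z.2 ⟨g, hgR⟩)).symm
      have h'' := congrArg (fun y => (oEquiv Q y).1 x) h'
      simp only [map_mul, Subgroup.coe_mul, LinearEquiv.mul_apply] at h''
      rw [show oEquiv Q g = sO he hw from hge] at h''
      exact h''
    obtain ⟨a, ha, hax, -⟩ := AutPOmega.scalar_of_commute hQ h2 (by omega) (T := fun x => T.1 x)
      (τ := fun t => t) (fun x y => map_add T.1 x y) (fun t x => map_smul T.1 t x) T.1.injective hcomm
    exact ⟨a, (show ∀ a : ZMod 3, a ≠ 0 → a = 1 ∨ a = -1 by decide) a ha, hax⟩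
  choose f hf hf' using key
  calc Nat.card (Subgroup.center ↥R) ≤ Nat.card {a : ZMod 3 // a = 1 ∨ a = -1} := by
        refine Nat.card_le_card_of_injective (fun z => ⟨f z, hf z⟩) fun z z' h => ?_
        have h' : f z = f z' := congrArg Subtype.val h
        refine Subtype.ext (Subtype.ext ((oEquiv Q).injective (Subtype.ext (LinearEquiv.ext fun x => ?_))))
        rw [hf', hf', h']
    _ = 2 := by rw [Nat.card_eq_fintype_card]; decide

/-- Twice the order of the quotient by the centre covers the reflection group. -/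
theorem card_reflection :
    2 * Nat.card ↥(Cfsg.reflectionSubgroup (⇑Q) c) = Nat.card (oG Q) ∧
      Nat.card (↥(Cfsg.reflectionSubgroup (⇑Q) c) ⧸
          Subgroup.center ↥(Cfsg.reflectionSubgroup (⇑Q) c)) *
        Nat.card (Subgroup.center ↥(Cfsg.reflectionSubgroup (⇑Q) c)) =
        Nat.card ↥(Cfsg.reflectionSubgroup (⇑Q) c) := by
  refine ⟨?_, (Subgroup.card_eq_card_quotient_mul_card_subgroup _).symm⟩
  rw [← OrthThree.index_reflectionSubgroup hn hQ hc, Subgroup.index_mul_card]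
  exact Nat.card_congr (oEquiv Q).toEquiv

omit hn hQ hc in
/-- Dimension six: a projective reflection group of order dividing 6531840 has that order. -/
theorem card_six {X : Type*} [Group X] {μ c : ZMod 3} (hc : c ≠ 0)
    (hX : Cfsg.IsProjReflectionGroupModThree X 6 μ c) (hdvd : Nat.card X ∣ 6531840) :
    Nat.card X = 6531840 := by
  obtain ⟨Q, hQ, -, ⟨e⟩⟩ := hX
  obtain ⟨h1, h2⟩ := card_reflection (by norm_num : 5 ≤ 6) hQ hc
  have h3 := card_center_le (by norm_num : 5 ≤ 6) hQ hc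
  rw [← Nat.card_congr e.toEquiv] at h2
  have hF : Fintype.card (ZMod 3) = 3 := ZMod.card 3
  have hV : finrank (ZMod 3) (Fin 6 → ZMod 3) = 2 * 3 := by simp
  have hO : Nat.card (oG Q) = 26127360 ∨ Nat.card (oG Q) = 24261120 := by
    rcases even_cases hQ hV with ⟨f, hf⟩ | ⟨-, hh⟩
    · right
      rw [← Nat.card_congr (oCongr f hf).toEquiv, card_oG_plus hF 2]
      simp [Finset.prod_range_succ]
    · left
      have hab : ∀ z₁ z₂ : ZMod 3, z₁ ^ 2 + 0 * z₁ * z₂ + 1 * z₂ ^ 2 = 0 → z₁ = 0 ∧ z₂ = 0 := by decide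
      obtain ⟨f, hf⟩ := hh 0 1 hab
      rw [← Nat.card_congr (oCongr f hf).toEquiv, show (3 - 1) = 2 from rfl, card_oG_minus hab hF 2]
      simp [Finset.prod_range_succ]
  have h4 := Nat.le_of_dvd (by norm_num) hdvd
  have h5 : Nat.card X = 13063680 ∨ Nat.card X = 6531840 ∨ Nat.card X = 12130560 ∨
      Nat.card X = 6065280 := by
    interval_cases hz : Nat.card (Subgroup.center ↥(Cfsg.reflectionSubgroup (⇑Q) c))
    · omega
    · rcases hO with hO | hO <;> omega
    · rcases hO with hO | hO <;> omega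
  rcases h5 with h | h | h | h <;> first | exact h | (exfalso; rw [h] at hdvd; norm_num at hdvd)

omit hn hQ hc in
/-- Dimension seven: a projective reflection group of order at most 4585351680 is Ω(7, 3). -/
theorem iso_seven {X : Type*} [Group X] {μ c : ZMod 3} (hc : c ≠ 0)
    (hX : Cfsg.IsProjReflectionGroupModThree X 7 μ c) (hle : Nat.card X ≤ 4585351680) :
    Nat.card X = 4585351680 ∧
      Nonempty (X ≃* Cfsg.POmega (ZMod 3) (Cfsg.quadFormOdd 3 (ZMod 3))) := by
  obtain ⟨Q, hQ, -, ⟨e⟩⟩ := hX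
  obtain ⟨h1, h2⟩ := card_reflection (by norm_num : 5 ≤ 7) hQ hc
  have h3 := card_center_le (by norm_num : 5 ≤ 7) hQ hc
  rw [← Nat.card_congr e.toEquiv] at h2
  have hF : Fintype.card (ZMod 3) = 3 := ZMod.card 3
  have h20 : (2 : ZMod 3) ≠ 0 := by decide
  have h5 : 5 ≤ finrank (ZMod 3) (Fin 7 → ZMod 3) := by simp
  -- the standard form
  let S : QuadraticForm (ZMod 3) (Unit ⊕ (Fin 3 ⊕ Fin 3) → ZMod 3) :=
    (hyp (sqForm (ZMod 3)) 3).comp (oddCoord 3).toLinearMap
  have hSe : ⇑S = Cfsg.quadFormOdd 3 (ZMod 3) := funext fun x => by simp [S, oddCoord_map]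
  have hS : (polarBilin S).Nondegenerate :=
    Iso.nondeg (Iso.symm ⟨oddCoord 3, fun x => by simp [S]⟩) (nondeg_hyp (nondeg_sqForm h20) 3)
  have hSd : 5 ≤ finrank (ZMod 3) (Unit ⊕ (Fin 3 ⊕ Fin 3) → ZMod 3) := by simp
  obtain ⟨f⟩ := PrimeGraph.oG_iso (n := 3) hQ hS (by simp) (by simp)
  have hOS : Nat.card (oG S) = 18341406720 := by
    have he : ∀ x, hyp (sqForm (ZMod 3)) 3 (oddCoord 3 x) = S x := fun x => rfl
    rw [Nat.card_congr (oCongr (Q₁ := S) (oddCoord 3) he).toEquiv, card_oG_odd hF h20]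
    simp [Finset.prod_range_succ]
  have hO : Nat.card (oG Q) = 18341406720 := (Nat.card_congr f.toEquiv).trans hOS
  have hX : Nat.card X = 4585351680 := by
    interval_cases hz : Nat.card (Subgroup.center ↥(Cfsg.reflectionSubgroup (⇑Q) c)) <;> omega
  refine ⟨hX, ?_⟩
  -- the commutator subgroups
  have hmap : (eo Q).map f.toMonoidHom = eo S := by
    rw [eo_eq_commutator hQ (by omega) (Or.inr (by omega)), eo_eq_commutator hS (by omega) (Or.inr (by omega)),
      commutator_def, commutator_def, Subgroup.map_commutator,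
      Subgroup.map_top_of_surjective f.toMonoidHom f.surjective]
  let ε : Cfsg.Omega (ZMod 3) ⇑Q ≃* Cfsg.Omega (ZMod 3) ⇑S :=
    (omegaEquiv hQ h5).trans (((f.subgroupMap (eo Q)).trans (MulEquiv.subgroupCongr hmap)).trans
      (omegaEquiv hS hSd).symm)
  have hidx : (Cfsg.Omega (ZMod 3) ⇑S).index = 4 := by
    rw [index_omega, index_commutator_odd hS h20 (by omega)]
  have hcen : Subgroup.center (Cfsg.Omega (ZMod 3) ⇑S) = ⊥ := by
    have hp : 2 * Nat.card (Cfsg.POmega (ZMod 3) (Cfsg.quadFormOdd 3 (ZMod 3))) = 9170703360 := by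
      rw [Cfsg.Agent.S0292.result hF (by decide) 3 le_rfl]
      simp [Finset.prod_range_succ]
    have h := card_pomega_mul (Q := S)
    rw [hidx, Nat.card_congr (oEquiv S).toEquiv, hOS, hSe] at h
    rw [← Subgroup.card_eq_one, hSe]
    have hp' : Nat.card (Cfsg.POmega (ZMod 3) (Cfsg.quadFormOdd 3 (ZMod 3))) = 4585351680 := by omega
    rw [hp'] at h
    omega
  -- the commutator subgroup maps onto the quotient
  set R := Cfsg.reflectionSubgroup (⇑Q) c
  have hle' := OrthThree.omega_le (by norm_num : 5 ≤ 7) hQ hc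
  let ψ : Cfsg.Omega (ZMod 3) ⇑Q →* X :=
    e.symm.toMonoidHom.comp ((QuotientGroup.mk' (Subgroup.center R)).comp (Subgroup.inclusion hle'))
  have hinj : Function.Injective ψ := by
    rw [injective_iff_map_eq_one]
    intro w hw
    rw [MonoidHom.comp_apply, MulEquiv.coe_toMonoidHom, EmbeddingLike.map_eq_one_iff,
      MonoidHom.comp_apply, QuotientGroup.mk'_apply, QuotientGroup.eq_one_iff] at hw
    have hwc : ε w ∈ Subgroup.center (Cfsg.Omega (ZMod 3) ⇑S) := by
      refine Subgroup.mem_center_iff.2 fun y => ?_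
      obtain ⟨v, rfl⟩ := ε.surjective y
      rw [← map_mul, ← map_mul]
      exact congrArg ε (Subtype.ext (congrArg (fun r : R => (r : Cfsg.isometryGroup (ZMod 3) ⇑Q))
        (Subgroup.mem_center_iff.1 hw (Subgroup.inclusion hle' v))))
    rw [hcen, Subgroup.mem_bot, EmbeddingLike.map_eq_one_iff] at hwc
    exact hwc
  have hΩ : Nat.card (Cfsg.Omega (ZMod 3) ⇑Q) = Nat.card X := by
    have h := Subgroup.index_mul_card (Cfsg.Omega (ZMod 3) ⇑S)
    rw [hidx, Nat.card_congr (oEquiv S).toEquiv, hOS, ← Nat.card_congr ε.toEquiv] at h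
    omega
  have : Finite X := Nat.finite_of_card_ne_zero (by omega)
  have hbij : Function.Bijective ψ := (Nat.bijective_iff_injective_and_card _).2 ⟨hinj, hΩ⟩
  let q : Cfsg.Omega (ZMod 3) ⇑S ≃* Cfsg.POmega (ZMod 3) ⇑S :=
    QuotientGroup.quotientBot.symm.trans (QuotientGroup.quotientMulEquivOfEq hcen.symm)
  rw [← hSe]
  exact ⟨(MulEquiv.ofBijective ψ hbij).symm.trans (ε.trans q)⟩

end Cfsg.Agent.ThreeTrans.PairOrders
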