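import Cfsg.Agent.ThreeTrans.InvolM23
import Cfsg.Agent.ThreeTrans.PrimeLemmas
import Cfsg.Agent.ThreeTrans.SrgTrace

/-!
# Type M(24): the layers and the 306936 members

In the layer of a member (a set of type M(23)) the common partners of it and a member moved by it are
counted against all members of the layer, which bounds their number by 3240; the discriminant of the
rank three graph then forces this value.
-/

set_option autoImplicit false

open Cfsg

namespace Cfsg.Agent.ThreeTrans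

universe u

section Base

variable {X : Type u} [Group X] [Finite X] {E : Set X}

/-- What a set of type M(23) has before primitivity is known. -/
theorem m23_base (hE : IsThreeTranspositionGroup E) (h23 : IsOfTypeM23 X E) :
    GoodClass E ∧ Nice E ∧ (∀ t ∈ E, M22Layer (dperp E t)) ∧ ∀ t ∈ E, Hyp (dperp E t) := by
  have e : E \ {1} = E := Set.sdiff_singleton_eq_self fun h1 => ne_one hE.1 h1 rfl
  obtain ⟨hgood, -, -⟩ := layerData_of_M23 (D₀ := E) (by rwa [e]) h23
  have hnice := nice_of_M23 (D₀ := E) (by rwa [e]) h23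
  rw [e] at hgood hnice
  obtain ⟨-, d, hd, c, -, -, h22, -⟩ := id h23
  set H := Subgroup.closure {y : X | y ∈ E ∧ y ≠ d ∧ Commute d y}
  have hH : H = Subgroup.closure (dperp E d) := rfl
  have hgrp := lowImage_group hE hH
  obtain ⟨hG, -, -⟩ := layerData_of_M22 (D₀ := lowImage H (dperp E d)) hgrp h22
  have hfull := layer_M22 hE hH h22
  have hlay := m22Layer hgrp (isOfTypeM22_diff h22)
  have hS := closedSet_of_group hE
  refine ⟨hgood, hnice, fun t ht => ?_, fun t ht => ?_⟩
  · obtain ⟨φ, hφ⟩ := exists_layer_iso hE hd hH hgood.1 hG hgood.2.2 ht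
    exact hφ.m22Layer hlay
  · obtain ⟨φ, hφ⟩ := exists_layer_iso hE hd hH hgood.1 hG hgood.2.2 ht
    exact hφ.hyp (hS.dperp t) (hyp_of_M22Full hgrp hfull)

/-- A group of type M(23) acts primitively on its class. -/
theorem prim_M23 (hE : IsThreeTranspositionGroup E) (h23 : IsOfTypeM23 X E) :
    IsPrimitiveUnderConj E := by
  obtain ⟨⟨hcls, hD2, hN⟩, hnice, hlay, -⟩ := m23_base hE h23
  have hTh : ∀ x ∈ E, ∀ y ∈ E, Theta E x y → x = y := by
    intro x hx y hy hxy
    by_contra hne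
    have hnc := not_commute_of_theta hy hxy hne
    obtain ⟨u, hu, huy⟩ := hnice.diam x hx y hy hnc
    have hxU : x ∈ dperp E u := dperp_symm hx hu
    have hyU : y ∈ dperp E u := ⟨hy, fun e => hnc (e ▸ hu.2.2), huy⟩
    have h126 := (hlay u hu.1).common x hxU y hyU hnc
    rw [show {v | v ∈ dperp (dperp E u) x ∧ Commute y v} = dperp (dperp E u) x from
      Set.ext fun v => ⟨fun h => h.1, fun h => ⟨h, ((hxy v h.1.1).1 ⟨h.2.1, h.2.2⟩).2⟩⟩,
      (hlay u hu.1).card1 x hxU] at h126
    omega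
  have h2 := pCore_two_le_center_of_tau hE hN
  have h3 := pCore_three_le_center_of_theta hE hTh
  obtain ⟨a, ha, -⟩ := id hD2
  have hconn : (commutingGraph E).Connected := by
    rw [connected_iff_commBlock ⟨a, ha⟩]
    intro p hp q hq
    by_cases hpq : Commute p q
    · exact Relation.ReflTransGen.single ⟨⟨hp, hq⟩, hpq⟩
    · obtain ⟨u, hu, huq⟩ := hnice.diam p hp q hq hpq
      exact (Relation.ReflTransGen.single ⟨⟨hp, hu.1⟩, hu.2.2⟩).tail ⟨⟨hu.1, hq⟩, huq⟩
  obtain ⟨L, hLn, hLq, -, -⟩ := exists_quasisimple hcls hD2 h2 h3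
  exact primitive hcls hD2 h2 h3 hLq (index_le_two hcls hD2 h2 h3 hLq hconn)

/-- Type M(23) is unaffected by the identity. -/
theorem isOfTypeM23_of_eq {E₀ : Set X} (h : E₀ \ {1} = E₀) (h23 : IsOfTypeM23 X E₀) :
    IsOfTypeM23 X (E₀ \ {1}) := by rwa [h]

/-- Counts in a set of type M(23). -/
theorem counts_M23 (hE : IsThreeTranspositionGroup E) (h23 : IsOfTypeM23 X E) :
    E.ncard = 31671 ∧ (∀ a ∈ E, (dperp E a).ncard = 3510) ∧
      (∀ a ∈ E, ∀ b ∈ dperp E a, (dperp (dperp E a) b).ncard = 693) ∧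
      (∀ a ∈ E, ∀ z ∈ E, ¬ Commute a z → {v | v ∈ dperp E a ∧ Commute z v}.ncard = 351) := by
  obtain ⟨⟨-, hD2, -⟩, -, hlay, -⟩ := m23_base hE h23
  obtain ⟨a, ha, -⟩ := id hD2
  exact ⟨ncard_members23 hE hlay ha, fun b hb => (hlay b hb).card,
    fun b hb c hc => (hlay b hb).card1 c hc, fun b hb z hz h => common_351 hE hlay hb hz h⟩

/-- In type M(23) the common partners of two members that do not commute determine their line. -/
theorem hyp_M23 (hE : IsThreeTranspositionGroup E) (h23 : IsOfTypeM23 X E) : Hyp E := by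
  obtain ⟨-, hnice, hlay, hhyp⟩ := m23_base hE h23
  intro p hp q hq r hr hpq hall
  obtain ⟨u, hu, huq⟩ := hnice.diam p hp q hq hpq
  have hpU : p ∈ dperp E u := dperp_symm hp hu
  have hqU : q ∈ dperp E u := ⟨hq, fun e => hpq (e ▸ hu.2.2), huq⟩
  by_cases hru : r = u
  · exfalso
    subst hru
    have hsub : {v | v ∈ dperp E p ∧ Commute q v} ⊆
        insert r {v | v ∈ dperp (dperp E r) p ∧ Commute q v} := by
      rintro v ⟨hv, hqv⟩
      rcases eq_or_ne v r with rfl | hne
      · exact Set.mem_insert _ _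
      · exact Set.mem_insert_of_mem _
          ⟨⟨⟨hv.1, hne, (hall v hv.1 hv.2.2.symm hqv.symm).symm⟩, hv.2.1, hv.2.2⟩, hqv⟩
    have h1 := (Set.ncard_le_ncard hsub (Set.toFinite _)).trans (Set.ncard_insert_le _ _)
    rw [common_351 hE hlay hp hq hpq, (hlay r hr).common p hpU q hqU hpq] at h1
    omega
  exact hhyp u hu.1 p hpU q hqU r ⟨hr, hru, hall u hu.1 hu.2.2.symm huq⟩ hpq
    fun y hy h1 h2 => hall y hy.1 h1 h2

end Base

/-- Double counting against all vertices of a graph with the parameters of M(23). -/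
theorem srg_outside {α : Type*} [DecidableEq α] (R : α → α → Prop) [DecidableRel R]
    (L W T : Finset α) (hWL : W ⊆ L) (hsymm : ∀ a b, R a b → R b a) (hirr : ∀ a, ¬ R a a)
    (hdeg : ∀ a ∈ L, (L.filter (R a)).card = 3510)
    (hadj : ∀ a ∈ L, ∀ b ∈ L, R a b → (L.filter fun v => R a v ∧ R b v).card = 693)
    (hnon : ∀ a ∈ L, ∀ b ∈ L, a ≠ b → ¬ R a b → (L.filter fun v => R a v ∧ R b v).card = 351)
    (hW : ∀ w ∈ W, (W.filter (R w)).card = 351) (hTsub : T ⊆ L \ W)
    (hT : ∀ v ∈ L \ W, v ∉ T → (W.filter (R v)).card = 0) :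
    (3159 * W.card) ^ 2 ≤ T.card * (351 * W.card ^ 2) := by
  set n : α → ℕ := fun v => (W.filter (R v)).card
  have hfst : ∑ v ∈ L, n v = 3510 * W.card := by
    show ∑ v ∈ L, (Finset.bipartiteAbove R W v).card = _
    rw [Finset.sum_card_bipartiteAbove_eq_sum_card_bipartiteBelow R,
      Finset.sum_congr rfl (g := fun _ => 3510) fun w hw => by
        rw [← hdeg w (hWL hw)]
        exact congrArg _ (Finset.filter_congr fun v _ => ⟨hsymm _ _, hsymm _ _⟩),
      Finset.sum_const, smul_eq_mul, mul_comm]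
  have hsnd : ∑ v ∈ L, n v ^ 2 = W.card * (123201 + 351 * W.card) := by
    have h1 : ∀ v, n v ^ 2 =
        (Finset.bipartiteAbove (fun v (p : α × α) => R v p.1 ∧ R v p.2) (W ×ˢ W) v).card := fun v => by
      rw [Finset.bipartiteAbove, Finset.filter_product, Finset.card_product, sq]
    rw [Finset.sum_congr rfl fun v _ => h1 v,
      Finset.sum_card_bipartiteAbove_eq_sum_card_bipartiteBelow]
    have hval : ∀ w ∈ W, ∀ w' ∈ W,
        (Finset.bipartiteBelow (fun v (p : α × α) => R v p.1 ∧ R v p.2) L (w, w')).card =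
          351 + (if R w w' then 342 else 0) + (if w' = w then 3159 else 0) := by
      intro w hw w' hw'
      have hf : Finset.bipartiteBelow (fun v (p : α × α) => R v p.1 ∧ R v p.2) L (w, w') =
          L.filter fun v => R w v ∧ R w' v :=
        Finset.filter_congr fun v _ => ⟨fun h => ⟨hsymm _ _ h.1, hsymm _ _ h.2⟩,
          fun h => ⟨hsymm _ _ h.1, hsymm _ _ h.2⟩⟩
      rw [hf]
      rcases eq_or_ne w' w with rfl | hne
      · rw [if_neg (hirr _), if_pos rfl]
        exact (congrArg _ (Finset.filter_congr fun v _ => and_self_iff)).trans (hdeg w' (hWL hw'))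
      · rw [if_neg hne]
        by_cases h : R w w'
        · rw [if_pos h, hadj w (hWL hw) w' (hWL hw') h]
        · rw [if_neg h, hnon w (hWL hw) w' (hWL hw') hne.symm h]
    rw [Finset.sum_product, Finset.sum_congr rfl (g := fun _ => 123201 + 351 * W.card) fun w hw => by
      rw [Finset.sum_congr rfl (hval w hw), Finset.sum_add_distrib, Finset.sum_add_distrib,
        Finset.sum_const, ← Finset.sum_filter, Finset.sum_const, hW w hw,
        Finset.sum_ite_eq' W w, if_pos hw, smul_eq_mul, smul_eq_mul]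
      ring,
      Finset.sum_const, smul_eq_mul]
  have hTzero : ∀ f : ℕ → ℕ, f 0 = 0 → ∑ v ∈ L, f (n v) = W.card * f 351 + ∑ v ∈ T, f (n v) := by
    intro f hf
    rw [← Finset.sum_sdiff hWL, add_comm, Finset.sum_congr (s₁ := W) rfl (fun v hv => congrArg f (hW v hv)),
      Finset.sum_const, smul_eq_mul]
    congr 1
    exact (Finset.sum_subset hTsub fun v hv hv' => by rw [show n v = 0 from hT v hv hv', hf]).symm
  have h1 := hTzero id rfl
  have h2 := hTzero (fun x => x ^ 2) (by norm_num)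
  simp only [id] at h1
  have hcs := sq_sum_le_card_mul_sum_sq (s := T) (f := n)
  have e1 : ∑ v ∈ T, n v = 3159 * W.card := by omega
  have e2 : ∑ v ∈ T, n v ^ 2 = 351 * W.card ^ 2 := by
    rw [hsnd] at h2
    nlinarith
  rwa [e1, e2] at hcs

/-- The test used for `disc_not_square`. -/
def discTest (K : ℕ) : Bool :=
  3241 ≤ K || K < 352 || 891855360 % K != 0 || K == 3240 ||
    Nat.sqrt ((3510 - K) ^ 2 + 4 * (31671 - K)) ^ 2 != (3510 - K) ^ 2 + 4 * (31671 - K)

theorem discTest_all : ∀ q : Fin 55, ∀ r : Fin 60, discTest (q.val * 60 + r.val) = true := by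
  decide +kernel

/-- Below 3240 no divisor of 31671 · 28160 makes the discriminant a square. -/
theorem disc_not_square (K : ℕ) (h : K < 3241) (h1 : 352 ≤ K) (h2 : 891855360 % K = 0) (h3 : K ≠ 3240) :
    Nat.sqrt ((3510 - K) ^ 2 + 4 * (31671 - K)) ^ 2 ≠ (3510 - K) ^ 2 + 4 * (31671 - K) := by
  have ht := discTest_all ⟨K / 60, by omega⟩ ⟨K % 60, Nat.mod_lt _ (by norm_num)⟩
  simp only [show K / 60 * 60 + K % 60 = K by omega, discTest, Bool.or_eq_true, decide_eq_true_eq,
    bne_iff_ne, beq_iff_eq] at ht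
  rcases ht with (((h' | h') | h') | h') | h'
  exacts [absurd h' (by omega), absurd h' (by omega), absurd h2 h', absurd h' h3, h']

/-- The layer of the base member is the image of its group modulo the centre. -/
theorem exists_base_iso {G : Type u} [Group G] [Finite G] {D : Set G}
    (hD : IsThreeTranspositionGroup D) {d : G} (hd : d ∈ D) {H : Subgroup G}
    (hH : H = Subgroup.closure (dperp D d)) (hcls : IsThreeTranspositionClass D)
    (hG : GoodClass (lowImage H (dperp D d) \ {1})) (hN : NoTwins D) :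
    ∃ φ, SetIso (dperp D d) (lowImage H (dperp D d) \ {1}) φ ∧
      ∀ (u : G) (hu : u ∈ dperp D d), φ u = ((⟨u, mem_H hH hu⟩ : H) : H ⧸ Subgroup.center H) := by
  classical
  let φ : G → H ⧸ Subgroup.center H := fun u =>
    if h : u ∈ H then ((⟨u, h⟩ : H) : H ⧸ Subgroup.center H) else 1
  have hφ : ∀ u (hu : u ∈ dperp D d), φ u = ((⟨u, mem_H hH hu⟩ : H) : H ⧸ Subgroup.center H) :=
    fun u hu => dif_pos (mem_H hH hu)
  have hne : ∀ {u : H}, (u : G) ∈ dperp D d → (u : H ⧸ Subgroup.center H) ≠ 1 := fun hu =>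
    mk_ne_one hD hd hH hcls hG hN hu
  refine ⟨φ, ⟨⟨fun u hu => ?_, fun u hu v hv huv => ?_, ?_⟩, fun u hu v hv => ?_,
    fun u hu v hv => ?_⟩, hφ⟩
  · rw [hφ u hu]
    exact ⟨⟨_, hu, rfl⟩, hne hu⟩
  · rw [hφ u hu, hφ v hv] at huv
    exact congrArg Subtype.val (eq_of_mk_eq hD hH (u := ⟨u, mem_H hH hu⟩)
      (v := ⟨v, mem_H hH hv⟩) hu hv (hne hu) huv)
  · rintro - ⟨⟨x, hx, rfl⟩, -⟩
    exact ⟨x, hx, dif_pos x.2⟩
  · rw [hφ u hu, hφ v hv]
    exact ⟨reflect hD hH (u := ⟨u, mem_H hH hu⟩) (v := ⟨v, mem_H hH hv⟩) hu hv, fun h =>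
      (show Commute (⟨u, mem_H hH hu⟩ : H) ⟨v, mem_H hH hv⟩ from Subtype.ext h.eq).map
        (QuotientGroup.mk' _)⟩
  · rw [hφ u hu, hφ v hv, hφ _ (((closedSet_of_group hD).dperp d).conj u hu v hv)]
    rfl

/-- The base of a group of type M(24): a set of type M(23) every layer is isomorphic to. -/
structure M24Base {G : Type u} [Group G] (D : Set G) {X : Type u} [Group X] (E : Set X) : Prop where
  sol : ∀ N : Subgroup G, N.Normal → N ≤ commutator G → Group.IsSolvable N → N = ⊥
  perf : ⁅commutator G, commutator G⁆ = commutator G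
  cls : IsThreeTranspositionClass D
  noTwins : NoTwins D
  nice : Nice D
  trace : Trace D
  hypLayer : ∀ t ∈ D, Hyp (dperp D t)
  group : IsThreeTranspositionGroup E
  m23 : IsOfTypeM23 X E
  iso : ∀ a ∈ D, ∃ φ, SetIso (dperp D a) E φ
  base : ∃ d ∈ D, ∃ π : ↥(Subgroup.closure (dperp D d)) →* X, Function.Surjective π ∧
    π.ker = Subgroup.center ↥(Subgroup.closure (dperp D d)) ∧ ∃ φ, SetIso (dperp D d) E φ ∧
      ∀ (u : G) (hu : u ∈ dperp D d), φ u = π ⟨u, Subgroup.subset_closure hu⟩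

theorem exists_base24 {G : Type u} [Group G] [Finite G] {D : Set G}
    (hD : IsThreeTranspositionGroup D) (hprim : IsPrimitiveUnderConj D) (h : IsOfTypeM24 G D) :
    ∃ (X : Type u) (_ : Group X) (_ : Finite X) (E : Set X), M24Base D E := by
  obtain ⟨hZ, d, hd, c, hc, hdc, h23, -⟩ := h
  set H := Subgroup.closure {y : G | y ∈ D ∧ y ≠ d ∧ Commute d y}
  have hH : H = Subgroup.closure (dperp D d) := rfl
  have hgrp := lowImage_group hD hH
  obtain ⟨hG, -, -⟩ := layerData_of_M23 (D₀ := lowImage H (dperp D d)) hgrp h23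
  have hU := nice_of_M23 (D₀ := lowImage H (dperp D d)) hgrp h23
  have hcls := class_of_primitive hD hprim
  have hN := noTwins_of_primitive hD.2.1 hprim ⟨d, hd, c, hc, hdc⟩
  have h23' := isOfTypeM23_of_eq (lowImage_diff hD hd hH hcls hG hN) h23
  have hrich := rich_of_layer hD hd hH hcls hG hN
  have hw := exists_pair_of_rich hrich hd
  obtain ⟨h2, h3, hconn⟩ := primitive_facts hD hprim hw
  obtain ⟨L, hLn, hLq, -, -⟩ := exists_quasisimple hcls hprim.2.1 h2 h3
  have hidx := index_le_two hcls hprim.2.1 h2 h3 hLq hconn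
  have hperf := perfect_derived hLq hidx
  have hsol : ∀ M : Subgroup G, M.Normal → M ≤ commutator G → Group.IsSolvable M → M = ⊥ :=
    fun M hM hle hs => eq_bot_iff.2 (hZ ▸ solvable_le_center hcls hprim.2.1 h2 h3 hLq hidx hM hle hs)
  have hdiam : Diam D := fun a ha b hb hab => exists_common hsol hperf hcls ha hb hab
  have hS := closedSet_of_group hD
  have hnice := nice_of_layers hS (sep_of_class hcls hN) hrich hdiam
    fun t ht => nice_layer hD hd hH hcls hG hN hU ht
  have hiso : ∀ a ∈ D, ∃ φ, SetIso (dperp D a) (lowImage H (dperp D d) \ {1}) φ := fun a ha =>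
    exists_layer_iso hD hd hH hcls hG hN ha
  have hM := m23Data hgrp (prim_M23 hgrp h23') h23'
  refine ⟨_, inferInstance, inferInstance, _, ⟨hsol, hperf, hcls, hN, hnice, ?_, ?_, hgrp, h23', hiso,
    d, hd, QuotientGroup.mk' (Subgroup.center ↥H), QuotientGroup.mk'_surjective (Subgroup.center ↥H), QuotientGroup.ker_mk' (Subgroup.center ↥H),
    exists_base_iso hD hd hH hcls hG hN⟩⟩
  · exact trace_of_layers hdiam fun t ht => by
      obtain ⟨φ, hφ⟩ := hiso t ht
      exact hφ.trace hM.trace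
  · intro t ht
    obtain ⟨φ, hφ⟩ := hiso t ht
    exact hφ.hyp (hS.dperp t) (hyp_M23 hgrp h23')

variable {G : Type u} [Group G] [Finite G] {D : Set G} {X : Type u} [Group X] [Finite X] {E : Set X}
  (hD : IsThreeTranspositionGroup D) (hB : M24Base D E)

include hD hB

omit hD in
/-- The layer of a member and the layers inside it. -/
theorem layer_counts24 {a : G} (ha : a ∈ D) :
    (dperp D a).ncard = 31671 ∧ (∀ b ∈ dperp D a, (dperp (dperp D a) b).ncard = 3510) ∧
      (∀ b ∈ dperp D a, ∀ c ∈ dperp (dperp D a) b, (dperp (dperp (dperp D a) b) c).ncard = 693) ∧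
      (∀ b ∈ dperp D a, ∀ z ∈ dperp D a, ¬ Commute b z →
        {v | v ∈ dperp (dperp D a) b ∧ Commute z v}.ncard = 351) := by
  obtain ⟨φ, hφ⟩ := hB.iso a ha
  obtain ⟨h0, h1, h2, h3⟩ := counts_M23 hB.group hB.m23
  refine ⟨hφ.ncard_eq.trans h0, fun b hb => (hφ.restrict hb).ncard_eq.trans (h1 _ (hφ.bij.mapsTo hb)),
    fun b hb c hc => ((hφ.restrict hb).restrict hc).ncard_eq.trans
      (h2 _ (hφ.bij.mapsTo hb) _ ((hφ.restrict hb).bij.mapsTo hc)), fun b hb z hz hbz => ?_⟩
  rw [(hφ.restrict hb).ncard_sep (fun v => Commute z v) (fun k => Commute (φ z) k)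
    fun v hv => (hφ.comm z hz v hv.1).symm]
  exact h3 _ (hφ.bij.mapsTo hb) _ (hφ.bij.mapsTo hz) fun h => hbz ((hφ.comm b hb z hz).1 h)

/-- Common partners of two noncommuting members inside the layer of the first: each has 351
partners among them, and they are at most 3240. -/
theorem common_props {a z : G} (ha : a ∈ D) (hz : z ∈ D) (haz : ¬ Commute a z) :
    352 ≤ {v | v ∈ dperp D a ∧ Commute z v}.ncard ∧
      {v | v ∈ dperp D a ∧ Commute z v}.ncard ≤ 3240 ∧
      ({v | v ∈ dperp D a ∧ Commute z v}.ncard = 3240 → ∀ x ∈ dperp D a, ¬ Commute z x →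
        ∃ v ∈ dperp D a, Commute z v ∧ v ≠ x ∧ Commute v x) := by
  classical
  set W := {v | v ∈ dperp D a ∧ Commute z v}
  obtain ⟨hL, hdeg, hadj, hnon⟩ := layer_counts24 hB ha
  set Lf := (Set.toFinite (dperp D a)).toFinset
  set Wf := (Set.toFinite W).toFinset
  have hLf : ∀ v, v ∈ Lf ↔ v ∈ dperp D a := fun v => Set.Finite.mem_toFinset _
  have hWf : ∀ v, v ∈ Wf ↔ v ∈ W := fun v => Set.Finite.mem_toFinset _
  let R : G → G → Prop := fun u v => v ≠ u ∧ Commute u v
  have hW : ∀ w ∈ W, {v | v ∈ W ∧ R w v}.ncard = 351 := by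
    intro w hw
    have haS : a ∈ dperp D w := dperp_symm ha hw.1
    have hzS : z ∈ dperp D w := ⟨hz, fun e => haz (e ▸ hw.1.2.2), hw.2.symm⟩
    rw [← (layer_counts24 hB hw.1.1).2.2.2 a haS z hzS haz]
    congr 1
    ext v
    exact ⟨fun h => ⟨⟨⟨h.1.1.1, h.2.1, h.2.2⟩, h.1.1.2⟩, h.1.2⟩,
      fun h => ⟨⟨⟨h.1.1.1, h.1.2⟩, h.2⟩, h.1.1.2⟩⟩
  have hWne : W.Nonempty := by
    obtain ⟨v, hv, hvz⟩ := hB.nice.diam a ha z hz haz
    exact ⟨v, hv, hvz.symm⟩
  have hbound : ∀ T ⊆ Lf \ Wf, (∀ v ∈ Lf \ Wf, v ∉ T → (Wf.filter (R v)).card = 0) →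
      28431 ≤ T.card := by
    intro T hT hT0
    have h := srg_outside R Lf Wf T (fun v hv => (hLf v).2 ((hWf v).1 hv).1)
      (fun u v h => ⟨h.1.symm, h.2.symm⟩) (fun u h => h.1 rfl)
      (fun b hb => by
        refine ((card_filter_set (dperp D a) _).trans ?_).trans (hdeg b ((hLf b).1 hb))
        rfl)
      (fun b hb c hc hbc => by
        refine ((card_filter_set (dperp D a) _).trans ?_).trans
          (hadj b ((hLf b).1 hb) c ⟨(hLf c).1 hc, hbc⟩)
        congr 1
        ext v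
        exact ⟨fun h => ⟨⟨h.1, h.2.1⟩, h.2.2⟩, fun h => ⟨h.1.1, h.1.2, h.2⟩⟩)
      (fun b hb c hc hne hbc => by
        have hnc : ¬ Commute b c := fun h => hbc ⟨hne.symm, h⟩
        refine ((card_filter_set (dperp D a) _).trans ?_).trans
          (hnon b ((hLf b).1 hb) c ((hLf c).1 hc) hnc)
        congr 1
        ext v
        exact ⟨fun h => ⟨⟨h.1, h.2.1⟩, h.2.2.2⟩,
          fun h => ⟨h.1.1, h.1.2, fun e => hnc (e ▸ h.1.2.2), h.2⟩⟩)
      (fun w hw => (card_filter_set W _).trans (hW w ((hWf w).1 hw))) hT hT0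
    have hpos : 0 < Wf.card := Finset.card_pos.2 (hWne.imp fun v hv => (hWf v).2 hv)
    have h' : 9979281 * Wf.card ^ 2 ≤ (351 * T.card) * Wf.card ^ 2 :=
      le_of_eq_of_le (by ring) (h.trans (le_of_eq (by ring)))
    have := Nat.le_of_mul_le_mul_right h' (by positivity)
    omega
  have hcard : (Lf \ Wf).card + Wf.card = 31671 := by
    rw [Finset.card_sdiff_add_card_eq_card fun v hv => (hLf v).2 ((hWf v).1 hv).1,
      ← Set.ncard_eq_toFinset_card, hL]
  have hWc : Wf.card = W.ncard := (Set.ncard_eq_toFinset_card _).symm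
  have hall := hbound _ (Finset.Subset.refl _) fun v hv hv' => absurd hv hv'
  refine ⟨?_, by omega, fun h40 x hx hzx => ?_⟩
  · obtain ⟨w, hw⟩ := hWne
    have := Set.ncard_le_ncard (show insert w {v | v ∈ W ∧ R w v} ⊆ W from
      Set.insert_subset hw fun v hv => hv.1) (Set.toFinite _)
    rw [Set.ncard_insert_of_notMem (fun h => h.2.1 rfl) (Set.toFinite _), hW w hw] at this
    exact this
  · by_contra hcon
    push Not at hcon
    have hxm : x ∈ Lf \ Wf := Finset.mem_sdiff.2 ⟨(hLf x).2 hx, fun h => hzx ((hWf x).1 h).2⟩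
    have h0 : (Wf.filter (R x)).card = 0 := by
      rw [Finset.card_eq_zero, Finset.filter_eq_empty_iff]
      intro v hv hR
      exact hcon v ((hWf v).1 hv).1 ((hWf v).1 hv).2 hR.1 hR.2.symm
    have := hbound ((Lf \ Wf).erase x) (Finset.erase_subset _ _) fun v hv hv' => by
      rcases eq_or_ne v x with rfl | hne
      · exact h0
      · exact absurd (Finset.mem_erase.2 ⟨hne, hv⟩) hv'
    rw [Finset.card_erase_of_mem hxm] at this
    omega

/-- The centraliser of a member is transitive on the members it does not commute with. -/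
theorem exists_commute_conj24 {a c c' : G} (ha : a ∈ D) (hc : c ∈ D) (hc' : c' ∈ D)
    (hac : ¬ Commute a c) (hac' : ¬ Commute a c') : ∃ g : G, Commute g a ∧ g * c * g⁻¹ = c' :=
  exists_commute_conj_not_commute hB.sol hB.perf hB.cls ha hc hc' hac hac'

/-- The common partner number is the same for all noncommuting pairs. -/
theorem common_eq24 {a z a' z' : G} (ha : a ∈ D) (hz : z ∈ D) (haz : ¬ Commute a z)
    (ha' : a' ∈ D) (hz' : z' ∈ D) (haz' : ¬ Commute a' z') :
    {v | v ∈ dperp D a' ∧ Commute z' v}.ncard = {v | v ∈ dperp D a ∧ Commute z v}.ncard := by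
  obtain ⟨g, hg⟩ := class_isConj hB.cls ha ha'
  have hnc : ¬ Commute a' (g * z * g⁻¹) := fun h => haz ((commute_conj g a z).1 (hg.symm ▸ h))
  obtain ⟨k, hk, hkz⟩ := exists_commute_conj24 hD hB ha' (hD.2.1 g z hz) hz' hnc haz'
  have h1 : k * g * a * (k * g)⁻¹ = a' := by
    rw [show k * g * a * (k * g)⁻¹ = k * (g * a * g⁻¹) * k⁻¹ by group, hg, hk.eq, mul_inv_cancel_right]
  have h2 : k * g * z * (k * g)⁻¹ = z' := by rw [← hkz]; group
  rw [← Set.ncard_image_of_injective {v | v ∈ dperp D a ∧ Commute z v}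
    (f := fun v => k * g * v * (k * g)⁻¹) fun p q h => mul_left_cancel (mul_right_cancel h)]
  congr 1
  apply Set.ext
  intro v
  constructor
  · rintro ⟨hv, hzv⟩
    obtain ⟨w, hw, rfl⟩ := conj_partner hD.2.1 (k * g) hv.1
    refine ⟨w, ⟨⟨hw, fun e => hv.2.1 (by rw [e, h1]), (commute_conj (k * g) a w).1 (by
      rw [h1]; exact hv.2.2)⟩, (commute_conj (k * g) z w).1 (by rw [h2]; exact hzv)⟩, rfl⟩
  · rintro ⟨w, ⟨hw, hzw⟩, rfl⟩
    exact ⟨h1 ▸ dperp_conj hD.2.1 (k * g) hw, h2 ▸ (commute_conj (k * g) z w).2 hzw⟩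

theorem exists_nonpartner {a : G} (ha : a ∈ D) : ∃ z ∈ D, ¬ Commute a z := by
  obtain ⟨-, ⟨d, hd, -⟩, -⟩ := id hB.cls
  obtain ⟨u, hu⟩ := Set.nonempty_of_ncard_ne_zero (s := dperp D a)
    (by rw [(layer_counts24 hB ha).1]; norm_num)
  exact exists_not_commute hB.cls ⟨a, ha, u, hu.1, hu.2.1.symm⟩ ha

/-- Two noncommuting members have 3240 common partners and there are 306936 members. -/
theorem counts24 {a : G} (ha : a ∈ D) :
    D.ncard = 306936 ∧ ∀ z ∈ D, ¬ Commute a z → {v | v ∈ dperp D a ∧ Commute z v}.ncard = 3240 := by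
  classical
  obtain ⟨z₀, hz₀, haz₀⟩ := exists_nonpartner hD hB ha
  set K := {v | v ∈ dperp D a ∧ Commute z₀ v}.ncard with hKdef
  obtain ⟨hK1, hK2, -⟩ := common_props hD hB ha hz₀ haz₀
  set N := {e | e ∈ D ∧ ¬ Commute a e}
  obtain ⟨hL, hdeg, -, -⟩ := layer_counts24 hB ha
  have hNK : 891855360 = N.ncard * K := by
    have hout : ∀ u ∈ dperp D a, {e | e ∈ N ∧ Commute u e}.ncard = 28160 := by
      intro u hu
      have hsplit : dperp D u = {e | e ∈ N ∧ Commute u e} ∪ insert a (dperp (dperp D a) u) := by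
        apply Set.ext
        intro e
        constructor
        · intro he
          by_cases hae : Commute a e
          · rcases eq_or_ne e a with rfl | hne
            · exact Or.inr (Set.mem_insert _ _)
            · exact Or.inr (Set.mem_insert_of_mem _ ⟨⟨he.1, hne, hae⟩, he.2.1, he.2.2⟩)
          · exact Or.inl ⟨⟨he.1, hae⟩, he.2.2⟩
        · rintro (⟨⟨he, hae⟩, hue⟩ | rfl | he)
          · exact ⟨he, fun e' => hae (e' ▸ hu.2.2), hue⟩
          · exact dperp_symm ha hu
          · exact ⟨he.1.1, he.2.1, he.2.2⟩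
      have h := congrArg Set.ncard hsplit
      rw [(layer_counts24 hB hu.1).1, Set.ncard_union_eq ?_ (Set.toFinite _) (Set.toFinite _),
        Set.ncard_insert_of_notMem (fun h => h.1.2.1 rfl) (Set.toFinite _), hdeg u hu] at h
      · omega
      · refine Set.disjoint_left.2 ?_
        rintro e ⟨⟨he, hae⟩, -⟩ (rfl | he')
        · exact hae (Commute.refl _)
        · exact hae he'.1.2.2
    have hmul := Finset.card_mul_eq_card_mul (fun u e : G => Commute u e)
      (s := (Set.toFinite (dperp D a)).toFinset) (t := (Set.toFinite N).toFinset) (m := 28160) (n := K)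
      (fun u hu => (card_filter_set N _).trans (hout u ((Set.Finite.mem_toFinset _).1 hu)))
      (fun e he => by
        rw [Set.Finite.mem_toFinset] at he
        refine (card_filter_set (dperp D a) _).trans ?_
        rw [hKdef, ← common_eq24 hD hB ha hz₀ haz₀ ha he.1 he.2]
        congr 1
        ext v
        exact ⟨fun h => ⟨h.1, h.2.symm⟩, fun h => ⟨h.1, h.2.symm⟩⟩)
    rw [← Set.ncard_eq_toFinset_card, ← Set.ncard_eq_toFinset_card, hL] at hmul
    exact hmul
  have hnum := ncard_nonpartners (D := D) ha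
  rw [hL] at hnum
  change N.ncard + (31671 + 1) = D.ncard at hnum
  have hsq : IsSquare ((3510 - K) ^ 2 + 4 * (31671 - K)) := by
    have hpull : ∀ P : G → Prop, (∀ c, P c → c ∈ D) → {c : D | P c}.ncard = {c | P c}.ncard := by
      intro P hP
      rw [← Set.ncard_image_of_injective {c : D | P c} Subtype.val_injective]
      congr 1
      exact Set.ext fun c => ⟨fun ⟨w, hw, e⟩ => e ▸ hw, fun hc => ⟨⟨c, hP c hc⟩, hc, rfl⟩⟩
    have := (Set.toFinite D).fintype
    refine isSquare_of_srg (α := ↥D) (fun u v => (v : G) ∈ dperp D u)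
      (fun u v h => dperp_symm u.2 h) (fun u h => h.2.1 rfl) 31671 3510 K (fun u => ?_)
      (fun u v h => ?_) (fun u v hne h => ?_) (by omega) (by omega) ?_
    · rw [hpull _ fun c hc => hc.1]
      exact (layer_counts24 hB u.2).1
    · rw [hpull (fun c => c ∈ dperp D u ∧ c ∈ dperp D v) fun c hc => hc.1.1,
        ← (layer_counts24 hB u.2).2.1 v h]
      congr 1
      ext c
      exact ⟨fun hc => ⟨hc.1, hc.2.2⟩, fun hc => ⟨hc.1, hc.1.1, hc.2⟩⟩
    · have hnc : ¬ Commute (u : G) v := fun hh =>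
        h ⟨v.2, fun e => hne (Subtype.ext e.symm), hh⟩
      rw [hpull (fun c => c ∈ dperp D u ∧ c ∈ dperp D v) fun c hc => hc.1.1, hKdef,
        ← common_eq24 hD hB ha hz₀ haz₀ u.2 v.2 hnc]
      congr 1
      ext c
      exact ⟨fun hc => ⟨hc.1, hc.2.2.2⟩, fun hc => ⟨hc.1, hc.1.1, fun e => hnc (e ▸ hc.1.2.2), hc.2⟩⟩
    · rw [← Nat.card_eq_fintype_card, Nat.card_coe_set_eq]
      omega
  have hK : K = 3240 := by
    by_contra hne
    refine disc_not_square K (by omega) hK1 (by rw [hNK]; simp) hne ?_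
    obtain ⟨r, hr⟩ := hsq
    rw [hr, Nat.sqrt_eq, sq]
  refine ⟨?_, fun z hz haz => by rw [common_eq24 hD hB ha hz₀ haz₀ ha hz haz, ← hKdef, hK]⟩
  rw [hK] at hNK
  omega

/-- A commuting pair and a member moved by both have a common partner. -/
theorem third24 {x y z : G} (hx : x ∈ D) (hy : y ∈ D) (hz : z ∈ D) (hxy : Commute x y) (hne : x ≠ y)
    (hxz : ¬ Commute x z) (hyz : ¬ Commute y z) :
    ∃ a ∈ dperp D x, Commute a y ∧ Commute a z ∧ a ≠ y := by
  obtain ⟨v, hv, hzv, hvx, hvx'⟩ := (common_props hD hB hy hz hyz).2.2 ((counts24 hD hB hy).2 z hz hyz)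
    x ⟨hx, hne, hxy.symm⟩ fun h => hxz h.symm
  exact ⟨v, ⟨hv.1, hvx, hvx'.symm⟩, hv.2.2.symm, hzv.symm, hv.2.1⟩

end Cfsg.Agent.ThreeTrans
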