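import Cfsg.Agent.ThreeTrans.PairNormal
import Cfsg.Agent.ThreeTrans.BaseM24

/-!
# Widths and inverting members for the three Fischer types
-/

set_option autoImplicit false

open Cfsg

namespace Cfsg.Agent.ThreeTrans

universe u

variable {G : Type u} [Group G] [Finite G] {D : Set G}

theorem pairWidth_M22 (hF : M22Full D) : PairWidth D 6 :=
  PairWidth.step hF.data.nice.diam fun t ht => pairWidth_five (hF.planes t ht) (hF.data.layerNice t ht).rich

theorem pairWidth_M23 (hD : IsThreeTranspositionGroup D) (hprim : IsPrimitiveUnderConj D)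
    (h : IsOfTypeM23 G D) : PairWidth D 7 := by
  obtain ⟨X, _, _, E, hE, -, h22, hcov⟩ := exists_cover23 hD hprim h
  refine PairWidth.step (m23Data hD hprim h).nice.diam fun t ht => ?_
  obtain ⟨χ, ψ, -, -, -, hiso⟩ := (hcov t ht).maps
  exact hiso.pairWidth (pairWidth_M22 (m22Full hE h22))

theorem pairWidth_M24 {X : Type u} [Group X] [Finite X] {E : Set X} (hB : M24Base D E) :
    PairWidth D 8 := by
  refine PairWidth.step hB.nice.diam fun t ht => ?_
  obtain ⟨φ, hφ⟩ := hB.iso t ht
  exact hφ.pairWidth (pairWidth_M23 hB.group (prim_M23 hB.group hB.m23) hB.m23)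

/-- In type M(24) the common partners of two members that do not commute determine their line. -/
theorem hyp_M24 (hD : IsThreeTranspositionGroup D) {X : Type u} [Group X] [Finite X] {E : Set X}
    (hB : M24Base D E) : Hyp D := by
  intro p hp q hq r hr hpq hall
  obtain ⟨u, hu, huq⟩ := hB.nice.diam p hp q hq hpq
  have hpU : p ∈ dperp D u := dperp_symm hp hu
  have hqU : q ∈ dperp D u := ⟨hq, fun e => hpq (e ▸ hu.2.2), huq⟩
  by_cases hru : r = u
  · exfalso
    subst hru
    have hsub : {v | v ∈ dperp D p ∧ Commute q v} ⊆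
        insert r {v | v ∈ dperp (dperp D r) p ∧ Commute q v} := by
      rintro v ⟨hv, hqv⟩
      rcases eq_or_ne v r with rfl | hne
      · exact Set.mem_insert _ _
      · exact Set.mem_insert_of_mem _
          ⟨⟨⟨hv.1, hne, (hall v hv.1 hv.2.2.symm hqv.symm).symm⟩, hv.2.1, hv.2.2⟩, hqv⟩
    have h1 := (Set.ncard_le_ncard hsub (Set.toFinite _)).trans (Set.ncard_insert_le _ _)
    rw [(counts24 hD hB hp).2 q hq hpq, (layer_counts24 hB hr).2.2.2 p hpU q hqU hpq] at h1
    omega
  exact hB.hypLayer u hu.1 p hpU q hqU r ⟨hr, hru, hall u hu.1 hu.2.2.symm huq⟩ hpq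
    fun y hy h1 h2 => hall y hy.1 h1 h2

end Cfsg.Agent.ThreeTrans
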