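import Cfsg.Agent.ThreeTrans.TripleM24

/-!
# Type M(24): the structure of the centraliser of a product of three commuting members
-/

set_option autoImplicit false

open Cfsg
open scoped commutatorElement Pointwise

universe u

namespace Cfsg.Agent.ThreeTrans

theorem map_center_equiv_eq {A B : Type*} [Group A] [Group B] (e : A ≃* B) :
    (Subgroup.center A).map e.toMonoidHom = Subgroup.center B := by
  ext p
  obtain ⟨x, rfl⟩ := e.surjective p
  rw [Subgroup.mem_map_equiv, MulEquiv.symm_apply_apply, Subgroup.mem_center_iff, Subgroup.mem_center_iff]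
  constructor
  · intro h q
    obtain ⟨y, rfl⟩ := e.surjective q
    rw [← map_mul, ← map_mul, h y]
  · intro h y
    exact e.injective (by rw [map_mul, map_mul, h (e y)])

/-- A group acting on a quasisimple normal subgroup with centre central in the normal subgroup:
the homomorphism to the automorphisms of the central quotient. -/
noncomputable def quotAut {H : Type*} [Group H] (K : Subgroup H) [K.Normal] {S : Type*} [Group S]
    (e : ↥K ⧸ Subgroup.center ↥K ≃* S) : H →* MulAut S :=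
  MonoidHom.mk' (fun h => e.symm.trans ((QuotientGroup.congr _ _ (MulAut.conjNormal h)
      (Subgroup.characteristic_iff_map_eq.1 inferInstance (MulAut.conjNormal h))).trans e))
    fun h k => by
      ext s
      obtain ⟨q, rfl⟩ := e.surjective s
      obtain ⟨x, rfl⟩ := QuotientGroup.mk_surjective q
      simp [MulAut.mul_apply, map_mul]
      rfl

/-- Elements acting trivially on the central quotient of a perfect normal subgroup centralise it. -/
theorem quotAut_eq_one {H : Type*} [Group H] {K : Subgroup H} [K.Normal] (hK : commutator ↥K = ⊤)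
    {S : Type*} [Group S] (e : ↥K ⧸ Subgroup.center ↥K ≃* S) {h : H} (hh : quotAut K e h = 1) :
    ∀ k ∈ K, Commute h k := by
  have hc : ∀ k : K, (MulAut.conjNormal h k) * k⁻¹ ∈ Subgroup.center ↥K := by
    intro k
    have h1 : (e.symm.trans ((QuotientGroup.congr _ _ (MulAut.conjNormal h)
      (Subgroup.characteristic_iff_map_eq.1 inferInstance (MulAut.conjNormal h))).trans e)) (e k) = e k :=
      DFunLike.congr_fun hh (e k)
    simp only [MulEquiv.trans_apply, MulEquiv.symm_apply_apply, EmbeddingLike.apply_eq_iff_eq,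
      QuotientGroup.congr_mk] at h1
    have h2 := Subgroup.Normal.conj_mem (inferInstance : (Subgroup.center ↥K).Normal) _
      (QuotientGroup.eq.1 h1.symm) k
    rw [mul_inv_cancel_left] at h2
    exact h2
  let δ : ↥K →* ↥(Subgroup.center ↥K) := MonoidHom.mk' (fun k => ⟨_, hc k⟩) fun k l => by
    refine Subtype.ext ?_
    show MulAut.conjNormal h (k * l) * (k * l)⁻¹ = (MulAut.conjNormal h k * k⁻¹) * (MulAut.conjNormal h l * l⁻¹)
    have h3 := Subgroup.mem_center_iff.1 (hc l) k
    rw [map_mul, mul_inv_rev]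
    calc MulAut.conjNormal h k * MulAut.conjNormal h l * (l⁻¹ * k⁻¹)
        = MulAut.conjNormal h k * k⁻¹ * (k * (MulAut.conjNormal h l * l⁻¹)) * k⁻¹ := by group
      _ = MulAut.conjNormal h k * k⁻¹ * ((MulAut.conjNormal h l * l⁻¹) * k) * k⁻¹ := by rw [h3]
      _ = _ := by group
  have hδ : δ.ker = ⊤ := by
    rw [eq_top_iff, ← hK, commutator_def, Subgroup.commutator_le]
    intro x _ y _
    rw [MonoidHom.mem_ker, map_commutatorElement, commutatorElement_eq_one_iff_mul_comm]
    exact Subtype.ext (Subgroup.mem_center_iff.1 (δ y).2 (δ x))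
  intro k hk
  have h1 : δ ⟨k, hk⟩ = 1 := MonoidHom.mem_ker.1 (hδ ▸ Subgroup.mem_top (⟨k, hk⟩ : K))
  have h2 : (MulAut.conjNormal h ⟨k, hk⟩ : ↥K) = ⟨k, hk⟩ := mul_inv_eq_one.1 (congrArg Subtype.val h1)
  have h3 := congrArg Subtype.val h2
  rw [MulAut.conjNormal_apply] at h3
  exact mul_inv_eq_iff_eq_mul.1 h3

/-- The elements commuting with the product of three members permute them. -/
theorem perm_triple {G : Type*} [Group G] {D : Set G} (hD : IsThreeTranspositionGroup D) (hN : NoTwins D)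
    (hN2 : ∀ a ∈ D, ∀ b ∈ dperp D a, NoTwins (dperp (dperp D a) b))
    {d₁ d₂ d₃ g : G} (h₁ : d₁ ∈ D) (h₂ : d₂ ∈ D) (h₃ : d₃ ∈ D) (h12 : d₁ ≠ d₂) (h13 : d₁ ≠ d₃)
    (h23 : d₂ ≠ d₃) (c12 : Commute d₁ d₂) (c13 : Commute d₁ d₃) (c23 : Commute d₂ d₃)
    (hg : Commute g (d₁ * d₂ * d₃)) (i : Fin 3) :
    ∃ k, g * ![d₁, d₂, d₃] i * g⁻¹ = ![d₁, d₂, d₃] k := by
  have hgj : g * (d₁ * d₂ * d₃) * g⁻¹ = d₁ * d₂ * d₃ := by rw [hg.eq, mul_inv_cancel_right]
  have hinj : ∀ {u v : G}, u ≠ v → g * u * g⁻¹ ≠ g * v * g⁻¹ :=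
    fun huv hh => huv (mul_left_cancel (mul_right_cancel hh))
  have use3 := fun (p q r : G) (hp : p ∈ D) (hq : q ∈ D) (hr : r ∈ D) (cpq : Commute p q)
      (cpr : Commute p r) (cqr : Commute q r) (npq : p ≠ q) (npr : p ≠ r) (nqr : q ≠ r)
      (he : d₁ * d₂ * d₃ = p * q * r) =>
    triple_unique hD.1 hN hN2 h₁ h₂ h₃ (hD.2.1 g p hp) (hD.2.1 g q hq) (hD.2.1 g r hr) c12 c13 c23
      h12 h13 h23 ((Commute.conj_iff g).2 cpq) ((Commute.conj_iff g).2 cpr)
      ((Commute.conj_iff g).2 cqr) (hinj npq) (hinj npr) (hinj nqr)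
      (by rw [conj_mul, conj_mul, ← he, hgj])
  have hres : ∀ x : G, (x = d₁ ∨ x = d₂ ∨ x = d₃) → ∃ k, x = ![d₁, d₂, d₃] k := by
    rintro x (rfl | rfl | rfl)
    exacts [⟨0, rfl⟩, ⟨1, rfl⟩, ⟨2, rfl⟩]
  fin_cases i
  · exact hres _ (use3 d₁ d₂ d₃ h₁ h₂ h₃ c12 c13 c23 h12 h13 h23 rfl)
  · exact hres _ (use3 d₂ d₁ d₃ h₂ h₁ h₃ c12.symm c23 c13 h12.symm h23 h13 (by rw [c12.eq]))
  · exact hres _ (use3 d₃ d₁ d₂ h₃ h₁ h₂ c13.symm c23.symm c12 h13.symm h23.symm h12
      (by rw [mul_assoc d₃ d₁ d₂, (c13.mul_left c23).eq]))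

/-- The centraliser of the product of three commuting members in the derived group. -/
theorem triple_main24 {G : Type u} [Group G] [Finite G] {D : Set G} (hD : IsThreeTranspositionGroup D)
    (hprim : IsPrimitiveUnderConj D) (h24 : IsOfTypeM24 G D)
    {d₁ d₂ d₃ : G} (h₁ : d₁ ∈ D) (h₂ : d₂ ∈ D) (h₃ : d₃ ∈ D) (h12 : d₁ ≠ d₂) (h13 : d₁ ≠ d₃)
    (h23 : d₂ ≠ d₃) (c12 : Commute d₁ d₂) (c13 : Commute d₁ d₃) (c23 : Commute d₂ d₃) (V CL K : Subgroup G)
    (hV : V = Subgroup.closure ({d₁ * d₂, d₁ * d₃} : Set G))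
    (hCL : CL = commutator G ⊓ Subgroup.centralizer ({d₁ * d₂ * d₃} : Set G))
    (hK : K = (generalizedFittingSubgroup ↥CL).map CL.subtype) :
    IsQuasisimple ↥K ∧ (Subgroup.center ↥K).map K.subtype = V ∧
      K = commutator G ⊓ Subgroup.centralizer (V : Set G) ∧
      (∃ (_ : (V.subgroupOf K).Normal) (F : Type) (_ : Field F) (_ : Fintype F), Fintype.card F = 4 ∧
        Nonempty (↥K ⧸ V.subgroupOf K ≃* PSU 6 F 2)) ∧
      ∃ _ : (K.subgroupOf CL).Normal, Nonempty (↥CL ⧸ K.subgroupOf CL ≃* Equiv.Perm (Fin 3)) ∧ V ≤ CL ∧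
        ∃ (_ : (V.subgroupOf CL).Normal) (F : Type) (_ : Field F) (_ : Fintype F), Fintype.card F = 4 ∧
          Nonempty (↥CL ⧸ V.subgroupOf CL ≃* MulAut (PSU 6 F 2)) := by
  classical
  obtain ⟨hN, hN2, hpart⟩ := top_data hD hprim (Or.inr h24)
  obtain ⟨X, _, _, E, hB⟩ := exists_base24 hD hprim h24
  have hZ := h24.1
  have hT := hD.1
  obtain ⟨hidx, hnot⟩ := commutator_index24 hD hZ hB
  set L := commutator G
  set C3 := Subgroup.centralizer ({d₁, d₂, d₃} : Set G) with hC3
  set K₀ := L ⊓ C3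
  have hb₂ : d₂ ∈ dperp D d₁ := ⟨h₂, h12.symm, c12⟩
  have hb₃ : d₃ ∈ dperp (dperp D d₁) d₂ := ⟨⟨h₃, h13.symm, c13⟩, h23.symm, c23⟩
  obtain ⟨u, v, hu, hv, ⟨ι⟩⟩ := triple_iso24 hD hZ hB h₁ hb₂ hb₃
  haveI hnX : ((Subgroup.closure ({u, v} : Set X)).subgroupOf (Subgroup.centralizer ({u * v} : Set X))).Normal := by
    have hpX := prim_M23 hB.group hB.m23
    obtain ⟨hNX, -, -⟩ := top_data hB.group hpX (Or.inl hB.m23)
    refine ⟨fun w hw g => ?_⟩
    have hgu : (g : X) * (u * v) * (g : X)⁻¹ = u * v := by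
      rw [Subgroup.mem_centralizer_singleton_iff.1 g.2, mul_inv_cancel_right]
    have hne : (g : X) * u * (g : X)⁻¹ ≠ (g : X) * v * (g : X)⁻¹ := fun h =>
      hv.2.1 (mul_left_cancel (mul_right_cancel h)).symm
    have h1 := pair_unique hB.group.1 hNX hu hv.1 (hB.group.2.1 g u hu) (hB.group.2.1 g v hv.1) hv.2.2
      hv.2.1.symm ((commute_conj (g : X) u v).2 hv.2.2) hne (hgu.symm.trans (by group))
    have h2 := pair_unique hB.group.1 hNX hu hv.1 (hB.group.2.1 g v hv.1) (hB.group.2.1 g u hu) hv.2.2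
      hv.2.1.symm ((commute_conj (g : X) v u).2 hv.2.2.symm) hne.symm
      (hgu.symm.trans ((congrArg (fun z => (g : X) * z * (g : X)⁻¹) hv.2.2.eq).trans (by group)))
    rw [Subgroup.mem_subgroupOf] at hw ⊢
    have hle : (Subgroup.closure ({u, v} : Set X)).map (MulAut.conj (g : X)).toMonoidHom ≤
        Subgroup.closure ({u, v} : Set X) := by
      rw [MonoidHom.map_closure, Subgroup.closure_le]
      rintro - ⟨z, rfl | rfl, rfl⟩
      · exact Subgroup.subset_closure h1
      · exact Subgroup.subset_closure h2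
    exact hle ⟨_, hw, rfl⟩
  obtain ⟨-, -, hcen, hqs, ⟨F, hFld, hFt, hF4, ⟨eP⟩⟩, -⟩ :=
    pair_centralizer23 hB.group (prim_M23 hB.group hB.m23) hB.m23 hu hv
  have hqK : IsQuasisimple ↥K₀ := Layer.isQuasisimple_congr ι.symm hqs
  -- the four-group
  have hmemL : ∀ {x y : G}, x ∈ D → y ∈ D → x * y ∈ L := fun hx hy => mul_mem_commutator hB.cls hx hy
  have hfix3 : ∀ {x : G}, x ∈ C3 ↔ Commute x d₁ ∧ Commute x d₂ ∧ Commute x d₃ := fun {x} => by
    rw [Subgroup.mem_centralizer_iff]
    simp only [Set.mem_insert_iff, Set.mem_singleton_iff, forall_eq_or_imp, forall_eq]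
    exact ⟨fun h => ⟨h.1.symm, h.2.1.symm, h.2.2.symm⟩, fun h => ⟨h.1.eq.symm, h.2.1.eq.symm, h.2.2.eq.symm⟩⟩
  have hcV : ∀ {x : G}, x ∈ C3 → ∀ w ∈ V, Commute x w := by
    intro x hx
    obtain ⟨e1, e2, e3⟩ := hfix3.1 hx
    have hle : V ≤ Subgroup.centralizer ({x} : Set G) := by
      rw [hV, Subgroup.closure_le]
      rintro w (rfl | rfl)
      exacts [Subgroup.mem_centralizer_singleton_iff.2 (e1.mul_right e2).eq.symm,
        Subgroup.mem_centralizer_singleton_iff.2 (e1.mul_right e3).eq.symm]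
    intro w hw
    exact (Subgroup.mem_centralizer_singleton_iff.1 (hle hw)).symm
  have hVC3 : V ≤ C3 := by
    rw [hV, Subgroup.closure_le]
    rintro w (rfl | rfl)
    exacts [(hfix3 (x := d₁ * d₂)).2 ⟨(Commute.refl d₁).mul_left c12.symm, c12.mul_left (Commute.refl d₂),
        c13.mul_left c23⟩,
      (hfix3 (x := d₁ * d₃)).2 ⟨(Commute.refl d₁).mul_left c13.symm, c12.mul_left c23.symm, c13.mul_left (Commute.refl d₃)⟩]
  have hVK : V ≤ K₀ := le_inf (by
    rw [hV, Subgroup.closure_le]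
    rintro w (rfl | rfl)
    exacts [hmemL h₁ h₂, hmemL h₁ h₃]) hVC3
  have hcenterK : (Subgroup.center ↥K₀).map K₀.subtype = V := by
    have hle : V ≤ (Subgroup.center ↥K₀).map K₀.subtype := fun w hw => ⟨⟨w, hVK hw⟩,
      Subgroup.mem_center_iff.2 fun k => Subtype.ext (hcV k.2.2 w hw).eq, rfl⟩
    refine (Subgroup.eq_of_le_of_card_ge hle ?_).symm
    have h1 : Nat.card (Subgroup.center ↥K₀) ≤ 4 := by
      rw [Nat.card_congr (Subgroup.centerCongr ι).toEquiv,
        ← Subgroup.card_map_of_injective (pairCen u v).subtype_injective, hcen]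
      exact card_closure_pair_le hB.group.1 hu hv.1 hv.2.2
    have h4 : 4 ≤ Nat.card V := by
      have n1 : (1 : G) ≠ d₁ * d₂ := fun e => h12 (by
        rw [← inv_eq hT h₁, inv_eq_of_mul_eq_one_right e.symm])
      have n2 : (1 : G) ≠ d₁ * d₃ := fun e => h13 (by
        rw [← inv_eq hT h₁, inv_eq_of_mul_eq_one_right e.symm])
      have n3 : (1 : G) ≠ d₂ * d₃ := fun e => h23 (by
        rw [← inv_eq hT h₂, inv_eq_of_mul_eq_one_right e.symm])
      have n4 : d₁ * d₂ ≠ d₁ * d₃ := fun e => h23 (mul_left_cancel e)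
      have n5 : d₁ * d₂ ≠ d₂ * d₃ := fun e => h13 (mul_left_cancel (c12.eq.symm.trans e))
      have n6 : d₁ * d₃ ≠ d₂ * d₃ := fun e => h12 (mul_right_cancel e)
      have hsub : ({1, d₁ * d₂, d₁ * d₃, d₂ * d₃} : Set G) ⊆ (V : Set G) := by
        have e1 : d₁ * d₂ ∈ V := hV ▸ Subgroup.subset_closure (by simp)
        have e2 : d₁ * d₃ ∈ V := hV ▸ Subgroup.subset_closure (by simp)
        rintro w (rfl | rfl | rfl | rfl)
        · exact one_mem _
        · exact e1
        · exact e2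
        · have := mul_mem (inv_mem e1) e2
          rwa [mul_inv_rev, inv_eq hT h₁, inv_eq hT h₂, mul_assoc, mul_self_mul hT h₁] at this
      refine le_trans ?_ (Set.ncard_le_ncard hsub (Set.toFinite _))
      rw [Set.ncard_insert_of_notMem (by simp [n1, n2, n3]) (Set.toFinite _),
        Set.ncard_insert_of_notMem (by simp [n4, n5]) (Set.toFinite _), Set.ncard_pair n6]
    rw [Subgroup.card_map_of_injective K₀.subtype_injective]
    omega
  have hVK' : V.subgroupOf K₀ = Subgroup.center ↥K₀ := by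
    conv_lhs => rw [← hcenterK]
    exact Subgroup.comap_map_eq_self_of_injective K₀.subtype_injective _
  -- the centraliser of the four-group
  have hfromV : ∀ {x : G}, Commute x (d₁ * d₂) → Commute x (d₁ * d₃) → x ∈ C3 := by
    intro x e2 e3
    have step : ∀ {b : G}, b ∈ D → d₁ ≠ b → Commute d₁ b → Commute x (d₁ * b) →
        x * d₁ * x⁻¹ = d₁ ∨ x * d₁ * x⁻¹ = b := fun {b} hb hne hc he =>
      pair_unique hT hN h₁ hb (hD.2.1 x d₁ h₁) (hD.2.1 x b hb) hc hne ((commute_conj x d₁ b).2 hc)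
        (fun h => hne (mul_left_cancel (mul_right_cancel h))) (by
          calc d₁ * b = x * (d₁ * b) * x⁻¹ := by rw [he.eq, mul_inv_cancel_right]
            _ = _ := by group)
    have hx1 : Commute x d₁ := by
      refine mul_inv_eq_iff_eq_mul.1 ?_
      rcases step h₂ h12 c12 e2 with h | h
      · exact h
      rcases step h₃ h13 c13 e3 with h' | h'
      · exact h'
      · exact absurd (h.symm.trans h') h23
    have hx1' : Commute x d₁⁻¹ := hx1.inv_right
    refine hfix3.2 ⟨hx1, ?_, ?_⟩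
    · have := hx1'.mul_right e2; rwa [inv_mul_cancel_left] at this
    · have := hx1'.mul_right e3; rwa [inv_mul_cancel_left] at this
  have hCV : L ⊓ Subgroup.centralizer (V : Set G) = K₀ := by
    refine le_antisymm (fun x hx => ⟨hx.1, hfromV ?_ ?_⟩) fun x hx => ⟨hx.1,
      Subgroup.mem_centralizer_iff.2 fun w hw => (hcV hx.2 w hw).eq.symm⟩
    · exact (Subgroup.mem_centralizer_iff.1 hx.2 _ (hV ▸ Subgroup.subset_closure (by simp))).symm
    · exact (Subgroup.mem_centralizer_iff.1 hx.2 _ (hV ▸ Subgroup.subset_closure (by simp))).symm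
  -- the action on the three members
  subst hCL
  set CL := L ⊓ Subgroup.centralizer ({d₁ * d₂ * d₃} : Set G) with hCL
  have hKCL : K₀ ≤ CL := fun x hx => by
    obtain ⟨e1, e2, e3⟩ := hfix3.1 hx.2
    exact ⟨hx.1, Subgroup.mem_centralizer_singleton_iff.2 ((e1.mul_right e2).mul_right e3).eq⟩
  set t : Fin 3 → G := ![d₁, d₂, d₃] with ht
  have htinj : Function.Injective t := by
    intro i k hik
    fin_cases i <;> fin_cases k <;>
      first
        | rfl
        | exact absurd hik h12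
        | exact absurd hik h13
        | exact absurd hik h23
        | exact absurd hik h12.symm
        | exact absurd hik h13.symm
        | exact absurd hik h23.symm
  have hperm : ∀ g : CL, ∀ i, ∃ k, (g : G) * t i * (g : G)⁻¹ = t k := fun g i =>
    perm_triple hD hN hN2 h₁ h₂ h₃ h12 h13 h23 c12 c13 c23
      (Subgroup.mem_centralizer_singleton_iff.1 g.2.2) i
  choose σ hσ using hperm
  have hσmul : ∀ g g' : CL, σ (g * g') = σ g ∘ σ g' := by
    intro g g'
    funext i
    refine htinj ?_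
    rw [Function.comp_apply, ← hσ, ← hσ, ← hσ, Subgroup.coe_mul]
    group
  have hσone : σ 1 = id := by
    funext i
    refine htinj ?_
    rw [← hσ]
    simp
  let φ : CL →* Equiv.Perm (Fin 3) := MonoidHom.mk'
    (fun g => ⟨σ g, σ g⁻¹,
      fun i => by
        have h := congrFun (hσmul g⁻¹ g) i
        rw [inv_mul_cancel, hσone] at h
        exact h.symm,
      fun i => by
        have h := congrFun (hσmul g g⁻¹) i
        rw [mul_inv_cancel, hσone] at h
        exact h.symm⟩)
    fun g g' => Equiv.ext (congrFun (hσmul g g'))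
  have hker : φ.ker = K₀.subgroupOf CL := by
    apply Subgroup.ext
    intro g
    rw [MonoidHom.mem_ker, Subgroup.mem_subgroupOf]
    constructor
    · intro hg
      have hi : ∀ i, Commute (g : G) (t i) := fun i => by
        have h := hσ g i
        rw [show σ g i = i from Equiv.congr_fun hg i] at h
        exact mul_inv_eq_iff_eq_mul.1 h
      exact ⟨g.2.1, hfix3.2 ⟨hi 0, hi 1, hi 2⟩⟩
    · intro hg
      obtain ⟨e1, e2, e3⟩ := hfix3.1 hg.2
      refine Equiv.ext fun i => htinj ?_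
      show t (σ g i) = t i
      rw [← hσ, mul_inv_eq_iff_eq_mul]
      fin_cases i
      exacts [e1.eq, e2.eq, e3.eq]
  have hsurj : Function.Surjective φ := by
    rw [← MonoidHom.range_eq_top, eq_top_iff, ← Equiv.Perm.closure_isSwap, Subgroup.closure_le]
    rintro - ⟨i, k, hik, rfl⟩
    have htD : ∀ i, t i ∈ D := by intro i; fin_cases i <;> assumption
    have htc : ∀ i k, Commute (t i) (t k) := by
      intro i k
      fin_cases i <;> fin_cases k <;>
        first
          | exact Commute.refl _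
          | assumption
          | exact c12.symm
          | exact c13.symm
          | exact c23.symm
    have hne : ∀ {i k}, i ≠ k → t i ≠ t k := fun h hh => h (htinj hh)
    obtain ⟨l, hil, hkl⟩ : ∃ l, i ≠ l ∧ k ≠ l := by revert hik; revert i k; decide
    obtain ⟨g, hgL, g1, g2, g3⟩ := exists_swap_triple24 hD hB hpart (htD i)
      (⟨htD k, (hne hik).symm, htc i k⟩ : t k ∈ dperp D (t i))
      (⟨⟨htD l, (hne hil).symm, htc i l⟩, (hne hkl).symm, htc k l⟩ : t l ∈ dperp (dperp D (t i)) (t k))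
    have hgj : Commute g (d₁ * d₂ * d₃) := by
      have key : ∀ i k l : Fin 3, i ≠ k → i ≠ l → k ≠ l → t i * t k * t l = d₁ * d₂ * d₃ := by
        intro i k l hik hil hkl
        fin_cases i <;> fin_cases k <;> fin_cases l <;>
          first
            | exact absurd rfl hik
            | exact absurd rfl hil
            | exact absurd rfl hkl
            | rfl
            | (show d₂ * d₁ * d₃ = _; rw [c12.eq])
            | (show d₁ * d₃ * d₂ = _; rw [mul_assoc, ← c23.eq, ← mul_assoc])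
            | (show d₃ * d₁ * d₂ = _; rw [mul_assoc d₃ d₁ d₂, (c13.mul_left c23).eq])
            | (show d₂ * d₃ * d₁ = _; rw [← (c12.mul_right c13).eq, ← mul_assoc])
            | (show d₃ * d₂ * d₁ = _; rw [← c23.eq, ← (c12.mul_right c13).eq, ← mul_assoc])
      rw [← key i k l hik hil hkl]
      refine mul_inv_eq_iff_eq_mul.1 ?_
      calc g * (t i * t k * t l) * g⁻¹ = g * t i * g⁻¹ * (g * t k * g⁻¹) * (g * t l * g⁻¹) := by group
        _ = _ := by rw [g1, g2, g3, (htc k i).eq]
    refine ⟨⟨g, hgL, Subgroup.mem_centralizer_singleton_iff.2 hgj.eq⟩, Equiv.ext fun x => htinj ?_⟩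
    show t (σ _ x) = t (Equiv.swap i k x)
    rw [← hσ]
    have hx : x = i ∨ x = k ∨ x = l := by omega
    rcases hx with rfl | rfl | rfl
    · rw [Equiv.swap_apply_left]; exact g1
    · rw [Equiv.swap_apply_right]; exact g2
    · rw [Equiv.swap_apply_of_ne_of_ne hil.symm hkl.symm]; exact g3
  haveI hnK : (K₀.subgroupOf CL).Normal := hker ▸ inferInstance
  set K' := K₀.subgroupOf CL with hK'
  have hqK' : IsQuasisimple ↥K' :=
    Layer.isQuasisimple_congr (Subgroup.subgroupOfEquivOfLe hKCL).symm hqK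
  have hcenK' : ∀ g : CL, (∀ k ∈ K', Commute g k) → (g : G) ∈ V := by
    intro g hg
    have hk : ∀ w ∈ K₀, Commute (g : G) w := fun w hw =>
      congrArg Subtype.val (hg ⟨w, hKCL hw⟩ hw).eq
    have hgK : (g : G) ∈ K₀ := ⟨g.2.1, hfromV
      (hk _ (hVK (hV ▸ Subgroup.subset_closure (by simp)))) (hk _ (hVK (hV ▸ Subgroup.subset_closure (by simp))))⟩
    rw [← hcenterK]
    exact ⟨⟨g, hgK⟩, Subgroup.mem_center_iff.2 fun k => Subtype.ext (hk k k.2).eq.symm, rfl⟩
  have hFK : generalizedFittingSubgroup ↥CL = K' := genFitting_eq_of_qs hqK' fun g hg =>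
    hVK (hcenK' g fun k hk => (Subgroup.mem_centralizer_iff.1 hg k hk).symm)
  have hKeq : K = K₀ := by
    rw [hK, hFK, hK', Subgroup.subgroupOf_map_subtype, inf_of_le_left hKCL]
  subst hKeq
  refine ⟨hqK, hcenterK, hCV.symm, ?_, hnK, ?_, hVK.trans hKCL, ?_⟩
  · haveI hn : (V.subgroupOf K₀).Normal := hVK' ▸ inferInstance
    exact ⟨hn, F, hFld, hFt, hF4, ⟨((QuotientGroup.quotientMulEquivOfEq hVK').trans
      (QuotientGroup.congr _ _ ι (map_center_equiv_eq ι))).trans eP⟩⟩
  · exact ⟨(QuotientGroup.quotientMulEquivOfEq hker.symm).trans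
      (QuotientGroup.quotientKerEquivOfSurjective φ hsurj)⟩
  · let ι' : ↥K' ≃* ↥(pairCen u v) := (Subgroup.subgroupOfEquivOfLe hKCL).trans ι
    let eK : ↥K' ⧸ Subgroup.center ↥K' ≃* PSU 6 F 2 := (QuotientGroup.congr _ _ ι' (map_center_equiv_eq ι')).trans eP
    set Φ := quotAut K' eK
    have hperfK : commutator ↥K' = ⊤ := Group.isPerfect_def.1 hqK'.1
    have hΦ : Φ.ker = V.subgroupOf CL := by
      apply Subgroup.ext
      intro g
      rw [MonoidHom.mem_ker, Subgroup.mem_subgroupOf]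
      refine ⟨fun hg => hcenK' g (quotAut_eq_one hperfK eK hg), fun hg => ?_⟩
      ext s
      obtain ⟨q, rfl⟩ := eK.surjective s
      obtain ⟨k, rfl⟩ := QuotientGroup.mk_surjective q
      show eK (QuotientGroup.congr _ _ (MulAut.conjNormal g) _ (eK.symm (eK (k : _ ⧸ _)))) = eK k
      rw [MulEquiv.symm_apply_apply]
      show eK ((MulAut.conjNormal g k : ↥K') : ↥K' ⧸ Subgroup.center ↥K') = eK k
      congr 1
      refine congrArg _ (Subtype.ext (Subtype.ext ?_))
      rw [MulAut.conjNormal_apply, Subgroup.coe_mul, Subgroup.coe_mul, Subgroup.coe_inv]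
      exact mul_inv_eq_iff_eq_mul.2 (hcV k.2.2 _ hg).eq.symm
    haveI hnV : (V.subgroupOf CL).Normal := hΦ ▸ inferInstance
    refine ⟨hnV, F, hFld, hFt, hF4, ⟨(QuotientGroup.quotientMulEquivOfEq hΦ.symm).trans
      ((QuotientGroup.quotientKerEquivRange Φ).trans ((MulEquiv.subgroupCongr ?_).trans Subgroup.topEquiv))⟩⟩
    refine Subgroup.eq_top_of_card_eq _ ?_
    rw [card_mulAut_psu_six hF4, ← Nat.card_congr (QuotientGroup.quotientKerEquivRange Φ).toEquiv,
      Nat.card_congr (QuotientGroup.quotientMulEquivOfEq hΦ).toEquiv]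
    have h1 := Subgroup.card_eq_card_quotient_mul_card_subgroup (V.subgroupOf CL)
    have h2 := Subgroup.card_eq_card_quotient_mul_card_subgroup φ.ker
    rw [Nat.card_congr (QuotientGroup.quotientKerEquivOfSurjective φ hsurj).toEquiv, hker,
      Nat.card_congr (Subgroup.subgroupOfEquivOfLe hKCL).toEquiv, Nat.card_perm, Nat.card_fin] at h2
    have h3 := Subgroup.card_eq_card_quotient_mul_card_subgroup (Subgroup.center ↥K')
    rw [Nat.card_congr eK.toEquiv, Nat.card_congr (Subgroup.subgroupOfEquivOfLe hKCL).toEquiv] at h3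
    have h4 : Nat.card (Subgroup.center ↥K') = Nat.card V := by
      rw [← hcenterK, Subgroup.card_map_of_injective K₀.subtype_injective,
        Nat.card_congr (Subgroup.centerCongr (Subgroup.subgroupOfEquivOfLe hKCL)).toEquiv]
    rw [Nat.card_congr (Subgroup.subgroupOfEquivOfLe (hVK.trans hKCL)).toEquiv] at h1
    rw [h4] at h3
    rw [h2, h3, show Nat.factorial 3 = 6 from rfl, ← mul_assoc] at h1
    exact (Nat.eq_of_mul_eq_mul_right Nat.card_pos h1).symm

end Cfsg.Agent.ThreeTrans
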