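import Cfsg.Agent.ThreeTrans.PrimeNormal

/-!
# Elements of order 11 in type M(23)
-/

set_option autoImplicit false

open Cfsg

universe u

namespace Cfsg.Agent.ThreeTrans

variable {G : Type u} [Group G] [Finite G] {D : Set G}
  {X : Type u} [Group X] [Finite X] {E : Set X}
  (hD : IsThreeTranspositionGroup D) (hcls : IsThreeTranspositionClass D) (hM : M23Data D)
  (hE : IsThreeTranspositionGroup E) (hclsE : IsThreeTranspositionClass E) (h22 : IsOfTypeM22 X E)
  (hcov : ∀ b ∈ D, Cover23 D E b)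

include hD hcls hM hE hclsE h22 hcov

/-- The joint centraliser of two members that do not commute. -/
theorem card_moved23 {a c : G} (ha : a ∈ D) (hc : c ∈ D) (hac : ¬ Commute a c) :
    Nat.card ↥(Subgroup.centralizer ({a} : Set G) ⊓ Subgroup.centralizer ({c} : Set G)) =
      4585351680 := by
  have hfix : ∀ {g y : G}, g ∈ Subgroup.centralizer ({y} : Set G) → g * y * g⁻¹ = y := fun hg => by
    rw [Subgroup.mem_centralizer_singleton_iff.1 hg, mul_inv_cancel_right]
  have hL := layers23 hD hE h22 hcov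
  obtain ⟨hsol, hperf⟩ := sol_perf_of_simple (simple_M23 hD hcls hM hE hclsE h22 hcov)
    (perfect_M23 hD hcls hM hE hclsE h22 hcov)
  have h := card_eq_orbit_mul (Subgroup.centralizer ({a} : Set G)) c {e | e ∈ D ∧ ¬ Commute a e}
    (fun g hg => ⟨hD.2.1 g c hc, fun e => hac ((commute_conj g a c).1 (by rwa [hfix hg]))⟩)
    fun y hy => by
      obtain ⟨g, hg1, hg2⟩ := exists_commute_conj_not_commute hsol hperf hcls ha hc hy.1 hac hy.2
      exact ⟨g, Subgroup.mem_centralizer_singleton_iff.2 hg1.eq, hg2⟩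
  have hN : {e | e ∈ D ∧ ¬ Commute a e}.ncard = 28160 := by
    have h2 := ncard_nonpartners (D := D) ha
    rw [(hL a ha).card, ncard_members23 hD hL ha] at h2
    omega
  rw [card_centralizer23 hD hcls hM hE hclsE h22 hcov ha, hN] at h
  omega

/-- An element of order 11 commutes with exactly two members, which it centralises jointly. -/
theorem eleven_M23 {x : G} (hx : orderOf x = 11) : ∃ d ∈ D, ∃ b ∈ dperp D d,
    fixSet D x = {d, b} ∧
      Nat.card ↥(Subgroup.centralizer ({x} : Set G) ⊓ Subgroup.centralizer ({d} : Set G)) = 44 := by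
  classical
  have hT := hD.1
  have hL := layers23 hD hE h22 hcov
  obtain ⟨a₀, ha₀, -⟩ := exists_fixed_member23 hD hcls hM hE hclsE h22 hcov (t := (1 : G)) (one_mul 1)
  obtain ⟨d, hd, hxd⟩ := exists_fixed_of_pow (fun u hu => hD.2.1 x u hu) (by norm_num : (11).Prime)
    (hx ▸ pow_orderOf_eq_one x) (S := D)
    (by rw [ncard_members23 hD hL ha₀]; norm_num)
  have hmaps := (hcov d hd).maps
  set C := Subgroup.centralizer ({d} : Set G) with hC
  obtain ⟨χ, ψ, hχ, hker, hagree, hiso⟩ := hmaps
  set xd : C := ⟨x, Subgroup.mem_centralizer_singleton_iff.2 hxd.eq⟩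
  have h11 : (11).Prime := by norm_num
  have := Fact.mk h11
  have hord : orderOf (χ xd) = 11 := by
    refine orderOf_eq_prime ?_ fun h => ?_
    · rw [← map_pow, show xd ^ 11 = 1 from Subtype.ext (by
        rw [SubgroupClass.coe_pow, ← hx]; exact pow_orderOf_eq_one x), map_one]
    · rcases (hker xd).1 h with h | h
      · rw [show x = 1 from h, orderOf_one] at hx; omega
      · rw [show x = d from h, hT.1 d hd] at hx; omega
  obtain ⟨eb, heb, hFE, hCE⟩ := eleven_M22 hE (primeData hE hclsE h22) hord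
  obtain ⟨b, hb, rfl⟩ := hiso.bij.surjOn heb
  have hψ : ∀ u ∈ dperp D d, ψ (x * u * x⁻¹) = χ xd * ψ u * (χ xd)⁻¹ := by
    intro u hu
    set U : C := ⟨u, Subgroup.mem_centralizer_singleton_iff.2 hu.2.2.symm.eq⟩
    rw [show ψ u = χ U from hagree U, ← map_inv, ← map_mul, ← map_mul, ← hagree]
    rfl
  have hdp : ∀ u ∈ dperp D d, x * u * x⁻¹ ∈ dperp D d := fun u hu => by
    have h := dperp_conj hD.2.1 x hu
    rwa [hxd.eq, mul_inv_cancel_right] at h
  have hxb : Commute x b := by
    refine mul_inv_eq_iff_eq_mul.1 (hiso.bij.injOn (hdp b hb) hb ?_)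
    rw [hψ b hb]
    have hm : ψ b ∈ fixSet E (χ xd) := by rw [hFE]; rfl
    rw [hm.2.eq, mul_inv_cancel_right]
  refine ⟨d, hd, b, hb, ?_, ?_⟩
  · refine Set.Subset.antisymm (fun u hu => ?_) ?_
    · rcases eq_or_ne u d with rfl | hne
      · exact Set.mem_insert _ _
      refine Or.inr ?_
      by_cases hc : Commute d u
      · have hud : u ∈ dperp D d := ⟨hu.1, hne, hc⟩
        refine hiso.bij.injOn hud hb ?_
        have hm : ψ u ∈ fixSet E (χ xd) := by
          refine ⟨hiso.bij.mapsTo hud, ?_⟩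
          rw [show ψ u = χ ⟨u, Subgroup.mem_centralizer_singleton_iff.2 hc.symm.eq⟩ from hagree ⟨u, _⟩]
          exact (show Commute xd ⟨u, Subgroup.mem_centralizer_singleton_iff.2 hc.symm.eq⟩ from
            Subtype.ext hu.2.eq).map χ
        rwa [hFE, Set.mem_singleton_iff] at hm
      · exfalso
        have h := orderOf_dvd_pair hxd hu.2
        rw [hx, card_moved23 hD hcls hM hE hclsE h22 hcov hd hu.1 hc] at h
        norm_num at h
    · rintro u (rfl | rfl)
      exacts [⟨hd, hxd⟩, ⟨hb.1, hxb⟩]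
  · set K := Subgroup.centralizer ({x} : Set G) ⊓ C
    set φ : K →* X := χ.comp (Subgroup.inclusion inf_le_right)
    have hrange : φ.range = Subgroup.centralizer ({χ xd} : Set X) := by
      refine le_antisymm ?_ fun q hq => ?_
      · rintro - ⟨y, rfl⟩
        rw [Subgroup.mem_centralizer_singleton_iff]
        show χ _ * χ xd = χ xd * χ _
        rw [← map_mul, ← map_mul]
        congr 1
        exact Subtype.ext (Subgroup.mem_centralizer_singleton_iff.1 (Subgroup.mem_inf.1 y.2).1)
      · obtain ⟨g, rfl⟩ := hχ q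
        rw [Subgroup.mem_centralizer_singleton_iff] at hq
        have h0 : χ (g * xd * g⁻¹ * xd⁻¹) = 1 := by
          rw [map_mul, map_mul, map_mul, map_inv, map_inv, hq]; group
        suffices hgx : (g : G) * x * (g : G)⁻¹ = x from ⟨⟨g, Subgroup.mem_inf.2
          ⟨Subgroup.mem_centralizer_singleton_iff.2 (mul_inv_eq_iff_eq_mul.1 hgx), g.2⟩⟩, rfl⟩
        rcases (hker _).1 h0 with h | h
        · exact mul_inv_eq_one.1 h
        · exfalso
          have h1 : (g : G) * x * (g : G)⁻¹ = d * x := mul_inv_eq_iff_eq_mul.1 h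
          have h2 := congrArg (· ^ 11) h1
          simp only [conj_pow] at h2
          rw [hxd.symm.mul_pow, ← hx, pow_orderOf_eq_one, hx, mul_one, mul_inv_cancel, mul_one] at h2
          have h3 : d ^ 11 = d := by
            rw [pow_succ, show 10 = 2 * 5 from rfl, pow_mul, sq, mul_self hT hd, one_pow, one_mul]
          exact ne_one hT hd (h3 ▸ h2.symm)
    have hk : φ.ker.map K.subtype = Subgroup.zpowers d := by
      refine le_antisymm ?_ (Subgroup.zpowers_le.2 ?_)
      · rintro - ⟨y, hy, rfl⟩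
        rcases (hker _).1 hy with h | h
        · rw [show K.subtype y = 1 from h]; exact one_mem _
        · rw [show K.subtype y = d from h]; exact Subgroup.mem_zpowers d
      · exact ⟨⟨d, Subgroup.mem_inf.2 ⟨Subgroup.mem_centralizer_singleton_iff.2 hxd.symm.eq,
          Subgroup.mem_centralizer_singleton_iff.2 rfl⟩⟩, (hker _).2 (Or.inr rfl), rfl⟩
    rw [Subgroup.card_eq_card_quotient_mul_card_subgroup φ.ker,
      Nat.card_congr (QuotientGroup.quotientKerEquivRange φ).toEquiv, hrange, hCE,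
      ← Subgroup.card_map_of_injective K.subtype_injective, hk, Nat.card_zpowers, hT.1 d hd]

/-- Some element normalising a subgroup of order 11 exchanges its two members. -/
theorem exists_swap23 {x d b : G} (hx : orderOf x = 11) (hd : d ∈ D) (hb : b ∈ dperp D d)
    (hxd : Commute x d) (hxb : Commute x b) :
    ∃ g ∈ Subgroup.normalizer ((Subgroup.zpowers x : Subgroup G) : Set G), g * d * g⁻¹ = b := by
  classical
  have hL := layers23 hD hE h22 hcov
  have hne : ∀ {u w}, u ∈ D → w ∈ dperp D u → ∃ r, r ∈ dperp (dperp D u) w := fun hu hw =>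
    Set.nonempty_of_ncard_ne_zero (by rw [(hL _ hu).card1 _ hw]; norm_num)
  obtain ⟨c, hc⟩ := hne hd hb
  obtain ⟨c', hc'⟩ := hne hb.1 (dperp_symm hd hb)
  obtain ⟨g, hgd, hgb, -⟩ := exists_conj_triple23 hD hcls hM hE hclsE h22 hcov hd hb hc hb.1
    (dperp_symm hd hb) hc'
  set P := Subgroup.centralizer ({d} : Set G) ⊓ Subgroup.centralizer ({b} : Set G)
  have hxP : x ∈ P := Subgroup.mem_inf.2 ⟨Subgroup.mem_centralizer_singleton_iff.2 hxd.eq,
    Subgroup.mem_centralizer_singleton_iff.2 hxb.eq⟩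
  have hgP : g * x * g⁻¹ ∈ P := by
    refine Subgroup.mem_inf.2 ⟨Subgroup.mem_centralizer_singleton_iff.2 ?_,
      Subgroup.mem_centralizer_singleton_iff.2 ?_⟩
    · rw [← hgb]; exact ((commute_conj g x b).2 hxb).eq
    · rw [← hgd]; exact ((commute_conj g x d).2 hxd).eq
  have hP2 : ¬ 11 ^ 2 ∣ Nat.card P := fun h => by
    have := h.trans P.card_subgroup_dvd_card
    rw [card_M23 hD hcls hM hE hclsE h22 hcov hd] at this
    norm_num at this
  have hZ : ∀ {u : G} (hu : u ∈ P), orderOf u = 11 → Nat.card ↥(Subgroup.zpowers (⟨u, hu⟩ : P)) = 11 :=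
    fun hu h => by rw [Nat.card_zpowers, Subgroup.orderOf_mk, h]
  have hox : orderOf (g * x * g⁻¹) = 11 := by
    rw [show g * x * g⁻¹ = MulAut.conj g x from rfl, MulEquiv.orderOf_eq, hx]
  obtain ⟨h, hh⟩ := exists_conj_of_card (by norm_num : (11).Prime) hP2 (hZ hgP hox) (hZ hxP hx)
  refine ⟨(h : G) * g, ?_, ?_⟩
  · have hmem : (h : G) * g * x * ((h : G) * g)⁻¹ ∈ Subgroup.zpowers x := by
      have h1 : h * ⟨g * x * g⁻¹, hgP⟩ * h⁻¹ ∈ Subgroup.zpowers (⟨x, hxP⟩ : P) :=
        hh ▸ ⟨_, Subgroup.mem_zpowers _, rfl⟩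
      obtain ⟨k, hk⟩ := Subgroup.mem_zpowers_iff.1 h1
      refine Subgroup.mem_zpowers_iff.2 ⟨k, ?_⟩
      rw [show (h : G) * g * x * ((h : G) * g)⁻¹ = (h : G) * (g * x * g⁻¹) * (h : G)⁻¹ by group]
      have := congrArg Subtype.val hk
      simpa using this
    have hle : (Subgroup.zpowers x).map (MulAut.conj ((h : G) * g)).toMonoidHom ≤ Subgroup.zpowers x := by
      rw [MonoidHom.map_zpowers]; exact Subgroup.zpowers_le.2 hmem
    have heq := Subgroup.eq_of_le_of_card_ge hle
      (by rw [Subgroup.card_map_of_injective (MulAut.conj ((h : G) * g)).injective])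
    rw [Subgroup.mem_normalizer_iff]
    intro n
    conv_rhs => rw [← heq]
    exact (Subgroup.mem_map_iff_mem (f := (MulAut.conj ((h : G) * g)).toMonoidHom)
      (MulAut.conj ((h : G) * g)).injective).symm
  · have h2 : Commute (h : G) b := Subgroup.mem_centralizer_singleton_iff.1 h.2.2
    calc (h : G) * g * d * ((h : G) * g)⁻¹ = (h : G) * (g * d * g⁻¹) * (h : G)⁻¹ := by group
      _ = b := by rw [hgd, h2.eq, mul_inv_cancel_right]

end Cfsg.Agent.ThreeTrans
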