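import Cfsg.Agent.ThreeTrans.PrimeM22Five
import Cfsg.Agent.ThreeTrans.PrimeM23

/-!
# Elements of order 5 and 7 in type M(23)

Their fixed member sets behave like the transpositions of seven, respectively five, letters.
-/

set_option autoImplicit false

open Cfsg

universe u

namespace Cfsg.Agent.ThreeTrans

/-- Fixed members are conjugate under the centraliser when the commuting graph is sparse. -/
theorem exists_conj_fixed {G : Type*} [Group G] [Finite G] {D : Set G}
    (hD : IsThreeTranspositionGroup D) {x d u : G} {l : ℕ} (hd : d ∈ fixSet D x) (hu : u ∈ fixSet D x)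
    (hl : ∀ a ∈ fixSet D x, (dperp (fixSet D x) a).ncard = l) (hlt : 2 * l < (fixSet D x).ncard) :
    ∃ g, Commute g x ∧ g * d * g⁻¹ = u := by
  classical
  have hT := hD.1
  set S := fixSet D x
  have hstep : ∀ a ∈ S, ∀ v ∈ S, ¬ Commute a v → ∃ g, Commute g x ∧ g * a * g⁻¹ = v := by
    intro a ha v hv hav
    refine ⟨a * v * a, (ha.2.symm.mul_left hv.2.symm).mul_left ha.2.symm, ?_⟩
    have hbr := braid hT hv.1 ha.1 fun h => hav h.symm
    rw [inv_eq hT (conj_mem hT hD.2.1 ha.1 hv.1)]
    calc a * v * a * a * (a * v * a) = a * (v * (a * a) * (a * v * a)) := by simp only [mul_assoc]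
      _ = a * (v * (v * a * v)) := by rw [mul_self hT ha.1, mul_one, hbr]
      _ = v := by
        simp only [mul_assoc, mul_self_mul hT hv.1]
        rw [mul_self_mul hT ha.1]
  rcases eq_or_ne u d with rfl | hne
  · exact ⟨1, Commute.one_left _, by simp⟩
  by_cases hdu : Commute d u
  swap
  · exact hstep d hd u hu hdu
  obtain ⟨w, hw, hwd, hwu⟩ : ∃ w ∈ S, ¬ Commute d w ∧ ¬ Commute w u := by
    by_contra hcon
    push Not at hcon
    have hud : u ∈ dperp S d := ⟨hu, hne, hdu⟩
    have hsub : S ⊆ insert d (dperp S d) ∪ (dperp S u \ {d}) := by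
      intro w hw
      rcases eq_or_ne w d with rfl | hwd
      · exact Or.inl (Set.mem_insert _ _)
      rcases eq_or_ne w u with rfl | hwu
      · exact Or.inl (Set.mem_insert_of_mem _ hud)
      by_cases h1 : Commute d w
      · exact Or.inl (Set.mem_insert_of_mem _ ⟨hw, hwd, h1⟩)
      · exact Or.inr ⟨⟨hw, hwu, (hcon w hw h1).symm⟩, hwd⟩
    have h1 := (Set.ncard_le_ncard hsub (Set.toFinite _)).trans (Set.ncard_union_le _ _)
    rw [Set.ncard_sdiff_singleton_of_mem (show d ∈ dperp S u from ⟨hd, hne.symm, hdu.symm⟩), hl u hu] at h1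
    have h2 := Set.ncard_insert_le d (dperp S d)
    rw [hl d hd] at h2
    have h3 : 0 < l := hl d hd ▸ (Set.ncard_pos (Set.toFinite _)).2 ⟨u, hud⟩
    omega
  obtain ⟨g₁, k₁, e₁⟩ := hstep d hd w hw hwd
  obtain ⟨g₂, k₂, e₂⟩ := hstep w hw u hu hwu
  exact ⟨g₂ * g₁, k₂.mul_left k₁, by rw [← e₂, ← e₁]; group⟩

variable {G : Type u} [Group G] [Finite G] {D : Set G}
  {X : Type u} [Group X] [Finite X] {E : Set X}
  (hD : IsThreeTranspositionGroup D) (hcls : IsThreeTranspositionClass D) (hM : M23Data D)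
  (hE : IsThreeTranspositionGroup E) (hclsE : IsThreeTranspositionClass E) (h22 : IsOfTypeM22 X E)
  (hcov : ∀ b ∈ D, Cover23 D E b)

include hD hcls hM hE hclsE h22 hcov

/-- An element of odd prime order seen in the quotient of the centraliser of a fixed member. -/
theorem layer_prime23 {x d : G} {p : ℕ} (hp : p.Prime) (hp2 : p ≠ 2) (hx : orderOf x = p)
    (hd : d ∈ fixSet D x) :
    ∃ (xb : X) (ψ : G → X), orderOf xb = p ∧ SetIso (dperp (fixSet D x) d) (fixSet E xb) ψ ∧
      Nat.card ↥(Subgroup.centralizer ({x} : Set G) ⊓ Subgroup.centralizer ({d} : Set G)) =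
        2 * Nat.card ↥(Subgroup.centralizer ({xb} : Set X)) ∧
      Nat.card ↥(Subgroup.normalizer ((Subgroup.zpowers x : Subgroup G) : Set G) ⊓
          Subgroup.centralizer ({d} : Set G)) =
        2 * Nat.card ↥(Subgroup.normalizer ((Subgroup.zpowers xb : Subgroup X) : Set X)) := by
  classical
  have hT := hD.1
  have hH2 := card_centralizer23 hD hcls hM hE hclsE h22 hcov hd.1
  have hmaps := (hcov d hd.1).maps
  set H := Subgroup.centralizer ({d} : Set G)
  obtain ⟨χ, ψ, hχ, hker, hagree, hiso⟩ := hmaps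
  set xd : H := ⟨x, Subgroup.mem_centralizer_singleton_iff.2 hd.2.eq⟩
  have := Fact.mk hp
  have hdp : d ^ p = d := by
    obtain ⟨j, hj⟩ := hp.odd_of_ne_two hp2
    rw [hj, pow_succ, pow_mul, sq, mul_self hT hd.1, one_pow, one_mul]
  -- a conjugate of `x` congruent to a power of it is that power
  have hlift : ∀ (g : H) (n : ℕ), χ (g * xd * g⁻¹) = χ (xd ^ n) → (g : G) * x * (g : G)⁻¹ = x ^ n := by
    intro g n h
    have h0 : χ (g * xd * g⁻¹ * (xd ^ n)⁻¹) = 1 := by rw [map_mul, map_inv, h, mul_inv_cancel]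
    rcases (hker _).1 h0 with h1 | h1
    · exact mul_inv_eq_one.1 (by simpa [xd] using h1)
    · exfalso
      have h2 : (g : G) * x * (g : G)⁻¹ = d * x ^ n := mul_inv_eq_iff_eq_mul.1 (by simpa [xd] using h1)
      have h3 := congrArg (· ^ p) h2
      simp only [conj_pow] at h3
      rw [(hd.2.symm.pow_right n).mul_pow, ← pow_mul x, mul_comm n p, pow_mul x p n, ← hx,
        pow_orderOf_eq_one, hx, one_pow, mul_one, mul_inv_cancel, mul_one, hdp] at h3
      exact ne_one hT hd.1 h3.symm
  have hord : orderOf (χ xd) = p := by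
    refine orderOf_eq_prime ?_ fun h => ?_
    · rw [← map_pow, show xd ^ p = 1 from Subtype.ext (by
        rw [SubgroupClass.coe_pow, ← hx]; exact pow_orderOf_eq_one x), map_one]
    · rcases (hker xd).1 h with h | h
      · rw [show x = 1 from h, orderOf_one] at hx; exact hp.one_lt.ne hx
      · rw [show x = d from h, hT.1 d hd.1] at hx; exact hp2 hx.symm
  -- preimages
  have hcomap : ∀ Q : Subgroup X, Nat.card ↥((Q.comap χ).map H.subtype) = 2 * Nat.card Q := by
    intro Q
    rw [Subgroup.card_map_of_injective H.subtype_injective]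
    have h1 := Subgroup.card_mul_index (Q.comap χ)
    have h2 := Subgroup.card_mul_index Q
    rw [Subgroup.index_comap_of_surjective _ hχ, hH2] at h1
    rw [card_M22 hE hclsE h22] at h2
    rw [← h2, ← mul_assoc] at h1
    exact Nat.eq_of_mul_eq_mul_right (Nat.pos_of_ne_zero Subgroup.index_ne_zero_of_finite) h1
  refine ⟨χ xd, ψ, hord, ⟨⟨?_, hiso.bij.injOn.mono fun u (hu : u ∈ dperp (fixSet D x) d) => (⟨hu.1.1, hu.2⟩ : u ∈ dperp D d), ?_⟩,
    fun u hu v hv => hiso.comm u ⟨hu.1.1, hu.2⟩ v ⟨hv.1.1, hv.2⟩,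
    fun u hu v hv => hiso.conj u ⟨hu.1.1, hu.2⟩ v ⟨hv.1.1, hv.2⟩⟩, ?_, ?_⟩
  · intro u hu
    set U : H := ⟨u, Subgroup.mem_centralizer_singleton_iff.2 hu.2.2.symm.eq⟩
    refine ⟨hiso.bij.mapsTo ⟨hu.1.1, hu.2⟩, ?_⟩
    rw [show ψ u = χ U from hagree U]
    exact (show Commute xd U from Subtype.ext hu.1.2.eq).map χ
  · rintro q ⟨hq, hxq⟩
    obtain ⟨u, hu, rfl⟩ := hiso.bij.surjOn hq
    refine ⟨u, ⟨⟨hu.1, ?_⟩, hu.2⟩, rfl⟩
    set U : H := ⟨u, Subgroup.mem_centralizer_singleton_iff.2 hu.2.2.symm.eq⟩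
    rw [show ψ u = χ U from hagree U] at hxq
    have h := hlift U 1 (by rw [pow_one, map_mul, map_mul, map_inv, hxq.symm.eq, mul_inv_cancel_right])
    rw [pow_one] at h
    exact (show Commute u x from mul_inv_eq_iff_eq_mul.1 h).symm
  · rw [← hcomap]
    congr 2
    apply le_antisymm
    · rintro g ⟨hg, hgH⟩
      exact ⟨⟨g, hgH⟩, Subgroup.mem_centralizer_singleton_iff.2
        ((show Commute (⟨g, hgH⟩ : H) xd from Subtype.ext (Subgroup.mem_centralizer_singleton_iff.1 hg)).map χ).eq,
        rfl⟩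
    · rintro - ⟨g, hg, rfl⟩
      refine ⟨Subgroup.mem_centralizer_singleton_iff.2 ?_, g.2⟩
      have h := hlift g 1 (by
        rw [pow_one, map_mul, map_mul, map_inv, Subgroup.mem_centralizer_singleton_iff.1 hg,
          mul_inv_cancel_right])
      rw [pow_one] at h
      exact mul_inv_eq_iff_eq_mul.1 h
  · rw [← hcomap]
    congr 2
    have hnorm : ∀ {Γ : Type u} [Group Γ] [Finite Γ] {g a : Γ},
        g * a * g⁻¹ ∈ Subgroup.zpowers a → g ∈ Subgroup.normalizer ((Subgroup.zpowers a : Subgroup Γ) : Set Γ) := by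
      intro Γ _ _ g a h
      have hle : (Subgroup.zpowers a).map (MulAut.conj g).toMonoidHom ≤ Subgroup.zpowers a := by
        rw [MonoidHom.map_zpowers]; exact Subgroup.zpowers_le.2 h
      have heq := Subgroup.eq_of_le_of_card_ge hle
        (by rw [Subgroup.card_map_of_injective (MulAut.conj g).injective])
      rw [Subgroup.mem_normalizer_iff]
      intro n
      conv_rhs => rw [← heq]
      exact (Subgroup.mem_map_iff_mem (f := (MulAut.conj g).toMonoidHom) (MulAut.conj g).injective).symm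
    apply le_antisymm
    · rintro g ⟨hg, hgH⟩
      refine ⟨⟨g, hgH⟩, hnorm ?_, rfl⟩
      obtain ⟨n, hn⟩ := Subgroup.mem_zpowers_iff.1
        ((Subgroup.mem_normalizer_iff.1 hg x).1 (Subgroup.mem_zpowers x))
      refine Subgroup.mem_zpowers_iff.2 ⟨n, ?_⟩
      rw [← map_zpow, ← map_inv, ← map_mul, ← map_mul]
      congr 1
      exact Subtype.ext (by simpa using hn)
    · rintro - ⟨g, hg, rfl⟩
      refine ⟨hnorm ?_, g.2⟩
      have h1 := (Subgroup.mem_normalizer_iff.1 hg (χ xd)).1 (Subgroup.mem_zpowers _)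
      rw [← mem_powers_iff_mem_zpowers, Submonoid.mem_powers_iff] at h1
      obtain ⟨n, hn⟩ := h1
      have h := hlift g n (by rw [map_mul, map_mul, map_inv, map_pow, hn])
      show (g : G) * x * (g : G)⁻¹ ∈ Subgroup.zpowers x
      rw [h]
      exact Subgroup.npow_mem_zpowers x n

/-- Fixed common partners of two fixed members that do not commute. -/
theorem common_mod23 {x a b : G} {p : ℕ} (hp : p.Prime) (hx : orderOf x = p) (hp1 : 351 % p = 1)
    (ha : a ∈ fixSet D x) (hb : b ∈ fixSet D x) (hab : ¬ Commute a b) :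
    (FixedSym.common (fixSet D x) a b).ncard % p = 1 := by
  have hconj : ∀ v ∈ {v | v ∈ dperp D a ∧ Commute b v}, x * v * x⁻¹ ∈ {v | v ∈ dperp D a ∧ Commute b v} := by
    intro v hv
    refine ⟨?_, ?_⟩
    · have h := dperp_conj hD.2.1 x hv.1
      rwa [ha.2.eq, mul_inv_cancel_right] at h
    · have h := (commute_conj x b v).2 hv.2
      rwa [hb.2.eq, mul_inv_cancel_right] at h
  have h := ncard_fixed_modEq hconj hp (hx ▸ pow_orderOf_eq_one x)
  rwa [common_351 hD (layers23 hD hE h22 hcov) ha.1 hb.1 hab, hp1,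
    show {v | v ∈ {v | v ∈ dperp D a ∧ Commute b v} ∧ Commute x v} = FixedSym.common (fixSet D x) a b from
      Set.ext fun v => ⟨fun h => ⟨⟨⟨h.1.1.1, h.2⟩, h.1.1.2⟩, h.1.2.symm⟩,
        fun h => ⟨⟨⟨h.1.1.1, h.1.2⟩, h.2.symm⟩, h.1.1.2⟩⟩] at h

/-- An element of order 7: ten fixed members. -/
theorem seven_structure23 {x : G} (hx : orderOf x = 7) :
    ∃ φ : Equiv.Perm (Fin 5) →* G, Function.Injective φ ∧
      φ.range = Subgroup.closure (fixSet D x) ∧
      Nat.card ↥(Subgroup.centralizer ({x} : Set G)) = 7 * Nat.factorial 5 := by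
  classical
  have hT := hD.1
  have h7 : (7).Prime := by norm_num
  have hL := layers23 hD hE h22 hcov
  set S := fixSet D x
  have hlay : ∀ a ∈ S, (dperp S a).ncard = 3 ∧
      (∀ u ∈ dperp S a, ∀ v ∈ dperp S a, u ≠ v → ¬ Commute u v) ∧
      Nat.card ↥(Subgroup.centralizer ({x} : Set G) ⊓ Subgroup.centralizer ({a} : Set G)) = 84 := by
    intro a ha
    obtain ⟨xb, ψ, hxb, hiso, hc, -⟩ := layer_prime23 hD hcls hM hE hclsE h22 hcov h7 (by norm_num) hx ha
    obtain ⟨e, he, c, hc', hec, hfix, h42, -⟩ := seven_M22 hE (primeData hE hclsE h22) hxb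
    have hTE := hE.1
    have h1 : e * c * e ≠ e := fun h => by
      apply hec
      have h' := mul_eq_right.1 h
      rw [mul_eq_one_iff_eq_inv, inv_eq hTE hc'] at h'
      rw [h']
    have h2 : e * c * e ≠ c := fun h => hec (by
      show e * c = c * e
      calc e * c = e * c * e * e := by rw [mul_assoc (e * c), mul_self hTE he, mul_one]
        _ = c * e := by rw [h])
    have hne : e ≠ c := fun h => hec (h ▸ Commute.refl e)
    refine ⟨?_, ?_, by rw [hc, h42]⟩
    · rw [hiso.ncard_eq, hfix, Set.ncard_insert_of_notMem (by simp [hne, Ne.symm h1]) (Set.toFinite _),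
        Set.ncard_pair (Ne.symm h2)]
    · intro u hu v hv huv hcom
      have k1 := (hiso.comm u hu v hv).2 hcom
      have k2 : ψ u ≠ ψ v := fun h => huv (hiso.bij.injOn hu hv h)
      have m1 := hiso.bij.mapsTo hu
      have m2 := hiso.bij.mapsTo hv
      rw [hfix] at m1 m2
      -- the three members do not commute
      have hb1 : ¬ Commute e (e * c * e) := fun h => hec (by
        have := (commute_conj e e (e * c * e)).2 h
        rwa [inv_eq hTE he, conj_twice (mul_self hTE he),
          show e * e * e = e by rw [mul_self hTE he, one_mul]] at this)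
      have hb2 : ¬ Commute c (e * c * e) := fun h => hec (by
        have hbr := braid hTE he hc' hec
        rw [hbr] at h
        have := (commute_conj c c (c * e * c)).2 h
        rw [inv_eq hTE hc', conj_twice (mul_self hTE hc'),
          show c * c * c = c by rw [mul_self hTE hc', one_mul]] at this
        exact this.symm)
      rcases m1 with e1 | e1 | e1 <;> rcases m2 with e2 | e2 | e2 <;> rw [e1, e2] at k1 k2 <;>
        first
          | exact k2 rfl
          | exact hec k1
          | exact hec k1.symm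
          | exact hb1 k1
          | exact hb1 k1.symm
          | exact hb2 k1
          | exact hb2 k1.symm
  obtain ⟨d₀, hd₀, -⟩ := exists_fixed_member23 hD hcls hM hE hclsE h22 hcov (t := (1 : G)) (one_mul 1)
  obtain ⟨d, hd', hxd⟩ := exists_fixed_of_pow (fun u hu => hD.2.1 x u hu) h7
    (hx ▸ pow_orderOf_eq_one x) (S := D) (by rw [ncard_members23 hD hL hd₀]; norm_num)
  have hd : d ∈ S := ⟨hd', hxd⟩
  have h3 : ∀ a ∈ S, (dperp S a).ncard = 3 := fun a ha => (hlay a ha).1
  have hone : ∀ a ∈ S, ∀ b ∈ S, ¬ Commute a b → (FixedSym.common S a b).ncard = 1 := by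
    intro a ha b hb hab
    have h : (FixedSym.common S a b).ncard % 7 = 1 :=
      common_mod23 hD hcls hM hE hclsE h22 hcov h7 hx (by norm_num) ha hb hab
    have hle : (FixedSym.common S a b).ncard ≤ 3 :=
      (Set.ncard_le_ncard (fun v hv => hv.1) (Set.toFinite _)).trans (h3 a ha).le
    omega
  obtain ⟨hS10, hpath⟩ := FixedSym.ten_points h3 (fun a ha => (hlay a ha).2.1) hone hd
  obtain ⟨c, a, hc, ha, hca⟩ := (Set.one_lt_ncard_iff (Set.toFinite _)).1
    (show 1 < (dperp S d).ncard by rw [h3 d hd]; norm_num)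
  obtain ⟨z, hz, ndz, nza, nac, cda, cdc, czc⟩ := hpath c hc a ha hca
  set f : Fin 4 → G := ![d, z, a, c]
  have hf : ∀ i, f i ∈ S := by
    intro i; fin_cases i
    exacts [hd, hz.1, ha.1, hc.1]
  obtain ⟨φ, hφ, hrange⟩ := FixedSym.exists_hom hT f (fun i => (hf i).1) (by
      intro i j h
      fin_cases i <;> fin_cases j <;> simp only [Fin.isValue] at h <;>
        first | exact ndz | exact nza | exact nac | omega)
    (by
      intro i j h
      fin_cases i <;> fin_cases j <;> simp only [Fin.isValue] at h <;>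
        first | exact cda | exact cdc | exact czc | omega)
  have hinj := FixedSym.hom_injective le_rfl φ f hφ (fun h => ha.2.1 (by
    change d * a = 1 at h
    rw [mul_eq_one_iff_eq_inv, inv_eq hT ha.1.1] at h
    exact h.symm))
  have hr := FixedSym.closure_eq_range (S := S) (fun u hu v hv => fixSet_conj hD.2.1 hu.2.symm hv) φ hinj f
    hφ hrange hf (by norm_num) (m := 10) (by decide) hS10.le
  refine ⟨φ, hinj, hr, ?_⟩
  rw [card_eq_orbit_mul (Subgroup.centralizer ({x} : Set G)) d S
    (fun g hg => fixSet_conj hD.2.1 (show Commute g x from Subgroup.mem_centralizer_singleton_iff.1 hg) hd)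
    (fun u hu => (exists_conj_fixed hD hd hu h3 (by rw [hS10]; norm_num)).imp fun g hg =>
      ⟨Subgroup.mem_centralizer_singleton_iff.2 hg.1.eq, hg.2⟩), hS10, (hlay d hd).2.2]
  rfl

/-- An element of order 5 commutes with a member. -/
theorem exists_fixed_five23 {x : G} (hx : orderOf x = 5) : ∃ d ∈ D, Commute x d := by
  obtain ⟨d₀, hd₀, -⟩ := exists_fixed_member23 hD hcls hM hE hclsE h22 hcov (t := (1 : G)) (one_mul 1)
  exact exists_fixed_of_pow (fun u hu => hD.2.1 x u hu) (by norm_num : (5).Prime)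
    (hx ▸ pow_orderOf_eq_one x) (S := D)
    (by rw [ncard_members23 hD (layers23 hD hE h22 hcov) hd₀]; norm_num)

/-- An element of order 5: twenty-one fixed members. -/
theorem five_structure23 {x : G} (hx : orderOf x = 5) :
    ∃ φ : Equiv.Perm (Fin 7) →* G, Function.Injective φ ∧
      φ.range = Subgroup.closure (fixSet D x) ∧
      Nat.card ↥(Subgroup.centralizer ({x} : Set G)) = 5 * Nat.factorial 7 ∧
      Nat.card ↥(Subgroup.normalizer ((Subgroup.zpowers x : Subgroup G) : Set G)) =
        5 * 4 * Nat.factorial 7 ∧ (fixSet D x).ncard = 21 := by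
  classical
  have hT := hD.1
  have h5 : (5).Prime := by norm_num
  set S := fixSet D x
  have hlay : ∀ a ∈ S, (dperp S a).ncard = 10 ∧
      (∀ u ∈ dperp S a, (dperp (dperp S a) u).ncard = 3 ∧
        ∀ v ∈ dperp (dperp S a) u, ∀ w ∈ dperp (dperp S a) u, v ≠ w → ¬ Commute v w) ∧
      (∀ u ∈ dperp S a, ∀ v ∈ dperp S a, ¬ Commute u v → (FixedSym.common (dperp S a) u v).ncard = 1) ∧
      Nat.card ↥(Subgroup.centralizer ({x} : Set G) ⊓ Subgroup.centralizer ({a} : Set G)) = 1200 ∧
      Nat.card ↥(Subgroup.normalizer ((Subgroup.zpowers x : Subgroup G) : Set G) ⊓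
        Subgroup.centralizer ({a} : Set G)) = 4800 := by
    intro a ha
    obtain ⟨xb, ψ, hxb, hiso, hc, hn⟩ := layer_prime23 hD hcls hM hE hclsE h22 hcov h5 (by norm_num) hx ha
    obtain ⟨e, he, hxe⟩ := exists_fixed_five hE hclsE h22 hxb
    obtain ⟨h10, -, hone, -, hK, hN⟩ := five_structure hE hclsE h22 hxb (d := e) ⟨he, hxe⟩
    refine ⟨hiso.ncard_eq.trans h10, fun u hu => ?_, fun u hu v hv huv => ?_, by rw [hc, hK],
      by rw [hn, hN]; rfl⟩
    · have hu' := hiso.bij.mapsTo hu
      have hres := hiso.restrict hu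
      refine ⟨hres.ncard_eq.trans (five_layer hE hclsE h22 hxb hu').1, fun v hv w hw hvw hcom => ?_⟩
      exact layer_five_nc hE hclsE h22 hxb hu' (hres.bij.mapsTo hv) (hres.bij.mapsTo hw)
        (fun h => hvw (hres.bij.injOn hv hw h)) ((hres.comm v hv w hw).2 hcom)
    · rw [show (FixedSym.common (dperp S a) u v).ncard =
        {w | w ∈ dperp (dperp S a) u ∧ Commute w v}.ncard from rfl,
        (hiso.restrict hu).ncard_sep (fun w => Commute w v) (fun k => Commute k (ψ v))
          fun w hw => (hiso.comm w hw.1 v hv).symm]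
      exact hone _ (hiso.bij.mapsTo hu) _ (hiso.bij.mapsTo hv) fun h => huv ((hiso.comm u hu v hv).1 h)
  have hTL : FixedSym.TenLayers S := ⟨fun a ha => (hlay a ha).1, fun d hd a ha => ((hlay d hd).2.1 a ha).1,
    fun d hd a ha => ((hlay d hd).2.1 a ha).2, fun d hd => (hlay d hd).2.2.1,
    fun a ha b hb hab => common_mod23 hD hcls hM hE hclsE h22 hcov h5 hx (by norm_num) ha hb hab⟩
  obtain ⟨d, hd', hxd⟩ := exists_fixed_five23 hD hcls hM hE hclsE h22 hcov hx
  have hd : d ∈ S := ⟨hd', hxd⟩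
  obtain ⟨hS21, s₁, s₂, s₃, s₄, u, h₁, h₂, h₃, h₄, hu, n12, n23, n34, n4u, nud, c13, c14, c1u, c24, c2u,
    c3u⟩ := FixedSym.twentyone_points hTL hd
  have c1d := h₁.2.2.symm
  have c2d := h₂.2.2.symm
  have c3d := h₃.2.2.symm
  have c4d := h₄.2.2.symm
  set f : Fin 6 → G := ![s₁, s₂, s₃, s₄, u, d]
  have hf : ∀ i, f i ∈ S := by
    intro i; fin_cases i
    exacts [h₁.1, h₂.1, h₃.1, h₄.1, hu, hd]
  obtain ⟨φ, hφ, hrange⟩ := FixedSym.exists_hom hT f (fun i => (hf i).1) (by
      intro i j h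
      fin_cases i <;> fin_cases j <;> simp only [Fin.isValue] at h <;>
        first | exact n12 | exact n23 | exact n34 | exact n4u | exact nud | omega)
    (by
      intro i j h
      fin_cases i <;> fin_cases j <;> simp only [Fin.isValue] at h <;>
        first | exact c13 | exact c14 | exact c1u | exact c1d | exact c24 | exact c2u | exact c2d | exact c3u | exact c3d | exact c4d | omega)
  have hinj := FixedSym.hom_injective (by norm_num) φ f hφ (fun h => n12 (by
    change s₁ * s₃ = 1 at h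
    rw [mul_eq_one_iff_eq_inv, inv_eq hT h₃.1.1] at h
    -- `s₁ = s₃` would commute with `s₄`
    exact absurd (h ▸ c14) n34))
  have hr := FixedSym.closure_eq_range (S := S) (fun v hv w hw => fixSet_conj hD.2.1 hv.2.symm hw) φ hinj f
    hφ hrange hf (by norm_num) (m := 21) (by decide) hS21.le
  set K := Subgroup.centralizer ({x} : Set G)
  set N := Subgroup.normalizer ((Subgroup.zpowers x : Subgroup G) : Set G)
  have htrans : ∀ v ∈ S, ∃ g, Commute g x ∧ g * d * g⁻¹ = v := fun v hv =>
    exists_conj_fixed hD hd hv (fun a ha => (hlay a ha).1) (by rw [hS21]; norm_num)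
  have hKN : K ≤ N := by
    have := Subgroup.centralizer_le_normalizer ((Subgroup.zpowers x : Subgroup G) : Set G)
    rwa [Subgroup.zpowers_eq_closure, Subgroup.centralizer_closure, ← Subgroup.zpowers_eq_closure] at this
  refine ⟨φ, hinj, hr, ?_, ?_, hS21⟩
  · rw [card_eq_orbit_mul K d S
      (fun g hg => fixSet_conj hD.2.1 (show Commute g x from Subgroup.mem_centralizer_singleton_iff.1 hg) hd)
      (fun v hv => (htrans v hv).imp fun g hg => ⟨Subgroup.mem_centralizer_singleton_iff.2 hg.1.eq, hg.2⟩),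
      hS21, (hlay d hd).2.2.2.1]
    rfl
  · rw [card_eq_orbit_mul N d S (fun g hg => fixSet_normalizer hD.2.1 hg hd)
      (fun v hv => (htrans v hv).imp fun g hg =>
        ⟨hKN (Subgroup.mem_centralizer_singleton_iff.2 hg.1.eq), hg.2⟩),
      hS21, (hlay d hd).2.2.2.2]
    rfl

/-- Subgroups of order 5 are conjugate. -/
theorem exists_conj_five23 {Y₁ Y₂ : Subgroup G} (h₁ : Nat.card Y₁ = 5) (h₂ : Nat.card Y₂ = 5) :
    ∃ g : G, Y₁.map (MulAut.conj g).toMonoidHom = Y₂ := by
  classical
  have hT := hD.1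
  have h5 : (5).Prime := by norm_num
  have := Fact.mk h5
  obtain ⟨x, hx, rfl, -⟩ := exists_gen h5 h₁
  obtain ⟨y, hy, rfl, -⟩ := exists_gen h5 h₂
  obtain ⟨d, hd, hxd⟩ := exists_fixed_five23 hD hcls hM hE hclsE h22 hcov hx
  obtain ⟨e, he, hye⟩ := exists_fixed_five23 hD hcls hM hE hclsE h22 hcov hy
  obtain ⟨k, hk⟩ := class_isConj hcls hd he
  have hkx : orderOf (k * x * k⁻¹) = 5 := by
    rw [show k * x * k⁻¹ = MulAut.conj k x from rfl, MulEquiv.orderOf_eq, hx]
  have hmaps := (hcov e he).maps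
  set H := Subgroup.centralizer ({e} : Set G)
  obtain ⟨χ, ψ, hχ, hker, -, -⟩ := hmaps
  set xe : H := ⟨k * x * k⁻¹, Subgroup.mem_centralizer_singleton_iff.2 (by
    rw [← hk]; exact ((commute_conj k x d).2 hxd).eq)⟩
  set ye : H := ⟨y, Subgroup.mem_centralizer_singleton_iff.2 hye.eq⟩
  have hord : ∀ w : H, orderOf (w : G) = 5 → orderOf (χ w) = 5 := by
    intro w hw
    refine orderOf_eq_prime ?_ fun h => ?_
    · rw [← map_pow, show w ^ 5 = 1 from Subtype.ext (by
        rw [SubgroupClass.coe_pow, ← hw]; exact pow_orderOf_eq_one (w : G)), map_one]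
    · rcases (hker w).1 h with h | h
      · rw [h, orderOf_one] at hw; omega
      · rw [h, hT.1 e he] at hw; omega
  obtain ⟨q, hq⟩ := exists_conj_five hE hclsE h22 (X := Subgroup.zpowers (χ xe)) (Y := Subgroup.zpowers (χ ye))
    (by rw [Nat.card_zpowers, hord xe hkx]) (by rw [Nat.card_zpowers, hord ye hy])
  obtain ⟨h, rfl⟩ := hχ q
  have h1 : χ (h * xe * h⁻¹) ∈ Subgroup.zpowers (χ ye) := by
    rw [← hq, map_mul, map_mul, map_inv]
    exact ⟨_, Subgroup.mem_zpowers _, rfl⟩
  rw [← mem_powers_iff_mem_zpowers, Submonoid.mem_powers_iff] at h1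
  obtain ⟨n, hn⟩ := h1
  have h2 : (h : G) * (k * x * k⁻¹) * (h : G)⁻¹ = y ^ n := by
    have h0 : χ (h * xe * h⁻¹ * (ye ^ n)⁻¹) = 1 := by rw [map_mul, map_inv, map_pow, hn, mul_inv_cancel]
    rcases (hker _).1 h0 with h1 | h1
    · exact mul_inv_eq_one.1 (by simpa [xe, ye] using h1)
    · exfalso
      have h2 : (h : G) * (k * x * k⁻¹) * (h : G)⁻¹ = e * y ^ n :=
        mul_inv_eq_iff_eq_mul.1 (by simpa [xe, ye] using h1)
      have h3 := congrArg (· ^ 5) h2
      simp only [conj_pow] at h3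
      rw [(hye.symm.pow_right n).mul_pow, ← pow_mul y, mul_comm n 5, pow_mul y 5 n, ← hy,
        pow_orderOf_eq_one, hy, one_pow, mul_one, ← hx, pow_orderOf_eq_one] at h3
      rw [hx] at h3
      simp only [pow_succ, pow_zero, one_mul, mul_one, mul_inv_cancel, mul_assoc, mul_self_mul hT he] at h3
      exact ne_one hT he h3.symm
  refine ⟨(h : G) * k, Subgroup.eq_of_le_of_card_ge ?_ ?_⟩
  · rw [MonoidHom.map_zpowers, Subgroup.zpowers_le, show (MulAut.conj ((h : G) * k)).toMonoidHom x =
      (h : G) * (k * x * k⁻¹) * (h : G)⁻¹ by simp [mul_assoc], h2]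
    exact Subgroup.npow_mem_zpowers y n
  · rw [Subgroup.card_map_of_injective (MulAut.conj ((h : G) * k)).injective, Nat.card_zpowers,
      Nat.card_zpowers, hx, hy]

end Cfsg.Agent.ThreeTrans
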