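import Cfsg.Agent.ThreeTrans.PrimeM23Small
import Mathlib.GroupTheory.Perm.Centralizer

/-!
# Sylow 5-subgroups when elements of order 5 have centralisers 5 × S_m
-/

set_option autoImplicit false

open Cfsg

namespace Cfsg.Agent.ThreeTrans

/-- Centraliser and normaliser of an element of order 5 in five, seven or nine letters. -/
theorem perm_five {m : ℕ} (hm : m = 5 ∨ m = 7 ∨ m = 9) {s : Equiv.Perm (Fin m)} (hs : orderOf s = 5) :
    Nat.card ↥(Subgroup.centralizer ({s} : Set (Equiv.Perm (Fin m)))) = 5 * (m - 5).factorial ∧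
      Nat.card ↥(Subgroup.normalizer ((Subgroup.zpowers s : Subgroup (Equiv.Perm (Fin m))) :
        Set (Equiv.Perm (Fin m)))) = 4 * (5 * (m - 5).factorial) := by
  classical
  have h5 : (5).Prime := by norm_num
  obtain ⟨n, hn⟩ := Equiv.Perm.cycleType_prime_order (σ := s) (by rw [hs]; exact h5)
  have hle : s.cycleType.sum ≤ m := by
    rw [Equiv.Perm.sum_cycleType]
    exact (Finset.card_le_univ _).trans (Fintype.card_fin m).le
  rw [hs] at hn
  have hn0 : n = 0 := by
    rw [hn, Multiset.sum_replicate, smul_eq_mul] at hle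
    omega
  rw [hn0] at hn
  have hC : Nat.card ↥(Subgroup.centralizer ({s} : Set (Equiv.Perm (Fin m)))) = 5 * (m - 5).factorial := by
    rw [Equiv.Perm.nat_card_centralizer, hn, Fintype.card_fin]
    simp [mul_comm]
  refine ⟨hC, ?_⟩
  have hnd : ¬ 5 ^ 2 ∣ Nat.card (Equiv.Perm (Fin m)) := by
    rw [Nat.card_perm, Nat.card_fin]
    rcases hm with rfl | rfl | rfl <;> norm_num [Nat.factorial]
  obtain ⟨k, j, hk, hN, hG, hj⟩ := normalizer_prime h5 (X := Subgroup.zpowers s)
    (by rw [Nat.card_zpowers, hs]) hnd (c := 5 * (m - 5).factorial)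
    (by rw [Subgroup.zpowers_eq_closure, Subgroup.centralizer_closure, hC])
  rw [Nat.card_perm, Nat.card_fin] at hG
  have := Nat.le_of_dvd (by norm_num) hk
  rw [hN]
  rcases hm with rfl | rfl | rfl <;> norm_num [Nat.factorial] at hG ⊢ <;> interval_cases k <;> omega

variable {G : Type*} [Group G] [Finite G]

/-- An element which conjugates a cyclic subgroup into itself normalises it. -/
theorem mem_normalizer_of_le {g : G} {H : Subgroup G}
    (h : H.map (MulAut.conj g).toMonoidHom ≤ H) : g ∈ Subgroup.normalizer (H : Set G) := by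
  have heq := Subgroup.eq_of_le_of_card_ge h
    (by rw [Subgroup.card_map_of_injective (MulAut.conj g).injective])
  rw [Subgroup.mem_normalizer_iff]
  intro n
  conv_rhs => rw [← heq]
  exact (Subgroup.mem_map_iff_mem (f := (MulAut.conj g).toMonoidHom) (MulAut.conj g).injective).symm

/-- Sylow 5-subgroups of order 25. -/
theorem sylow_five {D : Set G} (hD : IsThreeTranspositionGroup D) {m : ℕ} (hm : m = 5 ∨ m = 7 ∨ m = 9)
    (hfac : (Nat.card G).factorization 5 = 2)
    (hst : ∀ x : G, orderOf x = 5 → ∃ φ : Equiv.Perm (Fin m) →* G, Function.Injective φ ∧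
      φ.range = Subgroup.closure (fixSet D x) ∧
      Nat.card ↥(Subgroup.centralizer ({x} : Set G)) = 5 * m.factorial ∧
      Nat.card ↥(Subgroup.normalizer ((Subgroup.zpowers x : Subgroup G) : Set G)) = 5 * 4 * m.factorial)
    (hconj : ∀ X Y : Subgroup G, Nat.card X = 5 → Nat.card Y = 5 →
      ∃ g : G, X.map (MulAut.conj g).toMonoidHom = Y)
    (E : Sylow 5 G) :
    IsElementaryAbelian 5 (E : Subgroup G) ∧ Nat.card (E : Subgroup G) = 25 ∧
      Nat.card ↥(Subgroup.centralizer ((E : Subgroup G) : Set G)) = 25 * (m - 5).factorial ∧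
      Nat.card ↥(Subgroup.normalizer ((E : Subgroup G) : Set G)) = 2400 * (m - 5).factorial ∧
      ∃ x ∈ (E : Subgroup G), orderOf x = 5 ∧ ∃ σ ∈ (E : Subgroup G), σ ^ 5 = 1 ∧
        Commute σ x ∧ Subgroup.closure {x, σ} = (E : Subgroup G) := by
  classical
  have h5 : (5).Prime := by norm_num
  have := Fact.mk h5
  set P := (E : Subgroup G) with hPdef
  have h25 : Nat.card P = 25 := by
    rw [show Nat.card P = 5 ^ (Nat.card G).factorization 5 from E.card_eq_multiplicity, hfac]; norm_num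
  have hcomm : ∀ a ∈ P, ∀ b ∈ P, Commute a b := fun a ha b hb =>
    congrArg Subtype.val (IsPGroup.commutative_of_card_eq_prime_sq (p := 5)
      (show Nat.card P = 5 ^ 2 from h25) ⟨a, ha⟩ ⟨b, hb⟩)
  obtain ⟨x₀, hx₀⟩ := exists_prime_orderOf_dvd_card' (G := P) 5 (by rw [h25]; norm_num)
  set x : G := x₀.1
  have hxP : x ∈ P := x₀.2
  have hx : orderOf x = 5 := by rw [Subgroup.orderOf_coe, hx₀]
  obtain ⟨φ, hinj, hr, hK, -⟩ := hst x hx
  have hm5 : 5 ≤ m := by rcases hm with rfl | rfl | rfl <;> norm_num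
  have hm6 : m ≠ 6 := by rcases hm with rfl | rfl | rfl <;> norm_num
  set K := Subgroup.centralizer ({x} : Set G)
  have hTK : φ.range ≤ K := by
    rw [hr, Subgroup.closure_le]
    exact fun u hu => Subgroup.mem_centralizer_singleton_iff.2 hu.2.symm.eq
  obtain ⟨hbot, hsup, hcard⟩ := FixedSym.card_normalizing hm5 hm6 φ hinj hr K hTK fun g hg u hu =>
    fixSet_conj hD.2.1 (show Commute g x from Subgroup.mem_centralizer_singleton_iff.1 hg) hu
  set Fr := K ⊓ Subgroup.centralizer (fixSet D x)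
  have hFr5 : Nat.card Fr = 5 := by
    rw [hK] at hcard
    exact (Nat.eq_of_mul_eq_mul_right (Nat.factorial_pos m) hcard).symm
  have hFrX : Fr = Subgroup.zpowers x := by
    refine (Subgroup.eq_of_le_of_card_ge (Subgroup.zpowers_le.2 (show x ∈ Fr from
      ⟨Subgroup.mem_centralizer_singleton_iff.2 rfl, Subgroup.mem_centralizer_iff.2 fun u hu => hu.2.symm.eq⟩)) ?_).symm
    rw [hFr5, Nat.card_zpowers, hx]
  have hcomφ : ∀ f ∈ Fr, ∀ t, Commute f (φ t) := by
    intro f hf t
    have h : φ.range ≤ Subgroup.centralizer ({f} : Set G) := by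
      rw [hr, Subgroup.closure_le]
      exact fun u hu => Subgroup.mem_centralizer_singleton_iff.2 (Subgroup.mem_centralizer_iff.1 hf.2 u hu)
    exact (Subgroup.mem_centralizer_singleton_iff.1 (h ⟨t, rfl⟩)).symm
  have hdec : ∀ g ∈ K, ∃ f ∈ Fr, ∃ t, g = f * φ t := by
    intro g hg
    have hnr : φ.range ≤ Subgroup.normalizer (Fr : Set G) := by
      refine le_trans ?_ (Subgroup.centralizer_le_normalizer _)
      rintro _ ⟨t, rfl⟩
      exact Subgroup.mem_centralizer_iff.2 fun f hf => (hcomφ f hf t).eq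
    rw [← hsup, ← SetLike.mem_coe, Subgroup.coe_mul_of_right_le_normalizer_left _ _ hnr] at hg
    obtain ⟨f, hf, _, ⟨t, rfl⟩, rfl⟩ := hg
    exact ⟨f, hf, t, rfl⟩
  have hpre : ∀ (M : Subgroup G) (Q : Subgroup (Equiv.Perm (Fin m))), M ≤ K →
      (∀ f ∈ Fr, ∀ t, f * φ t ∈ M ↔ t ∈ Q) → Nat.card M = 5 * Nat.card Q := by
    intro M Q hMK hiff
    rw [← hFr5, ← Nat.card_prod]
    refine (Nat.card_congr (Equiv.ofBijective
      (fun p : Fr × Q => (⟨p.1 * φ p.2, (hiff p.1 p.1.2 p.2).2 p.2.2⟩ : M)) ⟨?_, ?_⟩)).symm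
    · rintro ⟨f, s⟩ ⟨f', s'⟩ h
      have h' : (f : G) * φ s = f' * φ s' := congrArg Subtype.val h
      have h1 : (f' : G)⁻¹ * f ∈ Fr ⊓ φ.range := by
        refine ⟨Fr.mul_mem (Fr.inv_mem f'.2) f.2, (s' : Equiv.Perm (Fin m)) * (s : Equiv.Perm (Fin m))⁻¹, ?_⟩
        rw [map_mul, map_inv]
        calc φ s' * (φ s)⁻¹ = (f' : G)⁻¹ * (f' * φ s') * (φ s)⁻¹ := by group
          _ = (f' : G)⁻¹ * f := by rw [← h']; group
      rw [hbot, Subgroup.mem_bot, inv_mul_eq_one] at h1
      have hf : f = f' := Subtype.ext h1.symm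
      subst hf
      exact Prod.ext rfl (Subtype.ext (hinj (mul_left_cancel h')))
    · rintro ⟨g, hg⟩
      obtain ⟨f, hf, t, rfl⟩ := hdec g (hMK hg)
      exact ⟨(⟨f, hf⟩, ⟨t, (hiff f hf t).1 hg⟩), rfl⟩
  -- the second generator
  have hPK : P ≤ K := fun g hg => Subgroup.mem_centralizer_singleton_iff.2 (hcomm g hg x hxP).eq
  have hTc : Nat.card φ.range = m.factorial := by
    rw [← Nat.card_congr (MonoidHom.ofInjective hinj).toEquiv, Nat.card_perm, Nat.card_fin]
  have hidx : φ.range.relIndex K = 5 := by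
    have h := Subgroup.card_mul_index (φ.range.subgroupOf K)
    rw [Nat.card_congr (Subgroup.subgroupOfEquivOfLe hTK).toEquiv, hTc, hK] at h
    change m.factorial * φ.range.relIndex K = 5 * m.factorial at h
    rw [mul_comm 5] at h
    exact Nat.eq_of_mul_eq_mul_left (Nat.factorial_pos m) h
  obtain ⟨s, hsP, hs1⟩ : ∃ s, φ s ∈ P ∧ φ s ≠ 1 := by
    have hle : φ.range.relIndex P ≤ 5 := hidx ▸ Subgroup.relIndex_le_of_le_right hPK (by rw [hidx]; norm_num)
    have h := Subgroup.card_mul_index (φ.range.subgroupOf P)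
    rw [h25] at h
    change Nat.card ↥(φ.range.subgroupOf P) * φ.range.relIndex P = 25 at h
    have : 1 < Nat.card ↥(φ.range.subgroupOf P) := by
      by_contra hlt
      push Not at hlt
      have := Nat.mul_le_mul hlt hle
      omega
    obtain ⟨⟨⟨g, hgP⟩, s, hs⟩, hne⟩ := @exists_ne _ ((Finite.one_lt_card_iff_nontrivial).1 this)
      (1 : φ.range.subgroupOf P)
    refine ⟨s, by rw [hs]; exact hgP, fun h => hne (Subtype.ext (Subtype.ext ?_))⟩
    rw [hs] at h
    exact h
  have hmF : (m.factorial).gcd 25 = 5 := by rcases hm with rfl | rfl | rfl <;> rfl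
  have hs5 : orderOf s = 5 := by
    have k1 : orderOf s ∣ m.factorial := by
      have := orderOf_dvd_natCard s
      rwa [Nat.card_perm, Nat.card_fin] at this
    have k2 : orderOf s ∣ 25 := by
      rw [← orderOf_injective φ hinj s, ← h25, ← Subgroup.orderOf_mk _ hsP]
      exact orderOf_dvd_natCard _
    have h1 := Nat.dvd_gcd k1 k2
    rw [hmF] at h1
    exact ((Nat.dvd_prime h5).1 h1).resolve_left fun h => hs1 (by rw [orderOf_eq_one_iff.1 h, map_one])
  set σ := φ s with hσ
  have hσ5 : orderOf σ = 5 := by rw [hσ, orderOf_injective φ hinj, hs5]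
  have hxT : x ∉ φ.range := fun h => by
    have : x ∈ Fr ⊓ φ.range := ⟨hFrX ▸ Subgroup.mem_zpowers x, h⟩
    rw [hbot, Subgroup.mem_bot] at this
    rw [this, orderOf_one] at hx
    norm_num at hx
  have hdiv25 : ∀ H : Subgroup G, H ≤ P → Nat.card H = 1 ∨ Nat.card H = 5 ∨ Nat.card H = 25 := by
    intro H hH
    obtain ⟨i, hi, h⟩ := (Nat.dvd_prime_pow h5).1 (show Nat.card H ∣ 5 ^ 2 by
      have := Subgroup.card_dvd_of_le hH
      rw [h25] at this
      exact this)
    interval_cases i <;> simp [h]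
  have hPeq : Subgroup.closure {x, σ} = P := by
    have hle : Subgroup.closure {x, σ} ≤ P := (Subgroup.closure_le _).2 (by
      rintro g (rfl | rfl) <;> assumption)
    refine Subgroup.eq_of_le_of_card_ge hle ?_
    have hxm : x ∈ Subgroup.closure {x, σ} := Subgroup.subset_closure (by simp)
    rw [h25]
    rcases hdiv25 _ hle with h | h | h
    · exfalso
      rw [Subgroup.card_eq_one.1 h, Subgroup.mem_bot] at hxm
      rw [hxm, orderOf_one] at hx
      norm_num at hx
    · exfalso
      have heq : Subgroup.zpowers σ = Subgroup.closure {x, σ} := Subgroup.eq_of_le_of_card_ge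
        (Subgroup.zpowers_le.2 (Subgroup.subset_closure (by simp))) (by rw [h, Nat.card_zpowers, hσ5])
      rw [← heq] at hxm
      exact hxT ((Subgroup.zpowers_le.2 (show σ ∈ φ.range from ⟨s, rfl⟩)) hxm)
    · exact h.ge
  have hexp : ∀ a ∈ P, a ^ 5 = 1 := by
    intro a ha
    rw [← hPeq] at ha
    have : ∀ b ∈ Subgroup.closure {x, σ}, b ∈ P ∧ b ^ 5 = 1 := by
      intro b hb
      induction hb using Subgroup.closure_induction with
      | mem g hg =>
        rcases hg with rfl | rfl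
        · exact ⟨hxP, hx ▸ pow_orderOf_eq_one x⟩
        · exact ⟨hsP, hσ5 ▸ pow_orderOf_eq_one σ⟩
      | one => exact ⟨one_mem _, one_pow _⟩
      | mul g k _ _ hg hk => exact ⟨mul_mem hg.1 hk.1, by rw [(hcomm g hg.1 k hk.1).mul_pow, hg.2, hk.2, one_mul]⟩
      | inv g _ hg => exact ⟨inv_mem hg.1, by rw [inv_pow, hg.2, inv_one]⟩
    exact (this a ha).2
  have hord : ∀ a ∈ P, a ≠ 1 → orderOf a = 5 := fun a ha h1 => orderOf_eq_prime (hexp a ha) h1
  have hCP : Subgroup.centralizer (P : Set G) = K ⊓ Subgroup.centralizer ({σ} : Set G) := by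
    rw [← hPeq, Subgroup.centralizer_closure]
    ext g
    simp only [Subgroup.mem_centralizer_iff, Subgroup.mem_inf, Set.forall_mem_insert, K]
    simp
  have hCs := perm_five hm hs5
  have hCcard : Nat.card ↥(Subgroup.centralizer (P : Set G)) = 25 * (m - 5).factorial := by
    rw [hCP, hpre _ (Subgroup.centralizer ({s} : Set (Equiv.Perm (Fin m)))) inf_le_left, hCs.1]
    · ring
    intro f hf t
    constructor
    · intro h
      rw [Subgroup.mem_centralizer_singleton_iff]
      apply hinj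
      rw [map_mul, map_mul]
      have h1 : Commute (f * φ t) σ := Subgroup.mem_centralizer_singleton_iff.1 h.2
      have h2 : Commute (f⁻¹ * (f * φ t)) σ := ((hcomφ f hf s).inv_left).mul_left h1
      rw [inv_mul_cancel_left] at h2
      exact h2.eq
    · intro h
      refine ⟨mul_mem hf.1 (hTK ⟨t, rfl⟩), Subgroup.mem_centralizer_singleton_iff.2 ?_⟩
      refine (Commute.mul_left (hcomφ f hf s) ?_).eq
      show Commute (φ t) (φ s)
      exact (show Commute t s from Subgroup.mem_centralizer_singleton_iff.1 h).map φ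
  -- the part of the normaliser in the centraliser of `x`
  set N := Subgroup.normalizer (P : Set G)
  have hNx : Nat.card ↥(N ⊓ K) = 20 * (5 * (m - 5).factorial) := by
    have hPT : P ⊓ φ.range = Subgroup.zpowers σ := by
      refine (Subgroup.eq_of_le_of_card_ge (Subgroup.zpowers_le.2
        (show σ ∈ P ⊓ φ.range from ⟨hsP, s, rfl⟩)) ?_).symm
      rw [Nat.card_zpowers, hσ5]
      rcases hdiv25 _ (inf_le_left : P ⊓ φ.range ≤ P) with h | h | h
      · omega
      · omega
      · exfalso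
        refine hxT ?_
        have e : P ⊓ φ.range = P := Subgroup.eq_of_le_of_card_ge inf_le_left (by rw [h, h25])
        exact (e.symm ▸ hxP : x ∈ P ⊓ φ.range).2
    rw [hpre (N ⊓ K) (Subgroup.normalizer ((Subgroup.zpowers s : Subgroup (Equiv.Perm (Fin m))) :
      Set (Equiv.Perm (Fin m)))) inf_le_right, hCs.2]
    · ring
    intro f hf t
    have hfN : f ∈ N := Subgroup.le_normalizer (by
      rw [hFrX] at hf; exact (Subgroup.zpowers_le.2 hxP) hf)
    constructor
    · intro h
      have ht : φ t ∈ N := by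
        have := N.mul_mem (N.inv_mem hfN) h.1
        rwa [inv_mul_cancel_left] at this
      refine mem_normalizer_of_le ?_
      rw [MonoidHom.map_zpowers, Subgroup.zpowers_le]
      have h1 : φ t * σ * (φ t)⁻¹ ∈ P ⊓ φ.range :=
        ⟨(Subgroup.mem_normalizer_iff.1 ht σ).1 hsP, t * s * t⁻¹, by rw [map_mul, map_mul, map_inv]⟩
      rw [hPT, hσ, ← map_inv, ← map_mul, ← map_mul, Subgroup.mem_zpowers_iff] at h1
      obtain ⟨j, hj⟩ := h1
      rw [← map_zpow] at hj
      exact Subgroup.mem_zpowers_iff.2 ⟨j, hinj hj⟩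
    · intro h
      refine ⟨mul_mem hfN ?_, mul_mem hf.1 (hTK ⟨t, rfl⟩)⟩
      refine mem_normalizer_of_le ?_
      conv_lhs => rw [← hPeq]
      rw [MonoidHom.map_closure, Subgroup.closure_le]
      rintro _ ⟨g, hg, rfl⟩
      rcases hg with rfl | rfl
      · show φ t * x * (φ t)⁻¹ ∈ P
        rwa [show φ t * x = x * φ t from Subgroup.mem_centralizer_singleton_iff.1 (hTK ⟨t, rfl⟩),
          mul_inv_cancel_right]
      · show φ t * σ * (φ t)⁻¹ ∈ P
        have h1 := (Subgroup.mem_normalizer_iff.1 h s).1 (Subgroup.mem_zpowers s)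
        obtain ⟨j, hj⟩ := Subgroup.mem_zpowers_iff.1 h1
        rw [hσ, ← map_inv, ← map_mul, ← map_mul, ← hj, map_zpow]
        exact zpow_mem hsP j
  -- the normaliser moves `x` to every other element
  have htrans : ∀ b ∈ (P : Set G) \ {1}, ∃ g ∈ N, g * x * g⁻¹ = b := by
    rintro b ⟨hbP, hb1⟩
    have hb : orderOf b = 5 := hord b hbP hb1
    obtain ⟨φb, -, -, hKb, hNb⟩ := hst b hb
    obtain ⟨g, hg⟩ := hconj (Subgroup.zpowers x) (Subgroup.zpowers b)
      (by rw [Nat.card_zpowers, hx]) (by rw [Nat.card_zpowers, hb])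
    have hgx : g * x * g⁻¹ ∈ Subgroup.zpowers b := hg ▸ ⟨x, Subgroup.mem_zpowers x, rfl⟩
    set Nb := Subgroup.normalizer ((Subgroup.zpowers b : Subgroup G) : Set G)
    set O : Set G := {y | ∃ g ∈ Nb, g * b * g⁻¹ = y}
    have horb := card_eq_orbit_mul Nb b O (fun g hg => ⟨g, hg, rfl⟩) fun y hy => hy
    have hKN : Subgroup.centralizer ({b} : Set G) ≤ Nb := by
      have := Subgroup.centralizer_le_normalizer ((Subgroup.zpowers b : Subgroup G) : Set G)
      rwa [Subgroup.zpowers_eq_closure, Subgroup.centralizer_closure, ← Subgroup.zpowers_eq_closure] at this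
    rw [inf_eq_right.2 hKN, hKb, hNb] at horb
    have hO : O.ncard = 4 := by
      have hp := Nat.factorial_pos m
      refine Nat.eq_of_mul_eq_mul_right (show 0 < 5 * m.factorial by omega) ?_
      rw [← horb]; ring
    have hsub : O ⊆ ((Subgroup.zpowers b : Subgroup G) : Set G) \ {1} := by
      rintro y ⟨g, hg, rfl⟩
      refine ⟨(Subgroup.mem_normalizer_iff.1 hg b).1 (Subgroup.mem_zpowers b), fun h => hb1 ?_⟩
      rw [Set.mem_singleton_iff, mul_inv_eq_one] at h
      exact mul_eq_left.1 h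
    have hOeq : O = ((Subgroup.zpowers b : Subgroup G) : Set G) \ {1} := by
      refine Set.eq_of_subset_of_ncard_le hsub ?_ (Set.toFinite _)
      rw [hO, Set.ncard_sdiff_singleton_of_mem (one_mem _), ← Nat.card_coe_set_eq,
        SetLike.coe_sort_coe, Nat.card_zpowers, hb]
    obtain ⟨k, -, hk⟩ : g * x * g⁻¹ ∈ O := by
      rw [hOeq]
      refine ⟨hgx, fun h => ?_⟩
      rw [Set.mem_singleton_iff, mul_inv_eq_one] at h
      rw [mul_eq_left.1 h, orderOf_one] at hx
      norm_num at hx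
    -- conjugate into the normaliser
    have : IsMulCommutative (E : Subgroup G) := ⟨⟨fun a b => Subtype.ext (hcomm a a.2 b b.2).eq⟩⟩
    have hb' : (g⁻¹ * k)⁻¹⁻¹ * b * (g⁻¹ * k)⁻¹ = x := by
      rw [inv_inv]
      calc g⁻¹ * k * b * (g⁻¹ * k)⁻¹ = g⁻¹ * (k * b * k⁻¹) * g := by group
        _ = x := by rw [hk]; group
    obtain ⟨n, hn, hn'⟩ := E.conj_eq_normalizer_conj_of_mem b ((g⁻¹ * k)⁻¹) hbP (by rw [hb']; exact hxP)
    rw [hb'] at hn'
    exact ⟨n, hn, by rw [hn']; group⟩
  have hNcard := card_eq_orbit_mul N x ((P : Set G) \ {1}) (fun g hg =>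
    ⟨(Subgroup.mem_normalizer_iff.1 hg x).1 hxP, fun h => by
      rw [Set.mem_singleton_iff, mul_inv_eq_one] at h
      rw [mul_eq_left.1 h, orderOf_one] at hx
      norm_num at hx⟩) htrans
  rw [hNx, Set.ncard_sdiff_singleton_of_mem (one_mem _), ← Nat.card_coe_set_eq, SetLike.coe_sort_coe,
    h25] at hNcard
  refine ⟨⟨⟨⟨fun a b => Subtype.ext (hcomm a a.2 b b.2).eq⟩⟩, hexp⟩, h25, hCcard, ?_, x, hxP, hx, σ, hsP,
    hσ5 ▸ pow_orderOf_eq_one σ, hcomm σ hsP x hxP, hPeq⟩
  rw [hNcard]
  ring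

end Cfsg.Agent.ThreeTrans
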