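import Cfsg.Agent.ThreeTrans.CoverM24
import Cfsg.Agent.ThreeTrans.PrimeM23Small
import Cfsg.Agent.ThreeTrans.SylowFive

/-!
# Type M(24): elements of order 5 and 11

The fixed members are read off from the layers: three for order 11, thirty-six for order 5.
-/

set_option autoImplicit false

open Cfsg

namespace Cfsg.Agent.ThreeTrans

universe u

namespace FixedSym

variable {G : Type*} [Group G] [Finite G] {S : Set G}

/-- In a set of twenty-one points no point is moved by three pairwise commuting ones. -/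
theorem no_hub (hS : TenLayers S) {a b c v : G} (ha : a ∈ S) (hb : b ∈ dperp S a)
    (hc : c ∈ dperp (dperp S a) b) (hv : v ∈ S) (hva : ¬ Commute v a) (hvb : ¬ Commute v b)
    (hvc : ¬ Commute v c) : False := by
  classical
  set Z := common S a v
  set W := dperp S a \ Z
  have hav : ¬ Commute a v := fun h => hva h.symm
  have hZsub : Z ⊆ dperp S a := fun u hu => hu.1
  have hZ6 : Z.ncard = 6 := common_six hS ha hv hav
  have hW4 : W.ncard = 4 := by rw [Set.ncard_sdiff hZsub (Set.toFinite _), hS.ten a ha, hZ6]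
  have hbW : b ∈ W := ⟨hb, fun h => hvb h.2.symm⟩
  have hcW : c ∈ W := ⟨hc.1, fun h => hvc h.2.symm⟩
  have hdeg : ∀ z ∈ Z, {w | w ∈ W ∧ Commute z w}.ncard = 2 := by
    intro z hz
    have haz : a ∈ dperp S z := dperp_symm ha hz.1
    have hvz : v ∈ dperp S z := ⟨hv, fun e => hav (e ▸ hz.1.2.2), hz.2⟩
    obtain ⟨r, hr⟩ := Set.ncard_eq_one.1 (hS.one z hz.1.1 a haz v hvz hav)
    have hrm : r ∈ common (dperp S z) a v := by rw [hr]; rfl
    have hrin : r ∈ dperp (dperp S a) z :=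
      ⟨⟨hrm.1.1.1, hrm.1.2.1, hrm.1.2.2⟩, hrm.1.1.2.1, hrm.1.1.2.2⟩
    have e : {w | w ∈ W ∧ Commute z w} = dperp (dperp S a) z \ {r} := by
      apply Set.ext
      intro w
      constructor
      · rintro ⟨⟨hw, hwZ⟩, hzw⟩
        refine ⟨⟨hw, fun e' => hwZ (e' ▸ hz), hzw⟩, fun e' => hwZ ?_⟩
        rw [Set.mem_singleton_iff.1 e']
        exact ⟨⟨hrm.1.1.1, hrm.1.2.1, hrm.1.2.2⟩, hrm.2⟩
      · rintro ⟨hw, hwr⟩
        refine ⟨⟨hw.1, fun hwZ => hwr ?_⟩, hw.2.2⟩
        rw [← hr]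
        exact ⟨⟨⟨hw.1.1, hw.2.1, hw.2.2⟩, hw.1.2.1, hw.1.2.2⟩, hwZ.2⟩
    rw [e, Set.ncard_sdiff_singleton_of_mem hrin, hS.three a ha z hz.1]
  have hcap : ∀ w ∈ W, {z | z ∈ Z ∧ Commute z w}.ncard ≤ if w = b then 2 else 3 := by
    intro w hw
    split_ifs with h
    · subst h
      have : {z | z ∈ Z ∧ Commute z w} ⊆ dperp (dperp S a) w \ {c} := by
        rintro z ⟨hz, hzw⟩
        exact ⟨⟨hz.1, fun e => hw.2 (e ▸ hz), hzw.symm⟩, fun e => hcW.2 (Set.mem_singleton_iff.1 e ▸ hz)⟩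
      refine (Set.ncard_le_ncard this (Set.toFinite _)).trans ?_
      rw [Set.ncard_sdiff_singleton_of_mem hc, hS.three a ha w hw.1]
    · refine le_trans (Set.ncard_le_ncard ?_ (Set.toFinite _)) (hS.three a ha w hw.1).le
      exact fun z hz => ⟨hz.1.1, fun e => hw.2 (e ▸ hz.1), hz.2.symm⟩
  set Zf := (Set.toFinite Z).toFinset
  set Wf := (Set.toFinite W).toFinset
  have hcount : ∑ z ∈ Zf, (Finset.bipartiteAbove (fun z w : G => Commute z w) Wf z).card =
      ∑ w ∈ Wf, (Finset.bipartiteBelow (fun z w : G => Commute z w) Zf w).card :=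
    Finset.sum_card_bipartiteAbove_eq_sum_card_bipartiteBelow _
  simp only [Finset.bipartiteAbove, Finset.bipartiteBelow] at hcount
  rw [Finset.sum_congr (s₁ := Zf) rfl (fun z hz => (card_filter_set W (fun w => Commute z w)).trans
    (hdeg z ((Set.Finite.mem_toFinset _).1 hz))),
    Finset.sum_const, smul_eq_mul, ← Set.ncard_eq_toFinset_card, hZ6] at hcount
  have hle := Finset.sum_le_sum (s := Wf) (fun w hw =>
    (card_filter_set Z (fun z => Commute z w)).le.trans (hcap w ((Set.Finite.mem_toFinset _).1 hw)))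
  have hsum : ∑ w ∈ Wf, (if w = b then 2 else 3 : ℕ) + ∑ w ∈ Wf, (if w = b then 1 else 0 : ℕ) = 3 * 4 := by
    rw [← Finset.sum_add_distrib, Finset.sum_congr rfl (fun w _ =>
      (by split_ifs <;> rfl : (if w = b then 2 else 3 : ℕ) + (if w = b then 1 else 0) = 3)),
      Finset.sum_const, smul_eq_mul, ← Set.ncard_eq_toFinset_card, hW4]
  rw [Finset.sum_ite_eq', if_pos ((Set.Finite.mem_toFinset _).2 hbW)] at hsum
  have h12 := hcount.le.trans hle
  omega

/-- An involution of a Petersen graph fixes a point. -/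
theorem exists_fixed_petersen {P : Set G} (hne : P.Nonempty) (h3 : ∀ u ∈ P, (dperp P u).ncard = 3)
    (h1 : ∀ u ∈ P, ∀ v ∈ P, ¬ Commute u v → (common P u v).ncard = 1) (t : G) (ht : t * t = 1)
    (hP : ∀ u ∈ P, t * u * t⁻¹ ∈ P)
    (hnc : ∀ a ∈ P, ∀ u ∈ dperp P a, ∀ v ∈ dperp P a, u ≠ v → ¬ Commute u v) :
    ∃ u ∈ P, Commute t u := by
  have hinv : ∀ u, t * (t * u * t⁻¹) * t⁻¹ = u := fun u => by
    rw [inv_eq_of_mul_eq_one_left ht]; exact conj_twice ht
  by_contra hcon
  push Not at hcon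
  have hno : ∀ u ∈ P, t * u * t⁻¹ ≠ u := fun u hu e => hcon u hu (mul_inv_eq_iff_eq_mul.1 e)
  -- a unique common partner would be fixed
  have hcm : ∀ u ∈ P, Commute u (t * u * t⁻¹) := by
    intro u hu
    by_contra hh
    obtain ⟨r, hr⟩ := Set.ncard_eq_one.1 (h1 u hu _ (hP u hu) hh)
    have hrm : r ∈ common P u (t * u * t⁻¹) := by rw [hr]; rfl
    have h1' : Commute (t * r * t⁻¹) u := by
      have := (commute_conj t r (t * u * t⁻¹)).2 hrm.2
      rwa [hinv] at this
    have h2' : Commute (t * r * t⁻¹) (t * u * t⁻¹) := (commute_conj t r u).2 hrm.1.2.2.symm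
    have : t * r * t⁻¹ ∈ common P u (t * u * t⁻¹) :=
      ⟨⟨hP r hrm.1.1, fun e => hh (by rw [e] at h2'; exact h2'), h1'.symm⟩, h2'⟩
    rw [hr] at this
    exact hno r hrm.1.1 this
  obtain ⟨u, hu⟩ := hne
  obtain ⟨p, hp, hpt⟩ := Set.exists_ne_of_one_lt_ncard (s := dperp P u) (by rw [h3 u hu]; norm_num)
    (t * u * t⁻¹)
  set v := t * p * t⁻¹
  have htu : t * u * t⁻¹ ∈ dperp P u := ⟨hP u hu, hno u hu, hcm u hu⟩
  have hne1 : v ≠ u := fun e => hpt (by rw [← e, hinv])
  have hne2 : v ≠ p := hno p hp.1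
  have hnuv : ¬ Commute u v := fun h => hnc p hp.1 u (dperp_symm hu hp) v
    ⟨hP p hp.1, hne2, hcm p hp.1⟩ hne1.symm h
  obtain ⟨r, hr⟩ := Set.ncard_eq_one.1 (h1 u hu v (hP p hp.1) hnuv)
  have m1 : p ∈ common P u v := ⟨hp, hcm p hp.1⟩
  have m2 : t * u * t⁻¹ ∈ common P u v := ⟨htu, (commute_conj t u p).2 hp.2.2⟩
  rw [hr, Set.mem_singleton_iff] at m1 m2
  exact hpt (m1.trans m2.symm)

/-- Moving a fixed member to another one inside the centraliser of `x`. -/
theorem exists_conj_of_mover {D : Set G} (hD : IsThreeTranspositionGroup D) {x d u : G}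
    (hd : d ∈ fixSet D x) (hu : u ∈ fixSet D x)
    (hw : Commute d u → u ≠ d → ∃ w ∈ fixSet D x, ¬ Commute d w ∧ ¬ Commute w u) :
    ∃ g, Commute g x ∧ g * d * g⁻¹ = u := by
  have hT := hD.1
  have hstep : ∀ a ∈ fixSet D x, ∀ v ∈ fixSet D x, ¬ Commute a v →
      ∃ g, Commute g x ∧ g * a * g⁻¹ = v := by
    intro a ha v hv hav
    refine ⟨a * v * a, (ha.2.symm.mul_left hv.2.symm).mul_left ha.2.symm, ?_⟩
    have hbr := braid hT hv.1 ha.1 fun h => hav h.symm
    rw [inv_eq hT (conj_mem hT hD.2.1 ha.1 hv.1)]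
    calc a * v * a * a * (a * v * a) = a * (v * (a * a) * (a * v * a)) := by simp only [mul_assoc]
      _ = a * (v * (v * a * v)) := by rw [mul_self hT ha.1, mul_one, hbr]
      _ = v := by
        simp only [mul_assoc, mul_self_mul hT hv.1]
        rw [mul_self_mul hT ha.1]
  rcases eq_or_ne u d with rfl | hne
  · exact ⟨1, Commute.one_left _, by simp⟩
  by_cases hdu : Commute d u
  swap
  · exact hstep d hd u hu hdu
  obtain ⟨w, hwS, hwd, hwu⟩ := hw hdu hne
  obtain ⟨g₁, k₁, e₁⟩ := hstep d hd w hwS hwd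
  obtain ⟨g₂, k₂, e₂⟩ := hstep w hwS u hu hwu
  exact ⟨g₂ * g₁, k₂.mul_left k₁, by rw [← e₂, ← e₁]; group⟩

end FixedSym

section M23

variable {G : Type u} [Group G] [Finite G] {D : Set G}
  {X : Type u} [Group X] [Finite X] {E : Set X}
  (hD : IsThreeTranspositionGroup D) (hcls : IsThreeTranspositionClass D) (hM : M23Data D)
  (hE : IsThreeTranspositionGroup E) (hclsE : IsThreeTranspositionClass E) (h22 : IsOfTypeM22 X E)
  (hcov : ∀ b ∈ D, Cover23 D E b)

include hD hcls hM hE hclsE h22 hcov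

/-- The layers of the fixed members of an element of order 5 in type M(23). -/
theorem tenLayers23 {x : G} (hx : orderOf x = 5) : FixedSym.TenLayers (fixSet D x) := by
  classical
  have h5 : (5).Prime := by norm_num
  set S := fixSet D x
  have hlay : ∀ a ∈ S, (dperp S a).ncard = 10 ∧
      (∀ u ∈ dperp S a, (dperp (dperp S a) u).ncard = 3 ∧
        ∀ v ∈ dperp (dperp S a) u, ∀ w ∈ dperp (dperp S a) u, v ≠ w → ¬ Commute v w) ∧
      ∀ u ∈ dperp S a, ∀ v ∈ dperp S a, ¬ Commute u v → (FixedSym.common (dperp S a) u v).ncard = 1 := by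
    intro a ha
    obtain ⟨xb, ψ, hxb, hiso, -, -⟩ := layer_prime23 hD hcls hM hE hclsE h22 hcov h5 (by norm_num) hx ha
    obtain ⟨e, he, hxe⟩ := exists_fixed_five hE hclsE h22 hxb
    obtain ⟨h10, -, hone, -, -, -⟩ := five_structure hE hclsE h22 hxb (d := e) ⟨he, hxe⟩
    refine ⟨hiso.ncard_eq.trans h10, fun u hu => ?_, fun u hu v hv huv => ?_⟩
    · have hu' := hiso.bij.mapsTo hu
      have hres := hiso.restrict hu
      refine ⟨hres.ncard_eq.trans (five_layer hE hclsE h22 hxb hu').1, fun v hv w hw hvw hcom => ?_⟩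
      exact layer_five_nc hE hclsE h22 hxb hu' (hres.bij.mapsTo hv) (hres.bij.mapsTo hw)
        (fun h => hvw (hres.bij.injOn hv hw h)) ((hres.comm v hv w hw).2 hcom)
    · rw [show (FixedSym.common (dperp S a) u v).ncard =
        {w | w ∈ dperp (dperp S a) u ∧ Commute w v}.ncard from rfl,
        (hiso.restrict hu).ncard_sep (fun w => Commute w v) (fun k => Commute k (ψ v))
          fun w hw => (hiso.comm w hw.1 v hv).symm]
      exact hone _ (hiso.bij.mapsTo hu) _ (hiso.bij.mapsTo hv) fun h => huv ((hiso.comm u hu v hv).1 h)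
  exact ⟨fun a ha => (hlay a ha).1, fun d hd a ha => ((hlay d hd).2.1 a ha).1,
    fun d hd a ha => ((hlay d hd).2.1 a ha).2, fun d hd => (hlay d hd).2.2,
    fun a ha b hb hab => common_mod23 hD hcls hM hE hclsE h22 hcov h5 hx (by norm_num) ha hb hab⟩

/-- The orders of centraliser and normaliser of an element of order 11 in type M(23). -/
theorem eleven_cards23 {x : G} (hx : orderOf x = 11) :
    (Nat.card ↥(Subgroup.centralizer ({x} : Set G)) = 44 ∨
      Nat.card ↥(Subgroup.centralizer ({x} : Set G)) = 88) ∧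
    Nat.card ↥(Subgroup.normalizer ((Subgroup.zpowers x : Subgroup G) : Set G)) = 440 := by
  classical
  obtain ⟨d, hd, b, hb, hF, h44⟩ := eleven_M23 hD hcls hM hE hclsE h22 hcov hx
  have hdfix : d ∈ fixSet D x := by rw [hF]; simp
  set K := Subgroup.centralizer ({x} : Set G) with hK
  have hK2 : Nat.card K = 44 ∨ Nat.card K = 88 := by
    set O : Set G := {y | ∃ g ∈ K, g * d * g⁻¹ = y}
    have h1 := card_eq_orbit_mul K d O (fun g hg => ⟨g, hg, rfl⟩) (fun y hy => hy)
    rw [h44] at h1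
    have h2 : O ⊆ {d, b} := by
      rintro y ⟨g, hg, rfl⟩
      exact hF ▸ fixSet_conj hD.2.1 (show Commute g x from
        Subgroup.mem_centralizer_singleton_iff.1 hg) hdfix
    have h3 : O.ncard ≤ 2 := (Set.ncard_le_ncard h2 (Set.toFinite _)).trans (Set.ncard_pair hb.2.1.symm).le
    have h4 : 0 < Nat.card K := Nat.card_pos
    generalize O.ncard = m at h1 h3
    interval_cases m <;> omega
  refine ⟨hK2, ?_⟩
  have hGc := card_M23 hD hcls hM hE hclsE h22 hcov hd
  have hG2 : ¬ 11 ^ 2 ∣ Nat.card G := by rw [hGc]; norm_num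
  have hcen : Subgroup.centralizer ((Subgroup.zpowers x : Subgroup G) : Set G) = K := by
    rw [Subgroup.zpowers_eq_closure, Subgroup.centralizer_closure]
  obtain ⟨k, n, hk, hN, hG, hn⟩ := normalizer_prime (by norm_num : (11).Prime)
    (by rw [Nat.card_zpowers, hx]) hG2 (c := Nat.card K) (by rw [hcen])
  rw [hGc] at hG
  have h1 := Nat.le_of_dvd (by norm_num) hk
  rcases hK2 with e | e <;> rw [e] at hG hN <;> interval_cases k <;> omega

end M23

/-- `TenLayers` passes through isomorphisms with the parameter conditions. -/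
theorem tenLayers_of_iso {G K : Type*} [Group G] [Group K] [Finite G] [Finite K] {S : Set G} {T : Set K}
    {ψ : G → K} (h : SetIso S T ψ) (hT : FixedSym.TenLayers T) : FixedSym.TenLayers S := by
  have hm : ∀ {u}, u ∈ S → ψ u ∈ T := fun hu => h.bij.mapsTo hu
  have hcm : ∀ {a u v}, a ∈ S → u ∈ dperp S a → v ∈ dperp S a → ¬ Commute u v →
      ¬ Commute (ψ u) (ψ v) := fun _ hu hv huv hh => huv ((h.comm _ hu.1 _ hv.1).1 hh)
  refine ⟨fun a ha => (h.restrict ha).ncard_eq.trans (hT.ten _ (hm ha)),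
    fun d hd a ha => ((h.restrict hd).restrict ha).ncard_eq.trans
      (hT.three _ (hm hd) _ ((h.restrict hd).bij.mapsTo ha)),
    fun d hd a ha u hu v hv huv hcom => ?_, fun d hd a ha b hb hab => ?_, fun a ha b hb hab => ?_⟩
  · have h' := (h.restrict hd).restrict ha
    exact hT.nc _ (hm hd) _ ((h.restrict hd).bij.mapsTo ha) _ (h'.bij.mapsTo hu) _ (h'.bij.mapsTo hv)
      (fun e => huv (h'.bij.injOn hu hv e)) ((h'.comm u hu v hv).2 hcom)
  · rw [show (FixedSym.common (dperp S d) a b).ncard =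
      {w | w ∈ dperp (dperp S d) a ∧ Commute w b}.ncard from rfl,
      ((h.restrict hd).restrict ha).ncard_sep (fun w => Commute w b) (fun k => Commute k (ψ b))
        fun w hw => (h.comm w hw.1.1 b hb.1).symm]
    exact hT.one _ (hm hd) _ ((h.restrict hd).bij.mapsTo ha) _ ((h.restrict hd).bij.mapsTo hb)
      (hcm hd ha hb hab)
  · rw [show (FixedSym.common S a b).ncard = {w | w ∈ dperp S a ∧ Commute w b}.ncard from rfl,
      (h.restrict ha).ncard_sep (fun w => Commute w b) (fun k => Commute k (ψ b))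
        fun w hw => (h.comm w hw.1 b hb).symm]
    exact hT.mod _ (hm ha) _ (hm hb) fun hh => hab ((h.comm a ha b hb).1 hh)

variable {G : Type u} [Group G] [Finite G] {D : Set G} {X : Type u} [Group X] [Finite X] {E : Set X}
  (hD : IsThreeTranspositionGroup D) (hZ : Subgroup.center G = ⊥) (hB : M24Base D E)

include hD hZ hB

/-- An element of odd prime order seen in the quotient of the centraliser of a fixed member. -/
theorem layer_prime24 {x d : G} {p : ℕ} (hp : p.Prime) (hp2 : p ≠ 2) (hx : orderOf x = p)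
    (hd : d ∈ fixSet D x) :
    ∃ (xb : X) (ψ : G → X), orderOf xb = p ∧ SetIso (dperp (fixSet D x) d) (fixSet E xb) ψ ∧
      Nat.card ↥(Subgroup.centralizer ({x} : Set G) ⊓ Subgroup.centralizer ({d} : Set G)) =
        2 * Nat.card ↥(Subgroup.centralizer ({xb} : Set X)) ∧
      Nat.card ↥(Subgroup.normalizer ((Subgroup.zpowers x : Subgroup G) : Set G) ⊓
          Subgroup.centralizer ({d} : Set G)) =
        2 * Nat.card ↥(Subgroup.normalizer ((Subgroup.zpowers xb : Subgroup X) : Set X)) := by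
  classical
  have hT := hD.1
  have hH2 := card_centralizer24 hD hZ hB hd.1
  have hmaps := (cover24 hD hZ hB hd.1).maps
  set H := Subgroup.centralizer ({d} : Set G)
  obtain ⟨χ, ψ, hχ, hker, hagree, hiso⟩ := hmaps
  set xd : H := ⟨x, Subgroup.mem_centralizer_singleton_iff.2 hd.2.eq⟩
  have := Fact.mk hp
  have hdp : d ^ p = d := by
    obtain ⟨j, hj⟩ := hp.odd_of_ne_two hp2
    rw [hj, pow_succ, pow_mul, sq, mul_self hT hd.1, one_pow, one_mul]
  -- a conjugate of `x` congruent to a power of it is that power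
  have hlift : ∀ (g : H) (n : ℕ), χ (g * xd * g⁻¹) = χ (xd ^ n) → (g : G) * x * (g : G)⁻¹ = x ^ n := by
    intro g n h
    have h0 : χ (g * xd * g⁻¹ * (xd ^ n)⁻¹) = 1 := by rw [map_mul, map_inv, h, mul_inv_cancel]
    rcases (hker _).1 h0 with h1 | h1
    · exact mul_inv_eq_one.1 (by simpa [xd] using h1)
    · exfalso
      have h2 : (g : G) * x * (g : G)⁻¹ = d * x ^ n := mul_inv_eq_iff_eq_mul.1 (by simpa [xd] using h1)
      have h3 := congrArg (· ^ p) h2
      simp only [conj_pow] at h3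
      rw [(hd.2.symm.pow_right n).mul_pow, ← pow_mul x, mul_comm n p, pow_mul x p n, ← hx,
        pow_orderOf_eq_one, hx, one_pow, mul_one, mul_inv_cancel, mul_one, hdp] at h3
      exact ne_one hT hd.1 h3.symm
  have hord : orderOf (χ xd) = p := by
    refine orderOf_eq_prime ?_ fun h => ?_
    · rw [← map_pow, show xd ^ p = 1 from Subtype.ext (by
        rw [SubgroupClass.coe_pow, ← hx]; exact pow_orderOf_eq_one x), map_one]
    · rcases (hker xd).1 h with h | h
      · rw [show x = 1 from h, orderOf_one] at hx; exact hp.one_lt.ne hx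
      · rw [show x = d from h, hT.1 d hd.1] at hx; exact hp2 hx.symm
  -- preimages
  have hcomap : ∀ Q : Subgroup X, Nat.card ↥((Q.comap χ).map H.subtype) = 2 * Nat.card Q := by
    intro Q
    rw [Subgroup.card_map_of_injective H.subtype_injective]
    have h1 := Subgroup.card_mul_index (Q.comap χ)
    have h2 := Subgroup.card_mul_index Q
    rw [Subgroup.index_comap_of_surjective _ hχ, hH2] at h1
    rw [card_layer_group hD hB] at h2
    rw [← h2, ← mul_assoc] at h1
    exact Nat.eq_of_mul_eq_mul_right (Nat.pos_of_ne_zero Subgroup.index_ne_zero_of_finite) h1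
  refine ⟨χ xd, ψ, hord, ⟨⟨?_, hiso.bij.injOn.mono fun u (hu : u ∈ dperp (fixSet D x) d) => (⟨hu.1.1, hu.2⟩ : u ∈ dperp D d), ?_⟩,
    fun u hu v hv => hiso.comm u ⟨hu.1.1, hu.2⟩ v ⟨hv.1.1, hv.2⟩,
    fun u hu v hv => hiso.conj u ⟨hu.1.1, hu.2⟩ v ⟨hv.1.1, hv.2⟩⟩, ?_, ?_⟩
  · intro u hu
    set U : H := ⟨u, Subgroup.mem_centralizer_singleton_iff.2 hu.2.2.symm.eq⟩
    refine ⟨hiso.bij.mapsTo ⟨hu.1.1, hu.2⟩, ?_⟩
    rw [show ψ u = χ U from hagree U ⟨hu.1.1, hu.2⟩]
    exact (show Commute xd U from Subtype.ext hu.1.2.eq).map χ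
  · rintro q ⟨hq, hxq⟩
    obtain ⟨u, hu, rfl⟩ := hiso.bij.surjOn hq
    refine ⟨u, ⟨⟨hu.1, ?_⟩, hu.2⟩, rfl⟩
    set U : H := ⟨u, Subgroup.mem_centralizer_singleton_iff.2 hu.2.2.symm.eq⟩
    rw [show ψ u = χ U from hagree U hu] at hxq
    have h := hlift U 1 (by rw [pow_one, map_mul, map_mul, map_inv, hxq.symm.eq, mul_inv_cancel_right])
    rw [pow_one] at h
    exact (show Commute u x from mul_inv_eq_iff_eq_mul.1 h).symm
  · rw [← hcomap]
    congr 2
    apply le_antisymm
    · rintro g ⟨hg, hgH⟩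
      exact ⟨⟨g, hgH⟩, Subgroup.mem_centralizer_singleton_iff.2
        ((show Commute (⟨g, hgH⟩ : H) xd from Subtype.ext (Subgroup.mem_centralizer_singleton_iff.1 hg)).map χ).eq,
        rfl⟩
    · rintro - ⟨g, hg, rfl⟩
      refine ⟨Subgroup.mem_centralizer_singleton_iff.2 ?_, g.2⟩
      have h := hlift g 1 (by
        rw [pow_one, map_mul, map_mul, map_inv, Subgroup.mem_centralizer_singleton_iff.1 hg,
          mul_inv_cancel_right])
      rw [pow_one] at h
      exact mul_inv_eq_iff_eq_mul.1 h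
  · rw [← hcomap]
    congr 2
    have hnorm : ∀ {Γ : Type u} [Group Γ] [Finite Γ] {g a : Γ},
        g * a * g⁻¹ ∈ Subgroup.zpowers a → g ∈ Subgroup.normalizer ((Subgroup.zpowers a : Subgroup Γ) : Set Γ) := by
      intro Γ _ _ g a h
      have hle : (Subgroup.zpowers a).map (MulAut.conj g).toMonoidHom ≤ Subgroup.zpowers a := by
        rw [MonoidHom.map_zpowers]; exact Subgroup.zpowers_le.2 h
      have heq := Subgroup.eq_of_le_of_card_ge hle
        (by rw [Subgroup.card_map_of_injective (MulAut.conj g).injective])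
      rw [Subgroup.mem_normalizer_iff]
      intro n
      conv_rhs => rw [← heq]
      exact (Subgroup.mem_map_iff_mem (f := (MulAut.conj g).toMonoidHom) (MulAut.conj g).injective).symm
    apply le_antisymm
    · rintro g ⟨hg, hgH⟩
      refine ⟨⟨g, hgH⟩, hnorm ?_, rfl⟩
      obtain ⟨n, hn⟩ := Subgroup.mem_zpowers_iff.1
        ((Subgroup.mem_normalizer_iff.1 hg x).1 (Subgroup.mem_zpowers x))
      refine Subgroup.mem_zpowers_iff.2 ⟨n, ?_⟩
      rw [← map_zpow, ← map_inv, ← map_mul, ← map_mul]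
      congr 1
      exact Subtype.ext (by simpa using hn)
    · rintro - ⟨g, hg, rfl⟩
      refine ⟨hnorm ?_, g.2⟩
      have h1 := (Subgroup.mem_normalizer_iff.1 hg (χ xd)).1 (Subgroup.mem_zpowers _)
      rw [← mem_powers_iff_mem_zpowers, Submonoid.mem_powers_iff] at h1
      obtain ⟨n, hn⟩ := h1
      have h := hlift g n (by rw [map_mul, map_mul, map_inv, map_pow, hn])
      show (g : G) * x * (g : G)⁻¹ ∈ Subgroup.zpowers x
      rw [h]
      exact Subgroup.npow_mem_zpowers x n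

/-- A fixed member, for an order prime to the number of members. -/
theorem exists_fixed24 {x : G} {p : ℕ} (hp : p.Prime) (hx : orderOf x = p) (hn : ¬ p ∣ 306936) :
    ∃ d, d ∈ fixSet D x := by
  obtain ⟨-, ⟨a, ha, -⟩, -⟩ := id hB.cls
  obtain ⟨d, hd, hxd⟩ := exists_fixed_of_pow (fun u hu => hD.2.1 x u hu) hp
    (hx ▸ pow_orderOf_eq_one x) (S := D) (by rw [(counts24 hD hB ha).1]; exact hn)
  exact ⟨d, hd, hxd⟩

omit hZ in
/-- Fixed common partners of two fixed members that do not commute. -/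
theorem common_mod24 {x a b : G} {p : ℕ} (hp : p.Prime) (hx : orderOf x = p)
    (ha : a ∈ fixSet D x) (hb : b ∈ fixSet D x) (hab : ¬ Commute a b) :
    (FixedSym.common (fixSet D x) a b).ncard % p = 3240 % p := by
  have hconj : ∀ v ∈ {v | v ∈ dperp D a ∧ Commute b v}, x * v * x⁻¹ ∈ {v | v ∈ dperp D a ∧ Commute b v} := by
    intro v hv
    refine ⟨?_, ?_⟩
    · have h := dperp_conj hD.2.1 x hv.1
      rwa [ha.2.eq, mul_inv_cancel_right] at h
    · have h := (commute_conj x b v).2 hv.2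
      rwa [hb.2.eq, mul_inv_cancel_right] at h
  have h := ncard_fixed_modEq hconj hp (hx ▸ pow_orderOf_eq_one x)
  rwa [(counts24 hD hB ha.1).2 b hb.1 hab,
    show {v | v ∈ {v | v ∈ dperp D a ∧ Commute b v} ∧ Commute x v} = FixedSym.common (fixSet D x) a b from
      Set.ext fun v => ⟨fun h => ⟨⟨⟨h.1.1.1, h.2⟩, h.1.1.2⟩, h.1.2.symm⟩,
        fun h => ⟨⟨⟨h.1.1.1, h.1.2⟩, h.2.symm⟩, h.1.1.2⟩⟩] at h

omit hZ in
/-- A member of the layer of `a` can be moved to any other by elements fixing `a`. -/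
theorem exists_commute_conj_dperp24 {a b b' : G} (ha : a ∈ D) (hb : b ∈ dperp D a) (hb' : b' ∈ dperp D a) :
    ∃ g : G, Commute g a ∧ g * b * g⁻¹ = b' :=
  exists_commute_conj_dperp hB.sol hB.perf hB.cls ha hb hb'

/-- An element of order 11: three pairwise commuting fixed members. -/
theorem eleven24 {x : G} (hx : orderOf x = 11) :
    (fixSet D x).ncard = 3 ∧ (∀ u ∈ fixSet D x, ∀ v ∈ fixSet D x, Commute u v) ∧
      ∀ d ∈ fixSet D x, ¬ 5 ∣ Nat.card ↥(Subgroup.centralizer ({x} : Set G) ⊓ Subgroup.centralizer ({d} : Set G)) ∧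
        Nat.card ↥(Subgroup.normalizer ((Subgroup.zpowers x : Subgroup G) : Set G) ⊓
          Subgroup.centralizer ({d} : Set G)) = 880 := by
  classical
  have h11 : (11).Prime := by norm_num
  have hp := prim_M23 hB.group hB.m23
  have hM := m23Data hB.group hp hB.m23
  obtain ⟨X₀, _, _, E₀, hE₀, hcls₀, h22, hcov⟩ := exists_cover23 hB.group hp hB.m23
  have hclsE := class_of_primitive hB.group hp
  set S := fixSet D x
  have hlay : ∀ a ∈ S, (dperp S a).ncard = 2 ∧ (∀ u ∈ dperp S a, ∀ v ∈ dperp S a, Commute u v) ∧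
      ¬ 5 ∣ Nat.card ↥(Subgroup.centralizer ({x} : Set G) ⊓ Subgroup.centralizer ({a} : Set G)) ∧
      Nat.card ↥(Subgroup.normalizer ((Subgroup.zpowers x : Subgroup G) : Set G) ⊓
        Subgroup.centralizer ({a} : Set G)) = 880 := by
    intro a ha
    obtain ⟨xb, ψ, hxb, hiso, hc, hn⟩ := layer_prime24 hD hZ hB h11 (by norm_num) hx ha
    obtain ⟨e, he, f, hf, hfix, -⟩ := eleven_M23 hB.group hclsE hM hE₀ hcls₀ h22 hcov hxb
    obtain ⟨hK, hN⟩ := eleven_cards23 hB.group hclsE hM hE₀ hcls₀ h22 hcov hxb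
    refine ⟨by rw [hiso.ncard_eq, hfix, Set.ncard_pair hf.2.1.symm], fun u hu v hv => ?_, ?_, by rw [hn, hN]⟩
    · refine (hiso.comm u hu v hv).1 ?_
      have m1 := hiso.bij.mapsTo hu
      have m2 := hiso.bij.mapsTo hv
      rw [hfix] at m1 m2
      rcases m1 with e1 | e1 <;> rcases m2 with e2 | e2 <;> rw [e1, e2]
      all_goals first | exact Commute.refl _ | exact hf.2.2 | exact hf.2.2.symm
    · rw [hc]
      rcases hK with h | h <;> rw [h] <;> norm_num
  have hall : ∀ u ∈ S, ∀ v ∈ S, Commute u v := by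
    intro u hu v hv
    by_contra huv
    have h := common_mod24 hD hB h11 hx hu hv huv
    have hle : (FixedSym.common S u v).ncard ≤ 2 :=
      (Set.ncard_le_ncard (fun w hw => hw.1) (Set.toFinite _)).trans (hlay u hu).1.le
    change (FixedSym.common S u v).ncard % 11 = 3240 % 11 at h
    omega
  obtain ⟨d, hd⟩ : ∃ d, d ∈ S := exists_fixed24 hD hZ hB h11 hx (by norm_num)
  refine ⟨?_, hall, fun a ha => (hlay a ha).2.2⟩
  rw [show S = insert d (dperp S d) from Set.Subset.antisymm (fun u hu => by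
      rcases eq_or_ne u d with rfl | hne
      · exact Set.mem_insert _ _
      · exact Set.mem_insert_of_mem _ ⟨hu, hne, hall d hd u hu⟩)
      (Set.insert_subset hd fun u hu => hu.1),
    Set.ncard_insert_of_notMem (fun h => h.2.1 rfl) (Set.toFinite _), (hlay d hd).1]

/-- Of three members fixed by an element of order 11, two are exchanged by its normaliser fixing the
third. -/
theorem exists_move_eleven {x d b c : G} (hx : orderOf x = 11) (hd : d ∈ fixSet D x)
    (hb : b ∈ fixSet D x) (hc : c ∈ fixSet D x) (hbd : b ∈ dperp D d) (hcd : c ∈ dperp D d) :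
    ∃ g ∈ Subgroup.normalizer ((Subgroup.zpowers x : Subgroup G) : Set G),
      g * d * g⁻¹ = d ∧ g * b * g⁻¹ = c := by
  obtain ⟨g, hgd, hgb⟩ := exists_commute_conj_dperp24 hD hB hd.1 hbd hcd
  set P := Subgroup.centralizer ({d} : Set G) ⊓ Subgroup.centralizer ({c} : Set G)
  have hxP : x ∈ P := ⟨Subgroup.mem_centralizer_singleton_iff.2 hd.2.eq,
    Subgroup.mem_centralizer_singleton_iff.2 hc.2.eq⟩
  have hgd' : g * d * g⁻¹ = d := by rw [hgd.eq, mul_inv_cancel_right]
  have hgP : g * x * g⁻¹ ∈ P := by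
    refine ⟨Subgroup.mem_centralizer_singleton_iff.2 ?_, Subgroup.mem_centralizer_singleton_iff.2 ?_⟩
    · rw [← hgd']; exact ((commute_conj g x d).2 hd.2).eq
    · rw [← hgb]; exact ((commute_conj g x b).2 hb.2).eq
  have hP2 : ¬ 11 ^ 2 ∣ Nat.card P := fun h => by
    have := h.trans P.card_subgroup_dvd_card
    rw [card_M24 hD hZ hB] at this
    norm_num at this
  have hZc : ∀ {u : G} (hu : u ∈ P), orderOf u = 11 → Nat.card ↥(Subgroup.zpowers (⟨u, hu⟩ : P)) = 11 :=
    fun hu h => by rw [Nat.card_zpowers, Subgroup.orderOf_mk, h]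
  have hox : orderOf (g * x * g⁻¹) = 11 := by
    rw [show g * x * g⁻¹ = MulAut.conj g x from rfl, MulEquiv.orderOf_eq, hx]
  obtain ⟨h, hh⟩ := exists_conj_of_card (by norm_num : (11).Prime) hP2 (hZc hgP hox) (hZc hxP hx)
  have hh1 : Commute (h : G) d := Subgroup.mem_centralizer_singleton_iff.1 h.2.1
  have hh2 : Commute (h : G) c := Subgroup.mem_centralizer_singleton_iff.1 h.2.2
  refine ⟨(h : G) * g, mem_normalizer_of_le ?_, ?_, ?_⟩
  · rw [MonoidHom.map_zpowers, Subgroup.zpowers_le,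
      show (MulAut.conj ((h : G) * g)).toMonoidHom x = (h : G) * (g * x * g⁻¹) * (h : G)⁻¹ by simp [mul_assoc]]
    have h1 : h * ⟨g * x * g⁻¹, hgP⟩ * h⁻¹ ∈ Subgroup.zpowers (⟨x, hxP⟩ : P) :=
      hh ▸ ⟨_, Subgroup.mem_zpowers _, rfl⟩
    obtain ⟨k, hk⟩ := Subgroup.mem_zpowers_iff.1 h1
    exact Subgroup.mem_zpowers_iff.2 ⟨k, by simpa using congrArg Subtype.val hk⟩
  · calc (h : G) * g * d * ((h : G) * g)⁻¹ = (h : G) * (g * d * g⁻¹) * (h : G)⁻¹ := by group
      _ = d := by rw [hgd', hh1.eq, mul_inv_cancel_right]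
  · calc (h : G) * g * b * ((h : G) * g)⁻¹ = (h : G) * (g * b * g⁻¹) * (h : G)⁻¹ := by group
      _ = c := by rw [hgb, hh2.eq, mul_inv_cancel_right]

/-- An element of order 5: thirty-six fixed members. -/
theorem five_structure24 {x : G} (hx : orderOf x = 5) :
    ∃ φ : Equiv.Perm (Fin 9) →* G, Function.Injective φ ∧
      φ.range = Subgroup.closure (fixSet D x) ∧
      Nat.card ↥(Subgroup.centralizer ({x} : Set G)) = 5 * Nat.factorial 9 ∧
      Nat.card ↥(Subgroup.normalizer ((Subgroup.zpowers x : Subgroup G) : Set G)) =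
        5 * 4 * Nat.factorial 9 ∧ (fixSet D x).ncard = 36 := by
  classical
  have hT := hD.1
  have hc' := hD.2.1
  have h5 : (5).Prime := by norm_num
  have hp := prim_M23 hB.group hB.m23
  have hM := m23Data hB.group hp hB.m23
  obtain ⟨X₀, _, _, E₀, hE₀, hcls₀, h22, hcov⟩ := exists_cover23 hB.group hp hB.m23
  have hclsE := class_of_primitive hB.group hp
  set S := fixSet D x
  have hlay : ∀ a ∈ S, (dperp S a).ncard = 21 ∧ FixedSym.TenLayers (dperp S a) ∧
      Nat.card ↥(Subgroup.centralizer ({x} : Set G) ⊓ Subgroup.centralizer ({a} : Set G)) = 50400 ∧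
      Nat.card ↥(Subgroup.normalizer ((Subgroup.zpowers x : Subgroup G) : Set G) ⊓
        Subgroup.centralizer ({a} : Set G)) = 201600 := by
    intro a ha
    obtain ⟨xb, ψ, hxb, hiso, hc, hn⟩ := layer_prime24 hD hZ hB h5 (by norm_num) hx ha
    obtain ⟨-, -, -, hK, hN, h21⟩ := five_structure23 hB.group hclsE hM hE₀ hcls₀ h22 hcov hxb
    have hTL := tenLayers23 hB.group hclsE hM hE₀ hcls₀ h22 hcov hxb
    refine ⟨hiso.ncard_eq.trans h21, tenLayers_of_iso hiso hTL, ?_, ?_⟩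
    · rw [hc, hK]; rfl
    · rw [hn, hN]; rfl
  -- a Petersen graph in the layer of every commuting pair
  have hfix : ∀ a ∈ S, ∀ b ∈ S, ¬ Commute a b → (FixedSym.common S a b).Nonempty := by
    intro a ha b hb hab
    obtain ⟨v, hv⟩ := Set.nonempty_of_ncard_ne_zero (s := dperp S a) (by rw [(hlay a ha).1]; norm_num)
    by_cases hvb : Commute v b
    · exact ⟨v, hv, hvb⟩
    have hvD : v ∈ dperp D a := ⟨hv.1.1, hv.2⟩
    have hba : ¬ Commute b a := fun h => hab h.symm
    have hbv : ¬ Commute b v := fun h => hvb h.symm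
    set t := b * v * b * (b * a * b)
    have hva := twist_left hT ha.1 hv.1.1 hb.1 hba hbv
    have hav := twist_right hT ha.1 hv.1.1 hb.1 hv.2.2 hba hbv
    have htt : t * t = 1 := by
      have htz : t = b * (v * a) * b := by simp only [t, mul_assoc, mul_self_mul hT hb.1]
      rw [htz]
      simp only [mul_assoc, mul_self_mul hT hb.1]
      rw [← mul_assoc a v, hv.2.2.eq, mul_assoc v a, mul_self_mul hT hv.1.1, mul_self_mul hT ha.1,
        mul_self hT hb.1]
    have htx : Commute t x :=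
      ((hb.2.symm.mul_left hv.1.2.symm).mul_left hb.2.symm).mul_left
        ((hb.2.symm.mul_left ha.2.symm).mul_left hb.2.symm)
    have hta : t * a * t⁻¹ = v := (twist_eq hT ha.1 hv.1.1 hb.1 a).symm.trans hva
    have htv : t * v * t⁻¹ = a := (twist_eq hT ha.1 hv.1.1 hb.1 v).symm.trans hav
    set P := dperp (dperp S a) v
    have hTL := (hlay a ha).2.1
    obtain ⟨u, hu, htu⟩ := FixedSym.exists_fixed_petersen (P := P)
      (Set.nonempty_of_ncard_ne_zero (by rw [hTL.ten v hv]; norm_num))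
      (hTL.three v hv) (hTL.one v hv) t htt (fun u hu => by
        have h1 := fixSet_conj hc' htx hu.1.1
        refine ⟨⟨h1, fun e => hu.2.1 ?_, ?_⟩, fun e => hu.1.2.1 ?_, ?_⟩
        · rw [← htv] at e; exact mul_left_cancel (mul_right_cancel e)
        · rw [← htv]; exact (commute_conj t v u).2 hu.2.2
        · rw [← hta] at e; exact mul_left_cancel (mul_right_cancel e)
        · rw [← hta]; exact (commute_conj t a u).2 hu.1.2.2) (hTL.nc v hv)
    refine ⟨u, hu.1, ((twist_eq_self hD ha.1 hvD hb.1 hba hbv hu.1.1.1 hu.1.2.2.symm hu.2.2.symm).1 ?_).symm⟩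
    show twist a v b u = u
    rw [twist_eq hT ha.1 hv.1.1 hb.1, htu.eq, mul_inv_cancel_right]
  have h15 : ∀ a ∈ S, ∀ b ∈ S, ¬ Commute a b → (FixedSym.common S a b).ncard = 15 := by
    intro a ha b hb hab
    set W := FixedSym.common S a b with hW
    have hmod : W.ncard % 5 = 0 := common_mod24 hD hB h5 hx ha hb hab
    have hWsub : W ⊆ dperp S a := fun v hv => hv.1
    have h6 : ∀ w ∈ W, (dperp W w).ncard = 6 ∧
        ∀ y ∈ dperp W w, (dperp (dperp W w) y).ncard = 1 := by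
      intro w hw
      have haw : a ∈ dperp S w := dperp_symm ha hw.1
      have hbw : b ∈ dperp S w := ⟨hb, fun e => hab (e ▸ hw.1.2.2), hw.2⟩
      have hTL := (hlay w hw.1.1).2.1
      have e : dperp W w = FixedSym.common (dperp S w) a b := by
        ext v
        exact ⟨fun h => ⟨⟨⟨h.1.1.1, h.2⟩, h.1.1.2⟩, h.1.2⟩,
          fun h => ⟨⟨⟨h.1.1.1, h.1.2⟩, h.2⟩, h.1.1.2⟩⟩
      refine ⟨e ▸ FixedSym.common_six hTL haw hbw hab, fun y hy => ?_⟩
      have hy' : y ∈ dperp S w := ⟨hy.1.1.1, hy.2⟩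
      have hay : a ∈ dperp (dperp S w) y := ⟨haw, fun e => hy.1.1.2.1 e.symm, hy.1.1.2.2.symm⟩
      have hby : b ∈ dperp (dperp S w) y := ⟨hbw, fun e => hab (e ▸ hy.1.1.2.2), hy.1.2⟩
      rw [← hTL.one y hy' a hay b hby hab]
      congr 1
      ext v
      exact ⟨fun h => ⟨⟨⟨⟨h.1.1.1.1, h.1.2⟩, h.2⟩, h.1.1.1.2⟩, h.1.1.2⟩,
        fun h => ⟨⟨⟨⟨h.1.1.1.1, h.1.2⟩, h.2⟩, h.1.1.1.2⟩, h.1.1.2⟩⟩
    obtain ⟨w, hw⟩ := hfix a ha b hb hab
    change w ∈ W at hw
    have hle : W.ncard ≤ 21 := (hlay a ha).1 ▸ Set.ncard_le_ncard hWsub (Set.toFinite _)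
    have h7 : 7 ≤ W.ncard := by
      have := Set.ncard_le_ncard (show insert w (dperp W w) ⊆ W from Set.insert_subset hw fun v hv => hv.1)
        (Set.toFinite _)
      rw [Set.ncard_insert_of_notMem (fun h => h.2.1 rfl) (Set.toFinite _), (h6 w hw).1] at this
      exact this
    have hne20 : W.ncard ≠ 20 := by
      intro h20
      have hsub : {v | v ∈ dperp (dperp S a) w ∧ v ∉ W} ⊆ dperp S a \ W := fun v hv => ⟨hv.1.1, hv.2⟩
      have h1 := Set.ncard_le_ncard hsub (Set.toFinite _)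
      rw [Set.ncard_sdiff hWsub (Set.toFinite _), (hlay a ha).1, h20] at h1
      have h2 : dperp W w ⊆ dperp (dperp S a) w := fun v hv => ⟨hv.1.1, hv.2⟩
      have h3 : {v | v ∈ dperp (dperp S a) w ∧ v ∉ W} = dperp (dperp S a) w \ dperp W w :=
        Set.ext fun v => ⟨fun h => ⟨h.1, fun h' => h.2 h'.1⟩, fun h => ⟨h.1, fun h' => h.2 ⟨h', h.1.2⟩⟩⟩
      rw [h3, Set.ncard_sdiff h2 (Set.toFinite _), (h6 w hw).1, (hlay a ha).2.1.ten w hw.1] at h1
      omega
    have hne10 : W.ncard ≠ 10 := by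
      intro h10
      obtain ⟨y, hy⟩ := Set.nonempty_of_ncard_ne_zero (s := dperp W w) (by rw [(h6 w hw).1]; norm_num)
      have hsub : dperp W y ⊆ insert w (dperp (dperp W w) y) ∪ (W \ insert w (dperp W w)) := by
        intro v hv
        by_cases hvw : Commute w v
        · refine Or.inl ?_
          rcases eq_or_ne v w with rfl | hne
          · exact Set.mem_insert _ _
          · exact Set.mem_insert_of_mem _ ⟨⟨hv.1, hne, hvw⟩, hv.2⟩
        · refine Or.inr ⟨hv.1, ?_⟩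
          rintro (rfl | h)
          · exact hvw (Commute.refl _)
          · exact hvw h.2.2
      have h1 := (Set.ncard_le_ncard hsub (Set.toFinite _)).trans (Set.ncard_union_le _ _)
      rw [(h6 y hy.1).1, Set.ncard_sdiff (Set.insert_subset hw fun v hv => hv.1) (Set.toFinite _), h10,
        Set.ncard_insert_of_notMem (show w ∉ dperp W w from fun h => h.2.1 rfl) (Set.toFinite _),
        (h6 w hw).1] at h1
      have h2 := Set.ncard_insert_le w (dperp (dperp W w) y)
      rw [(h6 w hw).2 y hy] at h2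
      omega
    omega
  obtain ⟨d, hd⟩ : ∃ d, d ∈ S := exists_fixed24 hD hZ hB h5 hx (by norm_num)
  have hother : ∀ a ∈ S, ∀ u ∈ dperp S a, {v | (v ∈ S ∧ ¬ Commute a v) ∧ Commute u v}.ncard = 10 := by
    intro a ha u hu
    have := FixedSym.ncard_other_side ha hu (hlay u hu.1).1 ((hlay a ha).2.1.ten u hu)
    omega
  have h36 : ∀ a ∈ S, S.ncard = 36 ∧ {v | v ∈ S ∧ ¬ Commute a v}.ncard = 14 := by
    intro a ha
    obtain ⟨N, hN, hN2⟩ := FixedSym.ncard_of_regular ha (z := 15) (by norm_num) (hlay a ha).1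
      (fun u hu => hother a ha u hu) (fun u hu hau => h15 a ha u hu hau)
    have := ncard_nonpartners (D := S) ha
    rw [(hlay a ha).1] at this
    omega
  -- a path of eight
  obtain ⟨e₀, he₀⟩ := Set.nonempty_of_ncard_ne_zero (s := dperp S d) (by rw [(hlay d hd).1]; norm_num)
  obtain ⟨-, s₁, s₂, s₃, s₄, s₅, h₁, h₂, h₃, h₄, h₅, n12, n23, n34, n45, n56, c13, c14, c15, c24, c25,
    c35⟩ := FixedSym.twentyone_points (hlay d hd).2.1 he₀
  have c16 : Commute s₁ e₀ := h₁.2.2.symm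
  have c26 : Commute s₂ e₀ := h₂.2.2.symm
  have c36 : Commute s₃ e₀ := h₃.2.2.symm
  have c46 : Commute s₄ e₀ := h₄.2.2.symm
  have hs₁ : s₁ ∈ dperp S d := h₁.1
  have hs₂ : s₂ ∈ dperp S d := h₂.1
  have hs₃ : s₃ ∈ dperp S d := h₃.1
  have hs₄ : s₄ ∈ dperp S d := h₄.1
  have hdS : ∀ {s}, s ∈ dperp S d → Commute s d := fun hs => hs.2.2.symm
  -- the last member
  have hd₁ : d ∈ dperp S s₁ := dperp_symm hd hs₁
  have hne13 : s₃ ≠ s₁ := fun e => n34 (e.symm ▸ c14)
  have hne15 : s₅ ≠ s₁ := fun e => n45 (e.symm ▸ c14.symm)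
  have hne35 : s₅ ≠ s₃ := fun e => n23 (e ▸ c25)
  have hne16 : e₀ ≠ s₁ := h₁.2.1.symm
  have hne36 : e₀ ≠ s₃ := h₃.2.1.symm
  have hs₃₁ : s₃ ∈ dperp S s₁ := ⟨hs₃.1, hne13, c13⟩
  have hs₅₁₃ : s₅ ∈ dperp (dperp S s₁) s₃ := ⟨⟨h₅.1, hne15, c15⟩, hne35, c35⟩
  have hd₁₃ : d ∈ dperp (dperp S s₁) s₃ := ⟨hd₁, hs₃.2.1.symm, hs₃.2.2.symm⟩
  have he₁₃ : e₀ ∈ dperp (dperp S s₁) s₃ := ⟨⟨he₀.1, hne16, c16⟩, hne36, c36⟩
  have hTL1 := (hlay s₁ hs₁.1).2.1
  have hd₁₃₅ : d ∈ dperp (dperp (dperp S s₁) s₃) s₅ := ⟨hd₁₃, h₅.2.1.symm, hdS h₅⟩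
  obtain ⟨w, hw, hwd⟩ := Set.exists_ne_of_one_lt_ncard (s := dperp (dperp (dperp S s₁) s₃) s₅)
    (by rw [hTL1.three s₃ hs₃₁ s₅ hs₅₁₃]; norm_num) d
  have nwd : ¬ Commute w d := hTL1.nc s₃ hs₃₁ s₅ hs₅₁₃ w hw d hd₁₃₅ hwd
  have c1w : Commute s₁ w := hw.1.1.2.2
  have c3w : Commute s₃ w := hw.1.2.2
  have c5w : Commute s₅ w := hw.2.2
  have n6w : ¬ Commute e₀ w := by
    intro h
    have hone := hTL1.one s₃ hs₃₁ w hw.1 d hd₁₃ nwd
    have m5 : s₅ ∈ FixedSym.common (dperp (dperp S s₁) s₃) w d :=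
      ⟨⟨hs₅₁₃, hw.2.1.symm, c5w.symm⟩, hdS h₅⟩
    have m6 : e₀ ∈ FixedSym.common (dperp (dperp S s₁) s₃) w d :=
      ⟨⟨he₁₃, fun e => nwd (e ▸ hdS he₀), h.symm⟩, hdS he₀⟩
    exact n56 ((FixedSym.common_unique hone m5 m6) ▸ Commute.refl e₀)
  have c4w : Commute s₄ w := by
    by_contra h
    refine FixedSym.no_hub hTL1 (a := s₃) hs₃₁ (b := s₅) hs₅₁₃ (c := w) hw (v := s₄)
      ⟨hs₄.1, fun e => n12 (e ▸ c24).symm, c14⟩ (fun h' => n34 h'.symm) n45 h
  have c2w : Commute s₂ w := by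
    by_contra h
    have hTL5 := (hlay s₅ h₅.1).2.1
    refine FixedSym.no_hub hTL5 (a := s₁) ⟨hs₁.1, hne15.symm, c15.symm⟩ (b := s₃)
      ⟨⟨hs₃.1, hne35.symm, c35.symm⟩, hne13, c13⟩ (c := w)
      ⟨⟨⟨hw.1.1.1, hw.2.1, c5w⟩, hw.1.1.2.1, c1w⟩, hw.1.2.1, c3w⟩ (v := s₂)
      ⟨hs₂.1, fun e => n23 (e ▸ c35.symm), c25.symm⟩ (fun h' => n12 h'.symm) n23 h
  set f : Fin 8 → G := ![s₁, s₂, s₃, s₄, s₅, e₀, w, d]
  have hf : ∀ i, f i ∈ S := by
    intro i; fin_cases i
    exacts [hs₁.1, hs₂.1, hs₃.1, hs₄.1, h₅.1, he₀.1, hw.1.1.1, hd]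
  obtain ⟨φ, hφ, hrange⟩ := FixedSym.exists_hom hT f (fun i => (hf i).1) (by
      intro i j h
      fin_cases i <;> fin_cases j <;> simp only [Fin.isValue] at h <;>
        first | exact n12 | exact n23 | exact n34 | exact n45 | exact n56 | exact n6w | exact nwd | omega)
    (by
      intro i j h
      fin_cases i <;> fin_cases j <;> simp only [Fin.isValue] at h <;>
        first | exact c13 | exact c14 | exact c15 | exact c16 | exact c1w | exact hdS hs₁ | exact c24 | exact c25 | exact c26 | exact c2w | exact hdS hs₂ | exact c35 | exact c36 | exact c3w | exact hdS hs₃ | exact c46 | exact c4w | exact hdS hs₄ | exact c5w | exact hdS h₅ | exact hdS he₀ | omega)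
  have hinj := FixedSym.hom_injective (by norm_num) φ f hφ (fun h => hne13 (by
    change s₁ * s₃ = 1 at h
    rw [mul_eq_one_iff_eq_inv, inv_eq hT hs₃.1.1] at h
    exact h.symm))
  have hr := FixedSym.closure_eq_range (S := S) (fun v hv w hw => fixSet_conj hc' hv.2.symm hw) φ hinj f
    hφ hrange hf (by norm_num) (m := 36) (by decide) (h36 d hd).1.le
  set K := Subgroup.centralizer ({x} : Set G)
  set N := Subgroup.normalizer ((Subgroup.zpowers x : Subgroup G) : Set G)
  have htrans : ∀ v ∈ S, ∃ g, Commute g x ∧ g * d * g⁻¹ = v := fun v hv =>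
    FixedSym.exists_conj_of_mover hD hd hv fun hdv hne => by
      by_contra hcon
      push Not at hcon
      have h1 := Set.ncard_le_ncard (show {u | u ∈ S ∧ ¬ Commute d u} ⊆
          {u | (u ∈ S ∧ ¬ Commute d u) ∧ Commute v u} from fun u hu => ⟨hu, (hcon u hu.1 hu.2).symm⟩)
        (Set.toFinite _)
      rw [(h36 d hd).2, hother d hd v ⟨hv, hne, hdv⟩] at h1
      omega
  have hKN : K ≤ N := by
    have := Subgroup.centralizer_le_normalizer ((Subgroup.zpowers x : Subgroup G) : Set G)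
    rwa [Subgroup.zpowers_eq_closure, Subgroup.centralizer_closure, ← Subgroup.zpowers_eq_closure] at this
  refine ⟨φ, hinj, hr, ?_, ?_, (h36 d hd).1⟩
  · rw [card_eq_orbit_mul K d S
      (fun g hg => fixSet_conj hc' (show Commute g x from Subgroup.mem_centralizer_singleton_iff.1 hg) hd)
      (fun v hv => (htrans v hv).imp fun g hg => ⟨Subgroup.mem_centralizer_singleton_iff.2 hg.1.eq, hg.2⟩),
      (h36 d hd).1, (hlay d hd).2.2.1]
    rfl
  · rw [card_eq_orbit_mul N d S (fun g hg => fixSet_normalizer hc' hg hd)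
      (fun v hv => (htrans v hv).imp fun g hg =>
        ⟨hKN (Subgroup.mem_centralizer_singleton_iff.2 hg.1.eq), hg.2⟩),
      (h36 d hd).1, (hlay d hd).2.2.2]
    rfl

/-- Subgroups of order 5 are conjugate. -/
theorem exists_conj_five24 {Y₁ Y₂ : Subgroup G} (h₁ : Nat.card Y₁ = 5) (h₂ : Nat.card Y₂ = 5) :
    ∃ g : G, Y₁.map (MulAut.conj g).toMonoidHom = Y₂ := by
  classical
  have hT := hD.1
  have h5 : (5).Prime := by norm_num
  have := Fact.mk h5
  obtain ⟨x, hx, rfl, -⟩ := exists_gen h5 h₁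
  obtain ⟨y, hy, rfl, -⟩ := exists_gen h5 h₂
  obtain ⟨d, hd, hxd⟩ := exists_fixed24 hD hZ hB h5 hx (by norm_num)
  obtain ⟨e, he, hye⟩ := exists_fixed24 hD hZ hB h5 hy (by norm_num)
  obtain ⟨k, hk⟩ := class_isConj hB.cls hd he
  have hp := prim_M23 hB.group hB.m23
  obtain ⟨X₀, _, _, E₀, hE₀, hcls₀, h22, hcov⟩ := exists_cover23 hB.group hp hB.m23
  have hkx : orderOf (k * x * k⁻¹) = 5 := by
    rw [show k * x * k⁻¹ = MulAut.conj k x from rfl, MulEquiv.orderOf_eq, hx]
  have hmaps := (cover24 hD hZ hB he).maps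
  set H := Subgroup.centralizer ({e} : Set G)
  obtain ⟨χ, ψ, hχ, hker, -, -⟩ := hmaps
  set xe : H := ⟨k * x * k⁻¹, Subgroup.mem_centralizer_singleton_iff.2 (by
    rw [← hk]; exact ((commute_conj k x d).2 hxd).eq)⟩
  set ye : H := ⟨y, Subgroup.mem_centralizer_singleton_iff.2 hye.eq⟩
  have hord : ∀ w : H, orderOf (w : G) = 5 → orderOf (χ w) = 5 := by
    intro w hw
    refine orderOf_eq_prime ?_ fun h => ?_
    · rw [← map_pow, show w ^ 5 = 1 from Subtype.ext (by
        rw [SubgroupClass.coe_pow, ← hw]; exact pow_orderOf_eq_one (w : G)), map_one]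
    · rcases (hker w).1 h with h | h
      · rw [h, orderOf_one] at hw; omega
      · rw [h, hT.1 e he] at hw; omega
  obtain ⟨q, hq⟩ := exists_conj_five23 hB.group (class_of_primitive hB.group hp) (m23Data hB.group hp hB.m23) hE₀ hcls₀ h22 hcov (Y₁ := Subgroup.zpowers (χ xe)) (Y₂ := Subgroup.zpowers (χ ye))
    (by rw [Nat.card_zpowers, hord xe hkx]) (by rw [Nat.card_zpowers, hord ye hy])
  obtain ⟨h, rfl⟩ := hχ q
  have h1 : χ (h * xe * h⁻¹) ∈ Subgroup.zpowers (χ ye) := by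
    rw [← hq, map_mul, map_mul, map_inv]
    exact ⟨_, Subgroup.mem_zpowers _, rfl⟩
  rw [← mem_powers_iff_mem_zpowers, Submonoid.mem_powers_iff] at h1
  obtain ⟨n, hn⟩ := h1
  have h2 : (h : G) * (k * x * k⁻¹) * (h : G)⁻¹ = y ^ n := by
    have h0 : χ (h * xe * h⁻¹ * (ye ^ n)⁻¹) = 1 := by rw [map_mul, map_inv, map_pow, hn, mul_inv_cancel]
    rcases (hker _).1 h0 with h1 | h1
    · exact mul_inv_eq_one.1 (by simpa [xe, ye] using h1)
    · exfalso
      have h2 : (h : G) * (k * x * k⁻¹) * (h : G)⁻¹ = e * y ^ n :=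
        mul_inv_eq_iff_eq_mul.1 (by simpa [xe, ye] using h1)
      have h3 := congrArg (· ^ 5) h2
      simp only [conj_pow] at h3
      rw [(hye.symm.pow_right n).mul_pow, ← pow_mul y, mul_comm n 5, pow_mul y 5 n, ← hy,
        pow_orderOf_eq_one, hy, one_pow, mul_one, ← hx, pow_orderOf_eq_one] at h3
      rw [hx] at h3
      simp only [pow_succ, pow_zero, one_mul, mul_one, mul_inv_cancel, mul_assoc, mul_self_mul hT he] at h3
      exact ne_one hT he h3.symm
  refine ⟨(h : G) * k, Subgroup.eq_of_le_of_card_ge ?_ ?_⟩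
  · rw [MonoidHom.map_zpowers, Subgroup.zpowers_le, show (MulAut.conj ((h : G) * k)).toMonoidHom x =
      (h : G) * (k * x * k⁻¹) * (h : G)⁻¹ by simp [mul_assoc], h2]
    exact Subgroup.npow_mem_zpowers y n
  · rw [Subgroup.card_map_of_injective (MulAut.conj ((h : G) * k)).injective, Nat.card_zpowers,
      Nat.card_zpowers, hx, hy]

end Cfsg.Agent.ThreeTrans
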