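import Cfsg.Agent.ThreeTrans.TripleAut24
import Cfsg.Agent.Fi22Out.Main
import Cfsg.Agent.CosetCert.Fi22Order.Main

/-!
# Type M(24): the centraliser in the derived group of a product of two commuting members
-/

set_option autoImplicit false

open Cfsg
open scoped commutatorElement Pointwise

universe u

namespace Cfsg.Agent.ThreeTrans

/-- The automorphism group of the presented Fi22 has twice the order of the group. -/
theorem card_mulAut_fi22 : Nat.card (MulAut Cfsg.Spor.Fi22) = 2 * Nat.card Cfsg.Spor.Fi22 := by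
  obtain ⟨hs, hcard⟩ := Cfsg.Agent.CosetCert.Fi22Order.order_and_simple
  have hcen : Subgroup.center Cfsg.Spor.Fi22 = ⊥ := by
    rcases hs.eq_bot_or_eq_top_of_normal (Subgroup.center Cfsg.Spor.Fi22) inferInstance with h | h
    · exact h
    · exfalso
      letI : CommGroup Cfsg.Spor.Fi22 :=
        { (inferInstance : Group Cfsg.Spor.Fi22) with
          mul_comm := fun x y => (Subgroup.mem_center_iff.1 (h ▸ Subgroup.mem_top y) x) }
      haveI : IsSimpleGroup Cfsg.Spor.Fi22 := hs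
      haveI : Finite Cfsg.Spor.Fi22 := Nat.finite_of_card_ne_zero (by rw [hcard]; norm_num)
      have hp : (Nat.card Cfsg.Spor.Fi22).Prime := IsSimpleGroup.prime_card
      rw [hcard] at hp
      exact absurd (hp.eq_one_or_self_of_dvd 2 (by norm_num)) (by norm_num)
  have hinj : Function.Injective (MulAut.conj : Cfsg.Spor.Fi22 →* MulAut Cfsg.Spor.Fi22) := by
    rw [injective_iff_map_eq_one]
    intro g hg
    rw [← Subgroup.mem_bot, ← hcen, Subgroup.mem_center_iff]
    intro h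
    have h1 : g * h * g⁻¹ = h := by
      rw [← MulAut.conj_apply, hg, MulAut.one_apply]
    exact (mul_inv_eq_iff_eq_mul.1 h1).symm
  have h := Subgroup.card_eq_card_quotient_mul_card_subgroup (Cfsg.Inn Cfsg.Spor.Fi22)
  have h2 : Nat.card (MulAut Cfsg.Spor.Fi22 ⧸ Cfsg.Inn Cfsg.Spor.Fi22) = 2 :=
    Cfsg.Agent.Fi22Out.card_out
  have h3 : Nat.card ↥(Cfsg.Inn Cfsg.Spor.Fi22) = Nat.card Cfsg.Spor.Fi22 :=
    (Nat.card_congr (MonoidHom.ofInjective hinj).toEquiv).symm
  rw [h, h2, h3]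

section

variable {G : Type u} [Group G] [Finite G] {D : Set G}
  {X : Type u} [Group X] [Finite X] {E : Set X}
  (hD : IsThreeTranspositionGroup D) (hZ : Subgroup.center G = ⊥) (hB : M24Base D E)

include hD hZ hB

/-- The joint centraliser of two commuting members inside the derived group is isomorphic to the
centraliser of a member in type M(23). -/
theorem pair_iso24 {a b : G} (ha : a ∈ D) (hb : b ∈ dperp D a) :
    ∃ u ∈ E, (∀ S : Set X, S = dperp E u → S.Nonempty → (dperp (dperp D a) b).Nonempty) ∧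
      Nonempty (↥(commutator G ⊓ Subgroup.centralizer ({a, b} : Set G)) ≃*
        ↥(Subgroup.centralizer ({u} : Set X))) := by
  classical
  obtain ⟨hidx, hnot⟩ := commutator_index24 hD hZ hB
  obtain ⟨χ, ψ, hχ, hker, hagree, hiso⟩ := (cover24 hD hZ hB ha).maps
  set L := commutator G
  set K := L ⊓ Subgroup.centralizer ({a, b} : Set G)
  refine ⟨ψ b, hiso.bij.mapsTo hb, fun S hS hne => ?_, ?_⟩
  · obtain ⟨y, hy⟩ := hne
    obtain ⟨x, hx, -⟩ := (hiso.restrict hb).bij.surjOn (hS ▸ hy)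
    exact ⟨x, hx⟩
  have hm : ∀ {u}, u ∈ dperp D a → u ∈ Subgroup.centralizer ({a} : Set G) := fun hu =>
    Subgroup.mem_centralizer_singleton_iff.2 hu.2.2.symm.eq
  have hKa : K ≤ Subgroup.centralizer ({a} : Set G) := fun g hg =>
    Subgroup.mem_centralizer_singleton_iff.2 (Subgroup.mem_centralizer_iff.1 hg.2 a (by simp)).symm
  have hP : ∀ g : ↥(Subgroup.centralizer ({a} : Set G)),
      Commute (χ g) (ψ b) ↔ Commute (g : G) b := by
    intro g
    rw [show ψ b = χ ⟨b, hm hb⟩ from hagree ⟨b, hm hb⟩ hb]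
    refine ⟨fun h => ?_, fun h => (show Commute g ⟨b, hm hb⟩ from Subtype.ext h.eq).map χ⟩
    have hga : (g : G) * a * (g : G)⁻¹ = a := by
      rw [Subgroup.mem_centralizer_singleton_iff.1 g.2, mul_inv_cancel_right]
    have h1 : χ (g * ⟨b, hm hb⟩ * g⁻¹) = χ ⟨b, hm hb⟩ := by
      rw [map_mul, map_mul, map_inv, h.eq, mul_inv_cancel_right]
    have hgu : (g : G) * b * (g : G)⁻¹ ∈ dperp D a := by
      have h0 := dperp_conj hD.2.1 (g : G) hb
      rwa [hga] at h0
    rw [← hagree (g * ⟨b, hm hb⟩ * g⁻¹) hgu, ← hagree ⟨b, hm hb⟩ hb] at h1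
    exact mul_inv_eq_iff_eq_mul.1 (hiso.bij.injOn hgu hb h1)
  let f : ↥K →* ↥(Subgroup.centralizer ({ψ b} : Set X)) :=
    (χ.comp (Subgroup.inclusion hKa)).codRestrict _ fun g =>
      Subgroup.mem_centralizer_singleton_iff.2
        ((hP (Subgroup.inclusion hKa g)).2 (show Commute (g : G) b from
          (Subgroup.mem_centralizer_iff.1 g.2.2 b (by simp)).symm)).eq
  have hf : Function.Bijective f := by
    refine ⟨(injective_iff_map_eq_one f).2 fun g hg => ?_, fun p => ?_⟩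
    · rcases (hker _).1 (congrArg Subtype.val hg) with h | h
      · exact Subtype.ext h
      · refine absurd ?_ (hnot a ha)
        have h' : (g : G) = a := h
        exact h' ▸ g.2.1
    · obtain ⟨g, hg⟩ := hχ p
      have hmemK : ∀ y : ↥(Subgroup.centralizer ({a} : Set G)), χ y = p → (y : G) ∈ L → (y : G) ∈ K :=
        fun y hy hyL => ⟨hyL, Subgroup.mem_centralizer_iff.2 (by
          intro z hz
          simp only [Set.mem_insert_iff, Set.mem_singleton_iff] at hz
          rcases hz with h | h <;> rw [h]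
          · exact (Subgroup.mem_centralizer_singleton_iff.1 y.2).symm
          · exact ((hP y).1 (hy ▸ Subgroup.mem_centralizer_singleton_iff.1 p.2)).eq.symm)⟩
      by_cases hgL : (g : G) ∈ L
      · exact ⟨⟨g, hmemK g hg hgL⟩, Subtype.ext hg⟩
      · set a' : ↥(Subgroup.centralizer ({a} : Set G)) := ⟨a, Subgroup.mem_centralizer_singleton_iff.2 rfl⟩
        have ha1 : χ a' = 1 := (hker a').2 (Or.inr rfl)
        have hgaL : ((g * a' : ↥(Subgroup.centralizer ({a} : Set G))) : G) ∈ L := by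
          rw [Subgroup.coe_mul, Subgroup.mul_mem_iff_of_index_two hidx]
          exact iff_of_false hgL (hnot a ha)
        have hga1 : χ (g * a') = p := by rw [map_mul, hg, ha1, mul_one]
        exact ⟨⟨_, hmemK _ hga1 hgaL⟩, Subtype.ext hga1⟩
  exact ⟨MulEquiv.ofBijective f hf⟩

end

/-- The centraliser of the product of two commuting members in the derived group, given that the
groups of type M(22) are the presented Fi22. -/
theorem pair_main24 {G : Type u} [Group G] [Finite G] {D : Set G} (hD : IsThreeTranspositionGroup D)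
    (hprim : IsPrimitiveUnderConj D) (h24 : IsOfTypeM24 G D)
    (hFi : ∀ (Y : Type u) [Group Y] [Finite Y] (E : Set Y), IsThreeTranspositionGroup E →
      IsThreeTranspositionClass E → IsOfTypeM22 Y E → Nonempty (Y ≃* Cfsg.Spor.Fi22))
    {d₁ d₂ : G} (h₁ : d₁ ∈ D) (h₂ : d₂ ∈ D) (h12 : d₁ ≠ d₂) (c12 : Commute d₁ d₂) (K CL : Subgroup G)
    (hK : K = commutator G ⊓ Subgroup.centralizer ({d₁, d₂} : Set G))
    (hCL : CL = commutator G ⊓ Subgroup.centralizer ({d₁ * d₂} : Set G))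
    [hn : ((Subgroup.zpowers (d₁ * d₂)).subgroupOf CL).Normal] :
    IsQuasisimple ↥K ∧ K = (generalizedFittingSubgroup ↥CL).map CL.subtype ∧ K ≤ CL ∧
      (K.subgroupOf CL).index = 2 ∧ d₁ * d₂ ∈ K ∧
      Nonempty (↥CL ⧸ (Subgroup.zpowers (d₁ * d₂)).subgroupOf CL ≃* MulAut Cfsg.Spor.Fi22) := by
  classical
  obtain ⟨hN, hN2, hpart⟩ := top_data hD hprim (Or.inr h24)
  obtain ⟨X, _, _, E, hB⟩ := exists_base24 hD hprim h24
  have hZ := h24.1
  have hT := hD.1
  obtain ⟨hidx, hnot⟩ := commutator_index24 hD hZ hB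
  set L := commutator G
  set j := d₁ * d₂ with hj
  have hb₂ : d₂ ∈ dperp D d₁ := ⟨h₂, h12.symm, c12⟩
  obtain ⟨u, hu, hne, ⟨ι⟩⟩ := pair_iso24 hD hZ hB h₁ hb₂
  obtain ⟨Y, _, _, E', hE', hclsE, h22, hcov⟩ := exists_cover23 hB.group (prim_M23 hB.group hB.m23) hB.m23
  have hperfC := (hcov u hu).perfect
  set C := Subgroup.centralizer ({u} : Set X) with hC
  obtain ⟨χ, ψ, hχ, hker, -, hisoX⟩ := (hcov u hu).maps
  have hZY : Subgroup.center Y = ⊥ := h22.1
  have hsY : IsSimpleGroup Y := simple_M22 hE' hclsE h22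
  obtain ⟨c, hc⟩ : (dperp (dperp D d₁) d₂).Nonempty := hne _ rfl (by
    obtain ⟨-, y, hy, -⟩ := h22
    obtain ⟨x, hx, -⟩ := hisoX.bij.surjOn hy
    exact ⟨x, hx⟩)
  -- the quasisimple group
  have hkerC : Subgroup.center ↥C = χ.ker := by
    apply le_antisymm
    · intro x hx
      have : χ x ∈ Subgroup.center Y := Subgroup.mem_center_iff.2 fun p => by
        obtain ⟨k, rfl⟩ := hχ p
        rw [← map_mul, ← map_mul, Subgroup.mem_center_iff.1 hx k]
      rwa [hZY, Subgroup.mem_bot] at this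
    · intro x hx
      refine Subgroup.mem_center_iff.2 fun k => Subtype.ext ?_
      rcases (hker x).1 hx with h | h
      · simp [h]
      · rw [Subgroup.coe_mul, Subgroup.coe_mul, h]
        exact Subgroup.mem_centralizer_singleton_iff.1 k.2
  let eC : ↥C ⧸ Subgroup.center ↥C ≃* Y :=
    (QuotientGroup.quotientMulEquivOfEq hkerC).trans (QuotientGroup.quotientKerEquivOfSurjective χ hχ)
  have hqC : IsQuasisimple ↥C :=
    ⟨Subgroup.isPerfect_iff.2 hperfC, (MulEquiv.isSimpleGroup_congr eC).2 hsY⟩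
  have hcardC : Nat.card (Subgroup.center ↥C) = 2 := by
    have hk : χ.ker.map C.subtype = Subgroup.zpowers u := by
      refine le_antisymm ?_ ?_
      · rintro - ⟨x, hx, rfl⟩
        rcases (hker x).1 hx with h | h
        · rw [Subgroup.coe_subtype, h]; exact one_mem _
        · rw [Subgroup.coe_subtype, h]; exact Subgroup.mem_zpowers u
      · rw [Subgroup.zpowers_le]
        exact ⟨⟨u, Subgroup.mem_centralizer_singleton_iff.2 rfl⟩, (hker _).2 (Or.inr rfl), rfl⟩
    rw [hkerC, ← Subgroup.card_map_of_injective C.subtype_injective, hk, Nat.card_zpowers,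
      hB.group.1.1 u hu]
  subst hK
  set K₀ := L ⊓ Subgroup.centralizer ({d₁, d₂} : Set G) with hK₀
  have hqK : IsQuasisimple ↥K₀ := Layer.isQuasisimple_congr ι.symm hqC
  -- basic membership
  have hfix : ∀ {x : G}, x ∈ Subgroup.centralizer ({d₁, d₂} : Set G) ↔ Commute x d₁ ∧ Commute x d₂ :=
    fun {x} => by
    rw [Subgroup.mem_centralizer_iff]
    simp only [Set.mem_insert_iff, Set.mem_singleton_iff, forall_eq_or_imp, forall_eq]
    exact ⟨fun h => ⟨h.1.symm, h.2.symm⟩, fun h => ⟨h.1.eq.symm, h.2.eq.symm⟩⟩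
  have hmemL : ∀ {x y : G}, x ∈ D → y ∈ D → x * y ∈ L := fun hx hy => mul_mem_commutator hB.cls hx hy
  have hjK : j ∈ K₀ := ⟨hmemL h₁ h₂, hfix.2 ⟨(Commute.refl d₁).mul_left c12.symm,
    c12.mul_left (Commute.refl d₂)⟩⟩
  have hj2 : j * j = 1 := by
    rw [hj]
    calc d₁ * d₂ * (d₁ * d₂) = d₁ * (d₂ * d₁) * d₂ := by group
      _ = d₁ * (d₁ * d₂) * d₂ := by rw [c12.eq]
      _ = d₁ * d₁ * (d₂ * d₂) := by group
      _ = 1 := by rw [mul_self hT h₁, mul_self hT h₂, mul_one]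
  have hj1 : j ≠ 1 := fun e => h12 (by rw [← inv_eq hT h₁, inv_eq_of_mul_eq_one_right e])
  have hordj : orderOf j = 2 := orderOf_eq_prime (by rw [pow_two, hj2]) hj1
  have hcj : ∀ {x : G}, x ∈ Subgroup.centralizer ({d₁, d₂} : Set G) → Commute x j := fun hx =>
    (hfix.1 hx).1.mul_right (hfix.1 hx).2
  have hcenterK : (Subgroup.center ↥K₀).map K₀.subtype = Subgroup.zpowers j := by
    refine (Subgroup.eq_of_le_of_card_ge ?_ ?_).symm
    · rw [Subgroup.zpowers_le]
      exact ⟨⟨j, hjK⟩, Subgroup.mem_center_iff.2 fun k => Subtype.ext (hcj k.2.2).eq, rfl⟩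
    · rw [Subgroup.card_map_of_injective K₀.subtype_injective,
        Nat.card_congr (Subgroup.centerCongr ι).toEquiv, hcardC, Nat.card_zpowers, hordj]
  subst hCL
  set CL := L ⊓ Subgroup.centralizer ({j} : Set G) with hCL
  have hKCL : K₀ ≤ CL := fun x hx => ⟨hx.1, Subgroup.mem_centralizer_singleton_iff.2 (hcj hx.2).eq⟩
  -- elements of the centraliser fix or exchange the two members
  have hperm : ∀ g : G, Commute g j → (g * d₁ * g⁻¹ = d₁ ∧ g * d₂ * g⁻¹ = d₂) ∨
      (g * d₁ * g⁻¹ = d₂ ∧ g * d₂ * g⁻¹ = d₁) := by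
    intro g hg
    have hprod : g * d₁ * g⁻¹ * (g * d₂ * g⁻¹) = d₁ * d₂ := by
      calc g * d₁ * g⁻¹ * (g * d₂ * g⁻¹) = g * j * g⁻¹ := by rw [hj]; group
        _ = d₁ * d₂ := by rw [hg.eq, mul_inv_cancel_right]
    rcases pair_unique hT hN h₁ h₂ (hD.2.1 g d₁ h₁) (hD.2.1 g d₂ h₂) c12 h12
      ((commute_conj g d₁ d₂).2 c12) (fun e => h12 (mul_left_cancel (mul_right_cancel e)))
      hprod.symm with e | e
    · exact Or.inl ⟨e, by rw [e] at hprod; exact mul_left_cancel hprod⟩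
    · exact Or.inr ⟨e, by rw [e] at hprod; exact mul_left_cancel (hprod.trans c12.eq)⟩
  obtain ⟨t, htL, ht1, ht2, -⟩ := exists_swap_triple24 hD hB hpart h₁ hb₂ hc
  have htC : t ∈ CL := ⟨htL, Subgroup.mem_centralizer_singleton_iff.2 (mul_inv_eq_iff_eq_mul.1 (by
    calc t * j * t⁻¹ = t * d₁ * t⁻¹ * (t * d₂ * t⁻¹) := by rw [hj]; group
      _ = j := by rw [ht1, ht2, hj, c12.eq]))⟩
  have htK : t ∉ K₀ := fun h => h12 ((mul_inv_eq_iff_eq_mul.2 (hfix.1 h.2).1.eq).symm.trans ht1)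
  have hindex : (K₀.subgroupOf CL).index = 2 := by
    rw [Subgroup.index_eq_two_iff]
    refine ⟨⟨t, htC⟩, fun x => ?_⟩
    simp only [Subgroup.mem_subgroupOf, Subgroup.coe_mul]
    by_cases hx : (x : G) ∈ K₀
    · refine Or.inr ⟨hx, fun h' => htK ?_⟩
      have := K₀.mul_mem (K₀.inv_mem hx) h'
      rwa [inv_mul_cancel_left] at this
    · rcases hperm _ (Subgroup.mem_centralizer_singleton_iff.1 x.2.2) with ⟨e1, e2⟩ | ⟨e1, e2⟩
      · exact absurd ⟨x.2.1, hfix.2 ⟨mul_inv_eq_iff_eq_mul.1 e1, mul_inv_eq_iff_eq_mul.1 e2⟩⟩ hx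
      refine Or.inl ⟨⟨L.mul_mem x.2.1 htL, hfix.2 ⟨mul_inv_eq_iff_eq_mul.1 ?_, mul_inv_eq_iff_eq_mul.1 ?_⟩⟩, hx⟩
      · calc (x : G) * t * d₁ * ((x : G) * t)⁻¹ = (x : G) * (t * d₁ * t⁻¹) * (x : G)⁻¹ := by group
          _ = d₁ := by rw [ht1, e2]
      · calc (x : G) * t * d₂ * ((x : G) * t)⁻¹ = (x : G) * (t * d₂ * t⁻¹) * (x : G)⁻¹ := by group
          _ = d₂ := by rw [ht2, e1]
  haveI hnK : (K₀.subgroupOf CL).Normal := Subgroup.normal_of_index_eq_two hindex
  set K' := K₀.subgroupOf CL with hK'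
  have hqK' : IsQuasisimple ↥K' :=
    Layer.isQuasisimple_congr (Subgroup.subgroupOfEquivOfLe hKCL).symm hqK
  have hcenK' : ∀ g : CL, (∀ k ∈ K', Commute g k) → (g : G) ∈ Subgroup.zpowers j := by
    intro g hg
    have hk : ∀ w ∈ K₀, Commute (g : G) w := fun w hw =>
      congrArg Subtype.val (hg ⟨w, hKCL hw⟩ hw).eq
    rcases hperm _ (Subgroup.mem_centralizer_singleton_iff.1 g.2.2) with ⟨e1, e2⟩ | ⟨e1, -⟩
    · have hgK : (g : G) ∈ K₀ :=
        ⟨g.2.1, hfix.2 ⟨mul_inv_eq_iff_eq_mul.1 e1, mul_inv_eq_iff_eq_mul.1 e2⟩⟩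
      rw [← hcenterK]
      exact ⟨⟨g, hgK⟩, Subgroup.mem_center_iff.2 fun k => Subtype.ext (hk k k.2).eq.symm, rfl⟩
    · exfalso
      have hcK : c * d₁ ∈ K₀ := ⟨hmemL hc.1.1 h₁, hfix.2
        ⟨hc.1.2.2.symm.mul_left (Commute.refl d₁), hc.2.2.symm.mul_left c12⟩⟩
      have he : (g : G) * c * (g : G)⁻¹ * d₂ = c * d₁ := by
        calc (g : G) * c * (g : G)⁻¹ * d₂ = (g : G) * (c * d₁) * (g : G)⁻¹ := by rw [← e1]; group
          _ = c * d₁ := by rw [(hk _ hcK).eq, mul_inv_cancel_right]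
      have hcc : Commute ((g : G) * c * (g : G)⁻¹) d₂ := by
        rw [← e1]; exact (commute_conj (g : G) c d₁).2 hc.1.2.2.symm
      have hnc : (g : G) * c * (g : G)⁻¹ ≠ d₂ := by
        rw [← e1]; exact fun h => hc.1.2.1 (mul_left_cancel (mul_right_cancel h))
      rcases pair_unique hT hN hc.1.1 h₁ h₂ (hD.2.1 (g : G) c hc.1.1) hc.1.2.2.symm hc.1.2.1
        hcc.symm hnc.symm (he.symm.trans hcc.eq) with h | h
      · exact hc.2.1 h.symm
      · exact h12 h.symm
  have hFK : generalizedFittingSubgroup ↥CL = K' := genFitting_eq_of_qs hqK' fun g hg =>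
    Subgroup.mem_subgroupOf.2 (Subgroup.zpowers_le.2 hjK
      (hcenK' g fun k hk => (Subgroup.mem_centralizer_iff.1 hg k hk).symm))
  refine ⟨hqK, ?_, hKCL, hindex, hjK, ?_⟩
  · rw [hFK, hK', Subgroup.subgroupOf_map_subtype, inf_of_le_left hKCL]
  obtain ⟨eY⟩ := hFi Y E' hE' hclsE h22
  let ι' : ↥K' ≃* ↥C := (Subgroup.subgroupOfEquivOfLe hKCL).trans ι
  let eK : ↥K' ⧸ Subgroup.center ↥K' ≃* Cfsg.Spor.Fi22 :=
    ((QuotientGroup.congr _ _ ι' (map_center_equiv_eq ι')).trans eC).trans eY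
  set Φ := quotAut K' eK
  have hperfK : commutator ↥K' = ⊤ := Group.isPerfect_def.1 hqK'.1
  have hΦ : Φ.ker = (Subgroup.zpowers j).subgroupOf CL := by
    apply Subgroup.ext
    intro g
    rw [MonoidHom.mem_ker, Subgroup.mem_subgroupOf]
    refine ⟨fun hg => hcenK' g (quotAut_eq_one hperfK eK hg), fun hg => ?_⟩
    ext s
    obtain ⟨q, rfl⟩ := eK.surjective s
    obtain ⟨k, rfl⟩ := QuotientGroup.mk_surjective q
    show eK (QuotientGroup.congr _ _ (MulAut.conjNormal g) _ (eK.symm (eK (k : _ ⧸ _)))) = eK k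
    rw [MulEquiv.symm_apply_apply]
    show eK ((MulAut.conjNormal g k : ↥K') : ↥K' ⧸ Subgroup.center ↥K') = eK k
    congr 1
    refine congrArg _ (Subtype.ext (Subtype.ext ?_))
    rw [MulAut.conjNormal_apply, Subgroup.coe_mul, Subgroup.coe_mul, Subgroup.coe_inv]
    obtain ⟨m, hm⟩ := Subgroup.mem_zpowers_iff.1 hg
    rw [← hm]
    exact mul_inv_eq_iff_eq_mul.2 ((hcj k.2.2).zpow_right m).symm.eq
  refine ⟨(QuotientGroup.quotientMulEquivOfEq hΦ.symm).trans
    ((QuotientGroup.quotientKerEquivRange Φ).trans ((MulEquiv.subgroupCongr ?_).trans Subgroup.topEquiv))⟩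
  haveI : Finite (MulAut Cfsg.Spor.Fi22) := by
    refine Nat.finite_of_card_ne_zero ?_
    rw [card_mulAut_fi22, Cfsg.Agent.CosetCert.Fi22Order.order_and_simple.2]
    norm_num
  refine Subgroup.eq_top_of_card_eq _ ?_
  rw [card_mulAut_fi22, ← Nat.card_congr (QuotientGroup.quotientKerEquivRange Φ).toEquiv,
    Nat.card_congr (QuotientGroup.quotientMulEquivOfEq hΦ).toEquiv, ← Nat.card_congr eK.toEquiv]
  have h1 := Subgroup.card_eq_card_quotient_mul_card_subgroup ((Subgroup.zpowers j).subgroupOf CL)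
  have h2 := K'.index_mul_card
  rw [hindex] at h2
  have h3 := Subgroup.card_eq_card_quotient_mul_card_subgroup (Subgroup.center ↥K')
  rw [Nat.card_congr (Subgroup.centerCongr ι').toEquiv, hcardC] at h3
  rw [Nat.card_congr (Subgroup.subgroupOfEquivOfLe
    (Subgroup.zpowers_le.2 (hKCL hjK))).toEquiv, Nat.card_zpowers, hordj] at h1
  rw [← h2, h3, ← mul_assoc] at h1
  exact (Nat.eq_of_mul_eq_mul_right (by norm_num) h1).symm

end Cfsg.Agent.ThreeTrans
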