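import Cfsg.Prelude.Def_FischerSpaces
import Cfsg.Agent.Core.PCore

/-!
# Sets of 3-transpositions: first properties
-/

set_option autoImplicit false

open Cfsg

namespace Cfsg.Agent.ThreeTrans

variable {G : Type*} [Group G] {D : Set G} {a b c d e g : G}

theorem mul_self (hD : IsThreeTranspositionSet D) (hd : d ∈ D) : d * d = 1 := by
  have h := pow_orderOf_eq_one d
  rwa [hD.1 d hd, sq] at h

theorem ne_one (hD : IsThreeTranspositionSet D) (hd : d ∈ D) : d ≠ 1 := fun h => by
  have h1 := hD.1 d hd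
  rw [h, orderOf_one] at h1
  omega

theorem inv_eq (hD : IsThreeTranspositionSet D) (hd : d ∈ D) : d⁻¹ = d :=
  inv_eq_of_mul_eq_one_left (mul_self hD hd)

theorem mul_self_mul (hD : IsThreeTranspositionSet D) (hd : d ∈ D) (x : G) : d * (d * x) = x := by
  rw [← mul_assoc, mul_self hD hd, one_mul]

theorem mul_mul_self (hD : IsThreeTranspositionSet D) (hd : d ∈ D) (x : G) : x * d * d = x := by
  rw [mul_assoc, mul_self hD hd, mul_one]

theorem sq_eq_one_iff (hD : IsThreeTranspositionSet D) (hd : d ∈ D) (he : e ∈ D) :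
    (d * e) ^ 2 = 1 ↔ Commute d e := by
  constructor
  · intro h
    rw [sq] at h
    have h1 := inv_eq_of_mul_eq_one_right h
    rw [mul_inv_rev, inv_eq hD hd, inv_eq hD he] at h1
    exact h1.symm
  · intro h
    rw [h.mul_pow, sq, sq, mul_self hD hd, mul_self hD he, one_mul]

theorem cube_of_not_commute (hD : IsThreeTranspositionSet D) (hd : d ∈ D) (he : e ∈ D)
    (h : ¬ Commute d e) : (d * e) ^ 3 = 1 :=
  (hD.2 d hd e he).resolve_left fun h2 => h ((sq_eq_one_iff hD hd he).1 h2)

theorem orderOf_mul_of_not_commute (hD : IsThreeTranspositionSet D) (hd : d ∈ D) (he : e ∈ D)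
    (h : ¬ Commute d e) : orderOf (d * e) = 3 := by
  have : Fact (Nat.Prime 3) := ⟨Nat.prime_three⟩
  refine orderOf_eq_prime (cube_of_not_commute hD hd he h) fun h1 => h ?_
  refine (sq_eq_one_iff hD hd he).1 ?_
  rw [h1, one_pow]

theorem orderOf_mul_of_commute (hD : IsThreeTranspositionSet D) (hd : d ∈ D) (he : e ∈ D)
    (h : Commute d e) (hne : d ≠ e) : orderOf (d * e) = 2 := by
  refine orderOf_eq_prime ((sq_eq_one_iff hD hd he).2 h) fun h1 => hne ?_
  have h2 := mul_eq_one_iff_eq_inv.1 h1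
  rwa [inv_eq hD he] at h2

theorem braid (hD : IsThreeTranspositionSet D) (hd : d ∈ D) (he : e ∈ D)
    (h : ¬ Commute d e) : d * e * d = e * d * e := by
  have h3 := cube_of_not_commute hD hd he h
  have h4 : (d * e * d) * (e * d * e) = 1 := by
    rw [← h3, pow_succ, pow_two]; simp only [mul_assoc]
  have h5 := eq_inv_of_mul_eq_one_left h4
  rw [h5, mul_inv_rev, mul_inv_rev, inv_eq hD hd, inv_eq hD he, mul_assoc]

/-- Conjugation preserves and reflects commutation. -/
theorem commute_conj (g a b : G) : Commute (g * a * g⁻¹) (g * b * g⁻¹) ↔ Commute a b :=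
  Commute.conj_iff g

theorem conj_self_of_commute (hD : IsThreeTranspositionSet D) (hd : d ∈ D) (h : Commute d e) :
    d * e * d = e := by
  rw [h.eq, mul_mul_self hD hd]

theorem conj_involution (hD : IsThreeTranspositionSet D) (hd : d ∈ D) (e : G) :
    d * e * d = d * e * d⁻¹ := by
  rw [inv_eq hD hd]

theorem conj_mem (hD : IsThreeTranspositionSet D) (hc : ∀ g : G, ∀ d ∈ D, g * d * g⁻¹ ∈ D)
    (hd : d ∈ D) (he : e ∈ D) : d * e * d ∈ D := by
  rw [conj_involution hD hd]
  exact hc d e he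

theorem class_conj (hD : IsThreeTranspositionClass D) : ∀ g : G, ∀ d ∈ D, g * d * g⁻¹ ∈ D := by
  obtain ⟨-, ⟨d₀, -, hd₀⟩, -⟩ := hD
  intro g d hd
  simp only [hd₀, conjugatesOf, Set.mem_ofPred_eq] at hd ⊢
  exact hd.trans (isConj_iff.2 ⟨g, rfl⟩)

theorem class_toGroup (hD : IsThreeTranspositionClass D) : IsThreeTranspositionGroup D :=
  ⟨hD.1, class_conj hD, hD.2.2⟩

theorem class_isConj (hD : IsThreeTranspositionClass D) (ha : a ∈ D) (hb : b ∈ D) :
    ∃ g : G, g * a * g⁻¹ = b := by
  obtain ⟨-, ⟨d₀, -, hd₀⟩, -⟩ := hD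
  simp only [hd₀, conjugatesOf, Set.mem_ofPred_eq] at ha hb
  exact isConj_iff.1 (ha.symm.trans hb)

/-- An element commuting with a generating set is central. -/
theorem commute_all (hgen : Subgroup.closure D = ⊤) (h : ∀ e ∈ D, Commute a e) (x : G) :
    Commute a x := by
  have hle : Subgroup.closure D ≤ Subgroup.centralizer {a} := by
    rw [Subgroup.closure_le]
    intro e he
    exact Subgroup.mem_centralizer_singleton_iff.2 (h e he).symm.eq
  rw [hgen] at hle
  exact ((Subgroup.mem_centralizer_singleton_iff.1 (hle (Subgroup.mem_top x))) : Commute x a).symm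

/-- In a class with two members, every member fails to commute with another one. -/
theorem exists_not_commute (hD : IsThreeTranspositionClass D)
    (hD2 : ∃ a ∈ D, ∃ b ∈ D, a ≠ b) (hd : d ∈ D) : ∃ e ∈ D, ¬ Commute d e := by
  by_contra hne
  push Not at hne
  have hz := commute_all hD.2.2 hne
  obtain ⟨a, ha, b, hb, hab⟩ := hD2
  obtain ⟨g, hg⟩ := class_isConj hD hd ha
  obtain ⟨g', hg'⟩ := class_isConj hD hd hb
  refine hab ?_
  rw [← hg, ← hg', ← (hz g).eq, ← (hz g').eq, mul_inv_cancel_right, mul_inv_cancel_right]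

/-- Two members lying in a common 2-subgroup commute. -/
theorem commute_of_mem_two (hD : IsThreeTranspositionSet D) {T : Subgroup G}
    (hT : IsPGroup 2 T) (hd : d ∈ D) (he : e ∈ D) (hdT : d ∈ T) (heT : e ∈ T) :
    Commute d e := by
  by_contra h
  obtain ⟨k, hk⟩ := hT ⟨d * e, T.mul_mem hdT heT⟩
  have hk' : (d * e) ^ 2 ^ k = 1 := by simpa using congrArg Subtype.val hk
  have h3 := orderOf_dvd_of_pow_eq_one hk'
  rw [orderOf_mul_of_not_commute hD hd he h] at h3
  have := Nat.prime_three.dvd_of_dvd_pow h3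
  omega

theorem closure_normal {S : Set G} (hS : ∀ g : G, ∀ s ∈ S, g * s * g⁻¹ ∈ S) :
    (Subgroup.closure S).Normal where
  conj_mem n hn g := by
    induction hn using Subgroup.closure_induction with
    | mem s hs => exact Subgroup.subset_closure (hS g s hs)
    | one => simp
    | mul x y _ _ hx hy =>
      have : g * (x * y) * g⁻¹ = (g * x * g⁻¹) * (g * y * g⁻¹) := by group
      rw [this]
      exact Subgroup.mul_mem _ hx hy
    | inv x _ hx =>
      have : g * x⁻¹ * g⁻¹ = (g * x * g⁻¹)⁻¹ := by group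
      rw [this]
      exact Subgroup.inv_mem _ hx

/-- An element whose order is prime to `p` lies in no `p`-subgroup. -/
theorem eq_one_of_mem_pGroup {p n : ℕ} {P : Subgroup G} (hP : IsPGroup p P) (hx : g ∈ P)
    (hg : g ^ n = 1) (hcop : Nat.Coprime n p) : g = 1 := by
  obtain ⟨k, hk⟩ := hP ⟨g, hx⟩
  have hk' : g ^ p ^ k = 1 := by simpa using congrArg Subtype.val hk
  have h1 := Nat.dvd_gcd (orderOf_dvd_of_pow_eq_one hg) (orderOf_dvd_of_pow_eq_one hk')
  rw [(hcop.pow_right k).gcd_eq_one, Nat.dvd_one, orderOf_eq_one_iff] at h1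
  exact h1

theorem commute_conj_mem (hD : IsThreeTranspositionSet D) (hd : d ∈ D) (he : e ∈ D)
    (h : ¬ Commute d e) : ¬ Commute d (e * d * e) := by
  intro hc
  rw [← braid hD hd he h] at hc
  apply h
  have h1 := hc.eq
  rw [show d * (d * e * d) = e * d by rw [mul_assoc d e d, mul_self_mul hD hd],
    mul_mul_self hD hd] at h1
  exact h1.symm

end Cfsg.Agent.ThreeTrans
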