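import Cfsg.Agent.ThreeTrans.RankThree
import Cfsg.Agent.Layer.FStar
import Cfsg.Agent.S0436
import Cfsg.Agent.S5349
import Cfsg.Agent.S5350

/-!
# The cores, the layer and the generalised Fitting subgroup of a 3-transposition group
-/

set_option autoImplicit false

open Cfsg
open scoped commutatorElement

namespace Cfsg.Agent.ThreeTrans

variable {G : Type*} [Group G] {D : Set G} {a b d x y : G}

/-- Elements commuting with the generating class are central. -/
theorem mem_center_of_commute (hgen : Subgroup.closure D = ⊤) (h : ∀ e ∈ D, Commute a e) :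
    a ∈ Subgroup.center G :=
  Subgroup.mem_center_iff.2 fun g => (commute_all hgen h g).eq.symm

/-- A product of two members cannot be a nontrivial central element unless they are partners. -/
theorem tau_of_mul_mem_center (hD : IsThreeTranspositionSet D) (hx : x ∈ D)
    (h : x * y ∈ Subgroup.center G) : Tau D x y := by
  intro e _
  have hz : Commute (x * y) e := (Subgroup.mem_center_iff.1 h e).symm
  have hy : y = x * (x * y) := (mul_self_mul hD hx y).symm
  constructor
  · intro hxe
    rw [hy]; exact hxe.mul_left hz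
  · intro hye
    have h1 := hz.mul_left hye.inv_left
    rwa [mul_inv_cancel_right] at h1

theorem pCore_le_center_of_three_lt [Finite G] (hD : IsThreeTranspositionGroup D) {p : ℕ}
    (hp : p.Prime) (hp3 : 3 < p) : pCore p G ≤ Subgroup.center G := by
  intro x hx
  refine mem_center_of_commute hD.2.2 fun e he => ?_
  have := hD.2.1 x e he
  have hmem : e * (x * e * x⁻¹) ∈ pCore p G := by
    have h1 := mul_mem ((Core.pCore_normal (p := p) (G := G)).conj_mem x hx e) (inv_mem hx)
    rw [inv_eq hD.1 he] at h1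
    simpa [mul_assoc] using h1
  have h1 : e * (x * e * x⁻¹) = 1 := by
    rcases hD.1.2 e he _ this with h2 | h3
    · exact eq_one_of_mem_pGroup Core.pCore_isPGroup hmem h2
        ((Nat.coprime_primes Nat.prime_two hp).2 (by omega))
    · exact eq_one_of_mem_pGroup Core.pCore_isPGroup hmem h3
        ((Nat.coprime_primes Nat.prime_three hp).2 (by omega))
  have h2 := eq_inv_of_mul_eq_one_right h1
  rw [inv_eq hD.1 he, mul_inv_eq_iff_eq_mul] at h2
  exact h2

/-- Only trivial partners: the 2-core is central. -/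
theorem pCore_two_le_center_of_tau [Finite G] (hD : IsThreeTranspositionGroup D)
    (h : ∀ x ∈ D, ∀ y ∈ D, Tau D x y → x = y) : pCore 2 G ≤ Subgroup.center G := by
  intro g hg
  refine mem_center_of_commute hD.2.2 fun e he => ?_
  have hmem : e⁻¹ * (g * e * g⁻¹) ∈ pCore 2 G := by
    have h1 := mul_mem ((Core.pCore_normal (p := 2) (G := G)).conj_mem g hg e⁻¹) (inv_mem hg)
    simpa [mul_assoc] using h1
  have h2 := h e he _ (hD.2.1 g e he) (tau_of_mem_pCore hD.1 he (hD.2.1 g e he) hmem)
  exact (eq_mul_inv_iff_mul_eq.1 h2).symm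

/-- Only trivial partners: the 3-core is central. -/
theorem pCore_three_le_center_of_theta [Finite G] (hD : IsThreeTranspositionGroup D)
    (h : ∀ x ∈ D, ∀ y ∈ D, Theta D x y → x = y) : pCore 3 G ≤ Subgroup.center G := by
  intro g hg
  refine mem_center_of_commute hD.2.2 fun e he => ?_
  have hmem : e⁻¹ * (g * e * g⁻¹) ∈ pCore 3 G := by
    have h1 := mul_mem ((Core.pCore_normal (p := 3) (G := G)).conj_mem g hg e⁻¹) (inv_mem hg)
    simpa [mul_assoc] using h1
  have h2 := h e he _ (hD.2.1 g e he) (theta_of_mem_pCore hD.1 he (hD.2.1 g e he) hmem)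
  exact (eq_mul_inv_iff_mul_eq.1 h2).symm

section Class

variable [Finite G] (hD : IsThreeTranspositionClass D) (hD2 : ∃ a ∈ D, ∃ b ∈ D, a ≠ b)

include hD hD2

omit [Finite G] in
theorem not_mem_center (hd : d ∈ D) : d ∉ Subgroup.center G := fun h => by
  obtain ⟨e, -, hde⟩ := exists_not_commute hD hD2 hd
  exact hde (Subgroup.mem_center_iff.1 h e).symm

theorem eq_of_tau_central (h2 : pCore 2 G ≤ Subgroup.center G) (hx : x ∈ D) (hy : y ∈ D)
    (h : Tau D x y) : x = y := by
  have hmem : y ∈ {v : G | v ∈ D ∧ ∀ e ∈ D, Commute v e ↔ Commute x e} :=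
    ⟨hy, fun e he => (h e he).symm⟩
  rw [(S5349.result hD hD2 hx).2] at hmem
  obtain ⟨g, hg, rfl⟩ := hmem
  rw [← Subgroup.mem_center_iff.1 (h2 hg) x, mul_inv_cancel_right]

theorem eq_of_theta_central (h3 : pCore 3 G ≤ Subgroup.center G) (hx : x ∈ D) (hy : y ∈ D)
    (h : Theta D x y) : x = y := by
  have hmem : y ∈ {w : G | w ∈ D ∧ {v : G | v ∈ D ∧ v ≠ x ∧ Commute x v} =
      {v : G | v ∈ D ∧ v ≠ w ∧ Commute w v}} := by
    rw [theta_eq_setOf]; exact ⟨hy, h⟩
  rw [(S5350.result hD hD2 hx).2] at hmem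
  obtain ⟨g, hg, rfl⟩ := hmem
  rw [← Subgroup.mem_center_iff.1 (h3 hg) x, mul_inv_cancel_right]

theorem eq_of_mul_mem_center (h2 : pCore 2 G ≤ Subgroup.center G) (hx : x ∈ D) (hy : y ∈ D)
    (h : x * y ∈ Subgroup.center G) : x = y :=
  eq_of_tau_central hD hD2 h2 hx hy (tau_of_mul_mem_center hD.1 hx h)

omit hD2 [Finite G] in
theorem exists_conj_ne {p : ℕ} (h : ¬ pCore p G ≤ Subgroup.center G) (hd : d ∈ D) :
    ∃ g ∈ pCore p G, g * d * g⁻¹ ≠ d := by
  by_contra hcon
  push Not at hcon
  refine h fun g hg => mem_center_of_commute hD.2.2 fun e he => ?_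
  obtain ⟨k, rfl⟩ := class_isConj hD hd he
  have h1 := hcon (k⁻¹ * g * k) (by
    simpa using (Core.pCore_normal (p := p) (G := G)).conj_mem g hg k⁻¹)
  show g * (k * d * k⁻¹) = k * d * k⁻¹ * g
  rw [mul_inv_eq_iff_eq_mul] at h1
  calc g * (k * d * k⁻¹) = k * (k⁻¹ * g * k * d) * k⁻¹ := by group
    _ = k * d * k⁻¹ * g := by rw [h1]; group

omit hD2 [Finite G] in
/-- A normal layer which moves each member within its coset of a normal subgroup `N` of the
Fitting subgroup is trivial. -/
theorem layer_eq_bot_of_mod [Finite G] {N : Subgroup G} [N.Normal] (hN : N ≤ fittingSubgroup G)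
    (h : ∀ e ∈ layer G, ∀ d ∈ D, d⁻¹ * (e * d * e⁻¹) ∈ N) : layer G = ⊥ := by
  set E := layer G with hE
  have h1 : ⁅E, (⊤ : Subgroup G)⁆ ≤ N := by
    rw [Subgroup.commutator_le]
    intro e he g _
    let π := QuotientGroup.mk' N
    have hcen : ∀ d ∈ D, Commute (π e) (π d) := by
      intro d hd
      have h2 : π d = π (e * d * e⁻¹) := QuotientGroup.eq.2 (h e he d hd)
      show π e * π d = π d * π e
      conv_rhs => rw [h2]
      rw [map_mul, map_mul, map_inv, inv_mul_cancel_right]
    have hgen : Subgroup.closure (π '' D) = ⊤ := by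
      rw [← MonoidHom.map_closure, hD.2.2, Subgroup.map_top_of_surjective _ (QuotientGroup.mk'_surjective N)]
    have hall := commute_all hgen (by rintro - ⟨d, hd, rfl⟩; exact hcen d hd) (π g)
    refine (QuotientGroup.eq_one_iff _).1 ?_
    show π ⁅e, g⁆ = 1
    rw [map_commutatorElement, commutatorElement_eq_one_iff_commute]
    exact hall
  have h2 : ⁅⁅E, (⊤ : Subgroup G)⁆, E⁆ = ⊥ := by
    rw [eq_bot_iff, ← Subgroup.commutator_eq_bot_iff_le_centralizer.2
      (hN.trans Layer.fitting_le_centralizer_layer)]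
    exact Subgroup.commutator_mono h1 le_rfl
  have h3 : ⁅⁅E, E⁆, (⊤ : Subgroup G)⁆ = ⊥ :=
    Subgroup.commutator_commutator_eq_bot_of_rotate h2
      (by rwa [Subgroup.commutator_comm (⊤ : Subgroup G) E])
  rw [hE, Layer.layer_perfect] at h3
  have h4 : ⁅E, E⁆ = ⊥ := le_bot_iff.1 ((Subgroup.commutator_mono le_rfl le_top).trans h3.le)
  rwa [hE, Layer.layer_perfect] at h4

theorem layer_eq_bot_of_two (h : ¬ pCore 2 G ≤ Subgroup.center G) : layer G = ⊥ := by
  have hG := class_toGroup hD
  have hT := hD.1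
  have hc := class_conj hD
  have hF : pCore 2 G ≤ fittingSubgroup G := by
    have : Fact (Nat.Prime 2) := ⟨Nat.prime_two⟩
    exact Core.le_fittingSubgroup (Core.pCore_isPGroup (p := 2) (G := G)).isNilpotent
  refine layer_eq_bot_of_mod hD hF fun e he d hd => ?_
  obtain ⟨g, hg, hgd⟩ := exists_conj_ne hD h hd
  set v := g * d * g⁻¹
  have hv : v ∈ D := hc g d hd
  have hmem : d⁻¹ * v ∈ pCore 2 G := by
    have h1 := mul_mem ((Core.pCore_normal (p := 2) (G := G)).conj_mem g hg d⁻¹) (inv_mem hg)
    simpa [mul_assoc, v] using h1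
  have hτ := tau_of_mem_pCore hT hd hv hmem
  have hu : Commute e (d * v) := by
    rw [inv_eq hT hd] at hmem
    exact (Subgroup.mem_centralizer_iff.1 (Layer.fitting_le_centralizer_layer (hF hmem)) e he)
  have key : ∀ k : G, Commute k (d * v) → ∀ f ∈ D, Commute d f → Commute (k * d * k⁻¹) f := by
    intro k hk f hf hdf
    have hfu : Commute f (d * v) := hdf.symm.mul_right ((hτ f hf).1 hdf).symm
    obtain ⟨f', hf', rfl⟩ := conj_partner hc k hf
    have : Commute f' (d * v) := by
      have h1 := (commute_conj k⁻¹ _ _).2 hfu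
      rwa [show k⁻¹ * (k * f' * k⁻¹) * k⁻¹⁻¹ = f' by group,
        show k⁻¹ * (d * v) * k⁻¹⁻¹ = d * v by rw [hk.inv_left.eq, mul_inv_cancel_right]] at h1
    exact (commute_conj k d f').2
      ((S0436.result hT hd hv hf' (Ne.symm hgd) (commute_of_tau hd hτ)).1 this).1.symm
  have hτe : Tau D d (e * d * e⁻¹) := by
    intro f hf
    refine ⟨key e hu f hf, fun h' => ?_⟩
    have h1 := (commute_conj e⁻¹ _ _).2 h'
    rw [show e⁻¹ * (e * d * e⁻¹) * e⁻¹⁻¹ = d by group] at h1
    have h2 := key e hu _ (hc e⁻¹ f hf) h1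
    have h3 : Commute (e * d * e⁻¹) f := h'
    -- move back
    have h4 := key e⁻¹ hu.inv_left
    have hfu : Commute (e⁻¹ * f * e⁻¹⁻¹) (d * v) :=
      h1.symm.mul_right ((hτ _ (hc e⁻¹ f hf)).1 h1).symm
    have hfu' : Commute f (d * v) := by
      have h5 := (commute_conj e _ _).2 hfu
      rwa [show e * (e⁻¹ * f * e⁻¹⁻¹) * e⁻¹ = f by group,
        show e * (d * v) * e⁻¹ = d * v by rw [hu.eq, mul_inv_cancel_right]] at h5
    exact ((S0436.result hT hd hv hf (Ne.symm hgd) (commute_of_tau hd hτ)).1 hfu').1.symm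
  exact (tau_iff hG hd (hc e d hd)).1 hτe

omit hD2 [Finite G] in
/-- The members centralising a product of two partners outside themselves are their common partners. -/
theorem commute_of_commute_theta {v f : G} (hd : d ∈ D) (hv : v ∈ D) (hne : d ≠ v)
    (hθ : Theta D d v) (hf : f ∈ D) (hfu : Commute f (d * v)) : f ≠ d ∧ Commute d f := by
  have hT := hD.1
  have hc := class_conj hD
  have hnc := not_commute_of_theta hv hθ hne
  have hu3 := cube_of_not_commute hT hd hv hnc
  have hfd : f ≠ d := fun h => by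
    rw [h] at hfu
    apply hnc
    have h1 := hfu.eq
    rw [mul_self_mul hT hd] at h1
    have : d * v * d = v := h1.symm
    show d * v = v * d
    calc d * v = d * v * d * d := (mul_mul_self hT hd _).symm
      _ = v * d := by rw [this]
  refine ⟨hfd, by_contra fun hdf => ?_⟩
  set d1 := f * d * f with hd1
  have hd1D : d1 ∈ D := conj_mem hT hc hf hd
  set u := d * v with hu
  have hbr : d * f * d = f * d * f := braid hT hd hf hdf
  have huinv : d * u * d = u⁻¹ := by
    rw [hu, mul_inv_rev, inv_eq hT hd, inv_eq hT hv]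
    simp only [mul_assoc, mul_self_mul hT hd]
  have hfinv : u = f * u * f := by rw [hfu.eq, mul_mul_self hT hf]
  have hd1u : d1 * u * d1 = u⁻¹ := by
    rw [hd1]
    calc f * d * f * u * (f * d * f) = f * (d * (f * u * f) * d) * f := by simp only [mul_assoc]
      _ = u⁻¹ := by rw [← hfinv, huinv, hfu.inv_right.eq, mul_mul_self hT hf]
  -- the same element as a product starting with `f`
  set y := d1 * v * d1 with hy
  have hyD : y ∈ D := conj_mem hT hc hd1D hv
  have hfy : u⁻¹ = f * y := by
    rw [← hd1u, hy, hu]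
    have : d1 * d * d1 = f := by
      rw [hd1]
      calc f * d * f * d * (f * d * f) = f * (d * f * d) * (f * d * f) := by simp only [mul_assoc]
        _ = f := by
          rw [hbr]
          simp only [mul_assoc, mul_self_mul hT hf, mul_self_mul hT hd, mul_self hT hd,
            mul_self hT hf, mul_one]
    calc d1 * (d * v) * d1 = (d1 * d * d1) * (d1 * v * d1) := by
          simp only [mul_assoc, mul_self_mul hT hd1D]
      _ = f * (d1 * v * d1) := by rw [this]
  have hcy : Commute f y := by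
    have h1 : Commute f (f * y) := hfy ▸ hfu.inv_right
    have h2 := h1.eq
    rw [mul_self_mul hT hf] at h2
    show f * y = y * f
    calc f * y = f * y * f * f := (mul_mul_self hT hf _).symm
      _ = y * f := by rw [← h2]
  have h2 : (u⁻¹) ^ 2 = 1 := by rw [hfy]; exact (sq_eq_one_iff hT hf hyD).2 hcy
  rw [inv_pow, inv_eq_one] at h2
  have h3 : u = 1 := by
    calc u = u ^ 3 := by rw [pow_succ, h2, one_mul]
      _ = 1 := hu3
  exact hne (by rw [mul_eq_one_iff_eq_inv.1 h3, inv_eq hT hv])

theorem layer_eq_bot_of_three (h : ¬ pCore 3 G ≤ Subgroup.center G) : layer G = ⊥ := by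
  have hG := class_toGroup hD
  have hT := hD.1
  have hc := class_conj hD
  have hF : pCore 3 G ≤ fittingSubgroup G := by
    have : Fact (Nat.Prime 3) := ⟨Nat.prime_three⟩
    exact Core.le_fittingSubgroup (Core.pCore_isPGroup (p := 3) (G := G)).isNilpotent
  refine layer_eq_bot_of_mod hD hF fun e he d hd => ?_
  obtain ⟨g, hg, hgd⟩ := exists_conj_ne hD h hd
  set v := g * d * g⁻¹
  have hv : v ∈ D := hc g d hd
  have hmem : d⁻¹ * v ∈ pCore 3 G := by
    have h1 := mul_mem ((Core.pCore_normal (p := 3) (G := G)).conj_mem g hg d⁻¹) (inv_mem hg)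
    simpa [mul_assoc, v] using h1
  have hθ := theta_of_mem_pCore hT hd hv hmem
  have hu : Commute e (d * v) := by
    rw [inv_eq hT hd] at hmem
    exact (Subgroup.mem_centralizer_iff.1 (Layer.fitting_le_centralizer_layer (hF hmem)) e he)
  have hset : ∀ f ∈ D, (f ≠ d ∧ Commute d f) ↔ Commute f (d * v) := fun f hf =>
    ⟨fun hh => hh.2.symm.mul_right ((hθ f hf).1 hh).2.symm,
      fun hh => commute_of_commute_theta hD hd hv (Ne.symm hgd) hθ hf hh⟩
  have heu : e * (d * v) * e⁻¹ = d * v := by rw [hu.eq, mul_inv_cancel_right]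
  have hθe : Theta D d (e * d * e⁻¹) := by
    intro f hf
    obtain ⟨f', hf', rfl⟩ := conj_partner hc e hf
    rw [hset _ hf, commute_conj, ne_eq, mul_left_inj, mul_right_inj, ← ne_eq, hset _ hf']
    conv_lhs => rw [← heu, commute_conj]
  exact (theta_iff hG hd (hc e d hd)).1 hθe

omit hD2 in
theorem fitting_le_center (h2 : pCore 2 G ≤ Subgroup.center G)
    (h3 : pCore 3 G ≤ Subgroup.center G) : fittingSubgroup G ≤ Subgroup.center G := by
  rw [Core.fittingSubgroup_eq_iSup_pCore]
  refine iSup_le fun p => ?_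
  by_cases hp2 : (p : ℕ) = 2
  · rwa [hp2]
  by_cases hp3 : (p : ℕ) = 3
  · rwa [hp3]
  have := p.2.two_le
  exact pCore_le_center_of_three_lt (class_toGroup hD) p.2 (by omega)

theorem layer_ne_bot (h2 : pCore 2 G ≤ Subgroup.center G)
    (h3 : pCore 3 G ≤ Subgroup.center G) : layer G ≠ ⊥ := by
  intro hbot
  have hD2' := hD2
  obtain ⟨a, ha, -⟩ := hD2'
  apply not_mem_center hD hD2 ha
  have hFs : generalizedFittingSubgroup G ≤ Subgroup.center G := by
    rw [generalizedFittingSubgroup, hbot, bot_sup_eq]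
    exact fitting_le_center hD h2 h3
  refine hFs (Layer.centralizer_generalizedFitting_le (G := G) ?_)
  exact Subgroup.mem_centralizer_iff.2 fun f hf => (Subgroup.mem_center_iff.1 (hFs hf) a).symm

omit hD2 in
theorem not_both (h : ¬ pCore 2 G ≤ Subgroup.center G) : pCore 3 G ≤ Subgroup.center G := by
  refine pCore_three_le_center_of_theta (class_toGroup hD) fun x hx y hy hθ => ?_
  by_contra hne
  obtain ⟨g, hg, hgd⟩ := exists_conj_ne hD h hx
  have hmem : x⁻¹ * (g * x * g⁻¹) ∈ pCore 2 G := by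
    have h1 := mul_mem ((Core.pCore_normal (p := 2) (G := G)).conj_mem g hg x⁻¹) (inv_mem hg)
    simpa [mul_assoc] using h1
  have hv : g * x * g⁻¹ ∈ D := class_conj hD g x hx
  have hτ := tau_of_mem_pCore hD.1 hx hv hmem
  have h1 := commute_of_tau hx hτ
  have h2 : Commute y (g * x * g⁻¹) := ((hθ _ hv).1 ⟨hgd, h1⟩).2
  exact not_commute_of_theta hy hθ hne ((hτ y hy).2 h2.symm)

end Class

end Cfsg.Agent.ThreeTrans
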