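import Cfsg.Agent.ThreeTrans.O232
import Cfsg.Agent.ThreeTrans.SU32

/-!
# The quotient by `O₂`
-/

set_option autoImplicit false

open Cfsg Subgroup

namespace Cfsg.Agent.ThreeTrans

namespace DihThree

variable {G : Type*} [Group G]

/-- Generators and relations of the group of order six. -/
structure Rel (u d : G) : Prop where
  u3 : u ^ 3 = 1
  d2 : d * d = 1
  du : d * u * d = u⁻¹
  une : u ≠ 1
  dne : d ≠ 1
  gen : Subgroup.closure ({u, d} : Set G) = ⊤

/-- The normal form. -/
def nf (u d : G) (a : ZMod 3 × ZMod 2) : G := HeisTwo.pw u a.1 * d ^ a.2.val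

/-- The multiplication rule. -/
def rule (a b : ZMod 3 × ZMod 2) : ZMod 3 × ZMod 2 :=
  if a.2 = 0 then (a.1 + b.1, a.2 + b.2) else (a.1 - b.1, a.2 + b.2)

variable {u d : G} (h : Rel u d)
include h

theorem nf_mul (a b : ZMod 3 × ZMod 2) : nf u d a * nf u d b = nf u d (rule a b) := by
  have cu : SemiconjBy d u u⁻¹ := by
    show d * u = u⁻¹ * d
    rw [← h.du, mul_assoc, h.d2, mul_one]
  obtain ⟨i, l⟩ := a
  obtain ⟨j, m⟩ := b
  have hl : l = 0 ∨ l = 1 := by revert l; decide
  rcases hl with rfl | rfl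
  · simp [nf, rule, HeisTwo.pw_add h.u3, mul_assoc]
  · have he : ∀ m : ZMod 2, d * d ^ m.val = d ^ ((1 : ZMod 2) + m).val := by
      intro m
      have hm : m = 0 ∨ m = 1 := by revert m; decide
      rcases hm with rfl | rfl
      · simp [show (1 : ZMod 2).val = 1 from rfl]
      · rw [show ((1 : ZMod 2) + 1).val = 0 from rfl, show (1 : ZMod 2).val = 1 from rfl, pow_one,
          h.d2, pow_zero]
    simp only [nf, rule, one_ne_zero, if_false, show (1 : ZMod 2).val = 1 from rfl, pow_one]
    rw [← he, sub_eq_add_neg, HeisTwo.pw_add h.u3, HeisTwo.pw_neg h.u3,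
      show HeisTwo.pw u i * d * (HeisTwo.pw u j * d ^ m.val) =
        HeisTwo.pw u i * (d * HeisTwo.pw u j) * d ^ m.val by simp only [mul_assoc],
      show d * HeisTwo.pw u j = (HeisTwo.pw u j)⁻¹ * d by
        rw [HeisTwo.pw, (cu.pow_right j.val).eq, inv_pow]]
    simp only [mul_assoc]

theorem nf_bijective : Function.Bijective (nf u d) := by
  have hone : ∀ a, nf u d a = 1 → a = (0, 0) := by
    rintro ⟨i, l⟩ ha
    have hi : i = 0 ∨ i = 1 ∨ i = -1 := by clear ha; revert i; decide
    have hl : l = 0 ∨ l = 1 := by clear ha; revert l; decide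
    rcases hl with rfl | rfl <;>
      simp only [nf, ZMod.val_zero, pow_zero, mul_one, show (1 : ZMod 2).val = 1 from rfl, pow_one] at ha
    · rcases hi with rfl | rfl | rfl
      · rfl
      · exact absurd (by rwa [HeisTwo.pw_one] at ha) h.une
      · rw [HeisTwo.pw_neg h.u3, HeisTwo.pw_one, inv_eq_one] at ha
        exact absurd ha h.une
    · exfalso
      have hd : d = (HeisTwo.pw u i)⁻¹ := eq_inv_of_mul_eq_one_right ha
      rw [← HeisTwo.pw_neg h.u3, HeisTwo.pw] at hd
      have h3 : d ^ 3 = 1 := by rw [hd, ← pow_mul, mul_comm, pow_mul, h.u3, one_pow]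
      rw [pow_succ, sq, h.d2, one_mul] at h3
      exact h.dne h3
  constructor
  · intro a b hab
    obtain ⟨b', hb1, hb2⟩ := (show ∀ b, ∃ b', rule b b' = (0, 0) ∧
      ∀ a, rule a b' = (0, 0) → a = b by decide +kernel) b
    refine hb2 a (hone _ ?_)
    rw [← nf_mul h, hab, nf_mul h, hb1]
    simp [nf, HeisTwo.pw_zero]
  · intro g
    have hg : g ∈ Subgroup.closure ({u, d} : Set G) := h.gen ▸ Subgroup.mem_top g
    induction hg using Subgroup.closure_induction with
    | mem x hx =>
      rcases hx with rfl | rfl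
      · exact ⟨(1, 0), by simp [nf, HeisTwo.pw_one]⟩
      · exact ⟨(0, 1), by simp [nf, HeisTwo.pw_zero, show (1 : ZMod 2).val = 1 from rfl]⟩
    | one => exact ⟨(0, 0), by simp [nf, HeisTwo.pw_zero]⟩
    | mul x y _ _ hx hy =>
      obtain ⟨a, rfl⟩ := hx
      obtain ⟨b, rfl⟩ := hy
      exact ⟨_, (nf_mul h a b).symm⟩
    | inv x _ hx =>
      obtain ⟨a, rfl⟩ := hx
      obtain ⟨a', ha'⟩ := (show ∀ a, ∃ a', rule a a' = (0, 0) by decide +kernel) a
      exact ⟨a', eq_inv_of_mul_eq_one_right (by rw [nf_mul h, ha']; simp [nf, HeisTwo.pw_zero])⟩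

omit h in
theorem nonempty_mulEquiv {G' : Type*} [Group G'] {u' d' : G'} (h : Rel u d) (h' : Rel u' d') :
    Nonempty (G ≃* G') := by
  let e := (Equiv.ofBijective _ (nf_bijective h)).symm.trans (Equiv.ofBijective _ (nf_bijective h'))
  refine ⟨MulEquiv.mk e fun x y => ?_⟩
  obtain ⟨a, rfl⟩ := (nf_bijective h).2 x
  obtain ⟨b, rfl⟩ := (nf_bijective h).2 y
  have he : ∀ a, e (nf u d a) = nf u' d' a := fun a => by
    simp [e, Equiv.ofBijective_symm_apply_apply]
  show e _ = e _ * e _
  rw [nf_mul h, he, he, he, nf_mul h']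

omit h in
theorem perm_rel : Rel (Equiv.swap (0 : Fin 3) 1 * Equiv.swap 1 2) (Equiv.swap (0 : Fin 3) 1) := by
  refine ⟨by decide +kernel, by decide +kernel, by decide +kernel, by decide +kernel, by decide +kernel, ?_⟩
  have h : ∀ σ : Equiv.Perm (Fin 3), σ = 1 ∨ σ = Equiv.swap 0 1 * Equiv.swap 1 2 ∨
      σ = (Equiv.swap 0 1 * Equiv.swap 1 2) * (Equiv.swap 0 1 * Equiv.swap 1 2) ∨ σ = Equiv.swap 0 1 ∨
      σ = (Equiv.swap 0 1 * Equiv.swap 1 2) * Equiv.swap 0 1 ∨
      σ = (Equiv.swap 0 1 * Equiv.swap 1 2) * (Equiv.swap 0 1 * Equiv.swap 1 2) * Equiv.swap 0 1 := by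
    decide +kernel
  rw [eq_top_iff]
  intro σ _
  have hu := Subgroup.subset_closure (Set.mem_insert (Equiv.swap (0 : Fin 3) 1 * Equiv.swap 1 2)
    ({Equiv.swap (0 : Fin 3) 1} : Set _))
  have hd := Subgroup.subset_closure (Set.mem_insert_of_mem (Equiv.swap (0 : Fin 3) 1 * Equiv.swap 1 2)
    (Set.mem_singleton (Equiv.swap (0 : Fin 3) 1)))
  rcases h σ with rfl | rfl | rfl | rfl | rfl | rfl
  · exact one_mem _
  · exact hu
  · exact mul_mem hu hu
  · exact hd
  · exact mul_mem hu hd
  · exact mul_mem (mul_mem hu hu) hd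

end DihThree

namespace O232.Frame

variable {H : Type*} [Group H] [Finite H] {E : Set H} {d : H} {P : Subgroup H} (F : Frame E d P)
include F

theorem quotient_cases (hP : P ≠ ⊥) :
    Nonempty (H ⧸ pCore 2 H ≃* Equiv.Perm (Fin 3)) ∨
      Nonempty (H ⧸ pCore 2 H ≃* ↥(commutator ↥(Cfsg.SU 3 SU32.F4 2))) := by
  set π := QuotientGroup.mk' (pCore 2 H)
  have hd2 : π d * π d = 1 := by rw [← map_mul, mul_self F.hE.1 F.hd, map_one]
  have hdne : π d ≠ 1 := fun h => F.dO ((QuotientGroup.eq_one_iff d).1 h)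
  have hne : ∀ x ∈ P, x ≠ 1 → π x ≠ 1 := fun x hx h1 h =>
    h1 (F.eq_one_of_mem hx ((QuotientGroup.eq_one_iff x).1 h))
  have hgen : ∀ A : Set H, P = closure A → closure (π '' insert d A) = ⊤ := by
    intro A hA
    have hAP : ∀ x ∈ P, π x ∈ closure (π '' insert d A) := fun x hx => by
      rw [← MonoidHom.map_closure]
      exact mem_map_of_mem π (closure_mono (Set.subset_insert d A) (hA ▸ hx))
    have hd' : π d ∈ closure (π '' insert d A) := subset_closure ⟨d, Set.mem_insert d A, rfl⟩
    rw [eq_top_iff]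
    intro q _
    obtain ⟨g, rfl⟩ := QuotientGroup.mk'_surjective (pCore 2 H) q
    have : g ∈ (closure (π '' insert d A)).comap π := by
      refine (Subgroup.closure_le _).2 ?_ (F.hE.2.2 ▸ Subgroup.mem_top g)
      intro e he
      obtain ⟨x, hx, -, hex⟩ := F.mem e he
      rw [SetLike.mem_coe, mem_comap, hex, map_mul]
      exact mul_mem hd' (hAP x hx)
    exact this
  rcases F.cases hP with ⟨u, hu, hui, hu1, hPu⟩ | ⟨u, v, hu, hv, hui, hvi, hzu, hzv, hz, hPuv⟩
  · left
    refine DihThree.nonempty_mulEquiv (u := π u) (d := π d) ⟨?_, hd2, ?_, hne u hu hu1, hdne, ?_⟩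
      DihThree.perm_rel
    · rw [← map_pow, F.cube hu hui, map_one]
    · rw [← map_mul, ← map_mul, hui, map_inv]
    · have h := hgen {u} (by rw [hPu, zpowers_eq_closure])
      rwa [Set.image_insert_eq, Set.image_singleton, Set.pair_comm] at h
  · right
    obtain ⟨a, b, c, hrel⟩ := SU32.exists_rel
    refine HeisTwo.nonempty_mulEquiv (u := π u) (v := π v) (d := π d)
      ⟨?_, ?_, hd2, ?_, ?_, ?_, ?_, ?_, hdne, ?_⟩ hrel
    · rw [← map_pow, F.cube hu hui, map_one]
    · rw [← map_pow, F.cube hv hvi, map_one]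
    · rw [← map_mul, ← map_mul, hui, map_inv]
    · rw [← map_mul, ← map_mul, hvi, map_inv]
    · simpa using hzu.map π
    · simpa using hzv.map π
    · have h := hne _ (mul_mem (mul_mem (mul_mem hu hv) (inv_mem hu)) (inv_mem hv)) hz
      simpa using h
    · have h := hgen {u, v} hPuv
      rw [Set.image_insert_eq, Set.image_pair] at h
      rwa [show ({π u, π v, π d} : Set (H ⧸ pCore 2 H)) = {π d, π u, π v} by
        ext y; simp only [Set.mem_insert_iff, Set.mem_singleton_iff]; tauto]

/-- `P` with `d` is a complement of `O₂`. -/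
theorem exists_complement : ∃ K : Subgroup H, (pCore 2 H).IsComplement' K := by
  have hT := F.hE.1
  let K : Subgroup H :=
    { carrier := {g | g ∈ P ∨ d * g ∈ P}
      one_mem' := Or.inl (one_mem P)
      mul_mem' := by
        rintro a b (ha | ha) (hb | hb)
        · exact Or.inl (mul_mem ha hb)
        · right
          have := mul_mem (F.norm a ha) hb
          simpa only [mul_assoc, mul_self_mul hT F.hd] using this
        · right
          rw [← mul_assoc]
          exact mul_mem ha hb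
        · left
          have := mul_mem (F.norm _ ha) hb
          simpa only [mul_assoc, mul_self_mul hT F.hd] using this
      inv_mem' := by
        rintro a (ha | ha)
        · exact Or.inl (inv_mem ha)
        · right
          have := inv_mem (F.norm _ ha)
          simpa only [mul_inv_rev, inv_eq hT F.hd, mul_assoc, mul_self_mul hT F.hd] using this }
  refine ⟨K, isComplement'_of_disjoint_and_mul_eq_univ ?_ ?_⟩
  · rw [disjoint_iff, eq_bot_iff]
    rintro g ⟨hgO, hg⟩
    rw [mem_bot]
    rcases hg with hg | hg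
    · exact F.eq_one_of_mem hg hgO
    · exfalso
      set x := d * g with hx
      obtain ⟨k, hk⟩ := F.p3 ⟨x, hg⟩
      have hk' : x ^ (3 ^ k) = 1 := by simpa using congrArg Subtype.val hk
      set π := QuotientGroup.mk' (pCore 2 H)
      have h2 : (π d) ^ (3 ^ k) = 1 := by
        have e : π x = π d := by
          rw [hx, map_mul, show π g = 1 from (QuotientGroup.eq_one_iff g).2 hgO, mul_one]
        rw [← e, ← map_pow, hk', map_one]
      obtain ⟨a, ha⟩ : Odd (3 ^ k) := Odd.pow (by decide)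
      rw [ha, pow_succ, pow_mul, sq, ← map_mul, mul_self hT F.hd, map_one, one_pow, one_mul] at h2
      exact F.dO ((QuotientGroup.eq_one_iff d).1 h2)
  · rw [Set.eq_univ_iff_forall]
    intro g
    have hsup : pCore 2 H ⊔ K = ⊤ := by
      rw [eq_top_iff, ← F.hE.2.2, Subgroup.closure_le]
      intro e he
      obtain ⟨x, hx, -, hex⟩ := F.mem e he
      have hk : d * x ∈ K := Or.inr (by rwa [mul_self_mul hT F.hd])
      have ho : e * (d * x)⁻¹ ∈ pCore 2 H := by
        refine (QuotientGroup.eq_one_iff _).1 ?_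
        show QuotientGroup.mk' (pCore 2 H) _ = 1
        rw [map_mul, map_inv, hex, mul_inv_cancel]
      rw [SetLike.mem_coe, show e = e * (d * x)⁻¹ * (d * x) by group]
      exact mul_mem (le_sup_left (b := K) ho) (le_sup_right (a := pCore 2 H) hk)
    rw [← Subgroup.normal_mul, hsup]
    exact mem_top g

end O232.Frame

end Cfsg.Agent.ThreeTrans
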