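import Cfsg.Prelude.Def_SporadicB
import Mathlib

/-!
# Parametrised classes of transvections and reflections as classes of 3-transpositions
-/

set_option autoImplicit false

open Cfsg

namespace Cfsg.Agent.ThreeTrans

section Group

variable {G P : Type*} [Group G] {a b : G}

theorem cube_of_braid (ha : a * a = 1) (hb : b * b = 1) (h : a * b * a = b * a * b) :
    (a * b) ^ 3 = 1 := by
  have h1 : (b * a * b) * (b * a * b) = 1 := by
    rw [show (b * a * b) * (b * a * b) = b * a * (b * b) * a * b by simp only [mul_assoc], hb, mul_one,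
      mul_assoc b a a, ha, mul_one, hb]
  calc (a * b) ^ 3 = (a * b * a) * (b * a * b) := by
        rw [pow_succ, pow_two]; simp only [mul_assoc]
    _ = 1 := by rw [h, h1]

theorem isConj_of_braid (h : a * b * a = b * a * b) : IsConj a b :=
  isConj_iff.2 ⟨a * b, by rw [h, mul_inv_rev]; simp [mul_assoc]⟩

/-- A generating, conjugation closed, parametrised set of involutions, any two of which commute or
braid and in which any two commuting ones braid with a common third one. -/
theorem class_of_param {D : Set G} (T : P → G) (r : P → P → Prop) (hP : Nonempty P)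
    (hD : ∀ g : G, g ∈ D ↔ ∃ p, T p = g) (h1 : ∀ p, T p ≠ 1) (h2 : ∀ p, T p * T p = 1)
    (hcomm : ∀ p q, ¬ r p q → Commute (T p) (T q))
    (hbraid : ∀ p q, r p q → T p * T q * T p = T q * T p * T q)
    (hconj : ∀ g p, g * T p * g⁻¹ ∈ D)
    (hlink : ∀ p q, ¬ r p q → T p ≠ T q → ∃ u, r p u ∧ r q u)
    (hgen : Subgroup.closure D = ⊤) : IsThreeTranspositionClass D := by
  obtain ⟨p₀⟩ := hP
  refine ⟨⟨fun d hd => ?_, fun d hd e he => ?_⟩, ⟨T p₀, (hD _).2 ⟨p₀, rfl⟩, ?_⟩, hgen⟩
  · obtain ⟨p, rfl⟩ := (hD d).1 hd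
    exact orderOf_eq_prime (by rw [sq, h2]) (h1 p)
  · obtain ⟨p, rfl⟩ := (hD d).1 hd
    obtain ⟨q, rfl⟩ := (hD e).1 he
    by_cases h : r p q
    · exact Or.inr (cube_of_braid (h2 p) (h2 q) (hbraid p q h))
    · exact Or.inl (by rw [(hcomm p q h).mul_pow, sq, sq, h2, h2, one_mul])
  · ext g
    constructor
    · intro hg
      obtain ⟨q, rfl⟩ := (hD g).1 hg
      show IsConj (T p₀) (T q)
      by_cases h : r p₀ q
      · exact isConj_of_braid (hbraid _ _ h)
      · by_cases he : T p₀ = T q
        · rw [he]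
        · obtain ⟨u, hu, hu'⟩ := hlink _ _ h he
          exact (isConj_of_braid (hbraid _ _ hu)).trans (isConj_of_braid (hbraid _ _ hu')).symm
    · intro hg
      obtain ⟨c, rfl⟩ := isConj_iff.1 (hg : IsConj (T p₀) g)
      exact hconj c p₀

end Group

/-! ### Maps moving one direction -/

section RankOne

variable {F V : Type*} [CommRing F] [AddCommGroup V] [Module F V] {a b : V → V} {v w : V}
  {φ ψ : V →ₗ[F] F}

/-- `f` is `x ↦ x + φ x • v`. -/
def OneDir (f : V → V) (v : V) (φ : V →ₗ[F] F) : Prop := ∀ x, f x = x + φ x • v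

theorem OneDir.sq (ha : OneDir a v φ) (h : φ v = -2) (x : V) : a (a x) = x := by
  rw [ha, ha, map_add, map_smul, smul_eq_mul, h]
  module

theorem OneDir.comm (ha : OneDir a v φ) (hb : OneDir b w ψ) (hp : φ w = 0) (hq : ψ v = 0) (x : V) :
    a (b x) = b (a x) := by
  rw [ha, hb, hb, ha, map_add, map_add, map_smul, map_smul, hp, hq, smul_zero, smul_zero, add_zero,
    add_zero]
  module

theorem OneDir.braid (ha : OneDir a v φ) (hb : OneDir b w ψ) (hv : φ v = -2) (hw : ψ w = -2)
    (hpq : φ w * ψ v = 1) (x : V) : a (b (a x)) = b (a (b x)) := by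
  simp only [ha _, hb _, map_add, map_smul, smul_eq_mul, hv, hw]
  match_scalars <;>
    first
      | linear_combination (0 : F) * hpq
      | linear_combination (φ x) * hpq
      | linear_combination (ψ x) * hpq
      | linear_combination (-φ x) * hpq
      | linear_combination (-ψ x) * hpq

end RankOne

/-! ### Matrices that move one direction -/

section Matrix

variable {F ι : Type*} [Field F] [Fintype ι] [DecidableEq ι]

theorem exists_oneDir_of_rank {M : Matrix ι ι F} (h : (M - 1).rank = 1) :
    ∃ (v : ι → F) (φ : (ι → F) →ₗ[F] F), v ≠ 0 ∧ (∃ x, φ x = 1) ∧ OneDir (M.mulVec) v φ := by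
  rw [Matrix.rank, finrank_eq_one_iff'] at h
  obtain ⟨⟨v, hv⟩, hv0, hspan⟩ := h
  choose c hc using fun x : ι → F => hspan ⟨_, LinearMap.mem_range_self (M - 1).mulVecLin x⟩
  have hc' : ∀ x, (M - 1).mulVec x = c x • v := fun x => (congrArg Subtype.val (hc x)).symm
  have hv0' : v ≠ 0 := fun e => hv0 (Subtype.ext e)
  let φ : (ι → F) →ₗ[F] F :=
    { toFun := c
      map_add' := fun x y => by
        have := Matrix.mulVec_add (M - 1) x y
        rw [hc', hc', hc', ← add_smul] at this
        exact smul_left_injective F hv0' this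
      map_smul' := fun a x => by
        have := Matrix.mulVec_smul (M - 1) a x
        rw [hc', hc', smul_smul] at this
        exact smul_left_injective F hv0' this }
  obtain ⟨x, hx⟩ := hv
  have hcx : c x = 1 := by
    have : (M - 1).mulVec x = v := hx
    rw [hc'] at this
    exact smul_left_injective F hv0' (this.trans (one_smul F v).symm)
  refine ⟨v, φ, hv0', ⟨x, hcx⟩, fun y => ?_⟩
  show M.mulVec y = y + c y • v
  rw [← hc', Matrix.sub_mulVec, Matrix.one_mulVec]
  abel

theorem rank_of_oneDir {M : Matrix ι ι F} {v : ι → F} {φ : (ι → F) →ₗ[F] F} (hv : v ≠ 0)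
    (hφ : ∃ x, φ x = 1) (h : OneDir (M.mulVec) v φ) : (M - 1).rank = 1 := by
  have : LinearMap.range (M - 1).mulVecLin = Submodule.span F {v} := by
    have e : ∀ x, (M - 1).mulVecLin x = φ x • v := fun x => by
      rw [Matrix.mulVecLin_apply, Matrix.sub_mulVec, Matrix.one_mulVec, h x]; abel
    apply le_antisymm
    · rintro _ ⟨x, rfl⟩
      exact Submodule.mem_span_singleton.2 ⟨φ x, (e x).symm⟩
    · rw [Submodule.span_singleton_le_iff_mem]
      obtain ⟨x, hx⟩ := hφ
      exact ⟨x, by rw [e, hx, one_smul]⟩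
  rw [Matrix.rank, this, finrank_span_singleton hv]

theorem rank_conj_sub_one {A B M : Matrix ι ι F} (hAB : A * B = 1) :
    (A * M * B - 1).rank = (M - 1).rank := by
  have hd : A.det * B.det = 1 := by rw [← Matrix.det_mul, hAB, Matrix.det_one]
  rw [show A * M * B - 1 = A * (M - 1) * B by rw [mul_sub, sub_mul, mul_one, hAB],
    Matrix.rank_mul_eq_left_of_isUnit_det _ _ (IsUnit.of_mul_eq_one_right _ hd),
    Matrix.rank_mul_eq_right_of_isUnit_det _ _ (IsUnit.of_mul_eq_one _ hd)]

theorem eq_of_mulVec {A B : Matrix ι ι F} (h : ∀ x, A.mulVec x = B.mulVec x) : A = B :=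
  Matrix.ext_of_mulVec_single fun i => h _

end Matrix

end Cfsg.Agent.ThreeTrans
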