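import Cfsg.Agent.ThreeTrans.Products

/-!
# The transpositions commuting with one transposition, modulo the centre

For the subgroup `H` generated by the members commuting with `d`, twins-freeness and commutation
pass between `D`, the members commuting with `d`, and their images in `H` modulo its centre.
-/

set_option autoImplicit false

open Cfsg

namespace Cfsg.Agent.ThreeTrans

variable {G : Type*} [Group G] {D S T : Set G} {a b c d g : G} {H : Subgroup G}

/-- The image in `H` modulo its centre of the members of `E` in `H`. -/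
def lowImage (H : Subgroup G) (E : Set G) : Set (H ⧸ Subgroup.center H) :=
  (QuotientGroup.mk : H → H ⧸ Subgroup.center H) '' {x : H | (x : G) ∈ E}

theorem lowImage_congr (H : Subgroup G) {E E' : Set G} (h : ∀ u, u ≠ 1 → (u ∈ E ↔ u ∈ E')) :
    lowImage H E \ {1} = lowImage H E' \ {1} := by
  apply Set.ext
  intro q
  constructor <;> rintro ⟨⟨x, hx, rfl⟩, hq⟩ <;> refine ⟨⟨x, ?_, rfl⟩, hq⟩
  all_goals
    have hx1 : (x : G) ≠ 1 := fun hh => hq (by
      rw [Set.mem_singleton_iff, show x = 1 from Subtype.ext hh]; rfl)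
  · exact (h _ hx1).1 hx
  · exact (h _ hx1).2 hx

theorem closure_congr_one {E E' : Set G} (h : ∀ u, u ≠ 1 → (u ∈ E ↔ u ∈ E')) :
    Subgroup.closure E = Subgroup.closure E' := by
  refine le_antisymm ((Subgroup.closure_le _).2 fun u hu => ?_)
    ((Subgroup.closure_le _).2 fun u hu => ?_)
  all_goals rcases eq_or_ne u 1 with rfl | hu1
  · exact one_mem _
  · exact Subgroup.subset_closure ((h u hu1).1 hu)
  · exact one_mem _
  · exact Subgroup.subset_closure ((h u hu1).2 hu)

theorem mem_iff_conj (hc : ∀ g : G, ∀ d ∈ D, g * d * g⁻¹ ∈ D) (g y : G) :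
    y ∈ D ↔ g * y * g⁻¹ ∈ D := by
  refine ⟨hc g y, fun h => ?_⟩
  have := hc g⁻¹ _ h
  simpa [mul_assoc] using this

theorem dperp_iff_conj (g b : G) (hST : ∀ y, y ∈ S ↔ g * y * g⁻¹ ∈ T) (y : G) :
    y ∈ dperp S b ↔ g * y * g⁻¹ ∈ dperp T (g * b * g⁻¹) := by
  simp only [dperp, Set.mem_ofPred_eq, ← hST, commute_conj]
  refine and_congr_right fun _ => and_congr_left fun _ => not_congr ?_
  exact ⟨fun h => by rw [h], fun h => mul_left_cancel (mul_right_cancel h)⟩

theorem noTwins_of_conj (g : G) (hST : ∀ y, y ∈ S ↔ g * y * g⁻¹ ∈ T) (hT : NoTwins T) :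
    NoTwins S := by
  intro x hx y hy hxy
  refine mul_left_cancel (mul_right_cancel (hT _ ((hST x).1 hx) _ ((hST y).1 hy) fun e he => ?_))
  have he' : e = g * (g⁻¹ * e * g) * g⁻¹ := by group
  rw [he'] at he ⊢
  rw [commute_conj, commute_conj]
  exact hxy _ ((hST _).2 he)

/-- Two distinct commuting members of a class have a common partner commuting with neither. -/
theorem exists_common_partner (hD : IsThreeTranspositionClass D)
    (hD2 : ∃ a ∈ D, ∃ b ∈ D, a ≠ b) {p q : G} (hp : p ∈ D) (hq : q ∈ D) (hpq : Commute p q)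
    (hne : p ≠ q) : ∃ w ∈ D, ¬ Commute w p ∧ ¬ Commute w q := by
  set U : Set G := {v | v ∈ D ∧
    (v = p ∨ ¬ Commute p v ∨ ∃ e ∈ D, ¬ Commute p e ∧ ¬ Commute e v)} with hU
  have hall : U = D := by
    refine noncommute_closed_eq hD (fun v hv => hv.1) ⟨p, hp, Or.inl rfl⟩ fun s hs v hv hsv => ?_
    refine ⟨hv, ?_⟩
    by_cases hpv : Commute p v
    · right; right
      obtain ⟨hsD, hs'⟩ := hs
      by_cases hps : Commute p s
      · rcases hs' with rfl | hs' | ⟨e, he, hpe, hes⟩
        · exact absurd hpv hsv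
        · exact absurd hps hs'
        · by_cases hev : Commute e v
          · refine ⟨e * s * e, conj_mem hD.1 (class_conj hD) he hsD, ?_, ?_⟩
            · rw [braid hD.1 he hsD hes]
              intro hh
              refine hpe ((commute_conj s p e).1 ?_)
              rw [inv_eq hD.1 hsD, conj_self_of_commute hD.1 hsD hps.symm]
              exact hh
            · intro hh
              refine hsv ((commute_conj e s v).1 ?_)
              rw [inv_eq hD.1 he, conj_self_of_commute hD.1 he hev]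
              exact hh
          · exact ⟨e, he, hpe, hev⟩
      · exact ⟨s, hsD, hps, hsv⟩
    · exact Or.inr (Or.inl hpv)
  have hq' : q ∈ U := hall ▸ hq
  rcases hq'.2 with h | h | ⟨e, he, hpe, heq⟩
  · exact absurd h.symm hne
  · exact absurd hpq h
  · exact ⟨e, he, fun h => hpe h.symm, heq⟩

section Local

variable (hD : IsThreeTranspositionGroup D) (hd : d ∈ D)
  (hH : H = Subgroup.closure (dperp D d))

include hH

theorem mem_H {u : G} (hu : u ∈ dperp D d) : u ∈ H :=
  hH ▸ Subgroup.subset_closure hu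

theorem commute_of_mem_H {u : G} (hu : u ∈ H) : Commute d u := by
  rw [hH] at hu
  have hle : Subgroup.closure (dperp D d) ≤ Subgroup.centralizer {d} := by
    rw [Subgroup.closure_le]
    exact fun v hv => Subgroup.mem_centralizer_singleton_iff.2 hv.2.2.symm.eq
  exact (show Commute u d from Subgroup.mem_centralizer_singleton_iff.1 (hle hu)).symm

theorem mem_center_of_commute_dperp {x : H} (h : ∀ e ∈ dperp D d, Commute (x : G) e) :
    x ∈ Subgroup.center H := by
  have hle : H ≤ Subgroup.centralizer {(x : G)} := by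
    refine le_of_eq_of_le hH ((Subgroup.closure_le _).2 ?_)
    exact fun e he => Subgroup.mem_centralizer_singleton_iff.2 (h e he).symm.eq
  exact Subgroup.mem_center_iff.2 fun y =>
    Subtype.ext (Subgroup.mem_centralizer_singleton_iff.1 (hle y.2))

theorem mk_eq_one_iff {x : H} :
    (x : H ⧸ Subgroup.center H) = 1 ↔ ∀ e ∈ dperp D d, Commute (x : G) e := by
  rw [QuotientGroup.eq_one_iff]
  refine ⟨fun h e he => ?_, mem_center_of_commute_dperp hH⟩
  exact (congrArg Subtype.val (Subgroup.mem_center_iff.1 h ⟨e, mem_H hH he⟩)).symm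

include hD

theorem reflect {u v : H} (hu : (u : G) ∈ dperp D d) (hv : (v : G) ∈ dperp D d)
    (h : Commute (u : H ⧸ Subgroup.center H) v) : Commute (u : G) v := by
  by_contra hne
  have hu2 : u * u = 1 := Subtype.ext (mul_self hD.1 hu.1)
  have hv2 : v * v = 1 := Subtype.ext (mul_self hD.1 hv.1)
  have h1 : ((u * v * (u * v) : H) : H ⧸ Subgroup.center H) = 1 := by
    rw [QuotientGroup.mk_mul, QuotientGroup.mk_mul]
    calc (u : H ⧸ Subgroup.center H) * v * ((u : H ⧸ Subgroup.center H) * v)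
        = (u : H ⧸ Subgroup.center H) * v * ((v : H ⧸ Subgroup.center H) * u) := by rw [h.eq]
      _ = ((u * v * (v * u) : H) : H ⧸ Subgroup.center H) := by simp only [QuotientGroup.mk_mul]
      _ = 1 := by rw [mul_assoc, ← mul_assoc v v u, hv2, one_mul, hu2, QuotientGroup.mk_one]
  have h2 := (mk_eq_one_iff hH).1 h1 u hu
  simp only [Subgroup.coe_mul] at h2
  have h3 : (u : G) * v * (u * v) = v * u := by
    have h4 := cube_of_not_commute hD.1 hu.1 hv.1 hne
    rw [pow_succ, pow_two] at h4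
    rw [eq_inv_of_mul_eq_one_left h4, mul_inv_rev, inv_eq hD.1 hu.1, inv_eq hD.1 hv.1]
  rw [h3] at h2
  refine hne ?_
  have h5 := h2.eq
  rw [mul_mul_self hD.1 hu.1] at h5
  show (u : G) * v = v * u
  calc (u : G) * v = u * (u * (v * u)) := by rw [← h5]
    _ = v * u := mul_self_mul hD.1 hu.1 _

theorem dperp_conj_H {u : G} (hg : g ∈ H) (hu : u ∈ dperp D d) : g * u * g⁻¹ ∈ dperp D d := by
  have h := (dperp_iff_conj g d (fun y => mem_iff_conj hD.2.1 g y) u).1 hu
  rwa [show g * d * g⁻¹ = d by rw [← (commute_of_mem_H hH hg).eq, mul_inv_cancel_right]] at h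

omit hD in
theorem closure_preimage : Subgroup.closure {x : H | (x : G) ∈ dperp D d} = ⊤ := by
  refine Subgroup.map_injective H.subtype_injective ?_
  rw [MonoidHom.map_closure, ← MonoidHom.range_eq_map, Subgroup.range_subtype]
  refine le_antisymm ((Subgroup.closure_le _).2 ?_) ?_
  · rintro - ⟨x, -, rfl⟩
    exact x.2
  · conv_lhs => rw [hH]
    exact Subgroup.closure_mono fun u hu => ⟨⟨u, mem_H hH hu⟩, hu, rfl⟩

/-- The nontrivial images are again 3-transpositions. -/
theorem lowImage_group : IsThreeTranspositionGroup (lowImage H (dperp D d) \ {1}) := by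
  refine ⟨⟨?_, ?_⟩, ?_, ?_⟩
  · rintro q ⟨⟨x, hx, rfl⟩, hq⟩
    refine orderOf_eq_prime ?_ hq
    rw [sq, ← QuotientGroup.mk_mul, show x * x = 1 from Subtype.ext (mul_self hD.1 hx.1),
      QuotientGroup.mk_one]
  · rintro q ⟨⟨x, hx, rfl⟩, -⟩ q' ⟨⟨x', hx', rfl⟩, -⟩
    rw [← QuotientGroup.mk_mul]
    rcases hD.1.2 x hx.1 x' hx'.1 with h | h
    · refine Or.inl ?_
      rw [← QuotientGroup.mk_pow, show (x * x') ^ 2 = 1 from Subtype.ext (by simpa using h),
        QuotientGroup.mk_one]
    · refine Or.inr ?_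
      rw [← QuotientGroup.mk_pow, show (x * x') ^ 3 = 1 from Subtype.ext (by simpa using h),
        QuotientGroup.mk_one]
  · rintro k q ⟨⟨x, hx, rfl⟩, hq⟩
    obtain ⟨y, rfl⟩ := QuotientGroup.mk_surjective k
    refine ⟨⟨y * x * y⁻¹, ?_, rfl⟩, fun h => hq ?_⟩
    · show ((y * x * y⁻¹ : H) : G) ∈ dperp D d
      simpa using dperp_conj_H hD hH y.2 hx
    · rw [Set.mem_singleton_iff, conj_eq_one_iff] at h
      rw [Set.mem_singleton_iff]
      exact h
  · have hcong : Subgroup.closure (lowImage H (dperp D d) \ {1}) =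
        Subgroup.closure (lowImage H (dperp D d)) :=
      closure_congr_one fun u hu => by simp [hu]
    rw [hcong]
    have h := MonoidHom.map_closure (QuotientGroup.mk' (Subgroup.center H))
      {x : H | (x : G) ∈ dperp D d}
    rw [closure_preimage hH,
      Subgroup.map_top_of_surjective _ (QuotientGroup.mk'_surjective _)] at h
    exact h.symm

theorem eq_of_mk_eq {u v : H} (hu : (u : G) ∈ dperp D d) (hv : (v : G) ∈ dperp D d)
    (hne : (u : H ⧸ Subgroup.center H) ≠ 1) (h : (u : H ⧸ Subgroup.center H) = v) : u = v := by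
  by_contra huv
  have hcomm := reflect hD hH hu hv (h ▸ Commute.refl _)
  obtain ⟨e, he, hue⟩ : ∃ e ∈ dperp D d, ¬ Commute (u : G) e := by
    by_contra hcon
    push Not at hcon
    exact hne ((mk_eq_one_iff hH).2 hcon)
  have h1 : ((u * v : H) : H ⧸ Subgroup.center H) = 1 := by
    rw [QuotientGroup.mk_mul, ← h, ← QuotientGroup.mk_mul,
      show u * u = 1 from Subtype.ext (mul_self hD.1 hu.1), QuotientGroup.mk_one]
  have h2 := (mk_eq_one_iff hH).1 h1 e he
  exact hue ((commute_pair_iff hD.1 hu.1 hv.1 he.1 hcomm fun hh => huv (Subtype.ext hh)).1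
    h2.symm).1.symm

include hd

/-- If the images modulo the centre form a class without twins, and the part commuting also with
`c` is not too large, then `D` is one class. -/
theorem class_of_local [Finite G] (hZ : Subgroup.center G = ⊥) (hc : c ∈ D)
    (hdc : ¬ Commute d c) (hG : GoodClass (lowImage H (dperp D d) \ {1})) {L : Subgroup G}
    (hL : L = Subgroup.closure (dperp D d ∩ dperp D c))
    (hiso : IsEmpty (L ⧸ Subgroup.center L ≃* H ⧸ Subgroup.center H)) :
    IsThreeTranspositionClass D := by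
  refine ⟨hD.1, ⟨d, hd, Set.Subset.antisymm ?_ ?_⟩, hD.2.2⟩
  swap
  · intro f hf
    obtain ⟨g, rfl⟩ := isConj_iff.1 hf
    exact hD.2.1 g d hd
  by_contra hne
  obtain ⟨f, hf, hfd⟩ := Set.not_subset.1 hne
  -- members of the other classes commute with the conjugates of `d`
  have hcross : ∀ u ∈ D, u ∈ conjugatesOf d → ∀ w ∈ D, w ∉ conjugatesOf d → Commute w u := by
    intro u hu hud w hw hwd
    by_contra hh
    exact hwd (IsConj.trans hud (isConj_of_not_commute hD.1 hu hw fun h' => hh h'.symm))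
  have hcd : c ∈ conjugatesOf d := isConj_of_not_commute hD.1 hd hc hdc
  have hout : ∀ w ∈ D, w ∉ conjugatesOf d → w ∈ dperp D d ∩ dperp D c := by
    intro w hw hwd
    exact ⟨⟨hw, fun h => hwd (h ▸ mem_conjugatesOf_self),
        (hcross d hd mem_conjugatesOf_self w hw hwd).symm⟩,
      hw, fun h => hwd (h ▸ hcd), (hcross c hc hcd w hw hwd).symm⟩
  have hmk : ∀ (w : H), (w : G) ∈ D → (w : G) ∉ conjugatesOf d →
      (w : H ⧸ Subgroup.center H) ≠ 1 := by
    intro w hw hwd h1
    have h2 : ∀ e ∈ D, Commute (w : G) e := fun e he => by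
      by_cases hed : e ∈ conjugatesOf d
      · exact hcross e he hed _ hw hwd
      · exact (mk_eq_one_iff hH).1 h1 e (hout e he hed).1
    have h3 : (w : G) ∈ Subgroup.center G :=
      Subgroup.mem_center_iff.2 fun z => (commute_all hD.2.2 h2 z).symm.eq
    rw [hZ, Subgroup.mem_bot] at h3
    exact ne_one hD.1 hw h3
  have hfE : f ∈ dperp D d := (hout f hf hfd).1
  -- the conjugates of `d` commuting with `d` are central in `H`
  have hcen : ∀ u : H, (u : G) ∈ dperp D d → (u : G) ∈ conjugatesOf d →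
      u ∈ Subgroup.center H := by
    intro u hu hud
    by_contra hcu
    have hu1 : (u : H ⧸ Subgroup.center H) ≠ 1 := fun h => hcu ((QuotientGroup.eq_one_iff u).1 h)
    set f' : H := ⟨f, mem_H hH hfE⟩
    obtain ⟨k, hk⟩ := class_isConj hG.1
      (show (f' : H ⧸ Subgroup.center H) ∈ lowImage H (dperp D d) \ {1} from
        ⟨⟨f', hfE, rfl⟩, hmk f' hf hfd⟩)
      (show (u : H ⧸ Subgroup.center H) ∈ lowImage H (dperp D d) \ {1} from ⟨⟨u, hu, rfl⟩, hu1⟩)
    obtain ⟨k, rfl⟩ := QuotientGroup.mk_surjective k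
    have hk' : ((k * f' * k⁻¹ : H) : H ⧸ Subgroup.center H) = u := hk
    have hv : ((k * f' * k⁻¹ : H) : G) ∈ dperp D d := by
      simpa [f'] using dperp_conj_H hD hH k.2 hfE
    have hvd : ((k * f' * k⁻¹ : H) : G) ∉ conjugatesOf d := by
      intro hh
      simp only [Subgroup.coe_mul, Subgroup.coe_inv] at hh
      exact hfd (IsConj.trans hh (IsConj.symm (isConj_iff.2 ⟨(k : G), rfl⟩)))
    refine hcu (mem_center_of_commute_dperp hH fun e he => ?_)
    by_cases hed : e ∈ conjugatesOf d
    · have h1 := hcross e he.1 hed _ hv.1 hvd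
      have := reflect hD hH hu (v := ⟨e, mem_H hH he⟩) he (by
        rw [← hk']
        exact (show Commute (k * f' * k⁻¹ : H) ⟨e, mem_H hH he⟩ from Subtype.ext h1.eq).map
          (QuotientGroup.mk' _))
      exact this
    · exact (hcross (u : G) hu.1 hud e he.1 hed).symm
  -- so `H` is `L` times a central subgroup
  have hLH : L ≤ H := by
    rw [hL, hH]
    exact Subgroup.closure_mono Set.inter_subset_left
  set φ : L →* H ⧸ Subgroup.center H := (QuotientGroup.mk' _).comp (Subgroup.inclusion hLH)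
  have hsurj : Function.Surjective φ := by
    rw [← MonoidHom.range_eq_top, eq_top_iff,
      ← Subgroup.map_top_of_surjective _ (QuotientGroup.mk'_surjective (Subgroup.center H)),
      ← closure_preimage hH, MonoidHom.map_closure, Subgroup.closure_le]
    rintro - ⟨x, hx, rfl⟩
    by_cases hxd : (x : G) ∈ conjugatesOf d
    · exact ⟨1, by simp [(QuotientGroup.eq_one_iff x).2 (hcen x hx hxd)]⟩
    · exact ⟨⟨x, hL ▸ Subgroup.subset_closure (hout x hx.1 hxd)⟩, rfl⟩
  have hker : φ.ker = Subgroup.center L := by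
    ext x
    rw [MonoidHom.mem_ker]
    show ((Subgroup.inclusion hLH x : H) : H ⧸ Subgroup.center H) = 1 ↔ _
    rw [QuotientGroup.eq_one_iff]
    constructor
    · intro h
      exact Subgroup.mem_center_iff.2 fun y => Subtype.ext
        (congrArg Subtype.val (Subgroup.mem_center_iff.1 h (Subgroup.inclusion hLH y)) :)
    · intro h
      refine mem_center_of_commute_dperp hH fun e he => ?_
      by_cases hed : e ∈ conjugatesOf d
      · exact (congrArg Subtype.val
          (Subgroup.mem_center_iff.1 (hcen ⟨e, mem_H hH he⟩ he hed) ⟨x, hLH x.2⟩) :)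
      · exact ((congrArg Subtype.val (Subgroup.mem_center_iff.1 h
          ⟨e, hL ▸ Subgroup.subset_closure (hout e he.1 hed)⟩) : e * (x : G) = x * e)).symm
  exact hiso.false
    ((QuotientGroup.quotientMulEquivOfEq hker).symm.trans
      (QuotientGroup.quotientKerEquivOfSurjective φ hsurj))

variable [Finite G] (hcls : IsThreeTranspositionClass D)
  (hG : GoodClass (lowImage H (dperp D d) \ {1}))

include hcls hG

/-- The class itself has no twins. -/
theorem noTwins_of_local : NoTwins D := by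
  intro x hx y hy hxy
  by_contra hne
  have htw : ∀ w ∈ D, ∃ w' ∈ D, w' ≠ w ∧ Tau D w w' := by
    intro w hw
    obtain ⟨g, rfl⟩ := class_isConj hcls hx hw
    exact ⟨g * y * g⁻¹, hD.2.1 g y hy, fun h => hne (mul_left_cancel (mul_right_cancel h)).symm,
      tau_conj hD.2.1 g hxy⟩
  obtain ⟨q, hq, -⟩ := hG.2.1
  obtain ⟨⟨w, hw, rfl⟩, hw1⟩ := hq
  obtain ⟨w', hw', hne', ht⟩ := htw _ hw.1
  obtain ⟨e, he, hwe⟩ : ∃ e ∈ dperp D d, ¬ Commute (w : G) e := by
    by_contra hcon
    push Not at hcon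
    exact hw1 ((mk_eq_one_iff hH).2 hcon)
  have hw'd : w' ≠ d := by
    rintro rfl
    exact hwe ((ht e he.1).2 he.2.2)
  have hw'E : w' ∈ dperp D d := ⟨hw', hw'd, ((ht d hd).1 hw.2.2.symm).symm⟩
  set v : H := ⟨w', mem_H hH hw'E⟩
  have hv1 : (v : H ⧸ Subgroup.center H) ≠ 1 := fun h =>
    hwe ((ht e he.1).2 ((mk_eq_one_iff hH).1 h e he))
  have heq := hG.2.2 _ ⟨⟨w, hw, rfl⟩, hw1⟩ _ ⟨⟨v, hw'E, rfl⟩, hv1⟩ (by
    rintro - ⟨⟨z, hz, rfl⟩, -⟩
    constructor
    · intro h
      exact (show Commute v z from Subtype.ext ((ht z hz.1).1 (reflect hD hH hw hz h)).eq).map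
        (QuotientGroup.mk' _)
    · intro h
      exact (show Commute w z from Subtype.ext ((ht z hz.1).2 (reflect hD hH hw'E hz h)).eq).map
        (QuotientGroup.mk' _))
  exact hne' (congrArg Subtype.val (eq_of_mk_eq hD hH hw hw'E hw1 heq)).symm

variable (hN : NoTwins D)

include hN

/-- No member commuting with `d` is central in `H`. -/
theorem mk_ne_one {u : H} (hu : (u : G) ∈ dperp D d) : (u : H ⧸ Subgroup.center H) ≠ 1 := by
  intro h1
  have hsub : {e | e ∈ D ∧ Commute d e} ⊆ {e | e ∈ D ∧ Commute (u : G) e} := by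
    rintro e ⟨he, hde⟩
    rcases eq_or_ne e d with rfl | hne
    · exact ⟨he, hu.2.2.symm⟩
    · exact ⟨he, (mk_eq_one_iff hH).1 h1 e ⟨he, hne, hde⟩⟩
  obtain ⟨g, hg⟩ := class_isConj hcls hd hu.1
  have himg : {e | e ∈ D ∧ Commute (u : G) e} =
      (fun z => g * z * g⁻¹) '' {e | e ∈ D ∧ Commute d e} := by
    apply Set.ext
    intro e
    constructor
    · rintro ⟨he, hue⟩
      obtain ⟨e', he', rfl⟩ := conj_partner hD.2.1 g he
      rw [← hg, commute_conj] at hue
      exact ⟨e', ⟨he', hue⟩, rfl⟩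
    · rintro ⟨e', ⟨he', hde⟩, rfl⟩
      exact ⟨hD.2.1 g e' he', hg ▸ (commute_conj g d e').2 hde⟩
  have heq := Set.eq_of_subset_of_ncard_le hsub (by
    rw [himg, Set.ncard_image_of_injective _ fun p q h => mul_left_cancel (mul_right_cancel h)])
    (Set.toFinite _)
  refine hu.2.1 (hN _ hu.1 d hd fun e he => ⟨fun h => ?_, fun h => (hsub ⟨he, h⟩).2⟩)
  exact (heq.symm ▸ (⟨he, h⟩ : e ∈ {e | e ∈ D ∧ Commute (u : G) e}) :
    e ∈ {e | e ∈ D ∧ Commute d e}).2

theorem lowImage_diff : lowImage H (dperp D d) \ {1} = lowImage H (dperp D d) :=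
  Set.sdiff_singleton_eq_self (by
    rintro ⟨x, hx, hx1⟩
    exact mk_ne_one hD hd hH hcls hG hN hx hx1)

/-- The members commuting with `d` have no twins among themselves. -/
theorem noTwins_dperp_base : NoTwins (dperp D d) := by
  intro x hx y hy hxy
  have hmem : ∀ u : H, (u : G) ∈ dperp D d →
      (u : H ⧸ Subgroup.center H) ∈ lowImage H (dperp D d) \ {1} := fun u hu =>
    ⟨⟨u, hu, rfl⟩, mk_ne_one hD hd hH hcls hG hN hu⟩
  set u : H := ⟨x, mem_H hH hx⟩
  set v : H := ⟨y, mem_H hH hy⟩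
  have heq := hG.2.2 _ (hmem u hx) _ (hmem v hy) (by
    rintro - ⟨⟨z, hz, rfl⟩, -⟩
    constructor
    · intro h
      exact (show Commute v z from Subtype.ext ((hxy z hz).1 (reflect hD hH (u := u) hx hz h)).eq).map
        (QuotientGroup.mk' _)
    · intro h
      exact (show Commute u z from Subtype.ext ((hxy z hz).2 (reflect hD hH (u := v) hy hz h)).eq).map
        (QuotientGroup.mk' _))
  exact congrArg Subtype.val
    (eq_of_mk_eq hD hH (u := u) (v := v) hx hy (mk_ne_one hD hd hH hcls hG hN hx) heq)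

/-- For every member, the members commuting with it have no twins among themselves. -/
theorem noTwins_dperp (ha : a ∈ D) : NoTwins (dperp D a) := by
  obtain ⟨g, hg⟩ := class_isConj hcls ha hd
  refine noTwins_of_conj g (fun y => ?_) (noTwins_dperp_base hD hd hH hcls hG hN)
  rw [← hg]
  exact dperp_iff_conj g a (mem_iff_conj hD.2.1 g) y

/-- The same one layer further down. -/
theorem noTwins_dperp_dperp
    (hdeep : ∀ q ∈ lowImage H (dperp D d) \ {1}, NoTwins (dperp (lowImage H (dperp D d) \ {1}) q))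
    (ha : a ∈ D) (hb : b ∈ dperp D a) : NoTwins (dperp (dperp D a) b) := by
  obtain ⟨g, hg⟩ := class_isConj hcls ha hd
  have hST : ∀ y, y ∈ dperp D a ↔ g * y * g⁻¹ ∈ dperp D d := fun y => by
    rw [← hg]
    exact dperp_iff_conj g a (mem_iff_conj hD.2.1 g) y
  refine noTwins_of_conj g (dperp_iff_conj g b hST) ?_
  intro x hx y hy hxy
  have hne : ∀ u : H, (u : G) ∈ dperp D d → (u : H ⧸ Subgroup.center H) ≠ 1 := fun u hu =>
    mk_ne_one hD hd hH hcls hG hN hu
  have hbE := (hST b).1 hb
  set w : H := ⟨_, mem_H hH hbE⟩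
  have hmem : ∀ u : H, (u : G) ∈ dperp (dperp D d) (g * b * g⁻¹) →
      (u : H ⧸ Subgroup.center H) ∈ dperp (lowImage H (dperp D d) \ {1}) w := fun u hu =>
    ⟨⟨⟨u, hu.1, rfl⟩, hne u hu.1⟩,
      fun h => hu.2.1 (congrArg Subtype.val (eq_of_mk_eq hD hH hu.1 hbE (hne u hu.1) h)),
      (show Commute w u from Subtype.ext hu.2.2.eq).map (QuotientGroup.mk' _)⟩
  set u : H := ⟨x, mem_H hH hx.1⟩
  set v : H := ⟨y, mem_H hH hy.1⟩
  have heq := hdeep w ⟨⟨w, hbE, rfl⟩, hne w hbE⟩ _ (hmem u hx) _ (hmem v hy) (by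
    rintro - ⟨⟨⟨z, hz, rfl⟩, -⟩, hzw, hwz⟩
    have hz' : (z : G) ∈ dperp (dperp D d) (g * b * g⁻¹) :=
      ⟨hz, fun h => hzw (by rw [show z = w from Subtype.ext h]),
        reflect hD hH (u := w) hbE hz hwz⟩
    constructor
    · intro h
      exact (show Commute v z from
        Subtype.ext ((hxy _ hz').1 (reflect hD hH (u := u) hx.1 hz h)).eq).map (QuotientGroup.mk' _)
    · intro h
      exact (show Commute u z from
        Subtype.ext ((hxy _ hz').2 (reflect hD hH (u := v) hy.1 hz h)).eq).map (QuotientGroup.mk' _))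
  exact congrArg Subtype.val (eq_of_mk_eq hD hH (u := u) (v := v) hx.1 hy.1 (hne u hx.1) heq)

/-- Commuting members in the layer below `a` have a common partner there. -/
theorem exists_partner_dperp (ha : a ∈ D) {p q : G} (hp : p ∈ dperp D a) (hq : q ∈ dperp D a)
    (hpq : Commute p q) (hne : p ≠ q) :
    ∃ w ∈ dperp D a, ¬ Commute w p ∧ ¬ Commute w q := by
  obtain ⟨g, hg⟩ := class_isConj hcls ha hd
  have hST : ∀ y, y ∈ dperp D a ↔ g * y * g⁻¹ ∈ dperp D d := fun y => by
    rw [← hg]
    exact dperp_iff_conj g a (mem_iff_conj hD.2.1 g) y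
  set p' : H := ⟨_, mem_H hH ((hST p).1 hp)⟩
  set q' : H := ⟨_, mem_H hH ((hST q).1 hq)⟩
  have hp1 := mk_ne_one hD hd hH hcls hG hN (u := p') ((hST p).1 hp)
  have hq1 := mk_ne_one hD hd hH hcls hG hN (u := q') ((hST q).1 hq)
  obtain ⟨t, ⟨⟨t, ht, rfl⟩, -⟩, ht1, ht2⟩ := exists_common_partner hG.1 hG.2.1
    (p := (p' : H ⧸ Subgroup.center H)) (q := (q' : H ⧸ Subgroup.center H))
    ⟨⟨p', (hST p).1 hp, rfl⟩, hp1⟩ ⟨⟨q', (hST q).1 hq, rfl⟩, hq1⟩
    ((show Commute p' q' from Subtype.ext ((commute_conj g p q).2 hpq).eq).map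
      (QuotientGroup.mk' _))
    (fun h => hne (mul_left_cancel (mul_right_cancel
      (congrArg Subtype.val (eq_of_mk_eq hD hH ((hST p).1 hp) ((hST q).1 hq) hp1 h)))))
  obtain ⟨w, hw, hwt⟩ := conj_partner hD.2.1 g ht.1
  refine ⟨w, (hST w).2 (by rw [hwt]; exact ht), fun h => ht1 ?_, fun h => ht2 ?_⟩
  · exact (show Commute t p' from Subtype.ext (by
      show (t : G) * (g * p * g⁻¹) = g * p * g⁻¹ * (t : G)
      rw [← hwt]; exact ((commute_conj g w p).2 h).eq)).map
        (QuotientGroup.mk' _)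
  · exact (show Commute t q' from Subtype.ext (by
      show (t : G) * (g * q * g⁻¹) = g * q * g⁻¹ * (t : G)
      rw [← hwt]; exact ((commute_conj g w q).2 h).eq)).map
        (QuotientGroup.mk' _)

end Local

end Cfsg.Agent.ThreeTrans
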