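import Cfsg.Agent.ThreeTrans.SignM24

/-!
# Type M(24): layer, width and centralisers of members
-/

set_option autoImplicit false

open Cfsg
open scoped commutatorElement

namespace Cfsg.Agent.ThreeTrans

universe u

variable {G : Type u} [Group G] [Finite G] {D : Set G} {X : Type u} [Group X] [Finite X] {E : Set X}
  (hD : IsThreeTranspositionGroup D) (hZ : Subgroup.center G = ⊥) (hB : M24Base D E)

include hD hZ hB

/-- The members commuting with a member generate its centraliser. -/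
theorem closure_eq_centralizer24 {d : G} (hd : d ∈ D) :
    Subgroup.closure (dperp D d) = Subgroup.centralizer ({d} : Set G) := by
  obtain ⟨φ, hφ⟩ := exists_sign24 hD hZ hB
  have hmaps := (cover24 hD hZ hB hd).maps
  set C := Subgroup.centralizer ({d} : Set G)
  obtain ⟨χ, ψ, hχ, hker, hagree, hiso⟩ := hmaps
  set H := Subgroup.closure (dperp D d) with hH
  have hHC : H ≤ C := by
    rw [hH, Subgroup.closure_le]
    exact fun x hx => Subgroup.mem_centralizer_singleton_iff.2 hx.2.2.symm.eq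
  -- the group of type M(23) is perfect
  obtain ⟨Y, _, _, E₀, hE₀, hcls₀, h22, hcov⟩ :=
    exists_cover23 hB.group (prim_M23 hB.group hB.m23) hB.m23
  have hperf : commutator X = ⊤ := perfect_M23 hB.group
    (class_of_primitive hB.group (prim_M23 hB.group hB.m23))
    (m23Data hB.group (prim_M23 hB.group hB.m23) hB.m23) hE₀ hcls₀ h22 hcov
  set η : H →* X := χ.comp (Subgroup.inclusion hHC)
  have hη : Function.Surjective η := by
    rw [← MonoidHom.range_eq_top, eq_top_iff, ← hB.group.2.2, Subgroup.closure_le]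
    intro q hq
    obtain ⟨x, hx, rfl⟩ := hiso.bij.surjOn hq
    exact ⟨⟨x, Subgroup.subset_closure hx⟩,
      (hagree ⟨x, hHC (Subgroup.subset_closure hx)⟩ hx).symm⟩
  have hdH : d ∈ H := by
    obtain ⟨x, hx⟩ : (dperp D d).Nonempty :=
      Set.nonempty_of_ncard_ne_zero (by rw [(layer_counts24 hB hd).1]; norm_num)
    set xH : H := ⟨x, Subgroup.subset_closure hx⟩
    have hmem : η xH ∈ (commutator H).map η := by
      rw [commutator_def, Subgroup.map_commutator, Subgroup.map_top_of_surjective η hη,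
        ← commutator_def, hperf]
      trivial
    obtain ⟨k, hk, hkx⟩ := hmem
    have hφk : φ (k : G) = 1 := (Abelianization.commutator_subset_ker (φ.comp H.subtype)) hk
    have h1 : χ ((Subgroup.inclusion hHC k)⁻¹ * Subgroup.inclusion hHC xH) = 1 := by
      rw [map_mul, map_inv, show χ (Subgroup.inclusion hHC k) = η k from rfl,
        show χ (Subgroup.inclusion hHC xH) = η xH from rfl, hkx, inv_mul_cancel]
    rcases (hker _).1 h1 with h | h <;> simp only [Subgroup.coe_mul, Subgroup.coe_inv,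
      Subgroup.coe_inclusion] at h
    · have hkx' : (k : G) = x := inv_mul_eq_one.1 h
      rw [hkx', hφ x hx.1] at hφk
      exact absurd hφk (by decide)
    · exact h ▸ mul_mem (inv_mem k.2) xH.2
  refine le_antisymm hHC fun g hg => ?_
  obtain ⟨k, hk⟩ := hη (χ ⟨g, hg⟩)
  have h1 : χ ((Subgroup.inclusion hHC k)⁻¹ * ⟨g, hg⟩) = 1 := by
    rw [map_mul, map_inv, show χ (Subgroup.inclusion hHC k) = η k from rfl, hk, inv_mul_cancel]
  rcases (hker _).1 h1 with h | h <;> simp only [Subgroup.coe_mul, Subgroup.coe_inv,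
    Subgroup.coe_inclusion] at h
  · exact inv_mul_eq_one.1 h ▸ k.2
  · rw [inv_mul_eq_iff_eq_mul.1 h]; exact mul_mem k.2 hdH

/-- The width of type M(24). -/
theorem width_M24 {a : G} (ha : a ∈ D) : commutingWidth D = 24 := by
  obtain ⟨Y, _, _, E₀, hE₀, hcls₀, h22, hcov⟩ :=
    exists_cover23 hB.group (prim_M23 hB.group hB.m23) hB.m23
  have hp := prim_M23 hB.group hB.m23
  obtain ⟨u, hu, -⟩ := id hp.2.1
  have h23 : commutingWidth E = 23 := width_M23 hB.group (class_of_primitive hB.group hp)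
    (m23Data hB.group hp hB.m23) hE₀ hcls₀ h22 hcov hu
  have hbdd : BddAbove {n : ℕ | ∃ C : Set X, C ⊆ E ∧ C.Finite ∧
      (∀ p ∈ C, ∀ q ∈ C, Commute p q) ∧ C.ncard = n} := ⟨Nat.card X, by
    rintro n ⟨C, -, -, -, rfl⟩
    exact Set.ncard_le_card _⟩
  refine IsGreatest.csSup_eq ⟨?_, ?_⟩
  · obtain ⟨C, hC, -, hCc, hC23⟩ := Nat.sSup_mem (s := {n : ℕ | ∃ C : Set X, C ⊆ E ∧ C.Finite ∧
        (∀ p ∈ C, ∀ q ∈ C, Commute p q) ∧ C.ncard = n})
      ⟨0, ∅, Set.empty_subset _, Set.finite_empty, by simp, by simp⟩ hbdd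
    replace hC23 : C.ncard = 23 := hC23.trans h23
    obtain ⟨φ, hφ⟩ := hB.iso a ha
    set B := {v | v ∈ dperp D a ∧ φ v ∈ C}
    have hB23 : B.ncard = 23 := by
      rw [hφ.ncard_sep _ (fun k => k ∈ C) fun v _ => Iff.rfl, ← hC23]
      congr 1
      ext k
      exact ⟨fun hk => hk.2, fun hk => ⟨hC hk, hk⟩⟩
    refine ⟨insert a B, Set.insert_subset ha fun v hv => hv.1.1, Set.toFinite _, ?_, ?_⟩
    · rintro p (rfl | hp) q (rfl | hq)
      exacts [Commute.refl _, hq.1.2.2, hp.1.2.2.symm,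
        (hφ.comm p hp.1 q hq.1).1 (hCc _ hp.2 _ hq.2)]
    · rw [Set.ncard_insert_of_notMem (fun h => h.1.2.1 rfl) (Set.toFinite _), hB23]
  rintro n ⟨C, hC, hCf, hCc, rfl⟩
  rcases C.eq_empty_or_nonempty with rfl | ⟨b, hb⟩
  · simp
  obtain ⟨φ, hφ⟩ := hB.iso b (hC hb)
  have h1 := Set.ncard_sdiff_singleton_add_one hb hCf
  have hsub : C \ {b} ⊆ dperp D b := fun v hv => ⟨hC hv.1, hv.2, hCc b hb v hv.1⟩
  have h2 : (φ '' (C \ {b})).ncard ≤ 23 := h23 ▸ le_csSup hbdd
    ⟨φ '' (C \ {b}), Set.image_subset_iff.2 fun v hv => hφ.bij.mapsTo (hsub hv), Set.toFinite _,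
      by rintro - ⟨p, hp, rfl⟩ - ⟨q, hq, rfl⟩
         exact (hφ.comm p (hsub hp) q (hsub hq)).2 (hCc p hp.1 q hq.1), rfl⟩
  rw [(hφ.bij.injOn.mono hsub).ncard_image] at h2
  omega

/-- The layer has index two. -/
theorem layer_index_M24 (hprim : IsPrimitiveUnderConj D) : (layer G).index = 2 := by
  obtain ⟨a, ha, -⟩ := id hprim.2.1
  obtain ⟨b, hb⟩ : (dperp D a).Nonempty :=
    Set.nonempty_of_ncard_ne_zero (by rw [(layer_counts24 hB ha).1]; norm_num)
  obtain ⟨h2, h3, hconn⟩ := primitive_facts hD hprim ⟨a, ha, b, hb.1, hb.2.1.symm, hb.2.2⟩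
  obtain ⟨L, hLn, hLq, hlay, -⟩ := exists_quasisimple hB.cls hprim.2.1 h2 h3
  have hidx := index_le_two hB.cls hprim.2.1 h2 h3 hLq hconn
  rw [hlay]
  obtain ⟨φ, hφ⟩ := exists_sign24 hD hZ hB
  have hne : L.index ≠ 1 := fun h => by
    have hL : L ≤ φ.ker := commutator_eq hLq hidx ▸ Abelianization.commutator_subset_ker φ
    rw [Subgroup.index_eq_one.1 h] at hL
    have := hL (Subgroup.mem_top a)
    rw [MonoidHom.mem_ker, hφ a ha] at this
    exact absurd this (by decide)
  have := L.index_ne_zero_of_finite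
  omega

end Cfsg.Agent.ThreeTrans
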