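import Cfsg.Agent.ThreeTrans.UnitaryArc
import Cfsg.Agent.ThreeTrans.UnitaryResidue
import Cfsg.Agent.ThreeTrans.CountM22

/-!
# Counts in the unitary model and in the layers of type M(22)

Common partners of two members that do not commute (45), of a commuting pair and a member moving
both (13), the size of a plane (21), and two ovals on the same triple.
-/

set_option autoImplicit false

open Cfsg Cfsg.Agent.Classical Cfsg.Agent.Classical.Herm Module

namespace Cfsg.Agent.ThreeTrans

/-- Successive conjugation by the members of a list. -/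
def conjList {G : Type*} [Group G] (l : List G) (w : G) : G := l.foldr (fun p u => p * u * p) w

/-- The numbers used in a layer. -/
structure LayerCounts {G : Type*} [Group G] (S : Set G) : Prop where
  pair : ∀ a ∈ S, ∀ z ∈ S, ¬ Commute a z →
    {v | v ∈ S ∧ Commute v a ∧ Commute v z}.ncard = 45
  triple : ∀ a ∈ S, ∀ b ∈ dperp S a, ∀ z ∈ S, ¬ Commute z a → ¬ Commute z b →
    {v | v ∈ S ∧ Commute v a ∧ Commute v b ∧ Commute v z}.ncard = 13
  plane : ∀ p ∈ S, ∀ q ∈ dperp S p, ∀ r ∈ S, Commute r p → Commute r q → r ∉ ln S p q →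
    21 ≤ (pl S p q r).ncard
  ovals : ∀ a ∈ S, ∀ b ∈ dperp S a, ∀ x ∈ S, Commute x a → Commute x b → x ∉ ln S a b →
    ∃ T T' : List G, T.length = 3 ∧ T'.length = 3 ∧
    (a :: b :: x :: (T ++ T')).Nodup ∧ (∀ p ∈ a :: b :: x :: (T ++ T'), p ∈ S) ∧
    (∀ p ∈ a :: b :: x :: (T ++ T'), ∀ q ∈ a :: b :: x :: (T ++ T'), Commute p q) ∧
    ∀ w ∈ S, conjList (a :: b :: x :: T) w = w ∧ conjList (a :: b :: x :: T') w = w

namespace UModel

variable {F V : Type*} [Field F] [AddCommGroup V] [Module F V] {θ : F →+* F}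
  {B : V →ₛₗ[θ] V →ₗ[F] F} (hB : Space B)

include hB

/-- A frame over a given hyperbolic pair. -/
theorem exists_res_with (e : Pt B) {f : V} (hff : B f f = 0) (hef : B e.1 f = 1) :
    ∃ R : Res e, R.f = f := by
  obtain ⟨R⟩ := exists_res hB e
  have hfe := symm_one hB hef
  refine ⟨⟨f, hff, hef, fun i => R.b i + B f (R.b i) • e.1, fun i j => ?_, fun i => ?_, fun i => ?_,
    fun x hx hfx => ?_⟩, rfl⟩
  · have := R.on i j
    simp [(symm_zero hB).1 (R.eb i), R.eb j, e.2.2, this]
  · simp [R.eb i, e.2.2]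
  · simp [hfe, add_self' hB]
  · have hbx : ∀ i, B (R.b i + B f (R.b i) • e.1) x = B (R.b i) x := fun i => by simp [hx]
    have hs := R.split hB hx
    rw [R.up_apply hB] at hs
    simp only [hbx, smul_add, Finset.sum_add_distrib, smul_smul, ← Finset.sum_smul]
    have hk : ∑ i, B (R.b i) x * B f (R.b i) = B R.f x := by
      have h1 := hfx
      rw [hs] at h1
      simp only [map_add, map_sum, map_smul, smul_eq_mul, hfe, mul_one, Res.down, LinearMap.pi_apply]
        at h1
      exact eq_of_add hB _ _ h1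
    rw [hk]
    exact hs

variable {K : Type*} [Group K] {E : Set K} {tp : Pt B → K} (hM : Model B E tp)

include hM

/-- The points perpendicular to a hyperbolic pair are those of the residue. -/
theorem card_perp_pair (e : Pt B) (R : Res e) (P : (Fin 4 → F) → Prop) (h0 : P 0)
    (hP : ∀ (k : F) (u : Fin 4 → F), P u → P (k • u)) [Finite K] {A : Set K}
    (hA : ∀ g, g ∈ A ↔ ∃ v : Pt B, tp v = g ∧ B e.1 v.1 = 0 ∧ B R.f v.1 = 0 ∧ P (R.down v.1)) :
    Nat.card {u : Fin 4 → F // hermB 4 θ u u = 0 ∧ P u} = A.ncard * Nat.card Fˣ + 1 := by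
  classical
  have := hB.fin
  have := hB.finF
  have : Finite V := Module.finite_of_finite F
  have hAE : A ⊆ E := by
    intro g hg
    obtain ⟨v, rfl, -⟩ := (hA g).1 hg
    exact tp_mem hM v
  rw [← card_reps hB hM A hAE, ← Finite.card_option]
  have hrep : ∀ v : Pt B, tp v ∈ A → B e.1 v.1 = 0 ∧ B R.f v.1 = 0 ∧ P (R.down v.1) := by
    intro v hv
    obtain ⟨v', hv', h1, h2, h3⟩ := (hA _).1 hv
    obtain ⟨k, hk⟩ := (hM.eq_iff v' v).1 hv'
    rw [hk]
    exact ⟨by simp [h1], by simp [h2], by rw [map_smul]; exact hP k _ h3⟩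
  have hup : ∀ v : Pt B, B e.1 v.1 = 0 → B R.f v.1 = 0 → R.up (R.down v.1) = v.1 := fun v h1 h2 => by
    conv_rhs => rw [R.split hB h1, h2, zero_smul, add_zero]
  have hne : ∀ u : Fin 4 → F, u ≠ 0 → R.up u ≠ 0 := fun u hu h => hu (by
    rw [← R.down_up hB u, h, map_zero])
  have hmk : ∀ u : {u : Fin 4 → F // hermB 4 θ u u = 0 ∧ P u}, ∀ h : u.1 ≠ 0,
      tp ⟨R.up u.1, hne _ h, by rw [R.form_up hB]; exact u.2.1⟩ ∈ A := fun u h =>
    (hA _).2 ⟨_, rfl, R.e_up hB _, R.f_up hB _, by rw [R.down_up hB]; exact u.2.2⟩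
  refine Nat.card_congr
    { toFun := fun u => if h : u.1 = 0 then none else some ⟨_, hmk u h⟩
      invFun := fun o => o.elim ⟨0, by simp, h0⟩ fun v => ⟨R.down v.1.1, by
        obtain ⟨h1, h2, -⟩ := hrep v.1 v.2
        rw [← R.form_up hB, hup _ h1 h2, v.1.2.2], (hrep v.1 v.2).2.2⟩
      left_inv := fun u => ?_
      right_inv := fun o => ?_ }
  · by_cases h : u.1 = 0
    · simp only [h, dite_true, Option.elim]
      exact Subtype.ext h.symm
    · simp only [h, dite_false, Option.elim]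
      exact Subtype.ext (R.down_up hB _)
  · rcases o with _ | v
    · simp
    · obtain ⟨h1, h2, -⟩ := hrep v.1 v.2
      have hd : R.down v.1.1 ≠ 0 := fun h => v.1.2.1 (by rw [← hup _ h1 h2, h, map_zero])
      dsimp only [Option.elim]
      rw [dif_neg hd]
      refine congrArg some (Subtype.ext (Subtype.ext ?_))
      exact hup v.1 h1 h2

omit hM in
theorem down_ne_zero {e : Pt B} (R : Res e) {u : V} (hu : B e.1 u = 0)
    (h : ∀ k : F, u ≠ k • e.1) : R.down u ≠ 0 := fun hd => h (B R.f u) (by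
  conv_lhs => rw [R.split hB hu, hd, map_zero, zero_add])

/-- A combination of three independent vectors is determined by them. -/
theorem coord_eq {b c r : Pt B} (hind : ∀ k : F, c.1 ≠ k • b.1)
    (hr : ∀ α β : F, r.1 ≠ α • b.1 + β • c.1) {α β γ α' β' γ' : F}
    (h : α • b.1 + β • c.1 + γ • r.1 = α' • b.1 + β' • c.1 + γ' • r.1) :
    α = α' ∧ β = β' ∧ γ = γ' := by
  have hγ : γ = γ' := by
    by_contra hne
    have h2 : γ - γ' ≠ 0 := sub_ne_zero.2 hne
    refine hr ((γ - γ')⁻¹ * (α' - α)) ((γ - γ')⁻¹ * (β' - β)) (smul_right_injective V h2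
      (show (γ - γ') • r.1 = (γ - γ') • _ from ?_))
    rw [smul_add, smul_smul, smul_smul, mul_inv_cancel_left₀ h2, mul_inv_cancel_left₀ h2]
    linear_combination (norm := module) h
  subst hγ
  have hβ : β = β' := by
    by_contra hne
    have h2 : β - β' ≠ 0 := sub_ne_zero.2 hne
    refine hind ((β - β')⁻¹ * (α' - α)) (smul_right_injective V h2
      (show (β - β') • c.1 = (β - β') • _ from ?_))
    rw [smul_smul, mul_inv_cancel_left₀ h2]
    linear_combination (norm := module) h
  subst hβ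
  refine ⟨smul_left_injective F b.2.1 (show α • b.1 = α' • b.1 from ?_), rfl, rfl⟩
  linear_combination (norm := module) h

/-- Conjugation by mutually perpendicular points adds their multiples. -/
theorem conjList_tp (w : Pt B) : ∀ l : List (Pt B), l.Pairwise (fun p q => B p.1 q.1 = 0) →
    ∃ u : Pt B, conjList (l.map tp) (tp w) = tp u ∧
      u.1 = w.1 + (l.map fun p => B p.1 w.1 • p.1).sum
  | [], _ => ⟨w, rfl, by simp⟩
  | p :: l, h => by
    obtain ⟨hp, hl⟩ := List.pairwise_cons.1 h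
    obtain ⟨u, hu, hu'⟩ := conjList_tp w l hl
    obtain ⟨u', h1, h2⟩ := exists_move hB hM p u
    refine ⟨u', ?_, ?_⟩
    · show tp p * conjList (l.map tp) (tp w) * tp p = tp u'
      rw [hu, h2]
    have hz : B p.1 ((l.map fun q => B q.1 w.1 • q.1).sum) = 0 := by
      rw [map_list_sum, List.map_map]
      refine List.sum_eq_zero fun k hk => ?_
      obtain ⟨q, hq, rfl⟩ := List.mem_map.1 hk
      simp [hp q hq]
    rw [h1, hu', map_add, hz, add_zero, List.map_cons, List.sum_cons]
    abel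

theorem layer_counts (hF : Nat.card F = 4) [Finite K] : LayerCounts E := by
  classical
  have := hB.finF
  have := Fintype.ofFinite F
  have hσ : IsInvol θ := hB.herm.toIsInvol
  have hq : Nat.card (fixField θ) = 2 := by
    have h := card_eq_fix_sq (F := F) hσ
    rw [hF] at h
    nlinarith [h]
  have hU : Nat.card Fˣ = 3 := by rw [Nat.card_units, hF]
  refine ⟨?_, ?_, ?_, ?_⟩
  · intro ga hga gz hgz haz
    obtain ⟨a, rfl⟩ := exists_tp hM hga
    obtain ⟨z₀, rfl⟩ := exists_tp hM hgz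
    rw [hM.comm_iff] at haz
    obtain ⟨z, ez, az⟩ := exists_normal hB hM a z₀ haz
    rw [← ez]
    obtain ⟨R, hR⟩ := exists_res_with hB a z.2.2 az
    have h := card_perp_pair hB hM a R (fun _ => True) trivial (fun _ _ _ => trivial)
      (A := {v | v ∈ E ∧ Commute v (tp a) ∧ Commute v (tp z)}) (fun g => by
        constructor
        · rintro ⟨hg, h1, h2⟩
          obtain ⟨v, rfl⟩ := exists_tp hM hg
          rw [hM.comm_iff] at h1 h2
          exact ⟨v, rfl, (symm_zero hB).1 h1, by rw [hR]; exact (symm_zero hB).1 h2, trivial⟩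
        · rintro ⟨v, rfl, h1, h2, -⟩
          rw [hR] at h2
          exact ⟨tp_mem hM v, (hM.comm_iff _ _).2 ((symm_zero hB).1 h1),
            (hM.comm_iff _ _).2 ((symm_zero hB).1 h2)⟩)
    rw [Nat.card_congr (Equiv.subtypeEquivRight (q := fun u => hermB 4 θ u u = 0) fun u => by simp),
      card_herm_isotropic hσ hq, hU] at h
    generalize hN : Set.ncard _ = N at h
    norm_num [Nat.even_iff] at h
    omega
  · intro ga hga gb hgb gz hgz hza hzb
    obtain ⟨a₀, rfl⟩ := exists_tp hM hga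
    obtain ⟨b₀, rfl⟩ := exists_tp hM hgb.1
    obtain ⟨z, rfl⟩ := exists_tp hM hgz
    rw [hM.comm_iff] at hza hzb
    obtain ⟨a, ea, za⟩ := exists_normal hB hM z a₀ hza
    obtain ⟨b, eb, zb⟩ := exists_normal hB hM z b₀ hzb
    rw [← ea, ← eb] at hgb ⊢
    obtain ⟨hab, hind⟩ := (mem_dperp hM a b).1 hgb
    obtain ⟨R, hR⟩ := exists_res_with hB a z.2.2 (symm_one hB za)
    have hb' : R.down b.1 ≠ 0 := down_ne_zero hB R hab hind
    have hbb : hermB 4 θ (R.down b.1) (R.down b.1) = 0 := by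
      rw [← R.form_split hB hab hab, b.2.2]
    have h := card_perp_pair hB hM a R (fun u => hermB 4 θ (R.down b.1) u = 0) (map_zero _)
      (fun k u hu => by rw [map_smul, hu, smul_zero])
      (A := {v | v ∈ E ∧ Commute v (tp a) ∧ Commute v (tp b) ∧ Commute v (tp z)}) (fun g => by
        constructor
        · rintro ⟨hg, h1, h2, h3⟩
          obtain ⟨v, rfl⟩ := exists_tp hM hg
          rw [hM.comm_iff] at h1 h2 h3
          have h1' := (symm_zero hB).1 h1
          exact ⟨v, rfl, h1', by rw [hR]; exact (symm_zero hB).1 h3, by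
            rw [← R.form_split hB hab h1']; exact (symm_zero hB).1 h2⟩
        · rintro ⟨v, rfl, h1, h3, h2⟩
          rw [hR] at h3
          rw [← R.form_split hB hab h1] at h2
          exact ⟨tp_mem hM v, (hM.comm_iff _ _).2 ((symm_zero hB).1 h1),
            (hM.comm_iff _ _).2 ((symm_zero hB).1 h2), (hM.comm_iff _ _).2 ((symm_zero hB).1 h3)⟩)
    have hli : LinearIndependent F ![R.down b.1] := by
      rw [linearIndependent_unique_iff]
      simpa using hb'
    have hc := HermStab.card_perp_frame hσ (n := 4) (i := 1) (by norm_num) (s := ![R.down b.1]) hli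
      (fun j l => by fin_cases j; fin_cases l; simpa using hbb)
    rw [hF, card_herm_isotropic hσ hq, Nat.card_congr (Equiv.subtypeEquivRight
      (q := fun u => hermB 4 θ u u = 0 ∧ hermB 4 θ (R.down b.1) u = 0) fun u => by simp)] at hc
    rw [hc, hU] at h
    generalize hN : Set.ncard _ = N at h
    norm_num [Nat.even_iff] at h
    omega
  · intro gp hgp gq hgq gr hgr hrp hrq hrl
    obtain ⟨b, rfl⟩ := exists_tp hM hgp
    obtain ⟨c, rfl⟩ := exists_tp hM hgq.1
    obtain ⟨r, rfl⟩ := exists_tp hM hgr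
    obtain ⟨hbc, hind⟩ := (mem_dperp hM b c).1 hgq
    rw [hM.comm_iff] at hrp hrq
    have hcb := (symm_zero hB).1 hbc
    have hbr := (symm_zero hB).1 hrp
    have hcr := (symm_zero hB).1 hrq
    have hfr := frame_of hB hM hbc hind hrl
    let f : F × F → Pt B := fun k => ⟨k.1 • b.1 + k.2 • c.1 + (1 : F) • r.1, fun h => by
      have := (coord_eq hB hM hind hfr (α' := 0) (β' := 0) (γ' := 0) (h.trans (by simp))).2.2
      exact one_ne_zero this, by simp [b.2.2, c.2.2, r.2.2, hbc, hcb, hbr, hrp, hcr, hrq]⟩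
    have hinj : Function.Injective fun k => tp (f k) := by
      intro k k' h
      obtain ⟨m, hm⟩ := (hM.eq_iff (f k) (f k')).1 h
      simp only [f, smul_add, smul_smul, mul_one] at hm
      obtain ⟨h1, h2, h3⟩ := coord_eq hB hM hind hfr hm
      rw [← h3, one_mul] at h1 h2
      exact Prod.ext h1.symm h2.symm
    have hsub : ln E (tp b) (tp c) ∪ Set.range (fun k => tp (f k)) ⊆ pl E (tp b) (tp c) (tp r) := by
      rintro g (hg | ⟨k, rfl⟩)
      · exact ⟨hg.1, fun y hy h1 h2 _ => hg.2 y hy h1 h2⟩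
      · exact (mem_pl hB hM hbc hind hbr hcr hrl).2 ⟨_, _, _, rfl⟩
    have hdisj : Disjoint (ln E (tp b) (tp c)) (Set.range fun k => tp (f k)) := by
      rw [Set.disjoint_left]
      rintro g hg ⟨k, rfl⟩
      obtain ⟨α, β, hv⟩ := (mem_ln hB hM b c hbc hind (f k)).1 hg
      simp only [f] at hv
      exact one_ne_zero (coord_eq hB hM hind hfr (α' := α) (β' := β) (γ' := 0)
        (by rw [hv, zero_smul, add_zero])).2.2
    refine le_trans ?_ (Set.ncard_le_ncard hsub (Set.toFinite _))
    rw [Set.ncard_union_eq hdisj (Set.toFinite _) (Set.toFinite _),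
      (lines hB hM hF).five _ hgp _ hgq, ← Nat.card_coe_set_eq,
      Nat.card_range_of_injective hinj, Nat.card_prod, hF]
  · intro ga hg gb hgb gx hgx hxa hxb hxl
    obtain ⟨a, rfl⟩ := exists_tp hM hg
    obtain ⟨b, rfl⟩ := exists_tp hM hgb.1
    obtain ⟨x, rfl⟩ := exists_tp hM hgx
    obtain ⟨hab, hind⟩ := (mem_dperp hM a b).1 hgb
    rw [hM.comm_iff] at hxa hxb
    have hba := (symm_zero hB).1 hab
    have hax := (symm_zero hB).1 hxa
    have hbx := (symm_zero hB).1 hxb
    have hfr := frame_of hB hM hab hind hxl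
    obtain ⟨w, hw⟩ : ∃ w : F, w ∉ ({0, 1} : Finset F) := by
      by_contra hcon
      push Not at hcon
      have h1 := Finset.card_le_card (s := (Finset.univ : Finset F)) (t := {0, 1}) fun y _ => hcon y
      rw [Finset.card_univ, ← Nat.card_eq_fintype_card, hF] at h1
      have h2 : ({0, 1} : Finset F).card ≤ 2 := Finset.card_le_two
      omega
    simp only [Finset.mem_insert, Finset.mem_singleton, not_or] at hw
    obtain ⟨hw0, hw1⟩ := hw
    have hw1' : w + 1 ≠ 0 := fun h => hw1 (eq_of_add hB _ _ h)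
    have n1 := norm_one hB hw0
    have n2 := norm_one hB hw1'
    rw [map_add, map_one] at n2
    have hθ : θ w = w + 1 := by linear_combination n2 - n1 - add_self' hB (w + 1)
    have hsq : w * w + w + 1 = 0 := by rw [hθ] at n1; linear_combination n1 + two hB
    -- a normalised point for each coordinate triple
    have hz : ∀ α β γ : F, (α ≠ 0 ∨ β ≠ 0 ∨ γ ≠ 0) → α • a.1 + β • b.1 + γ • x.1 ≠ 0 ∧
        B (α • a.1 + β • b.1 + γ • x.1) (α • a.1 + β • b.1 + γ • x.1) = 0 := by
      intro α β γ h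
      refine ⟨fun h0 => ?_, by simp [a.2.2, b.2.2, x.2.2, hab, hba, hax, hxa, hbx, hxb]⟩
      obtain ⟨e1, e2, e3⟩ := coord_eq hB hM hind hfr (α' := 0) (β' := 0) (γ' := 0) (by simpa using h0)
      rcases h with h | h | h <;> contradiction
    let P : (β γ : F) → Pt B := fun β γ => ⟨_, hz 1 β γ (Or.inl one_ne_zero)⟩
    have horth : ∀ u v : F × F × F, B (u.1 • a.1 + u.2.1 • b.1 + u.2.2 • x.1)
        (v.1 • a.1 + v.2.1 • b.1 + v.2.2 • x.1) = 0 := fun u v => by
      simp [a.2.2, b.2.2, x.2.2, hab, hba, hax, hxa, hbx, hxb]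
    let L : List (Pt B) := [P 1 1, P w (w + 1), P (w + 1) w]
    let L' : List (Pt B) := [P 1 w, P w 1, P (w + 1) (w + 1)]
    have hP : ∀ β γ, ∃ u : F × F × F, (P β γ).1 = u.1 • a.1 + u.2.1 • b.1 + u.2.2 • x.1 :=
      fun β γ => ⟨(1, β, γ), rfl⟩
    have hall : ∀ p ∈ a :: b :: x :: (L ++ L'), ∃ u : F × F × F,
        p.1 = u.1 • a.1 + u.2.1 • b.1 + u.2.2 • x.1 := by
      intro p hp
      simp only [L, L', List.cons_append, List.nil_append, List.mem_cons, List.not_mem_nil,
        or_false] at hp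
      rcases hp with rfl | rfl | rfl | rfl | rfl | rfl | rfl | rfl | rfl
      · exact ⟨(1, 0, 0), by simp⟩
      · exact ⟨(0, 1, 0), by simp⟩
      · exact ⟨(0, 0, 1), by simp⟩
      all_goals exact hP _ _
    have hpair : ∀ p ∈ a :: b :: x :: (L ++ L'), ∀ q ∈ a :: b :: x :: (L ++ L'),
        B p.1 q.1 = 0 := fun p hp q hq => by
      obtain ⟨u, hu⟩ := hall p hp
      obtain ⟨v, hv⟩ := hall q hq
      rw [hu, hv, horth]
    have hPeq : ∀ β γ β' γ', tp (P β γ) = tp (P β' γ') → β = β' ∧ γ = γ' := by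
      intro β γ β' γ' h
      obtain ⟨k, hk⟩ := (hM.eq_iff _ _).1 h
      simp only [P, smul_add, smul_smul, mul_one] at hk
      obtain ⟨h1, h2, h3⟩ := coord_eq hB hM hind hfr hk
      rw [← h1, one_mul] at h2 h3
      exact ⟨h2.symm, h3.symm⟩
    have hPne : ∀ β γ, γ ≠ 0 → β ≠ 0 → tp (P β γ) ≠ tp a ∧ tp (P β γ) ≠ tp b ∧
        tp (P β γ) ≠ tp x := by
      intro β γ hγ hβ
      refine ⟨fun h => ?_, fun h => ?_, fun h => ?_⟩ <;> obtain ⟨k, hk⟩ := (hM.eq_iff _ _).1 h.symm <;>
        simp only [P] at hk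
      · exact hγ (coord_eq hB hM hind hfr (α' := k) (β' := 0) (γ' := 0)
          (hk.trans (by simp))).2.2
      · exact hγ (coord_eq hB hM hind hfr (α' := 0) (β' := k) (γ' := 0)
          (hk.trans (by simp))).2.2
      · exact hβ (coord_eq hB hM hind hfr (α' := 0) (β' := 0) (γ' := k)
          (hk.trans (by simp))).2.1
    refine ⟨L.map tp, L'.map tp, rfl, rfl, ?_, ?_, ?_, ?_⟩
    · have hab' : tp a ≠ tp b := fun h => hgb.2.1 h.symm
      have hax' : tp a ≠ tp x := fun h => hxl (h ▸ mem_ln_left hg)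
      have hbx' : tp b ≠ tp x := fun h => hxl (h ▸ mem_ln_right hgb.1)
      have hw2 : w + 1 ≠ 1 := fun h => hw0 (by linear_combination h)
      have hw3 : w + 1 ≠ w := fun h => one_ne_zero (α := F) (by linear_combination h)
      obtain ⟨a1, b1, c1⟩ := hPne 1 1 one_ne_zero one_ne_zero
      obtain ⟨a2, b2, c2⟩ := hPne w (w + 1) hw1' hw0
      obtain ⟨a3, b3, c3⟩ := hPne (w + 1) w hw0 hw1'
      obtain ⟨a4, b4, c4⟩ := hPne 1 w hw0 one_ne_zero
      obtain ⟨a5, b5, c5⟩ := hPne w 1 one_ne_zero hw0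
      obtain ⟨a6, b6, c6⟩ := hPne (w + 1) (w + 1) hw1' hw1'
      simp only [L, L', List.map_cons, List.map_nil, List.cons_append, List.nil_append,
        List.nodup_cons, List.mem_cons, List.not_mem_nil, or_false, not_or, not_false_eq_true,
        List.nodup_nil, and_true]
      refine ⟨⟨hab', hax', a1.symm, a2.symm, a3.symm, a4.symm, a5.symm, a6.symm⟩,
        ⟨hbx', b1.symm, b2.symm, b3.symm, b4.symm, b5.symm, b6.symm⟩,
        ⟨c1.symm, c2.symm, c3.symm, c4.symm, c5.symm, c6.symm⟩, ?_⟩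
      refine ⟨⟨?_, ?_, ?_, ?_, ?_⟩, ⟨?_, ?_, ?_, ?_⟩, ⟨?_, ?_, ?_⟩, ⟨?_, ?_⟩, ?_⟩ <;>
        intro h <;> obtain ⟨e1, e2⟩ := hPeq _ _ _ _ h <;>
        first
          | exact hw1 e1 | exact hw1 e1.symm | exact hw1 e2 | exact hw1 e2.symm
          | exact hw2 e1 | exact hw2 e1.symm | exact hw2 e2 | exact hw2 e2.symm
          | exact hw3 e1 | exact hw3 e1.symm | exact hw3 e2 | exact hw3 e2.symm
    · simp only [← List.map_cons, ← List.map_append]
      intro p hp
      obtain ⟨v, -, rfl⟩ := List.mem_map.1 hp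
      exact tp_mem hM v
    · simp only [← List.map_cons, ← List.map_append]
      intro p hp q hq
      obtain ⟨u, hu, rfl⟩ := List.mem_map.1 hp
      obtain ⟨v, hv, rfl⟩ := List.mem_map.1 hq
      exact (hM.comm_iff _ _).2 (hpair u hu v hv)
    · intro g hg
      obtain ⟨v, rfl⟩ := exists_tp hM hg
      have hmain : ∀ M : List (Pt B), (∀ p ∈ M, p ∈ L ++ L') →
          v.1 + ((a :: b :: x :: M).map fun p => B p.1 v.1 • p.1).sum = v.1 →
          conjList ((a :: b :: x :: M).map tp) (tp v) = tp v := by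
        intro M hM' hsum
        obtain ⟨u, hu, hu'⟩ := conjList_tp hB hM v (a :: b :: x :: M)
          (List.pairwise_of_forall_mem_list fun p hp q hq => hpair p (by
            simp only [List.mem_cons] at hp ⊢
            rcases hp with h | h | h | h
            exacts [Or.inl h, Or.inr (Or.inl h), Or.inr (Or.inr (Or.inl h)),
              Or.inr (Or.inr (Or.inr (hM' p h)))]) q (by
            simp only [List.mem_cons] at hq ⊢
            rcases hq with h | h | h | h
            exacts [Or.inl h, Or.inr (Or.inl h), Or.inr (Or.inr (Or.inl h)),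
              Or.inr (Or.inr (Or.inr (hM' q h)))]))
        rw [hu, Subtype.ext (hu'.trans hsum)]
      simp only [← List.map_cons]
      refine ⟨hmain L (fun p hp => List.mem_append_left _ hp) ?_,
        hmain L' (fun p hp => List.mem_append_right _ hp) ?_⟩
      all_goals
        simp only [L, L', P, List.map_cons, List.map_nil, List.sum_cons, List.sum_nil, map_add,
          map_smulₛₗ, map_one, LinearMap.add_apply, LinearMap.smul_apply, smul_eq_mul, hθ]
        match_scalars
      all_goals grind [add_self' hB, two hB]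

end UModel

variable {G K : Type*} [Group G] [Group K] {S : Set G} {T : Set K} {φ : G → K}

theorem SetIso.conjList_eq (h : SetIso S T φ) (hS : ClosedSet S) {w : G} (hw : w ∈ S) :
    ∀ l : List G, (∀ p ∈ l, p ∈ S) →
      conjList l w ∈ S ∧ φ (conjList l w) = conjList (l.map φ) (φ w)
  | [], _ => ⟨hw, rfl⟩
  | p :: l, hl => by
    obtain ⟨h1, h2⟩ := h.conjList_eq hS hw l fun q hq => hl q (List.mem_cons_of_mem _ hq)
    have hp := hl p List.mem_cons_self
    refine ⟨hS.conj p hp _ h1, ?_⟩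
    show φ (p * conjList l w * p) = φ p * conjList (l.map φ) (φ w) * φ p
    rw [h.conj p hp _ h1, h2]

theorem SetIso.layerCounts (h : SetIso S T φ) (hS : ClosedSet S) (hT : LayerCounts T) :
    LayerCounts S := by
  have hm : ∀ {x}, x ∈ S → φ x ∈ T := fun hx => h.bij.mapsTo hx
  have hset : ∀ (P : G → Prop) (Q : K → Prop), (∀ v ∈ S, P v ↔ Q (φ v)) →
      φ '' {v | v ∈ S ∧ P v} = {v | v ∈ T ∧ Q v} := by
    intro P Q hPQ
    apply Set.ext
    intro k
    constructor
    · rintro ⟨v, ⟨hv, hv'⟩, rfl⟩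
      exact ⟨hm hv, (hPQ v hv).1 hv'⟩
    · rintro ⟨hk, hk'⟩
      obtain ⟨v, hv, rfl⟩ := h.bij.surjOn hk
      exact ⟨v, ⟨hv, (hPQ v hv).2 hk'⟩, rfl⟩
  refine ⟨fun a ha z hz haz => ?_, fun a ha b hb z hz hza hzb => ?_,
    fun p hp q hq r hr h1 h2 h3 => ?_, fun a ha b hb x hx h1 h2 h3 => ?_⟩
  · rw [← (h.bij.injOn.mono fun v hv => hv.1).ncard_image,
      hset _ (fun k => Commute k (φ a) ∧ Commute k (φ z)) fun v hv => by
        rw [h.comm v hv a ha, h.comm v hv z hz]]
    exact hT.pair _ (hm ha) _ (hm hz) fun e => haz ((h.comm a ha z hz).1 e)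
  · rw [← (h.bij.injOn.mono fun v hv => hv.1).ncard_image,
      hset _ (fun k => Commute k (φ a) ∧ Commute k (φ b) ∧ Commute k (φ z)) fun v hv => by
        rw [h.comm v hv a ha, h.comm v hv b hb.1, h.comm v hv z hz]]
    exact hT.triple _ (hm ha) _ ((h.restrict ha).bij.mapsTo hb) _ (hm hz)
      (fun e => hza ((h.comm z hz a ha).1 e)) fun e => hzb ((h.comm z hz b hb.1).1 e)
  · have := hT.plane _ (hm hp) _ ((h.restrict hp).bij.mapsTo hq) _ (hm hr)
      ((h.comm r hr p hp).2 h1) ((h.comm r hr q hq.1).2 h2) fun hh => h3 (by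
        rw [← h.ln_image hp hq.1] at hh
        obtain ⟨e, he, heq⟩ := hh
        rwa [← h.bij.injOn he.1 hr heq])
    rwa [← h.pl_image hp hq.1 hr, (h.bij.injOn.mono fun u hu => hu.1).ncard_image] at this
  · obtain ⟨T₁, T₂, hl1, hl2, hnd, hmem, hco, hfix⟩ := hT.ovals _ (hm ha) _
      ((h.restrict ha).bij.mapsTo hb) _ (hm hx) ((h.comm x hx a ha).2 h1) ((h.comm x hx b hb.1).2 h2)
      fun hh => h3 (by
        rw [← h.ln_image ha hb.1] at hh
        obtain ⟨e, he, heq⟩ := hh
        rwa [← h.bij.injOn he.1 hx heq])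
    set ψ := Function.invFunOn φ S
    have hr : ∀ k ∈ T, ψ k ∈ S ∧ φ (ψ k) = k := fun k hk =>
      ⟨Function.invFunOn_mem (h.bij.surjOn hk), Function.invFunOn_eq (h.bij.surjOn hk)⟩
    have hl : ∀ {u}, u ∈ S → ψ (φ u) = u := fun hu =>
      h.bij.injOn (hr _ (hm hu)).1 hu (hr _ (hm hu)).2
    rw [← hl ha, ← hl hb.1, ← hl hx]
    refine ⟨T₁.map ψ, T₂.map ψ, by rw [List.length_map, hl1],
      by rw [List.length_map, hl2], ?_, ?_, ?_, ?_⟩
    all_goals simp only [← List.map_cons, ← List.map_append]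
    · exact List.Nodup.map_on (fun k hk l hl e => by
        rw [← (hr k (hmem k hk)).2, e, (hr l (hmem l hl)).2]) hnd
    · intro p hp
      obtain ⟨k, hk, rfl⟩ := List.mem_map.1 hp
      exact (hr k (hmem k hk)).1
    · intro p hp q hq
      obtain ⟨k, hk, rfl⟩ := List.mem_map.1 hp
      obtain ⟨l, hl, rfl⟩ := List.mem_map.1 hq
      refine (h.comm _ (hr k (hmem k hk)).1 _ (hr l (hmem l hl)).1).1 ?_
      rw [(hr k (hmem k hk)).2, (hr l (hmem l hl)).2]
      exact hco k hk l hl
    · intro w hw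
      have key : ∀ l : List K, (∀ k ∈ l, k ∈ T) → conjList l (φ w) = φ w →
          conjList (l.map ψ) w = w := by
        intro l hl e
        obtain ⟨h1, h2⟩ := h.conjList_eq hS hw (l.map ψ) (fun p hp => by
          obtain ⟨k, hk, rfl⟩ := List.mem_map.1 hp
          exact (hr k (hl k hk)).1)
        refine h.bij.injOn h1 hw ?_
        rw [h2, List.map_map]
        conv_rhs => rw [← e]
        congr 1
        conv_rhs => rw [← List.map_id l]
        exact List.map_congr_left fun k hk => (hr k (hl k hk)).2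
      obtain ⟨f1, f2⟩ := hfix (φ w) (hm hw)
      exact ⟨key _ (fun k hk => hmem k (by
          simp only [List.mem_cons, List.mem_append] at hk ⊢; tauto)) f1,
        key _ (fun k hk => hmem k (by
          simp only [List.mem_cons, List.mem_append] at hk ⊢; tauto)) f2⟩

theorem layer_counts_diff {X : Type*} [Group X] [Finite X] {D₀ : Set X}
    (hD : IsThreeTranspositionGroup (D₀ \ {1})) (h : IsOfTypeM22 X D₀) :
    ∀ t ∈ D₀ \ {1}, LayerCounts (dperp (D₀ \ {1}) t) := by
  obtain ⟨⟨hcls, -, hN⟩, -, -⟩ := layerData_of_M22 hD h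
  obtain ⟨-, d, hd0, c, -, hdc, ⟨F, hFld, hFt, hF, ⟨e⟩⟩, -, -, -⟩ := h
  have hd : d ∈ D₀ \ {1} := ⟨hd0, fun hh => hdc (by rw [hh]; exact Commute.one_left c)⟩
  set H := Subgroup.closure {y : X | y ∈ D₀ ∧ y ≠ d ∧ Commute d y}
  have hH : H = Subgroup.closure (dperp (D₀ \ {1}) d) := closure_congr_one (dperp_diff_iff d)
  have hcard : 2 ^ 15 ∣ Nat.card (H ⧸ Subgroup.center H) := by
    rw [Nat.card_congr e.toEquiv]
    exact two_pow_dvd_psu hF
  have : IsSimpleGroup (H ⧸ Subgroup.center H) :=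
    (MulEquiv.isSimpleGroup_congr e).2 (Cfsg.Agent.S0283.result
      (by rw [hF]; norm_num : Fintype.card F = 2 ^ 2) 6 (by norm_num) (by norm_num))
  have hgrp := lowImage_group hD hH
  have hG := good_of_simple (not_isMulCommutative_of_two_pow_dvd hgrp hcard) hgrp
  obtain ⟨q, hq, -⟩ := hG.2.1
  obtain ⟨θ, tp, hB, hM⟩ := psu_model hF e hgrp ⟨q, hq⟩
  intro t ht
  obtain ⟨φ, hφ⟩ := exists_layer_iso hD hd hH hcls hG hN ht
  exact hφ.layerCounts ((closedSet_of_group hD).dperp t)
    (UModel.layer_counts hB hM (by rw [Nat.card_eq_fintype_card, hF]))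

theorem layer_counts_M22 [Finite G] {D : Set G} (hD : IsThreeTranspositionGroup D)
    (h : IsOfTypeM22 G D) : ∀ t ∈ D, LayerCounts (dperp D t) := by
  have e : D \ {1} = D := Set.sdiff_singleton_eq_self fun h1 => ne_one hD.1 h1 rfl
  have := layer_counts_diff (D₀ := D) (by rwa [e]) h
  rwa [e] at this

end Cfsg.Agent.ThreeTrans
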