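import Cfsg.Agent.ThreeTrans.PairCentralizer
import Cfsg.Agent.ThreeTrans.UnitaryCounts

/-!
# The number of members and the width in type M(22)

For commuting `a`, `b` and `z` moving both there are 30 common partners, so two members that do
not commute have 126 common partners and `D` has 3510 members.
-/

set_option autoImplicit false

open Cfsg

namespace Cfsg.Agent.ThreeTrans

theorem card_filter_set {α : Type*} [Finite α] (S : Set α) (p : α → Prop) [DecidablePred p] :
    ((Set.toFinite S).toFinset.filter p).card = {x | x ∈ S ∧ p x}.ncard := by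
  rw [← Set.ncard_coe_finset]
  congr 1
  ext x
  simp

variable {G : Type*} [Group G] {D : Set G}

theorem ln_comm (S : Set G) (p q : G) : ln S p q = ln S q p := by
  ext e
  exact ⟨fun h => ⟨h.1, fun y hy h1 h2 => h.2 y hy h2 h1⟩,
    fun h => ⟨h.1, fun y hy h1 h2 => h.2 y hy h2 h1⟩⟩

section Twist

variable (hD : IsThreeTranspositionGroup D) {a b z : G} (ha : a ∈ D) (hb : b ∈ dperp D a)
  (hz : z ∈ D) (hza : ¬ Commute z a) (hzb : ¬ Commute z b)

include hD ha hb hz hza hzb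

theorem twist_conj (u v : G) :
    (Commute (twist a b z u) (twist a b z v) ↔ Commute u v) ∧
      (twist a b z u = twist a b z v ↔ u = v) := by
  rw [twist_eq hD.1 ha hb.1 hz, twist_eq hD.1 ha hb.1 hz]
  exact ⟨commute_conj _ u v, fun h => mul_left_cancel (mul_right_cancel h), fun h => by rw [h]⟩

theorem twist_twist (u : G) : twist a b z (twist a b z u) = u := by
  have hT := hD.1
  have ht : z * b * z * (z * a * z) * (z * b * z * (z * a * z)) = 1 := by
    simp only [mul_assoc, mul_self_mul hT hz]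
    rw [← mul_assoc a b, hb.2.2.eq, ← mul_assoc b, ← mul_assoc b, mul_self hT hb.1, one_mul,
      mul_self_mul hT ha, mul_self hT hz]
  rw [twist_eq hT ha hb.1 hz, twist_eq hT ha hb.1 hz]
  set t := z * b * z * (z * a * z)
  rw [show t⁻¹ = t from inv_eq_of_mul_eq_one_left ht]
  exact conj_twice ht

theorem twist_mem {u : G} (hu : u ∈ dperp (dperp D a) b) :
    twist a b z u ∈ dperp (dperp D a) b := by
  have hT := hD.1
  have hta := twist_left hT ha hb.1 hz hza hzb
  have htb := twist_right hT ha hb.1 hz hb.2.2 hza hzb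
  have hc := fun u v => twist_conj hD ha hb hz hza hzb u v
  refine ⟨⟨?_, ?_, ?_⟩, ?_, ?_⟩
  · rw [twist_eq hT ha hb.1 hz]; exact hD.2.1 _ u hu.1.1
  · exact fun h => hu.2.1 ((hc u b).2.1 (h.trans htb.symm))
  · have h := (hc b u).1.2 hu.2.2; rwa [htb] at h
  · exact fun h => hu.1.2.1 ((hc u a).2.1 (h.trans hta.symm))
  · have h := (hc a u).1.2 hu.1.2.2; rwa [hta] at h

/-- The fixed members are those commuting with `z`. -/
theorem twist_eq_self {u : G} (hu : u ∈ D) (hua : Commute u a) (hub : Commute u b) :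
    twist a b z u = u ↔ Commute z u := by
  have hT := hD.1
  have hc := hD.2.1
  rw [twist_eq hT ha hb.1 hz]
  constructor
  · intro hfix
    by_contra hzu
    have hta : Commute (z * b * z * (z * a * z)) u := mul_inv_eq_iff_eq_mul.1 hfix
    have he := (commute_conj z (z * b * z * (z * a * z)) u).2 hta
    rw [inv_eq hT hz, show z * (z * b * z * (z * a * z)) * z = b * a by
      simp only [mul_assoc, mul_self_mul hT hz, mul_self hT hz, mul_one]] at he
    obtain ⟨-, hea⟩ := (commute_pair_iff hT hb.1 ha (conj_mem hT hc hz hu) hb.2.2.symm hb.2.1).1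
      he.symm
    have h1 := (commute_conj z (z * u * z) a).2 hea
    rw [inv_eq hT hz, conj_twice (mul_self hT hz), braid hT hz ha hza] at h1
    have h2 := (commute_conj a u (a * z * a)).2 h1
    rw [inv_eq hT ha, conj_self_of_commute hT ha hua.symm, conj_twice (mul_self hT ha)] at h2
    exact hzu h2.symm
  · intro hzu
    have h : Commute u (z * b * z * (z * a * z)) :=
      ((hzu.symm.mul_right hub).mul_right hzu.symm).mul_right
        ((hzu.symm.mul_right hua).mul_right hzu.symm)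
    rw [← h.eq, mul_inv_cancel_right]

end Twist

section Count

variable [Finite G] (hD : IsThreeTranspositionGroup D) (hZ : Subgroup.center G = ⊥)
  (hF : M22Full D) (hA : ∀ t ∈ D, Arcs (dperp D t)) (hC : ∀ t ∈ D, LayerCounts (dperp D t))

include hD hZ hF hA hC

omit hZ hA in
theorem nbrs_thirteen {a b z x : G} (ha : a ∈ D) (hb : b ∈ dperp D a) (hz : z ∈ D)
    (hza : ¬ Commute z a) (hzb : ¬ Commute z b) (hx : x ∈ dperp (dperp D a) b) (hzx : Commute z x) :
    {u | (u ∈ dperp (dperp D a) b ∧ Commute z u) ∧ u ≠ x ∧ Commute x u}.ncard = 13 := by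
  have hxa : a ∈ dperp D x := dperp_symm ha hx.1
  have hxb : b ∈ dperp (dperp D x) a := ⟨⟨hb.1, hx.2.1.symm, hx.2.2.symm⟩, hb.2.1, hb.2.2⟩
  have hxz : z ∈ dperp D x := ⟨hz, fun e => hza (e ▸ hx.1.2.2.symm), hzx.symm⟩
  rw [← (hC x hx.1.1).triple a hxa b hxb z hxz hza hzb]
  congr 1
  ext u
  constructor
  · rintro ⟨⟨hu, hzu⟩, hux, hxu⟩
    exact ⟨⟨hu.1.1, hux, hxu⟩, hu.1.2.2.symm, hu.2.2.symm, hzu.symm⟩
  · rintro ⟨⟨huD, hux, hxu⟩, hua, hub, huz⟩
    exact ⟨⟨⟨⟨huD, fun e => hza (e ▸ huz.symm), hua.symm⟩, fun e => hzb (e ▸ huz.symm), hub.symm⟩,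
      huz.symm⟩, hux, hxu⟩

/-- Thirty common partners of a commuting pair and a member moving both. -/
theorem thirty {a b z : G} (ha : a ∈ D) (hb : b ∈ dperp D a) (hz : z ∈ D) (hza : ¬ Commute z a)
    (hzb : ¬ Commute z b) : {u | u ∈ dperp (dperp D a) b ∧ Commute z u}.ncard = 30 := by
  classical
  have hT := hD.1
  have hM := hF.data
  set W := {u | u ∈ dperp (dperp D a) b ∧ Commute z u} with hW
  set tw := twist a b z with htw
  have hinv : ∀ u, tw (tw u) = u := twist_twist hD ha hb hz hza hzb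
  have hcj := fun u v => twist_conj hD ha hb hz hza hzb u v
  have hta : tw a = b := twist_left hT ha hb.1 hz hza hzb
  have htb : tw b = a := twist_right hT ha hb.1 hz hb.2.2 hza hzb
  have hfixiff : ∀ {u}, u ∈ D → Commute u a → Commute u b → (tw u = u ↔ Commute z u) :=
    fun hu h1 h2 => twist_eq_self hD ha hb hz hza hzb hu h1 h2
  have hmem : ∀ {u}, u ∈ dperp (dperp D a) b → tw u ∈ dperp (dperp D a) b :=
    fun hu => twist_mem hD ha hb hz hza hzb hu
  have hN : ∀ v ∈ W, {u | u ∈ W ∧ u ≠ v ∧ Commute v u}.ncard = 13 := fun v hv =>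
    nbrs_thirteen hD hF hC ha hb hz hza hzb hv.1 hv.2
  -- a point, its twin and a second one
  obtain ⟨x₀, hx₀a, hx₀b, hx₀z, hx₀ne⟩ := exists_common_third hD hF ha hb.1 hz hb.2.2 hb.2.1.symm
    (fun h => hza h.symm) fun h => hzb h.symm
  set x := x₀
  have hxA : x ∈ dperp (dperp D a) b := ⟨hx₀a, hx₀ne, hx₀b.symm⟩
  have hxW : x ∈ W := ⟨hxA, hx₀z.symm⟩
  set S := dperp D x with hSdef
  have haS : a ∈ S := dperp_symm ha hxA.1
  have hbS : b ∈ dperp S a := ⟨⟨hb.1, hxA.2.1.symm, hxA.2.2.symm⟩, hb.2.1, hb.2.2⟩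
  have hzS : z ∈ S := ⟨hz, fun e => hza (e ▸ hxA.1.2.2.symm), hxW.2.symm⟩
  have htx : tw x = x := (hfixiff hxA.1.1 hxA.1.2.2.symm hxA.2.2.symm).2 hxW.2
  have htS : ∀ {u}, u ∈ S → tw u ∈ S := fun {u} hu => by
    refine ⟨by rw [htw, twist_eq hT ha hb.1 hz]; exact hD.2.1 _ u hu.1, ?_, ?_⟩
    · exact fun e => hu.2.1 ((hcj u x).2.1 (e.trans htx.symm))
    · exact htx ▸ (hcj x u).1.2 hu.2.2
  obtain ⟨r, hr, hrfix⟩ : ∃ r ∈ ln S a b, tw r = r := by
    refine exists_fixed_of_odd (by rw [(hM.layerLines x hxA.1.1).five a haS b hbS]; decide) tw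
      (fun u hu => ⟨htS hu.1, fun y hy h1 h2 => ?_⟩) fun u _ => hinv u
    have k1 : Commute (tw y) a := htb ▸ (hcj y b).1.2 h2
    have k2 : Commute (tw y) b := hta ▸ (hcj y a).1.2 h1
    have := (hcj (tw y) u).1.2 (hu.2 (tw y) (htS hy) k1 k2)
    rwa [show twist a b z (tw y) = y from hinv y] at this
  have hra : r ≠ a := fun e => hb.2.1 (by rw [e, hta] at hrfix; exact hrfix)
  have hrb : r ≠ b := fun e => hb.2.1 (by rw [e, htb] at hrfix; exact hrfix.symm)
  have hrac : Commute r a := (hr.2 a haS (Commute.refl a) hbS.2.2).symm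
  have hrbc : Commute r b := (hr.2 b hbS.1 hbS.2.2.symm (Commute.refl b)).symm
  have hrW : r ∈ W := ⟨⟨⟨hr.1.1, hra, hrac.symm⟩, hrb, hrbc.symm⟩, (hfixiff hr.1.1 hrac hrbc).1 hrfix⟩
  obtain ⟨y, ⟨hyW, hyx, hxy⟩, hyl⟩ : ∃ y ∈ {u | u ∈ W ∧ u ≠ x ∧ Commute x u}, y ∉ ln S a b := by
    by_contra hcon
    push Not at hcon
    have h5 := Set.ncard_le_ncard (fun u hu => hcon u hu) (Set.toFinite (ln S a b))
    rw [hN x hxW, (hM.layerLines x hxA.1.1).five a haS b hbS] at h5
    omega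
  have hyS : y ∈ S := ⟨hyW.1.1.1, hyx, hxy⟩
  have hyr : y ∈ dperp S r := ⟨hyS, fun e => hyl (e ▸ hr),
    (hr.2 y hyS hyW.1.1.2.2.symm hyW.1.2.2.symm).symm⟩
  have hty : tw y = y := (hfixiff hyW.1.1.1 hyW.1.1.2.2.symm hyW.1.2.2.symm).2 hyW.2
  set L := ln S r y
  have hL5 : L.ncard = 5 := (hM.layerLines x hxA.1.1).five r hr.1 y hyr
  have hLW : L ⊆ W := fun v hv => by
    have h1 := hv.2 a haS hrac.symm hyW.1.1.2.2
    have h2 := hv.2 b hbS.1 hrbc.symm hyW.1.2.2
    have h3 := hv.2 z hzS hrW.2 hyW.2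
    exact ⟨⟨⟨hv.1.1, fun e => hza (e ▸ h3), h1⟩, fun e => hzb (e ▸ h3), h2⟩, h3⟩
  have hxL : x ∉ L := fun h => h.1.2.1 rfl
  set M := insert x L with hMdef
  have hM6 : M.ncard = 6 := by
    rw [Set.ncard_insert_of_notMem hxL (Set.toFinite _), hL5]
  have hMW : M ⊆ W := Set.insert_subset hxW hLW
  have hMM : ∀ u ∈ M, ∀ v ∈ M, Commute u v := by
    rintro u (rfl | hu) v (rfl | hv)
    · exact Commute.refl _
    · exact hv.1.2.2
    · exact hu.1.2.2.symm
    · rcases eq_or_ne u v with rfl | hne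
      · exact Commute.refl _
      · exact ((hM.layerLines x hxA.1.1).pair r hr.1 y hyr u hu v hv hne).1.2.2
  -- the plane in the layer of `a`
  have hxSa : x ∈ dperp (dperp D a) b := hxA
  have hyl' : y ∉ ln (dperp D a) b x := fun h =>
    hyl (mem_ln_swap hD hZ hM ha hb hxA h hyW.1.2.1 hyx)
  set P := pl (dperp D a) b x y
  have hPc : ∀ e ∈ P, Commute b e ∧ Commute x e ∧ Commute y e := fun e he =>
    commute_pl hb hxSa hyW.1.1 hyW.1.2.2.symm hxy.symm he
  have hPP : ∀ u ∈ P, ∀ v ∈ P, Commute u v := by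
    intro u hu v hv
    obtain ⟨h1, h2, h3⟩ := hPc u hu
    exact hv.2 u hu.1 h1.symm h2.symm h3.symm
  have hPA : ∀ {e}, e ∈ P → e ≠ b → e ∈ dperp (dperp D a) b := fun he hne =>
    ⟨he.1, hne, (hPc _ he).1⟩
  have hPW : ∀ {e}, e ∈ P → e ∈ W → e ∈ M := by
    intro e heP heW
    rcases eq_or_ne e x with rfl | hne
    · exact Set.mem_insert _ _
    refine Set.mem_insert_of_mem _ ?_
    by_contra heL
    have heS : e ∈ S := ⟨heW.1.1.1, hne, (hPc e heP).2.1⟩
    set C := pl S a b y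
    have hsub : insert e L ⊆ {u | u ∈ C ∧ Commute z u} := by
      have hpl : ∀ {e}, e ∈ P → e ∈ S → e ∈ C := fun {e} he heS => ⟨heS, fun v hv k1 k2 k3 => by
        rcases eq_or_ne v a with rfl | hva
        · exact he.1.2.2
        · exact he.2 v ⟨hv.1, hva, k1.symm⟩ k2 hv.2.2.symm k3⟩
      rintro u (rfl | hu)
      · exact ⟨hpl heP heS, heW.2⟩
      · exact ⟨⟨hu.1, fun v hv k1 k2 k3 => hu.2 v hv (hr.2 v hv k1 k2) k3⟩, (hLW hu).2⟩
    have hCC : ∀ u ∈ C, ∀ v ∈ C, Commute u v := by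
      intro u hu v hv
      obtain ⟨h1, h2, h3⟩ := commute_pl haS hbS hyS hyW.1.1.2.2.symm hyW.1.2.2.symm hu
      exact hv.2 u hu.1 h1.symm h2.symm h3.symm
    have h := (Set.ncard_le_ncard hsub (Set.toFinite _)).trans
      ((hF.planes x hxA.1.1).bound C (fun u hu => hu.1) hCC z hzS a ⟨haS, fun _ _ h _ _ => h⟩ hza)
    rw [Set.ncard_insert_of_notMem heL (Set.toFinite _), hL5] at h
    omega
  have hMP : ∀ {v}, v ∈ M → v ∈ P := by
    rintro v (rfl | hv)
    · exact ⟨hxA.1, fun _ _ _ h _ => h⟩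
    · refine ⟨(hLW hv).1.1, fun k hk k1 k2 k3 => ?_⟩
      rcases eq_or_ne k x with rfl | hkx
      · exact hv.1.2.2
      have hkS : k ∈ S := ⟨hk.1, hkx, k2.symm⟩
      exact hv.2 k hkS (hr.2 k hkS hk.2.2.symm k1) k3
  have htP : ∀ {e}, e ∈ P → e ≠ b → tw e ∈ P := by
    intro e he hne
    have hte := hmem (hPA he hne)
    refine ⟨hte.1, fun k hk k1 k2 k3 => ?_⟩
    rcases eq_or_ne k b with rfl | hkb
    · exact hte.2.2
    have hk' := hmem (⟨hk, hkb, k1.symm⟩ : k ∈ dperp (dperp D a) b)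
    have h := (hcj (tw k) e).1.2 (he.2 (tw k) hk'.1 hk'.2.2.symm
      (htx ▸ (hcj k x).1.2 k2) (hty ▸ (hcj k y).1.2 k3))
    rwa [show twist a b z (tw k) = k from hinv k] at h
  -- every other one meets the six in two
  have htwo : ∀ u ∈ W, u ∉ M → {v | v ∈ M ∧ Commute u v}.ncard = 2 := by
    intro u huW huM
    have huA := huW.1
    have huP : u ∉ P := fun h => huM (hPW h huW)
    obtain ⟨c, hc, hcu⟩ : ∃ c ∈ P, ¬ Commute u c := by
      by_contra hcon
      push Not at hcon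
      refine huP ⟨huA.1, fun k hk k1 k2 k3 => ?_⟩
      exact (hF.planes a ha).trans b hb x hxSa k hk y hyW.1.1 u huA.1 k1 k2 hyW.1.2.2.symm
        hxy.symm huA.2.2.symm (hcon x ⟨hxA.1, fun _ _ _ h _ => h⟩) hyl' k3
        (hcon y ⟨hyW.1.1, fun _ _ _ _ h => h⟩).symm
    set F5 := {v | v ∈ P ∧ Commute u v} with hF5
    have h5 : F5.ncard = 5 :=
      le_antisymm ((hF.planes a ha).bound P (fun v hv => hv.1) hPP u huA.1 c hc hcu)
        ((hF.planes a ha).five b hb x hxSa y hyW.1.1 hyW.1.2.2.symm hxy.symm hyl' u huA.1)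
    have hbF : b ∈ F5 := ⟨⟨hb, fun _ _ h _ _ => h⟩, huA.2.2.symm⟩
    have hline : ∀ f ∈ F5, f ≠ b → F5 = ln (dperp D a) b f := by
      intro f hf hne
      symm
      refine Set.eq_of_subset_of_ncard_le (fun v hv => ⟨⟨hv.1, fun k hk k1 k2 k3 => ?_⟩, ?_⟩) ?_
        (Set.toFinite _)
      · exact hv.2 k hk k1 (hf.1.2 k hk k1 k2 k3)
      · exact hv.2 u huA.1 huA.2.2.symm hf.2
      · rw [h5, (hM.layerLines a ha).five b hb f (hPA hf.1 hne)]
    set Q := F5 \ {b}
    have hQ4 : Q.ncard = 4 := by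
      rw [Set.ncard_sdiff_singleton_of_mem hbF, h5]
    have htu : tw u = u := (hfixiff huA.1.1 huA.1.2.2.symm huA.2.2.symm).2 huW.2
    have htQ : ∀ v ∈ Q, tw v ∈ Q := by
      rintro v ⟨⟨hvP, huv⟩, hvb⟩
      rw [Set.mem_singleton_iff] at hvb
      refine ⟨⟨htP hvP hvb, htu ▸ (hcj u v).1.2 huv⟩, ?_⟩
      exact (hmem (hPA hvP hvb)).2.1
    have hfixQ : ∀ {v}, v ∈ Q → (tw v = v ↔ v ∈ M) := by
      rintro v ⟨⟨hvP, huv⟩, hvb⟩
      have hvA := hPA hvP hvb
      rw [hfixiff hvA.1.1 hvA.1.2.2.symm hvA.2.2.symm]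
      exact ⟨fun h => hPW hvP ⟨hvA, h⟩, fun h => (hMW h).2⟩
    obtain ⟨f, hf⟩ : Q.Nonempty := (Set.ncard_pos (Set.toFinite _)).1 (by rw [hQ4]; norm_num)
    obtain ⟨g, hgQ, hgfix⟩ : ∃ g ∈ Q, tw g = g := by
      by_cases hzf : Commute z f
      · exact ⟨f, hf, (hfixiff (hPA hf.1.1 hf.2).1.1 (hPA hf.1.1 hf.2).1.2.2.symm
          (hPA hf.1.1 hf.2).2.2.symm).2 hzf⟩
      have hfA := hPA hf.1.1 hf.2
      have hfx : f ≠ x := fun e => hzf (e ▸ hxW.2)
      have hfS : f ∈ S := ⟨hfA.1.1, hfx, (hPc f hf.1.1).2.1⟩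
      have hFl := hline f hf.1 hf.2
      by_cases hfl : f ∈ ln S a b
      · -- the class of `x`
        have hxb' : x ∈ dperp D b := ⟨hxA.1.1, hxA.2.1, hxA.2.2⟩
        have hax' : a ∈ dperp (dperp D b) x :=
          ⟨dperp_symm ha hb, hxA.1.2.1.symm, hxA.1.2.2.symm⟩
        have h1 : f ∈ ln (dperp D b) x a := mem_ln_swap hD hZ hM hxA.1.1
          (b := a) (w := b) haS hbS hfl hfA.1.2.1 hfA.2.1
        have h2 : f ∈ ln (dperp D a) x b := by
          have := mem_ln_swap hD hZ hM hb.1 (b := x) (w := a) hxb' hax' h1 hfx hfA.1.2.1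
          rwa [ln_comm] at this
        rw [ln_comm] at h2
        have hpair := ((hM.layerLines a ha).pair b hb x hxSa b (mem_ln_left hb) f h2
          hfA.2.1.symm).2
        refine ⟨x, ⟨?_, hxA.2.1⟩, htx⟩
        rw [hFl, hpair]
        exact mem_ln_right hxA.1
      obtain ⟨-, hrest⟩ := moved_rest hD hZ hF hA ha hb hxA hzS hza hzb hfS hfA hfl hzf
        (hFl ▸ (htQ f hf).1)
      obtain ⟨g, hg, hgn⟩ : ∃ g ∈ Q, g ∉ ({f, tw f} : Set G) := by
        by_contra hcon
        push Not at hcon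
        have h := Set.ncard_le_ncard (fun v hv => hcon v hv) (Set.toFinite ({f, tw f} : Set G))
        have h2 := Set.ncard_insert_le f ({tw f} : Set G)
        rw [Set.ncard_singleton] at h2
        omega
      simp only [Set.mem_insert_iff, Set.mem_singleton_iff, not_or] at hgn
      refine ⟨g, hg, (hfixiff (hPA hg.1.1 hg.2).1.1 (hPA hg.1.1 hg.2).1.2.2.symm
        (hPA hg.1.1 hg.2).2.2.symm).2 ?_⟩
      rcases hrest g (hFl ▸ hg.1) with e | e | e | e
      exacts [absurd e hg.2, absurd e hgn.1, absurd e hgn.2, e]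
    set R := Q \ {g}
    have hR3 : R.ncard = 3 := by
      rw [Set.ncard_sdiff_singleton_of_mem hgQ, hQ4]
    obtain ⟨g', hg', hg'fix⟩ := exists_fixed_of_odd (A := R) (by rw [hR3]; decide) tw
      (fun v hv => ⟨htQ v hv.1, fun e => hv.2 ((hcj v g).2.1 (Eq.trans e hgfix.symm))⟩) fun v _ => hinv v
    have hgA := hPA hgQ.1.1 hgQ.2
    have hzg : Commute z g := (hfixiff hgA.1.1 hgA.1.2.2.symm hgA.2.2.symm).1 hgfix
    have honly : ∀ v ∈ Q, tw v = v → v = g ∨ v = g' := by
      intro v hv hvfix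
      by_contra hcon
      push Not at hcon
      have hFl := hline g hgQ.1 hgQ.2
      have hswap : ∀ k ∈ Q, k ≠ g → k ∈ ln (dperp D g) a b := fun k hk hne =>
        mem_ln_swap hD hZ hM ha hb hgA (hFl ▸ hk.1) hk.2 hne
      have hzk : ∀ k ∈ Q, tw k = k → Commute z k := fun k hk h =>
        (hfixiff (hPA hk.1.1 hk.2).1.1 (hPA hk.1.1 hk.2).1.2.2.symm
          (hPA hk.1.1 hk.2).2.2.symm).1 h
      have hl1 := hswap v hv hcon.1
      have hl2 := hswap g' hg'.1 hg'.2
      have hag : a ∈ dperp D g := dperp_symm ha hgA.1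
      have hbg : b ∈ dperp (dperp D g) a :=
        ⟨⟨hb.1, hgA.2.1.symm, hgA.2.2.symm⟩, hb.2.1, hb.2.2⟩
      have hzgS : z ∈ dperp D g := ⟨hz, fun e => hza (e ▸ hgA.1.2.2.symm), hzg.symm⟩
      have hpair := ((hM.layerLines g hgA.1.1).pair a hag b hbg v hl1 g' hl2 hcon.2).2
      have hmema : a ∈ ln (dperp D g) v g' := hpair ▸ mem_ln_left hag
      exact hza (hmema.2 z hzgS (hzk v hv hvfix) (hzk g' hg'.1 hg'fix))
    rw [show {v | v ∈ M ∧ Commute u v} = ({g, g'} : Set G) from ?_, Set.ncard_pair]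
    · exact fun e => hg'.2 e.symm
    apply Set.ext
    intro v
    constructor
    · rintro ⟨hv, huv⟩
      have hvQ : v ∈ Q := ⟨⟨hMP hv, huv⟩, fun e => hzb (e ▸ (hMW hv).2)⟩
      exact honly v hvQ ((hfixQ hvQ).2 hv)
    · rintro (rfl | rfl)
      · exact ⟨(hfixQ hgQ).1 hgfix, hgQ.1.2⟩
      · exact ⟨(hfixQ hg'.1).1 hg'fix, hg'.1.1.2⟩
  -- double counting
  have height : ∀ v ∈ M, {u | u ∈ W \ M ∧ Commute u v}.ncard = 8 := by
    intro v hv
    have hsplit : {u | u ∈ W ∧ u ≠ v ∧ Commute v u} =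
        {u | u ∈ W \ M ∧ Commute u v} ∪ (M \ {v}) := by
      apply Set.ext
      intro u
      constructor
      · rintro ⟨huW, hne, huv⟩
        by_cases huM : u ∈ M
        · exact Or.inr ⟨huM, hne⟩
        · exact Or.inl ⟨⟨huW, huM⟩, huv.symm⟩
      · rintro (⟨⟨huW, huM⟩, huv⟩ | ⟨huM, hne⟩)
        · exact ⟨huW, fun e => huM (e ▸ hv), huv.symm⟩
        · exact ⟨hMW huM, hne, hMM v hv u huM⟩
    have h := congrArg Set.ncard hsplit
    rw [hN v (hMW hv), Set.ncard_union_eq ?_ (Set.toFinite _) (Set.toFinite _),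
      Set.ncard_sdiff_singleton_of_mem hv, hM6] at h
    · omega
    · exact Set.disjoint_left.2 fun u hu hu' => hu.1.2 hu'.1
  have hmul := Finset.card_mul_eq_card_mul (fun u v : G => Commute u v)
    (s := (Set.toFinite (W \ M)).toFinset) (t := (Set.toFinite M).toFinset) (m := 2) (n := 8)
    (fun u hu => by
      rw [Set.Finite.mem_toFinset] at hu
      exact (card_filter_set M _).trans (htwo u hu.1 hu.2))
    (fun v hv => by
      rw [Set.Finite.mem_toFinset] at hv
      exact (card_filter_set (W \ M) _).trans (height v hv))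
  rw [← Set.ncard_eq_toFinset_card _, ← Set.ncard_eq_toFinset_card _, hM6] at hmul
  have := Set.ncard_sdiff_add_ncard_of_subset hMW (Set.toFinite _)
  omega

/-- Two members that do not commute have 126 common partners. -/
theorem common_126 (h693 : ∀ a ∈ D, (dperp D a).ncard = 693)
    (h180 : ∀ a ∈ D, ∀ b ∈ dperp D a, (dperp (dperp D a) b).ncard = 180)
    {a z : G} (ha : a ∈ D) (hz : z ∈ D) (haz : ¬ Commute a z) :
    {v | v ∈ dperp D a ∧ Commute z v}.ncard = 126 := by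
  classical
  set W := {v | v ∈ dperp D a ∧ Commute z v}
  have h45 : ∀ b ∈ dperp D a, Commute z b → {v | v ∈ W ∧ (v ≠ b ∧ Commute b v)}.ncard = 45 := by
    intro b hb hzb
    have haS : a ∈ dperp D b := dperp_symm ha hb
    have hzS : z ∈ dperp D b := ⟨hz, fun e => haz (e ▸ hb.2.2), hzb.symm⟩
    rw [← (hC b hb.1).pair a haS z hzS haz]
    congr 1
    ext v
    constructor
    · rintro ⟨⟨hv, hzv⟩, hne, hbv⟩
      exact ⟨⟨hv.1, hne, hbv⟩, hv.2.2.symm, hzv.symm⟩
    · rintro ⟨⟨hvD, hne, hbv⟩, hva, hvz⟩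
      exact ⟨⟨⟨hvD, fun e => haz (e ▸ hvz), hva.symm⟩, hvz.symm⟩, hne, hbv⟩
  have h30 : ∀ b ∈ dperp D a, ¬ Commute z b → {v | v ∈ W ∧ (v ≠ b ∧ Commute b v)}.ncard = 30 := by
    intro b hb hzb
    rw [← thirty hD hZ hF hA hC ha hb hz (fun h => haz h.symm) hzb]
    congr 1
    ext v
    constructor
    · rintro ⟨⟨hv, hzv⟩, hne, hbv⟩
      exact ⟨⟨hv, hne, hbv⟩, hzv⟩
    · rintro ⟨⟨hv, hne, hbv⟩, hzv⟩
      exact ⟨⟨hv, hzv⟩, hne, hbv⟩
  have hsum := Finset.sum_card_bipartiteAbove_eq_sum_card_bipartiteBelow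
    (fun b v : G => v ≠ b ∧ Commute b v) (s := (Set.toFinite (dperp D a)).toFinset)
    (t := (Set.toFinite W).toFinset)
  have habove : ∀ b ∈ (Set.toFinite (dperp D a)).toFinset,
      (Finset.bipartiteAbove (fun b v : G => v ≠ b ∧ Commute b v) (Set.toFinite W).toFinset b).card =
        if Commute z b then 45 else 30 := fun b hb => by
    rw [Set.Finite.mem_toFinset] at hb
    refine (card_filter_set W _).trans ?_
    by_cases hzb : Commute z b
    · rw [if_pos hzb]; exact h45 b hb hzb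
    · rw [if_neg hzb]; exact h30 b hb hzb
  have hbelow : ∀ v ∈ (Set.toFinite W).toFinset,
      (Finset.bipartiteBelow (fun b v : G => v ≠ b ∧ Commute b v)
        (Set.toFinite (dperp D a)).toFinset v).card = 180 := fun v hv => by
    rw [Set.Finite.mem_toFinset] at hv
    refine (card_filter_set (dperp D a) _).trans ?_
    rw [← h180 a ha v hv.1]
    congr 1
    ext b
    exact ⟨fun h => ⟨h.1, h.2.1.symm, h.2.2.symm⟩, fun h => ⟨h.1, h.2.1.symm, h.2.2.symm⟩⟩
  rw [Finset.sum_congr rfl habove, Finset.sum_congr rfl hbelow, Finset.sum_ite, Finset.sum_const,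
    Finset.sum_const, Finset.sum_const, smul_eq_mul, smul_eq_mul, smul_eq_mul, card_filter_set,
    card_filter_set, ← Set.ncard_eq_toFinset_card] at hsum
  have hdiff := Set.ncard_sdiff_add_ncard_of_subset (show W ⊆ dperp D a from fun v hv => hv.1)
    (Set.toFinite _)
  rw [h693 a ha, show dperp D a \ W = {v | v ∈ dperp D a ∧ ¬ Commute z v} by
    ext v; exact ⟨fun h => ⟨h.1, fun hh => h.2 ⟨h.1, hh⟩⟩, fun h => ⟨h.1, fun hh => h.2 hh.2⟩⟩]
    at hdiff
  change W.ncard * 45 + _ = W.ncard * 180 at hsum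
  omega

/-- The number of members. -/
theorem ncard_members (h693 : ∀ a ∈ D, (dperp D a).ncard = 693)
    (h180 : ∀ a ∈ D, ∀ b ∈ dperp D a, (dperp (dperp D a) b).ncard = 180) {a : G} (ha : a ∈ D) :
    D.ncard = 3510 := by
  classical
  set N := {e | e ∈ D ∧ ¬ Commute a e}
  have h512 : ∀ u ∈ dperp D a, {e | e ∈ N ∧ Commute u e}.ncard = 512 := by
    intro u hu
    have hsplit : dperp D u = {e | e ∈ N ∧ Commute u e} ∪ insert a (dperp (dperp D a) u) := by
      apply Set.ext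
      intro e
      constructor
      · intro he
        by_cases hae : Commute a e
        · refine Or.inr ?_
          rcases eq_or_ne e a with rfl | hne
          · exact Set.mem_insert _ _
          · exact Set.mem_insert_of_mem _ ⟨⟨he.1, hne, hae⟩, he.2.1, he.2.2⟩
        · exact Or.inl ⟨⟨he.1, hae⟩, he.2.2⟩
      · rintro (⟨⟨he, hae⟩, hue⟩ | rfl | he)
        · exact ⟨he, fun e' => hae (e' ▸ hu.2.2), hue⟩
        · exact dperp_symm ha hu
        · exact ⟨he.1.1, he.2.1, he.2.2⟩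
    have h := congrArg Set.ncard hsplit
    rw [h693 u hu.1, Set.ncard_union_eq ?_ (Set.toFinite _) (Set.toFinite _),
      Set.ncard_insert_of_notMem (fun h => h.1.2.1 rfl) (Set.toFinite _), h180 a ha u hu] at h
    · omega
    · refine Set.disjoint_left.2 ?_
      rintro e ⟨⟨he, hae⟩, -⟩ (rfl | he')
      · exact hae (Commute.refl _)
      · exact hae he'.1.2.2
  have hmul := Finset.card_mul_eq_card_mul (fun u e : G => Commute u e)
    (s := (Set.toFinite (dperp D a)).toFinset) (t := (Set.toFinite N).toFinset) (m := 512) (n := 126)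
    (fun u hu => by
      rw [Set.Finite.mem_toFinset] at hu
      exact (card_filter_set N _).trans (h512 u hu))
    (fun e he => by
      rw [Set.Finite.mem_toFinset] at he
      refine (card_filter_set (dperp D a) _).trans ?_
      rw [← common_126 hD hZ hF hA hC h693 h180 ha he.1 he.2]
      congr 1
      ext v
      exact ⟨fun h => ⟨h.1, h.2.symm⟩, fun h => ⟨h.1, h.2.symm⟩⟩)
  rw [← Set.ncard_eq_toFinset_card _, ← Set.ncard_eq_toFinset_card _, h693 a ha] at hmul
  have hsplit : D = N ∪ insert a (dperp D a) := by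
    apply Set.ext
    intro e
    constructor
    · intro he
      by_cases hae : Commute a e
      · refine Or.inr ?_
        rcases eq_or_ne e a with rfl | hne
        · exact Set.mem_insert _ _
        · exact Set.mem_insert_of_mem _ ⟨he, hne, hae⟩
      · exact Or.inl ⟨he, hae⟩
    · rintro (h | rfl | h)
      exacts [h.1, ha, h.1]
  have h := congrArg Set.ncard hsplit
  rw [Set.ncard_union_eq ?_ (Set.toFinite _) (Set.toFinite _),
    Set.ncard_insert_of_notMem (fun h => h.2.1 rfl) (Set.toFinite _), h693 a ha] at h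
  · omega
  · refine Set.disjoint_left.2 ?_
    rintro e he (rfl | he')
    · exact he.2 (Commute.refl _)
    · exact he.2 he'.2.2

/-- The width. -/
theorem width_22 {a : G} (ha : a ∈ D) : commutingWidth D = 22 := by
  classical
  refine IsGreatest.csSup_eq ⟨?_, ?_⟩
  · obtain ⟨b, hb⟩ := hF.data.nice.rich a ha
    obtain ⟨c, hc⟩ := (hF.data.layerNice a ha).rich b hb
    obtain ⟨r, hr, hrb, hrc, hrl⟩ := (hF.planes a ha).ext b hb c hc
    set P := pl (dperp D a) b c r
    refine ⟨insert a P, Set.insert_subset ha fun v hv => hv.1.1, Set.toFinite _, ?_, ?_⟩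
    · rintro u (rfl | hu) v (rfl | hv)
      · exact Commute.refl _
      · exact hv.1.2.2
      · exact hu.1.2.2.symm
      · obtain ⟨h1, h2, h3⟩ := commute_pl hb hc hr hrb hrc hu
        exact hv.2 u hu.1 h1.symm h2.symm h3.symm
    · rw [Set.ncard_insert_of_notMem (fun h => h.1.2.1 rfl) (Set.toFinite _),
        le_antisymm ((hF.planes a ha).size b hb c hc r hr hrb hrc hrl)
          ((hC a ha).plane b hb c hc r hr hrb hrc hrl)]
  rintro n ⟨E, hED, hEf, hEc, rfl⟩
  rcases E.eq_empty_or_nonempty with rfl | ⟨a', ha'⟩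
  · simp
  set E' := E \ {a'}
  have hE' : E' ⊆ dperp D a' := fun v hv => ⟨hED hv.1, hv.2, hEc a' ha' v hv.1⟩
  suffices E'.ncard ≤ 21 by
    have h1 : E'.ncard + 1 = E.ncard := Set.ncard_sdiff_singleton_add_one ha' hEf
    omega
  rcases E'.eq_empty_or_nonempty with he | ⟨p, hp⟩
  · simp [he]
  rcases (E' \ {p}).eq_empty_or_nonempty with he | ⟨q, hq⟩
  · have := Set.ncard_sdiff_singleton_add_one hp (Set.toFinite _)
    rw [he, Set.ncard_empty] at this
    omega
  have hqp : q ∈ dperp (dperp D a') p := ⟨hE' hq.1, hq.2, hEc p hp.1 q hq.1.1⟩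
  have haD := hED ha'
  by_cases hsub : E' ⊆ ln (dperp D a') p q
  · have := Set.ncard_le_ncard hsub (Set.toFinite _)
    rw [(hF.data.layerLines a' haD).five p (hE' hp) q hqp] at this
    omega
  obtain ⟨r, hr, hrl⟩ := Set.not_subset.1 hsub
  have hrp : Commute r p := hEc r hr.1 p hp.1
  have hrq : Commute r q := hEc r hr.1 q hq.1.1
  refine le_trans (Set.ncard_le_ncard (fun u hu => ?_) (Set.toFinite _))
    ((hF.planes a' haD).size p (hE' hp) q hqp r (hE' hr) hrp hrq hrl)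
  exact ⟨hE' hu, fun k hk k1 k2 k3 => (hF.planes a' haD).trans p (hE' hp) q hqp k hk r (hE' hr) u
    (hE' hu) k1 k2 hrp hrq (hEc u hu.1 p hp.1) (hEc u hu.1 q hq.1.1) hrl k3 (hEc r hr.1 u hu.1)⟩

end Count

end Cfsg.Agent.ThreeTrans
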