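import Cfsg.Agent.ThreeTrans.Basic

/-!
# The symmetric group of degree four from three Coxeter generators
-/

set_option autoImplicit false

open Cfsg

namespace Cfsg.Agent.ThreeTrans

namespace SmallPerm

/-- The adjacent transpositions. -/
def s4 : Fin 3 → Equiv.Perm (Fin 4) := ![Equiv.swap 0 1, Equiv.swap 1 2, Equiv.swap 2 3]

/-- Normal forms. -/
def words : List (List (Fin 3)) :=
  [[], [0]].flatMap fun x => [[], [1], [1, 0]].flatMap fun y =>
    [[], [2], [2, 1], [2, 1, 0]].map fun z => x ++ y ++ z

/-- Evaluation of a word. -/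
def evalW {M : Type*} [Monoid M] (s : Fin 3 → M) (w : List (Fin 3)) : M :=
  w.foldr (fun i x => s i * x) 1

/-- The normal form of a permutation. -/
def word (σ : Equiv.Perm (Fin 4)) : List (Fin 3) :=
  (words.find? fun w => evalW s4 w = σ).getD []

theorem evalW_word : ∀ σ, evalW s4 (word σ) = σ := by decide +kernel

theorem word_mem : ∀ σ, word σ ∈ words := by decide +kernel

theorem word_one : word 1 = [] := by decide +kernel

theorem word_gen : ∀ i, word (s4 i) = [i] := by decide +kernel

variable {G : Type*} [Group G] {a b c : G}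

/-- The value on a permutation. -/
def val (a b c : G) (σ : Equiv.Perm (Fin 4)) : G := evalW ![a, b, c] (word σ)

variable (haa : a * a = 1) (hbb : b * b = 1) (hcc : c * c = 1) (hbab : b * a * b = a * b * a)
  (hca : c * a = a * c) (hcbc : c * b * c = b * c * b)

include haa hbb hcc hbab hca hcbc

set_option maxHeartbeats 4000000 in
theorem val_gen_mul (i : Fin 3) (σ : Equiv.Perm (Fin 4)) :
    val a b c (s4 i * σ) = ![a, b, c] i * val a b c σ := by
  have ra : ∀ x, a * (a * x) = x := fun x => by rw [← mul_assoc, haa, one_mul]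
  have rb : ∀ x, b * (b * x) = x := fun x => by rw [← mul_assoc, hbb, one_mul]
  have rc : ∀ x, c * (c * x) = x := fun x => by rw [← mul_assoc, hcc, one_mul]
  have r1 : ∀ x, b * (a * (b * x)) = a * (b * (a * x)) := fun x => by
    simp only [← mul_assoc, hbab]
  have r2 : ∀ x, c * (a * x) = a * (c * x) := fun x => by simp only [← mul_assoc, hca]
  have r3 : ∀ x, c * (b * (c * x)) = b * (c * (b * x)) := fun x => by
    simp only [← mul_assoc, hcbc]
  have r4 : ∀ x, c * (b * (a * (c * x))) = b * (c * (b * (a * x))) := fun x => by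
    rw [← r2, r3]
  have e1 : b * (a * b) = a * (b * a) := by simpa [mul_assoc] using r1 1
  have e3 : c * (b * c) = b * (c * b) := by simpa [mul_assoc] using r3 1
  have e4 : c * (b * (a * c)) = b * (c * (b * a)) := by simpa [mul_assoc] using r4 1
  -- the permutations satisfy the same table
  have key : ∀ (j : Fin 3), ∀ w ∈ words,
      evalW ![a, b, c] (word (s4 j * evalW s4 w)) = ![a, b, c] j * evalW ![a, b, c] w := by
    intro j w hw
    simp only [words, List.flatMap_cons, List.flatMap_nil, List.map_cons, List.map_nil,
      List.cons_append, List.nil_append, List.append_nil, List.mem_cons, List.not_mem_nil,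
      or_false] at hw
    rcases hw with rfl | rfl | rfl | rfl | rfl | rfl | rfl | rfl | rfl | rfl | rfl | rfl | rfl |
      rfl | rfl | rfl | rfl | rfl | rfl | rfl | rfl | rfl | rfl | rfl <;>
    fin_cases j <;>
    (conv_lhs => arg 2; whnf) <;>
    simp [evalW, ra, rb, rc, r1, r2, r3, r4, e1, e3, e4, haa, hbb, hcc, hca]
  have := key i (word σ) (word_mem σ)
  rwa [evalW_word] at this

theorem val_mul (σ τ : Equiv.Perm (Fin 4)) : val a b c (σ * τ) = val a b c σ * val a b c τ := by
  have key : ∀ w : List (Fin 3), ∀ τ,
      val a b c (evalW s4 w * τ) = evalW ![a, b, c] w * val a b c τ := by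
    intro w
    induction w with
    | nil => intro τ; simp [evalW]
    | cons i w ih =>
      intro τ
      simp only [evalW, List.foldr_cons] at ih ⊢
      rw [mul_assoc, val_gen_mul haa hbb hcc hbab hca hcbc, ih, mul_assoc]
  have := key (word σ) τ
  rwa [evalW_word] at this

/-- The homomorphism from the symmetric group of degree four. -/
def hom : Equiv.Perm (Fin 4) →* G :=
  MonoidHom.mk' (val a b c) (val_mul haa hbb hcc hbab hca hcbc)

theorem hom_gen (i : Fin 3) : hom haa hbb hcc hbab hca hcbc (s4 i) = ![a, b, c] i := by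
  show evalW ![a, b, c] (word (s4 i)) = _
  rw [word_gen i]
  simp [evalW]

end SmallPerm

end Cfsg.Agent.ThreeTrans
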