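import Cfsg.Agent.ThreeTrans.Param
import Cfsg.Agent.ThreeTrans.OrthTwo
import Cfsg.Agent.Classical.QuadMat

/-!
# The orthogonal transvections over the field with two elements
-/

set_option autoImplicit false

open Matrix QuadraticMap Cfsg.Agent.Classical

namespace Cfsg.Agent.ThreeTrans

variable {ι : Type} [Fintype ι] [DecidableEq ι] {Q : QuadraticForm (ZMod 2) (ι → ZMod 2)}

/-- The functional of a transvection. -/
theorem eq_polar_of_isometry (hQ : (polarBilin Q).Nondegenerate) {g : (ι → ZMod 2) → (ι → ZMod 2)}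
    (hg : ∀ x, Q (g x) = Q x) {v : ι → ZMod 2} {φ : (ι → ZMod 2) →ₗ[ZMod 2] ZMod 2} (hv : v ≠ 0)
    (hφ : ∃ x, φ x = 1) (h : OneDir g v φ) : Q v = 1 ∧ ∀ x, φ x = polar Q x v := by
  have h2 : ∀ x, φ x = 1 → polar Q x v = Q v := by
    intro x hx
    have := hg x
    rw [h, hx, one_smul, Quad.map_add', add_assoc, add_eq_left] at this
    rw [eq_neg_of_add_eq_zero_right this, ZModModule.neg_eq_self]
  obtain ⟨x, hx⟩ := hφ
  have h0 : ∀ y, φ y = 0 → polar Q y v = 0 := by
    intro y hy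
    have h1 := h2 (x + y) (by rw [map_add, hx, hy, add_zero])
    rw [polar_add_left, h2 x hx, add_eq_left] at h1
    exact h1
  have hQv : Q v = 1 := by
    refine (OrthTwo.z2 _).resolve_left fun hc => hv (hQ.1 v fun y => ?_)
    show polar Q v y = 0
    rw [polar_comm]
    rcases OrthTwo.z2 (φ y) with hy | hy
    · exact h0 y hy
    · rw [h2 y hy, hc]
  refine ⟨hQv, fun y => ?_⟩
  rcases OrthTwo.z2 (φ y) with hy | hy
  · rw [hy, h0 y hy]
  · rw [hy, h2 y hy, hQv]

/-- The transvections of a non-degenerate quadratic form in dimension at least 5. -/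
theorem orth_class (hQ : (polarBilin Q).Nondegenerate) (hn : 5 ≤ Fintype.card ι) :
    Cfsg.IsThreeTranspositionClass {g : ↥(Cfsg.isometryGroup (ZMod 2) ⇑Q) |
      (((g : GL ι (ZMod 2)) : Matrix ι ι (ZMod 2)) - 1).rank = 1} := by
  classical
  set e := Quad.oEquiv Q
  have hn' : 5 ≤ Module.finrank (ZMod 2) (ι → ZMod 2) := by rwa [Module.finrank_pi]
  choose t htv hto hta using fun v : {v : ι → ZMod 2 // Q v = 1} => OrthTwo.exists_tv v.2
  let T := fun v : {v : ι → ZMod 2 // Q v = 1} => e.symm ⟨t v, hto v⟩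
  have hT : ∀ v x, (T v).1.1 *ᵥ x = x + polar Q x v • (v : ι → ZMod 2) := fun v x => by
    rw [← hta, ← Quad.oEquiv_apply, MulEquiv.apply_symm_apply]
  have hone : ∀ v, OneDir (fun x => (T v).1.1 *ᵥ x) (v : ι → ZMod 2) (polarBilin Q (v : ι → ZMod 2)) :=
    fun v x => by rw [polarBilin_apply_apply, polar_comm]; exact hT v x
  have hval : ∀ v : {v : ι → ZMod 2 // Q v = 1}, (polarBilin Q (v : ι → ZMod 2)) (v : ι → ZMod 2) = -2 :=
    fun v => by rw [polarBilin_apply_apply, OrthTwo.polar_self_zero]; decide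
  have ext : ∀ a b : ↥(Cfsg.isometryGroup (ZMod 2) ⇑Q), (∀ x, a.1.1 *ᵥ x = b.1.1 *ᵥ x) → a = b :=
    fun a b h => Subtype.ext (Units.ext (eq_of_mulVec h))
  have hmul : ∀ (a b : ↥(Cfsg.isometryGroup (ZMod 2) ⇑Q)) x,
      (a * b).1.1 *ᵥ x = a.1.1 *ᵥ (b.1.1 *ᵥ x) := fun a b x => by
    rw [Subgroup.coe_mul, Units.val_mul, Matrix.mulVec_mulVec]
  have hnz : ∀ v : {v : ι → ZMod 2 // Q v = 1}, (v : ι → ZMod 2) ≠ 0 := fun v hv => by
    have := v.2
    rw [hv, map_zero] at this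
    exact absurd this (by decide)
  have hfun : ∀ v : {v : ι → ZMod 2 // Q v = 1}, ∃ y, polar Q (v : ι → ZMod 2) y = 1 := fun v => by
    by_contra hc
    push Not at hc
    exact hnz v (hQ.1 _ fun y => (OrthTwo.z2 _).resolve_right (hc y))
  have hD : ∀ g : ↥(Cfsg.isometryGroup (ZMod 2) ⇑Q),
      (g.1.1 - 1).rank = 1 ↔ ∃ v, T v = g := by
    intro g
    constructor
    · intro hg
      obtain ⟨v, φ, hv, hφ, hgv⟩ := exists_oneDir_of_rank hg
      obtain ⟨hQv, hφ'⟩ := eq_polar_of_isometry hQ (Quad.mem_isometryGroup_iff.1 g.2) hv hφ hgv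
      refine ⟨⟨v, hQv⟩, ext _ _ fun x => ?_⟩
      rw [hT, hgv x, hφ']
    · rintro ⟨v, rfl⟩
      exact rank_of_oneDir (hnz v) (by simpa using hfun v) (hone v)
  refine class_of_param T (fun v w => polar Q (v : ι → ZMod 2) w = 1) ?_ hD ?_ ?_ ?_ ?_ ?_ ?_ ?_
  · obtain ⟨x, hx⟩ : ∃ x, Q x = 1 := by
      by_contra hc
      push Not at hc
      have hsub : Subsingleton (ι → ZMod 2) := by
        have h0 : ∀ z : ι → ZMod 2, z = 0 := fun z => hQ.1 z fun y => by
          show polar Q z y = 0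
          simp [polar, fun a => (OrthTwo.z2 (Q a)).resolve_right (hc a)]
        exact ⟨fun a b => (h0 a).trans (h0 b).symm⟩
      rw [Module.finrank_zero_of_subsingleton] at hn'
      omega
    exact ⟨⟨x, hx⟩⟩
  · intro v h
    obtain ⟨y, hy⟩ := hfun v
    have := hT v y
    rw [h, OneMemClass.coe_one, Units.val_one, Matrix.one_mulVec, polar_comm, hy, one_smul,
      left_eq_add] at this
    exact hnz v this
  · intro v
    refine ext _ _ fun x => ?_
    rw [hmul, OneMemClass.coe_one, Units.val_one, Matrix.one_mulVec]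
    exact (hone v).sq (hval v) x
  · intro v w h
    refine ext _ _ fun x => ?_
    rw [hmul, hmul]
    have h0 := (OrthTwo.z2 _).resolve_right h
    exact (hone v).comm (hone w) (by rw [polarBilin_apply_apply, h0])
      (by rw [polarBilin_apply_apply, polar_comm, h0]) x
  · intro v w h
    refine ext _ _ fun x => ?_
    simp only [hmul]
    exact (hone v).braid (hone w) (hval v) (hval w)
      (by rw [polarBilin_apply_apply, polarBilin_apply_apply, polar_comm Q (w : ι → ZMod 2), h, one_mul]) x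
  · intro g v
    show (((g * T v * g⁻¹ : ↥(Cfsg.isometryGroup (ZMod 2) ⇑Q)) : GL ι (ZMod 2)).1 - 1).rank = 1
    simp only [Subgroup.coe_mul, Subgroup.coe_inv, Units.val_mul]
    rw [rank_conj_sub_one (Units.mul_inv g.1)]
    exact (hD _).2 ⟨v, rfl⟩
  · intro v w h hne
    obtain ⟨u, hu, h1, h2⟩ := OrthTwo.exists_link hQ hn' v.2 w.2 (fun he => hne (by rw [Subtype.ext he]))
    exact ⟨⟨u, hu⟩, h1, h2⟩
  · rw [eq_top_iff]
    intro g _
    set H := Subgroup.closure {g : ↥(Cfsg.isometryGroup (ZMod 2) ⇑Q) | (g.1.1 - 1).rank = 1}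
    have h : (e g).1 ∈ (H.map e.toMonoidHom).map (Quad.oG Q).subtype := by
      refine (Subgroup.closure_le _).2 ?_ (OrthTwo.oG_le_closure hQ hn' (e g).2)
      rintro s ⟨v, hv, hs⟩
      refine ⟨_, ⟨T ⟨v, hv⟩, Subgroup.subset_closure ((hD _).2 ⟨_, rfl⟩), rfl⟩, ?_⟩
      show (e (e.symm ⟨t ⟨v, hv⟩, _⟩)).1 = s
      rw [MulEquiv.apply_symm_apply]
      exact LinearEquiv.ext fun x => (hta _ x).trans (hs x).symm
    obtain ⟨_, ⟨g', hg', rfl⟩, he⟩ := h
    exact e.injective (Subtype.ext he) ▸ hg'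

end Cfsg.Agent.ThreeTrans
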