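import Cfsg.Agent.ThreeTrans.PairMain
import Cfsg.Agent.ThreeTrans.PairWidths
import Cfsg.Agent.Classical.OrthPOmega
import Cfsg.Agent.Classical.QuadStd
import Cfsg.Agent.S0293

/-!
# Type M(24): the group of the common partners has socle PΩ⁺(8, 3)
-/

set_option autoImplicit false

open Cfsg
open scoped commutatorElement

namespace Cfsg.Agent.ThreeTrans

theorem pomega_eight_simple :
    IsSimpleGroup (Cfsg.POmega (ZMod 3) (Cfsg.quadFormPlus 4 (ZMod 3))) ∧
      Nat.card (Cfsg.POmega (ZMod 3) (Cfsg.quadFormPlus 4 (ZMod 3))) = 4952179814400 := by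
  open Cfsg.Agent.Classical.Quad QuadraticMap in
    let Q : QuadraticForm (ZMod 3) (Fin 4 ⊕ Fin 4 → ZMod 3) :=
      (hyp (zeroForm (ZMod 3)) 4).comp (plusCoord 4).toLinearMap
    have hQe : ⇑Q = Cfsg.quadFormPlus 4 (ZMod 3) := funext fun x => by simp [Q, plusCoord_map]
    have hQ : (polarBilin Q).Nondegenerate :=
      Iso.nondeg (Iso.symm ⟨plusCoord 4, fun x => by simp [Q]⟩) (nondeg_hyp nondeg_zeroForm 4)
    refine ⟨hQe ▸ isSimpleGroup_pomega hQ (by simp), ?_⟩
    have h := Cfsg.Agent.S0293.result (F := ZMod 3) (ZMod.card 3) 4 le_rfl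
    simp [Finset.prod_range_succ] at h
    omega

variable {G : Type*} [Group G] [Finite G] {D : Set G}

/-- Rewriting the generating set. -/
theorem socle_congr {s t : Set G} (h : s = t)
    (hs : ∃ (N : Subgroup (↥(Subgroup.closure s) ⧸ Subgroup.center ↥(Subgroup.closure s))) (_ : N.Normal),
      Nonempty (N ≃* Cfsg.POmega (ZMod 3) (Cfsg.quadFormPlus 4 (ZMod 3))) ∧
      Nonempty ((↥(Subgroup.closure s) ⧸ Subgroup.center ↥(Subgroup.closure s)) ⧸ N ≃* Equiv.Perm (Fin 3))) :
    ∃ (N : Subgroup (↥(Subgroup.closure t) ⧸ Subgroup.center ↥(Subgroup.closure t))) (_ : N.Normal),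
      Nonempty (N ≃* Cfsg.POmega (ZMod 3) (Cfsg.quadFormPlus 4 (ZMod 3))) ∧
      Nonempty ((↥(Subgroup.closure t) ⧸ Subgroup.center ↥(Subgroup.closure t)) ⧸ N ≃* Equiv.Perm (Fin 3)) := by
  subst h
  exact hs

/-- The socle of the group of the common partners. -/
theorem socle_of_pair (hD : IsThreeTranspositionGroup D) (hH : Hyp D) {a d : G} {n : ℕ}
    (hbig : ∀ m ∈ pairPerp D a d, (pairPerp (dperp D m) a d).ncard = n)
    (hlt : n + 3 < (pairPerp D a d).ncard)
    {K : Subgroup G} (hK : K = Subgroup.closure (pairPerp D a d)) (hcen : Subgroup.center ↥K = ⊥)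
    {N : Subgroup ↥K} [N.Normal] (hN : IsSimpleGroup ↥N) (hNab : ¬ IsMulCommutative ↥N)
    (e : ↥K ⧸ N ≃* Equiv.Perm (Fin 3)) :
    generalizedFittingSubgroup ↥K = N := by
  classical
  set C := Subgroup.centralizer ((N : Subgroup ↥K) : Set ↥K)
  have hNZ : Subgroup.center ↥N = ⊥ := by
    refine (Subgroup.Normal.eq_bot_or_eq_top inferInstance).resolve_right fun h => hNab ⟨⟨fun x y => ?_⟩⟩
    exact (Subgroup.mem_center_iff.1 (h ▸ Subgroup.mem_top y : y ∈ Subgroup.center ↥N) x)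
  have hCN : ∀ x ∈ C, x ∈ N → x = 1 := fun x hx hxN => by
    have h : (⟨x, hxN⟩ : N) ∈ Subgroup.center ↥N :=
      Subgroup.mem_center_iff.2 fun y => Subtype.ext (Subgroup.mem_centralizer_iff.1 hx y y.2)
    rw [hNZ, Subgroup.mem_bot] at h
    exact congrArg Subtype.val h
  let φ : ↥K →* Equiv.Perm (Fin 3) := e.toMonoidHom.comp (QuotientGroup.mk' N)
  have hφ : Function.Surjective φ := e.surjective.comp (QuotientGroup.mk'_surjective _)
  have hker : ∀ x, φ x = 1 → x ∈ N := fun x hx => by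
    rwa [MonoidHom.comp_apply, MulEquiv.coe_toMonoidHom, EmbeddingLike.map_eq_one_iff,
      QuotientGroup.mk'_apply, QuotientGroup.eq_one_iff] at hx
  have hC : C = ⊥ := by
    by_contra hne
    obtain ⟨⟨c, hc⟩, hc'⟩ := Subgroup.ne_bot_iff_exists_ne_one.1 hne
    have hc1 : c ≠ 1 := fun h' => hc' (Subtype.ext h')
    have hσ : φ c ≠ 1 := fun h => hc1 (hCN c hc (hker c h))
    obtain ⟨z, hz, hz3⟩ : ∃ z ∈ C, φ z * φ z * φ z = 1 ∧ φ z ≠ 1 := by
      rcases (by decide +kernel : ∀ σ : Equiv.Perm (Fin 3), σ ≠ 1 → (σ * σ * σ = 1 ∨ ∃ τ : Equiv.Perm (Fin 3),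
        (σ * (τ * σ * τ⁻¹)) * (σ * (τ * σ * τ⁻¹)) * (σ * (τ * σ * τ⁻¹)) = 1 ∧ σ * (τ * σ * τ⁻¹) ≠ 1)) _ hσ
        with h | ⟨τ, h1, h2⟩
      · exact ⟨c, hc, h, hσ⟩
      · obtain ⟨t, rfl⟩ := hφ τ
        exact ⟨c * (t * c * t⁻¹), mul_mem hc ((inferInstance : C.Normal).conj_mem c hc t),
          by simpa [map_mul] using h1, by simpa [map_mul] using h2⟩
    have hzc : z ^ 3 = 1 := hCN _ (pow_mem hz 3) (hker _ (by rw [map_pow, pow_succ, sq, hz3.1]))
    refine no_invariant hD hH hbig hlt (by subst hK; exact hcen) (z := (z : G)) (by rw [← hK]; exact z.2)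
      (fun h => hz3.2 (by rw [show z = 1 from Subtype.ext h, map_one]))
      (by exact_mod_cast congrArg Subtype.val hzc) fun k hk => ?_
    let k' : ↥K := ⟨k, by rw [hK]; exact Subgroup.subset_closure hk⟩
    have hk2 : k' * k' = 1 := Subtype.ext (mul_self hD.1 hk.1)
    have hkk : φ k' * φ k' = 1 := by rw [← map_mul, hk2, map_one]
    have hconj : k' * z * k' ∈ C := by
      have := (inferInstance : C.Normal).conj_mem z hz k'
      rwa [inv_eq_of_mul_eq_one_left hk2] at this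
    have hlift : ∀ w ∈ C, φ (k' * z * k') = φ w → k' * z * k' = w := fun w hw h => by
      have h1 := hCN _ (mul_mem hconj (inv_mem hw)) (hker _ (by rw [map_mul, map_inv, h, mul_inv_cancel]))
      exact mul_inv_eq_one.1 h1
    rcases (by decide +kernel : ∀ σ τ : Equiv.Perm (Fin 3), σ * σ * σ = 1 → τ * τ = 1 →
      τ * σ * τ = σ ∨ τ * σ * τ = σ⁻¹) _ _ hz3.1 hkk with h | h
    · exact Or.inl (congrArg Subtype.val (hlift z hz (by rw [map_mul, map_mul]; exact h)))
    · exact Or.inr (congrArg Subtype.val (hlift z⁻¹ (inv_mem hz) (by rw [map_mul, map_mul, map_inv]; exact h)))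
  have hperf : Group.IsPerfect ↥N := ⟨(Subgroup.Normal.eq_bot_or_eq_top inferInstance).resolve_left fun h =>
    hNab ⟨⟨fun x y => by
      have hm : ⁅x, y⁆ ∈ commutator ↥N :=
        Subgroup.commutator_mem_commutator (Subgroup.mem_top x) (Subgroup.mem_top y)
      rw [h, Subgroup.mem_bot] at hm
      exact commutatorElement_eq_one_iff_mul_comm.1 hm⟩⟩⟩
  have hcomp : IsComponent N := ⟨Subgroup.Normal.isSubnormal inferInstance, hperf,
    MulEquiv.isSimpleGroup (QuotientGroup.quotientBot.symm.trans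
      (QuotientGroup.quotientMulEquivOfEq hNZ.symm)).symm⟩
  have hlayer : layer ↥K = N := by
    refine le_antisymm (sSup_le fun L hL => ?_) (Layer.component_le_layer hcomp)
    rcases eq_or_ne L N with h | h
    · exact h.le
    exfalso
    have := Subgroup.commutator_eq_bot_iff_le_centralizer.1 (Layer.components_commute hL hcomp h)
    exact Layer.qs_subgroup_ne_bot hL.2 (le_bot_iff.1 (this.trans hC.le))
  have hfit : fittingSubgroup ↥K = ⊥ := by
    have := Layer.fitting_le_centralizer_layer (G := ↥K)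
    rw [hlayer] at this
    exact le_bot_iff.1 (this.trans hC.le)
  rw [generalizedFittingSubgroup, hlayer, hfit, sup_bot_eq]

end Cfsg.Agent.ThreeTrans
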