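import Cfsg.Agent.ThreeTrans.UnitaryRigid
import Cfsg.Agent.ThreeTrans.SmallPerm
import Cfsg.Agent.Classical.UnitaryTrans
import Cfsg.Agent.Classical.HermSimple
import Cfsg.Agent.Classical.UnitInvolFrame
import Cfsg.Agent.Classical.UnitaryGroup

/-!
# The classes of 3-transpositions of PSU(6, 2)

Every such class consists of the transvections: products of two or three commuting transvections
are not 3-transpositions.
-/

set_option autoImplicit false

open Cfsg Cfsg.Agent.Classical Cfsg.Agent.Classical.Herm Module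

namespace Cfsg.Agent.ThreeTrans

/-- A product of two commuting members, times an involution commuting with all members in sight,
has a conjugate with product of order four. -/
theorem exists_conj_order_four {Γ : Type*} [Group Γ] {T : Set Γ} (hT : IsThreeTranspositionSet T)
    {a b c d w r : Γ} (ha : a ∈ T) (hb : b ∈ T) (hc : c ∈ T) (hd : d ∈ T) (hw : w ∈ T)
    (hab : Commute a b) (nab : a ≠ b) (hac : ¬ Commute a c) (hbc : ¬ Commute b c) (hda : Commute d a)
    (hdb : Commute d b) (hdc : Commute d c) (hwa : Commute w a) (hwb : ¬ Commute w b)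
    (hwd : ¬ Commute w d) (hra : Commute r a) (hrb : Commute r b) (hrc : Commute r c)
    (hrd : Commute r d) (hrw : Commute r w) (hr : r * r = 1) :
    ∃ h : Γ, (a * b * r * (h * (a * b * r) * h⁻¹)) ^ 4 = 1 ∧
      (a * b * r * (h * (a * b * r) * h⁻¹)) ^ 2 ≠ 1 ∧
      (a * b * r * (h * (a * b * r) * h⁻¹)) ^ 3 ≠ 1 := by
  have step : ∀ {p q : Γ}, p ∈ T → q ∈ T → ¬ Commute p q → MulAut.conj (p * q * p) p = q := by
    intro p q hp hq hpq
    show p * q * p * p * (p * q * p)⁻¹ = q
    rw [mul_inv_rev, mul_inv_rev, inv_eq hT hp, inv_eq hT hq]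
    calc p * q * p * p * (p * (q * p)) = p * (q * p * q) * p := by
          simp only [mul_assoc, mul_self_mul hT hp]
      _ = q := by rw [braid hT hq hp fun h => hpq h.symm]; simp only [mul_assoc, mul_self_mul hT hp, mul_self hT hp, mul_one]
  have fix : ∀ {p q y : Γ}, Commute y p → Commute y q → MulAut.conj (p * q * p) y = y := by
    intro p q y hp hq
    show p * q * p * y * (p * q * p)⁻¹ = y
    rw [← ((hp.mul_right hq).mul_right hp).eq, mul_inv_cancel_right]
  refine ⟨(a * c * a) * (w * d * w) * (b * w * b), ?_⟩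
  have hconj : (a * c * a) * (w * d * w) * (b * w * b) * (a * b * r) *
      ((a * c * a) * (w * d * w) * (b * w * b))⁻¹ = c * d * r := by
    show MulAut.conj ((a * c * a) * (w * d * w) * (b * w * b)) (a * b * r) = _
    have split : ∀ P Q R y : Γ,
        MulAut.conj (P * Q * R) y = MulAut.conj P (MulAut.conj Q (MulAut.conj R y)) := fun P Q R y => by
      rw [map_mul, map_mul, MulAut.mul_apply, MulAut.mul_apply]
    rw [map_mul, map_mul]
    simp only [split (a * c * a) (w * d * w) (b * w * b)]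
    rw [fix hab hwa.symm, fix hwa.symm hda.symm, step ha hc hac,
      step hb hw (fun h => hwb h.symm), step hw hd hwd, fix hda hdc,
      fix hrb hrw, fix hrw hrd, fix hra hrc]
  rw [hconj]
  have hprod : a * b * r * (c * d * r) = a * b * c * d := by
    rw [show a * b * r * (c * d * r) = a * b * (r * (c * d)) * r by simp only [mul_assoc],
      (hrc.mul_right hrd).eq]
    simp only [mul_assoc, hr, mul_one]
  rw [hprod]
  set x := a * b * c with hx
  have hxd : Commute x d := (hda.symm.mul_left hdb.symm).mul_left hdc.symm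
  have hd2 : d * d = 1 := mul_self hT hd
  have hx4 : x ^ 4 = 1 := by
    let φ := SmallPerm.hom (mul_self hT ha) (mul_self hT hc) (mul_self hT hb)
      (braid hT hc ha fun h => hac h.symm) hab.symm.eq (braid hT hb hc hbc)
    have h1 : (SmallPerm.s4 0 * SmallPerm.s4 2 * SmallPerm.s4 1) ^ 4 = 1 := by decide +kernel
    have h2 := congrArg φ h1
    simp only [map_pow, map_mul, map_one, φ, SmallPerm.hom_gen] at h2
    exact h2
  have hx2 : x ^ 2 ≠ 1 := by
    intro h
    have h1 : Commute c (a * b) := by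
      show c * (a * b) = a * b * c
      rw [sq] at h
      calc c * (a * b) = (x * x) * (c * (a * b)) := by rw [h, one_mul]
        _ = x * (a * b * (c * c) * (a * b)) := by rw [hx]; simp only [mul_assoc]
        _ = x * (a * b * (b * a)) := by rw [mul_self hT hc, mul_one, hab.eq]
        _ = a * b * c := by
          rw [show a * b * (b * a) = a * (b * b) * a by simp only [mul_assoc], mul_self hT hb, mul_one,
            mul_self hT ha, mul_one]
    exact hac ((commute_pair_iff hT ha hb hc hab nab).1 h1).1.symm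
  have hd4 : d ^ 4 = 1 := by rw [show (4 : ℕ) = 2 * 2 from rfl, pow_mul, pow_two d, hd2, one_pow]
  refine ⟨by rw [hxd.mul_pow, hx4, one_mul, hd4], fun h => hx2 ?_, fun h => hx2 ?_⟩
  · rwa [hxd.mul_pow, pow_two d, hd2, mul_one] at h
  · rw [hxd.mul_pow, pow_succ d, sq, hd2, one_mul] at h
    have h3 : x ^ 6 = 1 := by
      rw [show (6 : ℕ) = 3 * 2 from rfl, pow_mul, show x ^ 3 = d by
        rw [← inv_eq hT hd]; exact eq_inv_of_mul_eq_one_left h, sq, hd2]
    rw [show (6 : ℕ) = 4 + 2 from rfl, pow_add, hx4, one_mul] at h3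
    exact h3

namespace UModel

variable {F V : Type*} [Field F] [AddCommGroup V] [Module F V] {θ : F →+* F}
  {B : V →ₛₗ[θ] V →ₗ[F] F} (hB : Space B)

include hB

theorem tvU_mem' (v : Pt B) : tvU (B := B) v.2.2 1 ∈ suG B := by
  have := hB.fin; have := hB.finF
  exact tvU_mem hB.herm v.2.2 (by rw [map_one, two hB])

/-- The transvection of a point. -/
noncomputable def tr (v : Pt B) : suG B := ⟨tvU (B := B) v.2.2 1, tvU_mem' hB v⟩

theorem tr_apply (v : Pt B) (x : V) : (tr hB v).1 x = x + B v.1 x • v.1 := by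
  show tvU (B := B) v.2.2 1 x = _
  rw [tvU_apply, one_mul]

theorem ext_suG {g g' : suG B} (h : ∀ x, g.1 x = g'.1 x) : g = g' := Subtype.ext (LinearEquiv.ext h)

theorem tr_sq (v : Pt B) : tr hB v * tr hB v = 1 := ext_suG hB fun x => by
  show (tr hB v).1 ((tr hB v).1 x) = x
  rw [tr_apply, tr_apply]
  simp [v.2.2, add_assoc, vadd_self hB]

/-- Where an isometry takes a point. -/
theorem exists_image (g : suG B) (v : Pt B) : ∃ u : Pt B, u.1 = g.1 v.1 :=
  ⟨⟨g.1 v.1, fun h => v.2.1 (by simpa using h), by rw [g.2.1]; exact v.2.2⟩, rfl⟩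

theorem tr_conj (g : suG B) {v u : Pt B} (hu : u.1 = g.1 v.1) : g * tr hB v * g⁻¹ = tr hB u :=
  ext_suG hB fun x => by
    show g.1 ((tr hB v).1 (g.1⁻¹ x)) = (tr hB u).1 x
    have hx : g.1 (g.1⁻¹ x) = x := g.1.apply_symm_apply x
    rw [tr_apply, tr_apply, map_add, map_smul, hu, hx]
    congr 2
    conv_rhs => rw [← hx, g.2.1]

theorem tr_eq_iff (v w : Pt B) : tr hB v = tr hB w ↔ ∃ k : F, w.1 = k • v.1 := by
  constructor
  · intro h
    obtain ⟨y, hy⟩ := exists_pair hB w.2.1
    have h1 := congrArg (fun g : suG B => g.1 y) h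
    simp only [tr_apply, add_right_inj] at h1
    rw [symm_one hB hy, one_smul] at h1
    exact ⟨B v.1 y, h1.symm⟩
  · rintro ⟨k, hk⟩
    refine ext_suG hB fun x => ?_
    rw [tr_apply, tr_apply, hk]
    have hk0 : k ≠ 0 := fun h => w.2.1 (by rw [hk, h, zero_smul])
    simp [smul_smul]
    rw [show θ k * B v.1 x * k = B v.1 x * (k * θ k) by ring, norm_one hB hk0, mul_one]

theorem commute_of_fix (g : suG B) (v : Pt B) (h : g.1 v.1 = v.1) : Commute g (tr hB v) := by
  have h1 := tr_conj hB g (v := v) (u := v) h.symm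
  rwa [mul_inv_eq_iff_eq_mul] at h1

theorem exists_tmove (v w : Pt B) : ∃ u : Pt B, u.1 = w.1 + B v.1 w.1 • v.1 ∧
    tr hB v * tr hB w * tr hB v = tr hB u := by
  obtain ⟨u, hu⟩ := exists_image hB (tr hB v) w
  refine ⟨u, by rw [hu, tr_apply], ?_⟩
  have := tr_conj hB (tr hB v) hu
  rwa [inv_eq_of_mul_eq_one_left (tr_sq hB v)] at this

theorem tr_commute_iff (v w : Pt B) : Commute (tr hB v) (tr hB w) ↔ B v.1 w.1 = 0 := by
  constructor
  · intro h
    obtain ⟨u, hu, hu'⟩ := exists_tmove hB v w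
    rw [h.eq, mul_assoc, tr_sq hB v, mul_one, tr_eq_iff] at hu'
    obtain ⟨k, hk⟩ := hu'
    rw [hu] at hk
    by_contra hne
    have h1 := congrArg (B v.1) hk
    simp [v.2.2] at h1
    have hk1 : k = 1 := mul_right_cancel₀ hne (h1.symm.trans (one_mul _).symm)
    rw [hk1, one_smul] at hk
    exact (smul_ne_zero hne v.2.1) (add_eq_left.1 hk)
  · intro h
    exact commute_of_fix hB _ w (by rw [tr_apply, h, zero_smul, add_zero])

theorem tr_braid {v w : Pt B} (h : B v.1 w.1 ≠ 0) :
    tr hB v * tr hB w * tr hB v = tr hB w * tr hB v * tr hB w := by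
  obtain ⟨u, hu, hu'⟩ := exists_tmove hB v w
  obtain ⟨u', hu1, hu1'⟩ := exists_tmove hB w v
  rw [hu', hu1', tr_eq_iff]
  refine ⟨(B v.1 w.1)⁻¹, ?_⟩
  have h2 : B w.1 v.1 = θ (B v.1 w.1) := (hB.herm.symm _ _).symm
  have h3 : θ (B v.1 w.1) = (B v.1 w.1)⁻¹ := eq_inv_of_mul_eq_one_right (norm_one hB h)
  rw [hu1, hu, h2, h3, smul_add, smul_smul, inv_mul_cancel₀ h, one_smul, add_comm]

/-- All transvections. -/
def trSet : Set (suG B) := Set.range (tr hB)

theorem trSet_tri : IsThreeTranspositionSet (trSet hB) := by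
  refine ⟨?_, ?_⟩
  · rintro - ⟨v, rfl⟩
    refine orderOf_eq_prime (by rw [sq, tr_sq]) fun h => ?_
    obtain ⟨y, hy⟩ := exists_pair hB v.2.1
    have h1 := congrArg (fun g : suG B => g.1 y) h
    simp [tr_apply, symm_one hB hy] at h1
    exact v.2.1 h1
  · rintro - ⟨v, rfl⟩ - ⟨w, rfl⟩
    by_cases h : B v.1 w.1 = 0
    · refine Or.inl ?_
      rw [((tr_commute_iff hB v w).2 h).mul_pow, sq, sq, tr_sq, tr_sq, one_mul]
    · refine Or.inr ?_
      have hb := tr_braid hB h
      calc (tr hB v * tr hB w) ^ 3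
          = (tr hB v * tr hB w * tr hB v) * (tr hB w * tr hB v * tr hB w) := by
            simp only [pow_succ, pow_zero, one_mul, mul_assoc]
        _ = 1 := by
          rw [← hb]
          simp only [← mul_assoc]
          rw [mul_assoc _ (tr hB v) (tr hB v), tr_sq, mul_one, mul_assoc _ (tr hB w) (tr hB w), tr_sq,
            mul_one, tr_sq]

/-- An involution that is not a transvection has a conjugate with product of order four. -/
theorem transvection_or_order_four {g : suG B} (hg : g * g = 1) (hg1 : g ≠ 1) :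
    (∃ v, g = tr hB v) ∨ ∃ h : suG B, (g * (h * g * h⁻¹)) ^ 4 = 1 ∧ (g * (h * g * h⁻¹)) ^ 2 ≠ 1 ∧
      (g * (h * g * h⁻¹)) ^ 3 ≠ 1 := by
  have := hB.fin; have := hB.finF
  have hgg : ∀ x, g.1 (g.1 x) = x := fun x => congrArg (fun g : suG B => g.1 x) hg
  set N : V →ₗ[F] V := (g.1 : V →ₗ[F] V) + LinearMap.id with hN
  have hNa : ∀ x, N x = g.1 x + x := fun x => rfl
  have hN1 : ∀ x y, B (N x) y = B x (N y) := fun x y => by
    simp only [hNa, map_add, LinearMap.add_apply]
    congr 1
    conv_lhs => rw [← hgg y, g.2.1]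
  have hN2 : ∀ x, N (N x) = 0 := fun x => by
    simp only [hNa, map_add, hgg]
    rw [add_comm x, vadd_self hB]
  obtain ⟨k, s, f, hfull, hz⟩ := UInv.exists_full hB.herm hN1 hN2
  have hgx : ∀ x, g.1 x = x + ∑ i, B (f.w i) x • f.w i := fun x => by
    have h1 : N x = ∑ i, B (f.w i) x • f.w i := by
      conv_lhs => rw [← hfull x, f.comb_apply]
      simp [map_sum, f.Nu, f.Nw, hz, UInv.HFr.coord]
    rw [← h1, hNa, add_comm (g.1 x) x, ← add_assoc, vadd_self hB, zero_add]
  have hw0 : ∀ i, f.w i ≠ 0 := fun i h => by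
    have := f.uw i i
    rw [h, if_pos rfl] at this
    simp at this
  have hu0 : ∀ i, f.u i ≠ 0 := fun i h => by
    have := f.wu i i
    rw [h, if_pos rfl] at this
    simp at this
  rcases k with _ | _ | k
  · exact absurd (ext_suG hB fun x => by rw [hgx]; simp) hg1
  · refine Or.inl ⟨⟨f.w 0, hw0 0, f.ww 0 0⟩, ext_suG hB fun x => ?_⟩
    rw [hgx, tr_apply]; simp
  refine Or.inr ?_
  have h01 : (0 : Fin (k + 2)) ≠ 1 := by simp
  set a : Pt B := ⟨f.w 0, hw0 0, f.ww 0 0⟩
  set b : Pt B := ⟨f.w 1, hw0 1, f.ww 1 1⟩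
  set u : Pt B := ⟨f.u 1, hu0 1, f.uu 1 1⟩
  have hd0 : f.w 0 + f.w 1 ≠ 0 := fun h => by
    have := congrArg (B (f.u 0)) h
    simp [f.uw] at this
  have hc0 : f.u 0 + f.u 1 ≠ 0 := fun h => by
    have := congrArg (B (f.w 0)) h
    simp [f.wu] at this
  set c : Pt B := ⟨f.u 0 + f.u 1, hc0, by simp [f.uu]⟩
  set d : Pt B := ⟨f.w 0 + f.w 1, hd0, by simp [f.ww]⟩
  set ta := tr hB a
  set tb := tr hB b
  set r := tb * ta * g with hr
  have hgw : ∀ i, g.1 (f.w i) = f.w i := fun i => by rw [hgx]; simp [f.ww]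
  have hgu : ∀ i, g.1 (f.u i) = f.u i + f.w i := fun i => by
    rw [hgx]; simp [f.wu, Finset.sum_ite_eq']
  have hrv : ∀ x, r.1 x = tb.1 (ta.1 (g.1 x)) := fun x => rfl
  have hab : Commute ta tb := (tr_commute_iff hB a b).2 (f.ww 0 1)
  have hfixa : Commute g ta := commute_of_fix hB g a (hgw 0)
  have hfixb : Commute g tb := commute_of_fix hB g b (hgw 1)
  have hr2 : r * r = 1 := by
    rw [hr, show tb * ta * g * (tb * ta * g) = (tb * ta) * (g * (tb * ta)) * g by simp only [mul_assoc],
      (hfixb.mul_right hfixa).eq]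
    simp only [mul_assoc, hg, mul_one]
    rw [← mul_assoc ta, hab.eq, mul_assoc, tr_sq hB a, mul_one, tr_sq hB b]
  have hg' : g = ta * tb * r := by
    rw [hr]
    simp only [← mul_assoc]
    rw [mul_assoc ta tb tb, tr_sq hB b, mul_one, tr_sq hB a, one_mul]
  have mem : ∀ v, tr hB v ∈ trSet hB := fun v => ⟨v, rfl⟩
  have hne : ta ≠ tb := fun h => by
    obtain ⟨m, hm⟩ := (tr_eq_iff hB a b).1 h
    have := congrArg (B (f.u 1)) hm
    simp [a, b, f.uw] at this
  have hta : ∀ x, ta.1 x = x + B (f.w 0) x • f.w 0 := tr_apply hB a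
  have htb : ∀ x, tb.1 x = x + B (f.w 1) x • f.w 1 := tr_apply hB b
  have ra : r.1 a.1 = a.1 := by
    show r.1 (f.w 0) = f.w 0
    simp [hrv, hta, htb, hgw, f.ww]
  have rb : r.1 b.1 = b.1 := by
    show r.1 (f.w 1) = f.w 1
    simp [hrv, hta, htb, hgw, f.ww]
  have rd : r.1 d.1 = d.1 := by
    show r.1 (f.w 0 + f.w 1) = f.w 0 + f.w 1
    simp [hrv, hta, htb, hgw, f.ww]
  have rc : r.1 c.1 = c.1 := by
    show r.1 (f.u 0 + f.u 1) = f.u 0 + f.u 1
    simp [hrv, hta, htb, hgu, f.ww, f.wu]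
    abel_nf
    simp [two_nsmul, two_zsmul, vadd_self hB]
  have ru : r.1 u.1 = u.1 := by
    show r.1 (f.u 1) = f.u 1
    simp [hrv, hta, htb, hgu, f.ww, f.wu, add_assoc, vadd_self hB]
  obtain ⟨h, hh⟩ := exists_conj_order_four (trSet_tri hB) (mem a) (mem b) (mem c) (mem d) (mem u) hab hne
    (fun h => by have := (tr_commute_iff hB a c).1 h; simp [a, c, f.wu] at this)
    (fun h => by have := (tr_commute_iff hB b c).1 h; simp [b, c, f.wu] at this)
    ((tr_commute_iff hB d a).2 (by simp [d, a, f.ww]))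
    ((tr_commute_iff hB d b).2 (by simp [d, b, f.ww]))
    ((tr_commute_iff hB d c).2 (by simp [d, c, f.wu, two hB]))
    ((tr_commute_iff hB u a).2 (by simp [u, a, f.uw]))
    (fun h => by have := (tr_commute_iff hB u b).1 h; simp [u, b, f.uw] at this)
    (fun h => by have := (tr_commute_iff hB u d).1 h; simp [u, d, f.uw] at this)
    (r := r) (commute_of_fix hB r a ra) (commute_of_fix hB r b rb) (commute_of_fix hB r c rc)
    (commute_of_fix hB r d rd) (commute_of_fix hB r u ru) hr2
  rw [← hg'] at hh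
  exact ⟨h, hh⟩

/-- A class of 3-transpositions in the group modulo its centre is the set of transvections. -/
theorem exists_model (hZ : ∀ z ∈ Subgroup.center (suG B), z ^ 3 = 1) {X : Type*} [Group X]
    (e : suG B ⧸ Subgroup.center (suG B) ≃* X) {E : Set X} (hE : IsThreeTranspositionGroup E)
    (hne : E.Nonempty) : ∃ π : suG B →* X, Function.Surjective π ∧
      (∀ z ∈ Subgroup.center (suG B), π z = 1) ∧
      (∀ v w : Pt B, π (tr hB v) = π (tr hB w) → tr hB v = tr hB w) ∧
      Model B E (fun v => π (tr hB v)) := by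
  classical
  have := hB.fin; have := hB.finF
  set π : suG B →* X := e.toMonoidHom.comp (QuotientGroup.mk' _) with hπ
  have hsurj : Function.Surjective π := e.surjective.comp (QuotientGroup.mk'_surjective _)
  have hker : ∀ {z}, π z = 1 → z ∈ Subgroup.center (suG B) := fun {z} h => by
    rw [← QuotientGroup.eq_one_iff]
    exact e.injective (by rw [map_one]; exact h)
  have hker' : ∀ {z}, z ∈ Subgroup.center (suG B) → π z = 1 := fun {z} h => by
    show e (z : suG B ⧸ Subgroup.center (suG B)) = 1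
    rw [(QuotientGroup.eq_one_iff z).2 h, map_one]
  have hpeq : ∀ v w : Pt B, π (tr hB v) = π (tr hB w) → tr hB v = tr hB w := by
    intro v w h
    have hz : tr hB v * tr hB w ∈ Subgroup.center (suG B) := hker (by
      rw [map_mul, h, ← map_mul, tr_sq, map_one])
    set z := tr hB v * tr hB w
    have h1 : tr hB v = z * tr hB w := by
      show tr hB v = tr hB v * tr hB w * tr hB w
      rw [mul_assoc, tr_sq, mul_one]
    have h2 : z ^ 2 = 1 := by
      have h3 := tr_sq hB v
      rw [h1, show z * tr hB w * (z * tr hB w) = z * (tr hB w * z) * tr hB w by simp only [mul_assoc],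
        Subgroup.mem_center_iff.1 hz (tr hB w), ← mul_assoc, mul_assoc (z * z), tr_sq, mul_one] at h3
      rw [sq, h3]
    have h3 := hZ z hz
    rw [pow_succ, h2, one_mul] at h3
    rw [h1, h3, one_mul]
  have hgood : ∀ q ∈ E, ∃ v, q = π (tr hB v) := by
    intro q hq
    obtain ⟨g₀, rfl⟩ := hsurj q
    have hq2 : g₀ ^ 2 ∈ Subgroup.center (suG B) := hker (by rw [map_pow, sq, mul_self hE.1 hq])
    set g := g₀ ^ 3 with hgdef
    have hgq : π g = π g₀ := by rw [map_pow, pow_succ, sq, mul_self hE.1 hq, one_mul]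
    have hg : g * g = 1 := by
      rw [← sq, hgdef, ← pow_mul, show 3 * 2 = 2 * 3 from rfl, pow_mul]
      exact hZ _ hq2
    have hg1 : g ≠ 1 := fun h => ne_one hE.1 hq (by rw [← hgq, h, map_one])
    rcases transvection_or_order_four hB hg hg1 with ⟨v, hv⟩ | ⟨h, h4, h2, h3⟩
    · exact ⟨v, by rw [← hgq, hv]⟩
    · exfalso
      have hq' : π (h * g * h⁻¹) ∈ E := by
        rw [map_mul, map_mul, map_inv, hgq]; exact hE.2.1 _ _ hq
      rcases hE.1.2 _ hq _ hq' with hh | hh
      · rw [← hgq, ← map_mul, ← map_pow] at hh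
        have hz := hZ _ (hker hh)
        rw [← pow_mul, show 2 * 3 = 4 + 2 from rfl, pow_add, h4, one_mul] at hz
        exact h2 hz
      · rw [← hgq, ← map_mul, ← map_pow] at hh
        have hz := hZ _ (hker hh)
        rw [← pow_mul, show 3 * 3 = 4 * 2 + 1 from rfl, pow_add, pow_mul, h4, one_pow, one_mul,
          pow_one] at hz
        exact h2 (by rw [hz, one_pow])
  have hnc : ∀ v w : Pt B, B v.1 w.1 ≠ 0 → π (tr hB v) ∈ E → π (tr hB w) ∈ E := by
    intro v w h hv
    obtain ⟨u, -, hu⟩ := exists_tmove hB v w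
    have key : tr hB u * tr hB v * (tr hB u)⁻¹ = tr hB w := by
      rw [inv_eq_of_mul_eq_one_left (tr_sq hB u), ← hu]
      calc tr hB v * tr hB w * tr hB v * tr hB v * (tr hB v * tr hB w * tr hB v)
          = tr hB v * (tr hB w * tr hB v * tr hB w) * tr hB v := by
            rw [mul_assoc (tr hB v * tr hB w) (tr hB v) (tr hB v), tr_sq, mul_one]
            simp only [mul_assoc]
        _ = tr hB w := by
            rw [← tr_braid hB h]
            simp only [mul_assoc, tr_sq, mul_one]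
            rw [← mul_assoc, tr_sq, one_mul]
    rw [← key, map_mul, map_mul, map_inv]
    exact hE.2.1 _ _ hv
  have hall : ∀ w : Pt B, π (tr hB w) ∈ E := by
    obtain ⟨q, hq⟩ := hne
    obtain ⟨v, rfl⟩ := hgood q hq
    intro w
    obtain ⟨z, hzz, hzv, hzw⟩ := Classical.Herm.exists_common hB.herm v.2.1 v.2.2 w.2.1 w.2.2
    set tz : Pt B := ⟨z, fun h => hzv (by rw [h]; simp), hzz⟩
    exact hnc tz w hzw (hnc v tz (fun h => hzv ((symm_zero hB).1 h)) hq)
  refine ⟨π, hsurj, fun z hz => hker' hz, hpeq, ⟨⟨hE.1, fun x hx y hy => ?_⟩, ?_, fun v w => ?_,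
    fun v w => ?_, fun v w u hu => ?_⟩⟩
  · have := hE.2.1 x y hy
    rwa [inv_eq hE.1 hx] at this
  · apply Set.ext
    intro q
    exact ⟨fun hq => (hgood q hq).imp fun v hv => hv.symm, fun ⟨v, hv⟩ => hv ▸ hall v⟩
  · exact ⟨fun h => (tr_eq_iff hB v w).1 (hpeq v w h), fun h => congrArg π ((tr_eq_iff hB v w).2 h)⟩
  · refine ⟨fun h => ?_, fun h => ((tr_commute_iff hB v w).2 h).map π⟩
    by_contra hne
    obtain ⟨u, hu, hu'⟩ := exists_tmove hB v w
    have h1 : π (tr hB u) = π (tr hB w) := by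
      rw [← hu', map_mul, map_mul]
      show π (tr hB v) * π (tr hB w) * π (tr hB v) = _
      rw [h.eq, mul_assoc, ← map_mul π (tr hB v), tr_sq, map_one, mul_one]
    obtain ⟨k, hk⟩ := (tr_eq_iff hB u w).1 (hpeq u w h1)
    rw [hu] at hk
    have h2 := congrArg (B v.1) hk
    simp [v.2.2] at h2
    have hk1 : k = 1 := mul_right_cancel₀ hne (h2.symm.trans (one_mul _).symm)
    rw [hk1, one_smul] at hk
    exact smul_ne_zero hne v.2.1 (left_eq_add.1 hk)
  · obtain ⟨u', hu1, hu'⟩ := exists_tmove hB v w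
    show π (tr hB v) * π (tr hB w) * π (tr hB v) = π (tr hB u)
    rw [← map_mul, ← map_mul, hu', show u' = u from Subtype.ext (hu1.trans hu.symm)]

end UModel

/-- In a group isomorphic to PSU(6, 2) a class of 3-transpositions is the image of the transvections. -/
theorem psu_hom {F : Type*} [Field F] [Fintype F] (hF : Fintype.card F = 4) {X : Type*} [Group X]
    (e : X ≃* Cfsg.PSU 6 F 2) {E : Set X} (hE : IsThreeTranspositionGroup E) (hne : E.Nonempty) :
    ∃ (θ : F →+* F) (hB : UModel.Space (hermB 6 θ)) (π : suG (hermB 6 θ) →* X),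
      Function.Surjective π ∧ (∀ z ∈ Subgroup.center (suG (hermB 6 θ)), π z = 1) ∧
      (∀ v w : UModel.Pt (hermB 6 θ), π (UModel.tr hB v) = π (UModel.tr hB w) →
        UModel.tr hB v = UModel.tr hB w) ∧
      UModel.Model (hermB 6 θ) E (fun v => π (UModel.tr hB v)) := by
  obtain ⟨θ, hθq, hθ, hfix, -⟩ := exists_powHom (F := F) (q := 2) (by rw [hF]; norm_num)
  have hB : UModel.Space (hermB 6 θ) := by
    refine ⟨hermB_isHerm hθ 6, inferInstance, inferInstance, by rw [Module.finrank_fin_fun], ?_⟩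
    intro a ha
    rw [hθq] at ha
    have : a * (a - 1) = 0 := by linear_combination ha
    rcases mul_eq_zero.1 this with h | h
    · exact Or.inl h
    · exact Or.inr (sub_eq_zero.1 h)
  have hmap : (Subgroup.center (Cfsg.SU 6 F 2)).map (suEquiv 6 hθq).toMonoidHom
      = Subgroup.center (suG (hermB 6 θ)) := by
    ext x
    simp only [Subgroup.mem_map, Subgroup.mem_center_iff]
    constructor
    · rintro ⟨y, hy, rfl⟩ g
      obtain ⟨g', rfl⟩ := (suEquiv 6 hθq).surjective g
      simp only [MulEquiv.coe_toMonoidHom, ← map_mul, hy g']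
    · intro hx
      refine ⟨(suEquiv 6 hθq).symm x, fun g => (suEquiv 6 hθq).injective ?_, by simp⟩
      simp [hx]
  have hZ : ∀ z ∈ Subgroup.center (suG (hermB 6 θ)), z ^ 3 = 1 := by
    intro z hz
    rw [← hmap] at hz
    obtain ⟨y, hy, rfl⟩ := hz
    have h3 : Nat.card (Subgroup.center (Cfsg.SU 6 F 2)) = 3 := by
      rw [card_center_SU hθ hθq hfix (by norm_num)]; norm_num
    have h1 : (⟨y, hy⟩ : Subgroup.center (Cfsg.SU 6 F 2)) ^ 3 = 1 := by
      rw [← h3]; exact pow_card_eq_one'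
    rw [← map_pow, show y ^ 3 = 1 from congrArg Subtype.val h1, map_one]
  obtain ⟨π, h1, h2, h3, hM⟩ := UModel.exists_model hB hZ
    ((QuotientGroup.congr _ _ (suEquiv 6 hθq) hmap).symm.trans e.symm) hE hne
  exact ⟨θ, hB, π, h1, h2, h3, hM⟩

/-- In a group isomorphic to PSU(6, 2) a class of 3-transpositions is parametrised by the isotropic
points. -/
theorem psu_model {F : Type*} [Field F] [Fintype F] (hF : Fintype.card F = 4) {X : Type*} [Group X]
    (e : X ≃* Cfsg.PSU 6 F 2) {E : Set X} (hE : IsThreeTranspositionGroup E) (hne : E.Nonempty) :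
    ∃ (θ : F →+* F) (tp : UModel.Pt (hermB 6 θ) → X),
      UModel.Space (hermB 6 θ) ∧ UModel.Model (hermB 6 θ) E tp := by
  obtain ⟨θ, hB, π, -, -, -, hM⟩ := psu_hom hF e hE hne
  exact ⟨θ, _, hB, hM⟩

/-- In a group isomorphic to PSU(6, 2) a class of 3-transpositions has the four properties, lines of
five points and an odd number of members. -/
theorem psu_class {F : Type*} [Field F] [Fintype F] (hF : Fintype.card F = 4) {X : Type*} [Group X]
    [Finite X] (e : X ≃* Cfsg.PSU 6 F 2) {E : Set X} (hE : IsThreeTranspositionGroup E)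
    (hne : E.Nonempty) : Nice E ∧ Lines E ∧ Odd E.ncard := by
  obtain ⟨θ, tp, hB, hM⟩ := psu_model hF e hE hne
  obtain ⟨p, hp⟩ := id hne
  have hl := UModel.lines hB hM (by rw [Nat.card_eq_fintype_card, hF])
  exact ⟨UModel.nice hB hM, hl, odd_of_lines hM.closed hl hp⟩

end Cfsg.Agent.ThreeTrans
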