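import Cfsg.Agent.ThreeTrans.TypeM
import Cfsg.Agent.ThreeTrans.RankThree
import Cfsg.Agent.ThreeTrans.Primitive
import Cfsg.Agent.ThreeTrans.UnitaryClass

/-!
# Rigidity for the groups of type M(22), M(23), M(24)
-/

set_option autoImplicit false

open Cfsg

namespace Cfsg.Agent.ThreeTrans

variable {G K L : Type*} [Group G] [Group K] [Group L] {D S : Set G} {T : Set K} {U : Set L}
  {a b d g : G} {H : Subgroup G}

theorem closedSet_of_group (hD : IsThreeTranspositionGroup D) : ClosedSet D :=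
  ⟨hD.1, fun _ hx _ hy => conj_mem hD.1 hD.2.1 hx hy⟩

theorem SetIso.trans {φ : G → K} {ψ : K → L} (h : SetIso S T φ) (k : SetIso T U ψ) :
    SetIso S U (ψ ∘ φ) :=
  ⟨k.bij.comp h.bij, fun x hx y hy =>
    (k.comm _ (h.bij.mapsTo hx) _ (h.bij.mapsTo hy)).trans (h.comm x hx y hy), fun x hx y hy => by
      show ψ (φ (x * y * x)) = ψ (φ x) * ψ (φ y) * ψ (φ x)
      rw [h.conj x hx y hy, k.conj _ (h.bij.mapsTo hx) _ (h.bij.mapsTo hy)]⟩

theorem SetIso.ncard_eq {φ : G → K} (h : SetIso S T φ) : S.ncard = T.ncard := by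
  rw [← h.bij.image_eq, h.bij.injOn.ncard_image]

/-- Conjugation carries layers to layers. -/
theorem setIso_conj (hc : ∀ g : G, ∀ d ∈ D, g * d * g⁻¹ ∈ D) (g a : G) :
    SetIso (dperp D a) (dperp D (g * a * g⁻¹)) fun x => g * x * g⁻¹ := by
  refine ⟨⟨fun x hx => dperp_conj hc g hx, fun x _ y _ h => mul_left_cancel (mul_right_cancel h),
    fun y hy => ?_⟩, fun x _ y _ => commute_conj g x y, fun x _ y _ => by group⟩
  refine ⟨g⁻¹ * y * g, ?_, by group⟩
  have := dperp_conj hc g⁻¹ hy
  rwa [inv_inv, show g⁻¹ * (g * a * g⁻¹) * g = a by group] at this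

/-- In a class without twins a partner is separated by another one. -/
theorem sep_of_class [Finite G] (hD : IsThreeTranspositionClass D) (hN : NoTwins D) : Sep D := by
  intro a ha s hs
  by_contra hcon
  push Not at hcon
  have hsub : {e | e ∈ D ∧ Commute a e} ⊆ {e | e ∈ D ∧ Commute s e} := by
    rintro e ⟨he, hae⟩
    rcases eq_or_ne e a with rfl | hne
    · exact ⟨he, hs.2.2.symm⟩
    · exact ⟨he, (hcon e ⟨he, hne, hae⟩).symm⟩
  obtain ⟨g, hg⟩ := class_isConj hD ha hs.1
  have hc := class_conj hD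
  have himg : {e | e ∈ D ∧ Commute s e} = (fun z => g * z * g⁻¹) '' {e | e ∈ D ∧ Commute a e} := by
    apply Set.ext
    intro e
    constructor
    · rintro ⟨he, hse⟩
      obtain ⟨e', he', rfl⟩ := conj_partner hc g he
      rw [← hg, commute_conj] at hse
      exact ⟨e', ⟨he', hse⟩, rfl⟩
    · rintro ⟨e', ⟨he', hae⟩, rfl⟩
      exact ⟨hc g e' he', hg ▸ (commute_conj g a e').2 hae⟩
  have heq := Set.eq_of_subset_of_ncard_le hsub (by
    rw [himg, Set.ncard_image_of_injective _ fun p q h => mul_left_cancel (mul_right_cancel h)])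
    (Set.toFinite _)
  refine hs.2.1 (hN s hs.1 a ha fun e he => ⟨fun h => ?_, fun h => (hsub ⟨he, h⟩).2⟩)
  exact (heq.symm ▸ (⟨he, h⟩ : e ∈ {e | e ∈ D ∧ Commute s e}) : e ∈ {e | e ∈ D ∧ Commute a e}).2

section Layer

variable [Finite G] (hD : IsThreeTranspositionGroup D) (hd : d ∈ D)
  (hH : H = Subgroup.closure (dperp D d)) (hcls : IsThreeTranspositionClass D)
  (hG : GoodClass (lowImage H (dperp D d) \ {1})) (hN : NoTwins D)

include hD hd hH hcls hG hN

/-- Every layer is isomorphic to the image of one of them modulo the centre. -/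
theorem exists_layer_iso {a : G} (ha : a ∈ D) :
    ∃ φ, SetIso (dperp D a) (lowImage H (dperp D d) \ {1}) φ := by
  classical
  obtain ⟨g, hg⟩ := class_isConj hcls ha hd
  let φ : G → H ⧸ Subgroup.center H := fun u =>
    if h : u ∈ H then ((⟨u, h⟩ : H) : H ⧸ Subgroup.center H) else 1
  have hφ : ∀ u (hu : u ∈ dperp D d), φ u = ((⟨u, mem_H hH hu⟩ : H) : H ⧸ Subgroup.center H) :=
    fun u hu => dif_pos (mem_H hH hu)
  have hiso : SetIso (dperp D d) (lowImage H (dperp D d) \ {1}) φ := by
    refine ⟨⟨fun u hu => ?_, fun u hu v hv huv => ?_, ?_⟩, fun u hu v hv => ?_, fun u hu v hv => ?_⟩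
    · rw [hφ u hu]
      exact ⟨⟨_, hu, rfl⟩, mk_ne_one hD hd hH hcls hG hN hu⟩
    · rw [hφ u hu, hφ v hv] at huv
      exact congrArg Subtype.val (eq_of_mk_eq hD hH (u := ⟨u, mem_H hH hu⟩)
        (v := ⟨v, mem_H hH hv⟩) hu hv (mk_ne_one hD hd hH hcls hG hN hu) huv)
    · rintro - ⟨⟨x, hx, rfl⟩, -⟩
      exact ⟨x, hx, hφ _ hx⟩
    · rw [hφ u hu, hφ v hv]
      exact ⟨reflect hD hH (u := ⟨u, mem_H hH hu⟩) (v := ⟨v, mem_H hH hv⟩) hu hv, fun h =>
        (show Commute (⟨u, mem_H hH hu⟩ : H) ⟨v, mem_H hH hv⟩ from Subtype.ext h.eq).map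
          (QuotientGroup.mk' _)⟩
    · rw [hφ u hu, hφ v hv, hφ _ (((closedSet_of_group hD).dperp d).conj u hu v hv)]
      rfl
  have h1 := setIso_conj hD.2.1 g a
  rw [hg] at h1
  exact ⟨_, h1.trans hiso⟩

theorem nice_layer (hU : Nice (lowImage H (dperp D d) \ {1})) {a : G} (ha : a ∈ D) :
    Nice (dperp D a) := by
  obtain ⟨φ, hφ⟩ := exists_layer_iso hD hd hH hcls hG hN ha
  exact hφ.nice ((closedSet_of_group hD).dperp a) hU

theorem rich_of_layer : Rich D := by
  intro a ha
  obtain ⟨φ, hφ⟩ := exists_layer_iso hD hd hH hcls hG hN ha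
  obtain ⟨q, hq, -⟩ := hG.2.1
  obtain ⟨x, hx, -⟩ := hφ.bij.surjOn hq
  exact ⟨x, hx⟩

end Layer

variable {X : Type*} [Group X] [Finite X] {D₀ : Set X}

theorem nice_of_M22 (hD : IsThreeTranspositionGroup (D₀ \ {1})) (h : IsOfTypeM22 X D₀) :
    Nice (D₀ \ {1}) ∧ ∀ t ∈ D₀ \ {1}, Odd (dperp (D₀ \ {1}) t).ncard := by
  obtain ⟨⟨hcls, -, hN⟩, -, -⟩ := layerData_of_M22 hD h
  obtain ⟨-, d, hd0, c, -, hdc, ⟨F, hFld, hFt, hF, ⟨e⟩⟩, -, -, -⟩ := h
  have hd : d ∈ D₀ \ {1} := ⟨hd0, fun hh => hdc (by rw [hh]; exact Commute.one_left c)⟩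
  set H := Subgroup.closure {y : X | y ∈ D₀ ∧ y ≠ d ∧ Commute d y}
  have hH : H = Subgroup.closure (dperp (D₀ \ {1}) d) := closure_congr_one (dperp_diff_iff d)
  have hcard : 2 ^ 15 ∣ Nat.card (H ⧸ Subgroup.center H) := by
    rw [Nat.card_congr e.toEquiv]
    exact two_pow_dvd_psu hF
  have : IsSimpleGroup (H ⧸ Subgroup.center H) :=
    (MulEquiv.isSimpleGroup_congr e).2 (Cfsg.Agent.S0283.result
      (by rw [hF]; norm_num : Fintype.card F = 2 ^ 2) 6 (by norm_num) (by norm_num))
  have hgrp := lowImage_group hD hH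
  have hG := good_of_simple (not_isMulCommutative_of_two_pow_dvd hgrp hcard) hgrp
  obtain ⟨q, hq, -⟩ := hG.2.1
  obtain ⟨hU, hlines, hodd⟩ := psu_class hF e hgrp ⟨q, hq⟩
  have hS := closedSet_of_group hD
  have hloc := fun t (ht : t ∈ D₀ \ {1}) => nice_layer hD hd hH hcls hG hN hU ht
  have hrich := rich_of_layer hD hd hH hcls hG hN
  refine ⟨nice_of_layers hS (sep_of_class hcls hN) hrich (diam_of_lines hS hrich fun t ht => ?_) hloc,
    fun t ht => ?_⟩
  · obtain ⟨φ, hφ⟩ := exists_layer_iso hD hd hH hcls hG hN ht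
    exact hφ.lines hlines
  · obtain ⟨φ, hφ⟩ := exists_layer_iso hD hd hH hcls hG hN ht
    rwa [hφ.ncard_eq]

theorem nice_of_M23 (hD : IsThreeTranspositionGroup (D₀ \ {1})) (h : IsOfTypeM23 X D₀) :
    Nice (D₀ \ {1}) := by
  obtain ⟨⟨hcls, -, hN⟩, -, -⟩ := layerData_of_M23 hD h
  obtain ⟨-, d, hd0, c, -, hdc, h22, -⟩ := h
  have hd : d ∈ D₀ \ {1} := ⟨hd0, fun hh => hdc (by rw [hh]; exact Commute.one_left c)⟩
  set H := Subgroup.closure {y : X | y ∈ D₀ ∧ y ≠ d ∧ Commute d y}
  have hH : H = Subgroup.closure (dperp (D₀ \ {1}) d) := closure_congr_one (dperp_diff_iff d)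
  have hset : lowImage H (dperp D₀ d) \ {1} = lowImage H (dperp (D₀ \ {1}) d) \ {1} :=
    lowImage_congr H (dperp_diff_iff d)
  have hgrp : IsThreeTranspositionGroup (lowImage H (dperp D₀ d) \ {1}) := by
    rw [hset]; exact lowImage_group hD hH
  obtain ⟨hG, -, -⟩ := layerData_of_M22 (D₀ := lowImage H (dperp D₀ d)) hgrp h22
  obtain ⟨hU, hodd⟩ := nice_of_M22 (D₀ := lowImage H (dperp D₀ d)) hgrp h22
  rw [hset] at hG hU hodd
  have hS := closedSet_of_group hD
  have hrich := rich_of_layer hD hd hH hcls hG hN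
  refine nice_of_layers hS (sep_of_class hcls hN) hrich (diam_of_odd hS hrich fun x hx u hu => ?_)
    fun t ht => nice_layer hD hd hH hcls hG hN hU ht
  obtain ⟨φ, hφ⟩ := exists_layer_iso hD hd hH hcls hG hN hx
  rw [(hφ.restrict hu).ncard_eq]
  exact hodd _ (hφ.bij.mapsTo hu)

section Top

variable [Finite G]

/-- A class on which the symmetries are rigid is the only class of 3-transpositions. -/
theorem unique_of_rigid (hD : IsThreeTranspositionGroup D) (hprim : IsPrimitiveUnderConj D)
    (hZ : Subgroup.center G = ⊥) (hw : ∃ a ∈ D, ∃ b ∈ D, a ≠ b ∧ Commute a b) (hR : Rigid D)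
    {D' : Set G} (hD' : IsThreeTranspositionClass D') : D' = D := by
  obtain ⟨h2, -, -⟩ := primitive_facts hD hprim hw
  have hcls := class_of_primitive hD hprim
  obtain ⟨a₀, ha₀, -⟩ := id hw
  have hnc : ∃ d ∈ D, ∃ c ∈ D, ¬ Commute d c := by
    obtain ⟨a, ha, b, hb, hne, -⟩ := hw
    exact ⟨a, ha, exists_not_commute hcls ⟨a, ha, b, hb, hne⟩ ha⟩
  have hN := noTwins_of_primitive hD.2.1 hprim hnc
  have hN' : NoTwins D' := fun x hx y hy hxy => by
    have h1 := h2 (tau_mem_pCore hD'.1 (class_conj hD') hx hy hxy)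
    rw [hZ, Subgroup.mem_bot] at h1
    rw [mul_eq_one_iff_eq_inv.1 h1, inv_eq hD'.1 hy]
  obtain ⟨e, he, heq⟩ := id hD'.2.1
  by_cases hmeet : e ∈ D
  · rw [heq]
    refine Set.Subset.antisymm (fun x hx => ?_) fun x hx => isConj_iff.2 (hprim.1 e hmeet x hx)
    obtain ⟨g, rfl⟩ := isConj_iff.1 hx
    exact hD.2.1 g e hmeet
  exfalso
  have hT := hD'.1
  have hee := mul_self hT he
  have hinv := inv_eq hT he
  have hconj : ∀ x, e * (e * x * e) * e = x := fun x => conj_twice hee
  have hsym : Sym D fun x => e * x * e := by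
    refine ⟨fun x hx => ?_, fun x _ => hconj x, fun x _ y _ h => ?_, fun x _ y _ => ?_⟩
    · have := hD.2.1 e x hx; rwa [hinv] at this
    · have := (commute_conj e x y).2 h; rwa [hinv] at this
    · simp only [mul_assoc, mul_self_mul hT he]
  have hstar : Star D fun x => e * x * e := by
    intro c hc hcc hne a ha hac
    set e' := c * e * c
    have he' : e' ∈ D' := by
      have := class_conj hD' c e he; rwa [inv_eq hD.1 hc] at this
    have hne' : e' ≠ e := fun h => hne (by
      have hce : c * e = e * c := by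
        calc c * e = c * e * c * c := (mul_mul_self hD.1 hc _).symm
          _ = e * c := by rw [show c * e * c = e from h]
      show e * c * e = c
      rw [← hce, mul_assoc, hee, mul_one])
    have hj : e' * e = c * (e * c * e) := by simp only [e', mul_assoc]
    have hcomm : Commute e' e := by
      show e' * e = e * e'
      calc e' * e = c * (e * c * e) := hj
        _ = (e * c * e) * c := hcc.eq
        _ = e * e' := by simp only [e', mul_assoc]
    obtain ⟨haD, hane, hca⟩ := ha
    have hca' : Commute (e * c * e) a := hac.2.2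
    have haj : a * (c * (e * c * e)) * a = c * (e * c * e) := by
      rw [(hca.symm.mul_right hca'.symm).eq, mul_mul_self hD.1 haD]
    have hk : e' * e = (a * e' * a) * (a * e * a) := by
      rw [show (a * e' * a) * (a * e * a) = a * (e' * e) * a by
        simp only [mul_assoc, mul_self_mul hD.1 haD], hj, haj]
    have hmem : ∀ x ∈ D', a * x * a ∈ D' := fun x hx => by
      have := class_conj hD' a x hx; rwa [inv_eq hD.1 haD] at this
    have hcomm' : Commute (a * e' * a) (a * e * a) := by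
      have := (commute_conj a e' e).2 hcomm; rwa [inv_eq hD.1 haD] at this
    have hk' : e' * e = (a * e * a) * (a * e' * a) := hk.trans hcomm'.eq
    rcases pair_unique hT hN' he' he (hmem e he) (hmem e' he') hcomm hne' hcomm'.symm
      (fun h => hne' (mul_left_cancel (mul_right_cancel h)).symm) hk' with h | h
    · exfalso
      have ha2 : e * a * e ∈ D := hsym.mem a haD
      have hprod : c * (e * c * e) = a * (e * a * e) := by
        rw [← hj, ← h]; simp only [mul_assoc]
      have hcom2 : Commute a (e * a * e) := by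
        show a * (e * a * e) = e * a * e * a
        calc a * (e * a * e) = c * (e * c * e) := hprod.symm
          _ = e * e' := by rw [← hj, hcomm.eq]
          _ = e * a * e * a := by rw [← h]; simp only [mul_assoc]
      have hne2 : a ≠ e * a * e := fun hh => hne' (by
        rw [← h]
        calc a * e * a = a * e * (e * a * e) := by rw [← hh]
          _ = e := by rw [mul_assoc a e, ← mul_assoc e (e * a) e, ← mul_assoc e e a, hee, one_mul,
            mul_self_mul hD.1 haD])
      rcases pair_unique hD.1 hN hc (hsym.mem c hc) haD ha2 hcc (Ne.symm hne) hcom2 hne2 hprod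
        with hh | hh
      · exact hane hh
      · exact hac.2.1 hh
    · have hae : Commute a e := commute_of_conj_eq hD.1 haD h
      show e * a * e = a
      rw [← hae.eq, mul_assoc, hee, mul_one]
  have key : ∀ u : G, (∀ x ∈ D, Commute u x) → u = 1 := fun u hu => by
    have := mem_center_of_commute hD.2.2 hu
    rwa [hZ, Subgroup.mem_bot] at this
  rcases hR _ hsym hstar with h | ⟨s, hs, h⟩
  · refine ne_one hT he (key e fun x hx => ?_)
    exact commute_of_conj_eq hT he (h x hx)
  · have h1 := key (s * e) fun x hx => by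
      show s * e * x = x * (s * e)
      calc s * e * x = s * (e * x * e) * e := by simp only [mul_assoc, hee, mul_one]
        _ = s * (s * x * s) * e := by rw [show e * x * e = s * x * s from h x hx]
        _ = x * (s * e) := by simp only [mul_assoc, mul_self_mul hD.1 hs]
    exact hmeet (by
      rw [show e = s from ?_]
      · exact hs
      · rw [← inv_eq hD.1 hs]; exact eq_inv_of_mul_eq_one_right h1)

/-- A commuting pair from a non-empty layer. -/
theorem exists_pair_of_rich (hr : Rich D) (hd : d ∈ D) : ∃ a ∈ D, ∃ b ∈ D, a ≠ b ∧ Commute a b := by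
  obtain ⟨x, hx⟩ := hr d hd
  exact ⟨d, hd, x, hx.1, Ne.symm hx.2.1, hx.2.2⟩

/-- In type M(22) there is only one class of 3-transpositions. -/
theorem unique_of_M22 (hD : IsThreeTranspositionGroup D) (hprim : IsPrimitiveUnderConj D)
    (h : IsOfTypeM22 G D) {D' : Set G} (hD' : IsThreeTranspositionClass D') : D' = D := by
  have e : D \ {1} = D := Set.sdiff_singleton_eq_self fun h1 => ne_one hD.1 h1 rfl
  obtain ⟨hN, -⟩ := nice_of_M22 (D₀ := D) (by rwa [e]) h
  rw [e] at hN
  obtain ⟨d, hd, -⟩ := hprim.2.1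
  exact unique_of_rigid hD hprim h.1 (exists_pair_of_rich hN.rich hd) hN.rigid hD'

/-- In type M(23) there is only one class of 3-transpositions. -/
theorem unique_of_M23 (hD : IsThreeTranspositionGroup D) (hprim : IsPrimitiveUnderConj D)
    (h : IsOfTypeM23 G D) {D' : Set G} (hD' : IsThreeTranspositionClass D') : D' = D := by
  have e : D \ {1} = D := Set.sdiff_singleton_eq_self fun h1 => ne_one hD.1 h1 rfl
  have hN := nice_of_M23 (D₀ := D) (by rwa [e]) h
  rw [e] at hN
  obtain ⟨d, hd, -⟩ := hprim.2.1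
  exact unique_of_rigid hD hprim h.1 (exists_pair_of_rich hN.rich hd) hN.rigid hD'

/-- In type M(24) there is only one class of 3-transpositions. -/
theorem unique_of_M24 (hD : IsThreeTranspositionGroup D) (hprim : IsPrimitiveUnderConj D)
    (h : IsOfTypeM24 G D) {D' : Set G} (hD' : IsThreeTranspositionClass D') : D' = D := by
  obtain ⟨hZ, d, hd, c, hc, hdc, h23, -⟩ := h
  set H := Subgroup.closure {y : G | y ∈ D ∧ y ≠ d ∧ Commute d y}
  have hH : H = Subgroup.closure (dperp D d) := rfl
  have hgrp := lowImage_group hD hH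
  obtain ⟨hG, -, -⟩ := layerData_of_M23 (D₀ := lowImage H (dperp D d)) hgrp h23
  have hU := nice_of_M23 (D₀ := lowImage H (dperp D d)) hgrp h23
  have hcls := class_of_primitive hD hprim
  have hN := noTwins_of_primitive hD.2.1 hprim ⟨d, hd, c, hc, hdc⟩
  have hrich := rich_of_layer hD hd hH hcls hG hN
  have hw := exists_pair_of_rich hrich hd
  have hD2 : ∃ a ∈ D, ∃ b ∈ D, a ≠ b := hprim.2.1
  obtain ⟨h2, h3, hconn⟩ := primitive_facts hD hprim hw
  obtain ⟨L, hLn, hLq, -, -⟩ := exists_quasisimple hcls hD2 h2 h3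
  have hidx := index_le_two hcls hD2 h2 h3 hLq hconn
  have hperf := perfect_derived hLq hidx
  have hsol : ∀ M : Subgroup G, M.Normal → M ≤ commutator G → Group.IsSolvable M → M = ⊥ :=
    fun M hM hle hs => eq_bot_iff.2 (hZ ▸ solvable_le_center hcls hD2 h2 h3 hLq hidx hM hle hs)
  have hdiam : Diam D := fun a ha b hb hab => exists_common hsol hperf hcls ha hb hab
  have hnice := nice_of_layers (closedSet_of_group hD) (sep_of_class hcls hN) hrich hdiam
    fun t ht => nice_layer hD hd hH hcls hG hN hU ht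
  exact unique_of_rigid hD hprim hZ hw hnice.rigid hD'

end Top

end Cfsg.Agent.ThreeTrans
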