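import Cfsg.Agent.ThreeTrans.UnitaryPrime
import Cfsg.Agent.Classical.UnitElem.Basic
import Mathlib.LinearAlgebra.Determinant

/-!
# Elements of order 3 in SU(6, 2)

Such an element is, up to a scalar, a product of two transvections which do not commute, or the isotropic
points it fixes form two parts of nine or three parts of three.
-/

set_option autoImplicit false

open Cfsg Cfsg.Agent.Classical Cfsg.Agent.Classical.Herm Module

namespace Cfsg.Agent.ThreeTrans.UModel

variable {F V : Type*} [Field F] [AddCommGroup V] [Module F V] {θ : F →+* F}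
  {B : V →ₛₗ[θ] V →ₗ[F] F} (hB : Space B)
include hB

theorem theta_cube {r : F} (h3 : r * r * r = 1) : θ r = r * r := by
  have hr0 : r ≠ 0 := fun h => by simp [h] at h3
  exact mul_left_cancel₀ hr0 (by rw [norm_one hB hr0, ← mul_assoc, h3])

/-- The number of nonzero isotropic vectors of a nondegenerate subspace. -/
theorem isotropic_count (hF : Nat.card F = 4) (W : Submodule F V) (hW : UnitElem.NDon B W) :
    {v : V | v ∈ W ∧ v ≠ 0 ∧ B v v = 0}.ncard + 1 =
      (if Even (finrank F W) then (2 ^ finrank F W - 1) * (2 ^ (finrank F W - 1) + 1)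
        else (2 ^ finrank F W + 1) * (2 ^ (finrank F W - 1) - 1)) + 1 := by
  classical
  have := hB.fin; have := hB.finF
  have := Fintype.ofFinite F
  have : Finite V := Module.finite_of_finite F
  have hσ : IsInvol θ := hB.herm.toIsInvol
  have hq : Nat.card (fixField θ) = 2 := by
    have h := card_eq_fix_sq (F := F) hσ
    rw [hF] at h
    nlinarith [h]
  obtain ⟨b, hb⟩ := exists_orthonormal (UnitElem.isHerm_restr hB.herm hW)
  have he : ∀ u : W, hermB (finrank F W) θ (b.equivFun u) (b.equivFun u) = B (u : V) (u : V) := by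
    intro u
    have e : ∀ f : Fin (finrank F W) → F,
        UnitElem.restr B W (∑ i, f i • b i) (∑ i, f i • b i) = ∑ i, θ (f i) * f i := fun f => by
      simp [map_sum, hb _ _, mul_comm]
    have := e (b.equivFun u)
    rw [b.sum_equivFun] at this
    rw [Cfsg.Agent.Classical.hermB_apply, ← UnitElem.restr_apply, this]
  have hset : {v : V | v ∈ W ∧ v ≠ 0 ∧ B v v = 0} = {v : V | v ∈ W ∧ B v v = 0} \ {0} := by
    ext v; exact ⟨fun h => ⟨⟨h.1, h.2.2⟩, h.2.1⟩, fun h => ⟨h.1.1, h.2, h.1.2⟩⟩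
  rw [hset, Set.ncard_sdiff_singleton_add_one (show (0 : V) ∈ {v | v ∈ W ∧ B v v = 0} by simp)
    (Set.toFinite _), ← card_herm_isotropic (σ := θ) hσ hq (finrank F W), ← Nat.card_coe_set_eq]
  exact Nat.card_congr
    { toFun := fun v => ⟨b.equivFun ⟨v.1, v.2.1⟩, by rw [he]; exact v.2.2⟩
      invFun := fun f => ⟨(b.equivFun.symm f.1 : W), ⟨(b.equivFun.symm f.1).2, by
        rw [← he, LinearEquiv.apply_symm_apply]; exact f.2⟩⟩
      left_inv := fun v => Subtype.ext (by simp)
      right_inv := fun f => Subtype.ext (show b.equivFun (b.equivFun.symm f.1) = f.1 from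
        LinearEquiv.apply_symm_apply _ _) }

/-- An element with eigenspaces of dimensions 4, 1, 1 is a scalar times two transvections. -/
theorem eq_mul_tr {g : suG B} {a r : F} (ha3 : a * a * a = 1) (hr : r * r + r + 1 = 0) {ub uc : V}
    (hb1 : B ub ub = 1) (hc1 : B uc uc = 1) (hbc : B ub uc = 0) (hgb : g.1 ub = (a * r) • ub)
    (hgc : g.1 uc = (a * (r * r)) • uc)
    (hdec : ∀ x : V, ∃ (xa : V) (β γ : F), x = xa + β • ub + γ • uc ∧ g.1 xa = a • xa ∧
      B ub xa = 0 ∧ B uc xa = 0) :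
    ∃ (v w : Pt B), B v.1 w.1 ≠ 0 ∧ ∀ u, g.1 u = a • (tr hB v * tr hB w).1 u := by
  have htwo : (1 : F) + 1 = 0 := two hB
  have hr3 : r * r * r = 1 := by linear_combination (r - 1) * hr
  have hcb : B uc ub = 0 := (symm_zero hB).1 hbc
  have hθr : θ r = r * r := theta_cube hB hr3
  have ha0 : a ≠ 0 := fun h => by simp [h] at ha3
  have hb0 : ub ≠ 0 := fun h => by simp [h] at hb1
  have hv0 : ub + uc ≠ 0 := fun h => by
    have := congrArg (B ub) h
    simp [hb1, hbc] at this
  have hw0 : ub + r • uc ≠ 0 := fun h => by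
    have := congrArg (B ub) h
    simp [hb1, hbc] at this
  refine ⟨⟨ub + uc, hv0, ?_⟩, ⟨ub + r • uc, hw0, ?_⟩, ?_, fun x => ?_⟩
  · simp only [map_add, LinearMap.add_apply, hb1, hbc, hcb, hc1, add_zero, zero_add]
    exact htwo
  · simp only [map_add, LinearMap.add_apply, LinearMap.map_smulₛₗ, map_smul, LinearMap.smul_apply,
      smul_eq_mul, hb1, hbc, hcb, hc1, hθr, mul_zero, add_zero, zero_add, mul_one]
    linear_combination hr3 + htwo
  · show B (ub + uc) (ub + r • uc) ≠ 0
    simp only [map_add, LinearMap.add_apply, map_smul, smul_eq_mul, hb1, hbc, hcb, hc1, mul_zero,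
      add_zero, zero_add, mul_one]
    intro h
    exact zero_ne_one (α := F) (by linear_combination r * h - hr)
  · obtain ⟨xa, β, γ, rfl, hga, hba, hca⟩ := hdec x
    show _ = a • (tr hB _).1 ((tr hB _).1 _)
    rw [tr_apply hB, tr_apply hB]
    simp only [map_add, map_smul, LinearMap.map_smulₛₗ, LinearMap.add_apply, LinearMap.smul_apply,
      smul_eq_mul, hga, hgb, hgc, hba, hca, hb1, hbc, hcb, hc1, hθr]
    match_scalars <;> grind

set_option maxHeartbeats 1000000 in
/-- An element of order 3 which is not a scalar. -/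
theorem three_element (hF : Nat.card F = 4) {K : Type*} [Group K] {E : Set K} {tp : Pt B → K}
    (hM : Model B E tp) {g : suG B} (hg : ∀ v, g.1 (g.1 (g.1 v)) = v)
    (hns : ∀ c : F, ∃ v, g.1 v ≠ c • v) :
    (∃ (v w : Pt B) (c : F), B v.1 w.1 ≠ 0 ∧ ∀ u, g.1 u = c • (tr hB v * tr hB w).1 u) ∨
      ((((tp '' {v | ∃ k : F, g.1 v.1 = k • v.1}).ncard = 18 ∧
          ∀ a ∈ tp '' {v | ∃ k : F, g.1 v.1 = k • v.1},
            {b | b ∈ tp '' {v | ∃ k : F, g.1 v.1 = k • v.1} ∧ b ≠ a ∧ Commute a b}.ncard = 9) ∨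
        ((tp '' {v | ∃ k : F, g.1 v.1 = k • v.1}).ncard = 9 ∧
          ∀ a ∈ tp '' {v | ∃ k : F, g.1 v.1 = k • v.1},
            {b | b ∈ tp '' {v | ∃ k : F, g.1 v.1 = k • v.1} ∧ b ≠ a ∧ Commute a b}.ncard = 6)) ∧
        ∀ u ∈ tp '' {v | ∃ k : F, g.1 v.1 = k • v.1}, ∀ v ∈ tp '' {v | ∃ k : F, g.1 v.1 = k • v.1},
          ∀ w ∈ tp '' {v | ∃ k : F, g.1 v.1 = k • v.1},
            u ≠ w → ¬ Commute u v → ¬ Commute v w → ¬ Commute u w) := by
  classical
  have := hB.fin; have := hB.finF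
  have : Finite V := Module.finite_of_finite F
  have := Fintype.ofFinite F
  obtain ⟨k, hk1, hk⟩ := exists_omega hB hF
  have hk3 : k * k * k = 1 := by linear_combination (k - 1) * hk
  have hk0 : k ≠ 0 := fun h => by simp [h] at hk3
  set κ : Fin 3 → F := ![1, k, k * k] with hκ
  have hκ3 : ∀ i, κ i * κ i * κ i = 1 := fun i => by
    fin_cases i
    · show (1 : F) * 1 * 1 = 1; rw [one_mul, one_mul]
    · exact hk3
    · show k * k * (k * k) * (k * k) = 1; linear_combination (k * k * k + 1) * hk3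
  have hκinj : Function.Injective κ := by
    intro i j h
    have h2 : k * k ≠ 1 := fun e => hk1 (by linear_combination hk3 - k * e)
    have h4 : k ≠ k * k := fun e => hk1 (mul_left_cancel₀ hk0 (by rw [← e, mul_one]))
    fin_cases i <;> fin_cases j <;> first
      | rfl
      | (simp only [hκ, Fin.zero_eta, Fin.mk_one, Fin.reduceFinMk, Matrix.cons_val] at h
         first
           | exact absurd h hk1
           | exact absurd h.symm hk1
           | exact absurd h h2
           | exact absurd h.symm h2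
           | exact absurd h h4
           | exact absurd h.symm h4)
  have hκall : ∀ c : F, c ≠ 0 → ∃ i, κ i = c := by
    intro c hc
    have h3 := cube_one hB hF hc
    have h : (c - 1) * (c - k) * (c - k * k) = 0 := by
      linear_combination h3 - hk3 + (c * k - c * c) * hk
    rcases mul_eq_zero.1 h with h | h
    · rcases mul_eq_zero.1 h with h | h
      · exact ⟨0, (sub_eq_zero.1 h).symm⟩
      · exact ⟨1, (sub_eq_zero.1 h).symm⟩
    · exact ⟨2, (sub_eq_zero.1 h).symm⟩
  set W : Fin 3 → Submodule F V :=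
    fun i => LinearMap.ker ((g.1 : V →ₗ[F] V) - κ i • LinearMap.id) with hW
  have hmem : ∀ i v, v ∈ W i ↔ g.1 v = κ i • v := fun i v => mem_eigen
  have horth : ∀ i j, i ≠ j → ∀ u ∈ W i, ∀ v ∈ W j, B u v = 0 := by
    intro i j hij u hu v hv
    have h := g.2.1 u v
    rw [(hmem i u).1 hu, (hmem j v).1 hv] at h
    simp only [map_smul, LinearMap.map_smulₛₗ, LinearMap.smul_apply, smul_eq_mul,
      theta_cube hB (hκ3 i)] at h
    by_contra hne
    refine hij (hκinj ?_)
    have h1 : κ i * κ i * κ j = 1 := mul_right_cancel₀ hne (by linear_combination h)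
    linear_combination (-(κ i)) * h1 + (κ j) * hκ3 i
  have hdec : ∀ x : V, ∃ u₀ ∈ W 0, ∃ u₁ ∈ W 1, ∃ u₂ ∈ W 2, x = u₀ + u₁ + u₂ := by
    intro x
    obtain ⟨u₀, u₁, u₂, he, h0, h1, h2, -⟩ := exists_eigen hB hg hk x
    exact ⟨u₀, (hmem 0 u₀).2 (by simpa [hκ] using h0), u₁, (hmem 1 u₁).2 (by simpa [hκ] using h1),
      u₂, (hmem 2 u₂).2 (by simpa [hκ] using h2), he⟩
  have hnd : ∀ i, UnitElem.NDon B (W i) := by
    intro i u hu h
    refine hB.herm.nondeg u fun y => ?_
    obtain ⟨u₀, h0, u₁, h1, u₂, h2, rfl⟩ := hdec y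
    have hz : ∀ j, ∀ z ∈ W j, B u z = 0 := fun j z hz => by
      by_cases e : i = j
      · exact h z (e ▸ hz)
      · exact horth i j e u hu z hz
    rw [map_add, map_add, hz 0 _ h0, hz 1 _ h1, hz 2 _ h2, add_zero, add_zero]
  -- the decomposition as an equivalence
  set e : (W 0 × W 1 × W 2) →ₗ[F] V :=
    (W 0).subtype.coprod ((W 1).subtype.coprod (W 2).subtype) with he
  have heapp : ∀ q : W 0 × W 1 × W 2, e q = (q.1 : V) + ((q.2.1 : V) + (q.2.2 : V)) := fun q => rfl
  have hbij : Function.Bijective e := by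
    refine ⟨fun q q' hqq => ?_, fun x => ?_⟩
    · obtain ⟨d, hd⟩ : ∃ d, d = q - q' := ⟨_, rfl⟩
      have hd0 : e d = 0 := by rw [hd, map_sub, hqq, sub_self]
      rw [heapp] at hd0
      have hzero : ∀ (i : Fin 3) (z : V), z ∈ W i → (∀ y ∈ W i, B y z = 0) → z = 0 := fun i z hz h =>
        hnd i z hz fun y hy => (symm_zero hB).1 (h y hy)
      have c0 : (d.1 : V) = 0 := hzero 0 _ d.1.2 fun y hy => by
        have := congrArg (B y) hd0
        rwa [map_add, map_add, horth 0 1 (by decide) y hy _ d.2.1.2,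
          horth 0 2 (by decide) y hy _ d.2.2.2, add_zero, add_zero, map_zero] at this
      have c1 : (d.2.1 : V) = 0 := hzero 1 _ d.2.1.2 fun y hy => by
        have := congrArg (B y) hd0
        rwa [map_add, map_add, horth 1 0 (by decide) y hy _ d.1.2,
          horth 1 2 (by decide) y hy _ d.2.2.2, add_zero, zero_add, map_zero] at this
      have c2 : (d.2.2 : V) = 0 := by rwa [c0, c1, zero_add, zero_add] at hd0
      rw [← sub_eq_zero, ← hd]
      exact Prod.ext (Subtype.ext c0) (Prod.ext (Subtype.ext c1) (Subtype.ext c2))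
    · obtain ⟨u₀, h0, u₁, h1, u₂, h2, rfl⟩ := hdec x
      exact ⟨(⟨u₀, h0⟩, ⟨u₁, h1⟩, ⟨u₂, h2⟩), by rw [heapp, add_assoc]⟩
  set n : Fin 3 → ℕ := fun i => finrank F (W i) with hn
  have hsum : n 0 + n 1 + n 2 = 6 := by
    have h := (LinearEquiv.ofBijective e hbij).finrank_eq
    rw [hB.rank, Module.finrank_prod, Module.finrank_prod] at h
    simp only [hn]
    omega
  have hdet : k ^ (n 1 + 2 * n 2) = 1 := by
    have h1 : ((LinearEquiv.ofBijective e hbij : (W 0 × W 1 × W 2) →ₗ[F] V) ∘ₗ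
        ((κ 0 • LinearMap.id).prodMap ((κ 1 • LinearMap.id).prodMap (κ 2 • LinearMap.id))) ∘ₗ
        ((LinearEquiv.ofBijective e hbij).symm : V →ₗ[F] W 0 × W 1 × W 2)) = (g.1 : V →ₗ[F] V) := by
      refine LinearMap.ext fun x => ?_
      obtain ⟨q, rfl⟩ := hbij.2 x
      simp only [LinearMap.coe_comp, Function.comp_apply, LinearEquiv.coe_coe,
        LinearEquiv.ofBijective_symm_apply_apply, LinearEquiv.ofBijective_apply,
        LinearMap.prodMap_apply, LinearMap.smul_apply, LinearMap.id_apply]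
      rw [heapp, heapp, map_add, map_add, (hmem 0 _).1 q.1.2, (hmem 1 _).1 q.2.1.2,
        (hmem 2 _).1 q.2.2.2]
      rfl
    have h2 := congrArg LinearMap.det h1
    rw [LinearMap.det_conj, LinearMap.det_prodMap, LinearMap.det_prodMap, LinearMap.det_smul,
      LinearMap.det_smul, LinearMap.det_smul, LinearMap.det_id, LinearMap.det_id, LinearMap.det_id,
      mul_one, mul_one, mul_one,
      show LinearMap.det (g.1 : V →ₗ[F] V) = 1 from
        (LinearEquiv.coe_det _).symm.trans (congrArg Units.val g.2.2)] at h2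
    rw [← h2]
    show k ^ (n 1 + 2 * n 2) = (1 : F) ^ n 0 * (k ^ n 1 * (k * k) ^ n 2)
    rw [one_pow, one_mul, pow_add, pow_mul, sq]
  have hmod : (n 1 + 2 * n 2) % 3 = 0 := by
    have : Fact (Nat.Prime 3) := ⟨Nat.prime_three⟩
    have hord : orderOf k = 3 := orderOf_eq_prime (by rw [← hk3]; ring) hk1
    have h := orderOf_dvd_of_pow_eq_one hdet
    rw [hord] at h
    exact Nat.mod_eq_zero_of_dvd h
  have hsix : ∀ i, n i ≠ 6 := by
    intro i hi
    obtain ⟨v, hv⟩ := hns (κ i)
    refine hv ((hmem i v).1 ?_)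
    have h6 : finrank F (W i) = finrank F V := hi.trans hB.rank.symm
    rw [Submodule.eq_top_of_finrank_eq h6]
    exact Submodule.mem_top
  by_cases hbig : ∃ i, 4 ≤ n i
  · left
    obtain ⟨i, hi⟩ := hbig
    obtain ⟨j, l, hij, hil, hjl, hj, hl⟩ : ∃ j l, i ≠ j ∧ i ≠ l ∧ j ≠ l ∧ n j = 1 ∧ n l = 1 := by
      have h60 := hsix 0
      have h61 := hsix 1
      have h62 := hsix 2
      fin_cases i <;> simp only [Fin.zero_eta, Fin.mk_one, Fin.reduceFinMk] at hi ⊢
      · exact ⟨1, 2, by decide, by decide, by decide, by omega, by omega⟩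
      · exact ⟨0, 2, by decide, by decide, by decide, by omega, by omega⟩
      · exact ⟨0, 1, by decide, by decide, by decide, by omega, by omega⟩
    have hvec : ∀ j, n j = 1 → ∃ u ∈ W j, B u u = 1 ∧ ∀ z ∈ W j, ∃ β : F, z = β • u := by
      intro j hj
      obtain ⟨u, hu, hspan⟩ := finrank_eq_one_iff'.1 (show finrank F (W j) = 1 from hj)
      have hgen : ∀ z ∈ W j, ∃ β : F, z = β • (u : V) := fun z hz => by
        obtain ⟨β, hβ⟩ := hspan ⟨z, hz⟩
        exact ⟨β, (congrArg Subtype.val hβ).symm⟩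
      refine ⟨u, u.2, (self_cases hB (u : V)).resolve_left fun h => hu ?_, hgen⟩
      refine Subtype.ext (hnd j _ u.2 fun z hz => ?_)
      obtain ⟨β, rfl⟩ := hgen z hz
      rw [map_smul, h, smul_zero]
    obtain ⟨ub, hub, hb1, hbgen⟩ := hvec j hj
    obtain ⟨uc, huc, hc1, hcgen⟩ := hvec l hl
    set a := κ i
    have ha0 : a ≠ 0 := fun h => by have := hκ3 i; simp only [← show a = κ i from rfl, h] at this; simp at this
    set r := κ j * (a * a) with hr
    have hr1 : r ≠ 1 := fun h => hij (hκinj (by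
      linear_combination (κ j) * hκ3 i - a * (hr.symm.trans h))).symm.symm
    have hr3 : r * r * r = 1 := by
      rw [hr]
      linear_combination (a * a * a) * (a * a * a) * hκ3 j + (a * a * a + 1) * hκ3 i
    have hrr : r * r + r + 1 = 0 :=
      (mul_eq_zero.1 (show (r - 1) * (r * r + r + 1) = 0 by linear_combination hr3)).resolve_left
        (sub_ne_zero.2 hr1)
    have hcl : κ l = a * (r * r) := by
      set s := κ l * (a * a) with hs
      have hs3 : s * s * s = 1 := by
        rw [hs]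
        linear_combination (a * a * a) * (a * a * a) * hκ3 l + (a * a * a + 1) * hκ3 i
      have hse : κ l = a * s := by rw [hs]; linear_combination (-(κ l)) * hκ3 i
      have h : (s - 1) * (s - r) * (s - r * r) = 0 := by
        linear_combination hs3 - hr3 + (s * r - s * s) * hrr
      rcases mul_eq_zero.1 h with h | h
      · rcases mul_eq_zero.1 h with h | h
        · exact absurd (hκinj (by rw [hse, sub_eq_zero.1 h, mul_one])) hil
        · exact absurd (hκinj (by
            rw [hse, sub_eq_zero.1 h, hr]; linear_combination (-(κ j)) * hκ3 i)) hjl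
      · rw [hse, sub_eq_zero.1 h]
    have hcases : ∀ m : Fin 3, m = i ∨ m = j ∨ m = l := fun m =>
      (by decide : ∀ i j l m : Fin 3, i ≠ j → i ≠ l → j ≠ l → m = i ∨ m = j ∨ m = l) i j l m hij hil hjl
    have hgb : g.1 ub = (a * r) • ub := by
      rw [(hmem j ub).1 hub]
      congr 1
      rw [hr]; linear_combination (-(κ j)) * hκ3 i
    obtain ⟨v, w, hvw, hgv⟩ := eq_mul_tr hB (hκ3 i) hrr hb1 hc1 (horth j l hjl ub hub uc huc) hgb
      (by rw [(hmem l uc).1 huc, hcl]) fun x => by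
        have hpart : ∀ m, ∀ z ∈ W m, ∃ xa ∈ W i, ∃ β γ : F, z = xa + β • ub + γ • uc := by
          intro m z hz
          rcases hcases m with rfl | rfl | rfl
          · exact ⟨z, hz, 0, 0, by simp⟩
          · obtain ⟨β, rfl⟩ := hbgen z hz
            exact ⟨0, zero_mem _, β, 0, by simp⟩
          · obtain ⟨γ, rfl⟩ := hcgen z hz
            exact ⟨0, zero_mem _, 0, γ, by simp⟩
        obtain ⟨u₀, h0, u₁, h1, u₂, h2, rfl⟩ := hdec x
        obtain ⟨a₀, e0, β₀, γ₀, rfl⟩ := hpart 0 u₀ h0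
        obtain ⟨a₁, e1, β₁, γ₁, rfl⟩ := hpart 1 u₁ h1
        obtain ⟨a₂, e2, β₂, γ₂, rfl⟩ := hpart 2 u₂ h2
        have hsum : a₀ + a₁ + a₂ ∈ W i := add_mem (add_mem e0 e1) e2
        exact ⟨a₀ + a₁ + a₂, β₀ + β₁ + β₂, γ₀ + γ₁ + γ₂, by module, (hmem i _).1 hsum,
          horth j i hij.symm ub hub _ hsum, horth l i hil.symm uc huc _ hsum⟩
    exact ⟨v, w, a, hvw, hgv⟩
  right
  push Not at hbig
  set Φ : Fin 3 → Set K := fun i => tp '' {v : Pt B | v.1 ∈ W i} with hΦ
  have hfix : tp '' {v | ∃ k : F, g.1 v.1 = k • v.1} = Φ 0 ∪ (Φ 1 ∪ Φ 2) := by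
    have hset : {v : Pt B | ∃ k : F, g.1 v.1 = k • v.1} =
        {v : Pt B | v.1 ∈ W 0} ∪ ({v : Pt B | v.1 ∈ W 1} ∪ {v : Pt B | v.1 ∈ W 2}) := by
      ext v
      constructor
      · rintro ⟨c, hc⟩
        have hc0 : c ≠ 0 := fun h => v.2.1 (g.1.map_eq_zero_iff.1 (by rw [hc, h, zero_smul]))
        obtain ⟨i, rfl⟩ := hκall c hc0
        fin_cases i
        exacts [Or.inl ((hmem 0 _).2 hc), Or.inr (Or.inl ((hmem 1 _).2 hc)),
          Or.inr (Or.inr ((hmem 2 _).2 hc))]
      · rintro (h | h | h) <;> exact ⟨_, (hmem _ _).1 h⟩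
    rw [hset, Set.image_union, Set.image_union]
  -- inside one eigenspace two points do not commute
  have hin : ∀ i, ∀ v ∈ W i, ∀ w ∈ W i, v ≠ 0 → B v v = 0 → B w w = 0 → B v w = 0 →
      ∃ c : F, w = c • v := by
    intro i v hv w hw hv0 hvv hww hvw
    by_contra hind
    push Not at hind
    have hli : LinearIndependent F ![v, w] := by
      rw [LinearIndependent.pair_iff' hv0]
      exact fun c h => hind c h.symm
    have hle : Submodule.span F (Set.range ![v, w]) ≤ W i := by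
      rw [Submodule.span_le]
      rintro _ ⟨m, rfl⟩
      fin_cases m
      exacts [hv, hw]
    have hti : UnitElem.TI B (Submodule.span F (Set.range ![v, w])) := by
      intro p hp q hq
      obtain ⟨cp, rfl⟩ := (Submodule.mem_span_range_iff_exists_fun F).1 hp
      obtain ⟨cq, rfl⟩ := (Submodule.mem_span_range_iff_exists_fun F).1 hq
      simp [Fin.sum_univ_two, hvv, hww, hvw, (symm_zero hB).1 hvw]
    have h := UnitElem.two_mul_le_of_ti hB.herm (hnd i) hle hti
    rw [finrank_span_eq_card hli, Fintype.card_fin] at h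
    have := hbig i
    simp only [hn] at this
    omega
  have hcomm : ∀ i j, ∀ a ∈ Φ i, ∀ b ∈ Φ j, (Commute a b ↔ i ≠ j ∨ a = b) := by
    rintro i j - ⟨v, hv, rfl⟩ - ⟨w, hw, rfl⟩
    rw [hM.comm_iff]
    by_cases hij : i = j
    · subst hij
      refine ⟨fun h => Or.inr ?_, fun h => ?_⟩
      · obtain ⟨c, hc⟩ := hin i v.1 hv w.1 hw v.2.1 v.2.2 w.2.2 h
        exact (hM.eq_iff v w).2 ⟨c, hc⟩
      · rcases h with h | h
        · exact absurd rfl h
        · obtain ⟨c, hc⟩ := (hM.eq_iff v w).1 h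
          rw [hc, map_smul, v.2.2, smul_zero]
    · exact ⟨fun _ => Or.inl hij, fun _ => horth i j hij _ hv _ hw⟩
  have hdisj : ∀ i j, i ≠ j → Disjoint (Φ i) (Φ j) := by
    intro i j hij
    refine Set.disjoint_left.2 ?_
    rintro _ ⟨v, hv, rfl⟩ ⟨w, hw, hwv⟩
    obtain ⟨c, hc⟩ := (hM.eq_iff w v).1 hwv
    have hvi : v.1 ∈ W j := hc ▸ (W j).smul_mem c hw
    refine v.2.1 (hnd i v.1 hv fun z hz => ?_)
    exact (symm_zero hB).1 (horth i j hij z hz v.1 hvi)
  have : Finite (Pt B) := inferInstance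
  have hfin : ∀ i, (Φ i).Finite := fun i => (Set.toFinite _).image tp
  have hcount : ∀ i, 3 * (Φ i).ncard = {v : V | v ∈ W i ∧ v ≠ 0 ∧ B v v = 0}.ncard := by
    intro i
    have := Fintype.ofFinite (Pt B)
    have h : (Finset.univ.filter fun v : Pt B => v.1 ∈ W i).card =
        ((Finset.univ.filter fun v : Pt B => v.1 ∈ W i).image tp).card * 3 := by
      rw [Finset.card_eq_sum_card_image tp, ← smul_eq_mul, ← Finset.sum_const]
      refine Finset.sum_congr rfl fun b hb => ?_
      obtain ⟨v, hv, rfl⟩ := Finset.mem_image.1 hb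
      rw [Finset.mem_filter] at hv
      set f : Fin 3 → Pt B := fun j => ⟨κ j • v.1,
        smul_ne_zero (fun h => by have := hκ3 j; simp [h] at this) v.2.1,
        by rw [Herm.smul_self hB.herm, v.2.2, mul_zero]⟩ with hf
      have hfinj : Function.Injective f := fun p q hpq =>
        hκinj (smul_left_injective F v.2.1 (congrArg Subtype.val hpq))
      rw [show (3 : ℕ) = (Finset.univ.image f).card by
        rw [Finset.card_image_of_injective _ hfinj]; rfl]
      congr 1
      ext w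
      simp only [Finset.mem_filter, Finset.mem_univ, true_and, Finset.mem_image]
      constructor
      · rintro ⟨hw, htw⟩
        obtain ⟨c, hc⟩ := (hM.eq_iff v w).1 htw.symm
        have hc0 : c ≠ 0 := fun h => w.2.1 (by rw [hc, h, zero_smul])
        obtain ⟨j, rfl⟩ := hκall c hc0
        exact ⟨j, Subtype.ext hc.symm⟩
      · rintro ⟨j, rfl⟩
        exact ⟨(W i).smul_mem _ hv.2, ((hM.eq_iff v (f j)).2 ⟨κ j, rfl⟩).symm⟩
    have e1 : (Φ i).ncard = ((Finset.univ.filter fun v : Pt B => v.1 ∈ W i).image tp).card := by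
      rw [← Set.ncard_coe_finset]
      congr 1
      simp [hΦ]
    have e2 : {v : V | v ∈ W i ∧ v ≠ 0 ∧ B v v = 0}.ncard =
        (Finset.univ.filter fun v : Pt B => v.1 ∈ W i).card := by
      rw [← Set.ncard_coe_finset, ← Set.ncard_image_of_injective _ Subtype.val_injective]
      congr 1
      ext u
      constructor
      · rintro ⟨hu, h0, h1⟩
        exact ⟨⟨u, h0, h1⟩, by simpa using hu, rfl⟩
      · rintro ⟨w, hw, rfl⟩
        exact ⟨by simpa using hw, w.2.1, w.2.2⟩
    rw [e1, e2, h, mul_comm]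
  have hval : ∀ i, (n i = 0 ∧ (Φ i).ncard = 0) ∨ (n i = 1 ∧ (Φ i).ncard = 0) ∨
      (n i = 2 ∧ (Φ i).ncard = 3) ∨ (n i = 3 ∧ (Φ i).ncard = 9) := by
    intro i
    have h := isotropic_count hB hF (W i) (hnd i)
    rw [← hcount i] at h
    rcases (show n i = 0 ∨ n i = 1 ∨ n i = 2 ∨ n i = 3 by have := hbig i; omega) with e | e | e | e <;>
      (simp only [hn] at e; rw [e] at h; simp [Nat.even_iff] at h)
    · exact Or.inl ⟨e, by omega⟩
    · exact Or.inr (Or.inl ⟨e, by omega⟩)
    · exact Or.inr (Or.inr (Or.inl ⟨e, by omega⟩))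
    · exact Or.inr (Or.inr (Or.inr ⟨e, by omega⟩))
  set P := Φ 0 ∪ (Φ 1 ∪ Φ 2) with hP
  rw [hfix]
  have hPi : ∀ a ∈ P, ∃ i, a ∈ Φ i := by
    rintro a (h | h | h)
    exacts [⟨0, h⟩, ⟨1, h⟩, ⟨2, h⟩]
  have hsub : ∀ i, Φ i ⊆ P := fun i => by
    fin_cases i
    exacts [fun a h => Or.inl h, fun a h => Or.inr (Or.inl h), fun a h => Or.inr (Or.inr h)]
  have hPc : P.ncard = (Φ 0).ncard + (Φ 1).ncard + (Φ 2).ncard := by
    rw [hP, Set.ncard_union_eq (Set.disjoint_union_right.2 ⟨hdisj 0 1 (by decide), hdisj 0 2 (by decide)⟩)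
      (hfin 0) ((hfin 1).union (hfin 2)),
      Set.ncard_union_eq (hdisj 1 2 (by decide)) (hfin 1) (hfin 2), add_assoc]
  have hPfin : P.Finite := (hfin 0).union ((hfin 1).union (hfin 2))
  have hnb : ∀ i, ∀ a ∈ Φ i, {b | b ∈ P ∧ b ≠ a ∧ Commute a b}.ncard = P.ncard - (Φ i).ncard := by
    intro i a ha
    rw [← Set.ncard_sdiff (hsub i) (hfin i)]
    congr 1
    ext b
    simp only [Set.mem_setOf_eq, Set.mem_sdiff]
    constructor
    · rintro ⟨hb, hne, hc⟩
      refine ⟨hb, fun hbi => ?_⟩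
      rcases (hcomm i i a ha b hbi).1 hc with h | h
      · exact h rfl
      · exact hne h.symm
    · rintro ⟨hb, hbi⟩
      obtain ⟨j, hj⟩ := hPi b hb
      exact ⟨hb, fun h => hbi (h ▸ ha), (hcomm i j a ha b hj).2 (Or.inl fun h => hbi (h ▸ hj))⟩
  refine ⟨?_, ?_⟩
  · have hpos : ∀ i, ∀ a ∈ Φ i, 0 < (Φ i).ncard := fun i a ha =>
      (Set.ncard_pos (hfin i)).2 ⟨a, ha⟩
    rcases hval 0 with ⟨e0, f0⟩ | ⟨e0, f0⟩ | ⟨e0, f0⟩ | ⟨e0, f0⟩ <;>
    rcases hval 1 with ⟨e1, f1⟩ | ⟨e1, f1⟩ | ⟨e1, f1⟩ | ⟨e1, f1⟩ <;>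
    rcases hval 2 with ⟨e2, f2⟩ | ⟨e2, f2⟩ | ⟨e2, f2⟩ | ⟨e2, f2⟩ <;>
    first
      | omega
      | (refine Or.inl ⟨by omega, fun a ha => ?_⟩
         obtain ⟨i, hi⟩ := hPi a ha
         rw [hnb i a hi]
         have := hpos i a hi
         fin_cases i <;> simp only [Fin.zero_eta, Fin.mk_one, Fin.reduceFinMk] at * <;> omega)
      | (refine Or.inr ⟨by omega, fun a ha => ?_⟩
         obtain ⟨i, hi⟩ := hPi a ha
         rw [hnb i a hi]
         have := hpos i a hi
         fin_cases i <;> simp only [Fin.zero_eta, Fin.mk_one, Fin.reduceFinMk] at * <;> omega)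
  · intro u hu v hv w hw huw h1 h2
    obtain ⟨i, hi⟩ := hPi u hu
    obtain ⟨j, hj⟩ := hPi v hv
    obtain ⟨l, hl⟩ := hPi w hw
    rw [hcomm i j u hi v hj] at h1
    rw [hcomm j l v hj w hl] at h2
    rw [hcomm i l u hi w hl]
    push Not at h1 h2 ⊢
    exact ⟨h1.1.trans h2.1, huw⟩

end Cfsg.Agent.ThreeTrans.UModel
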