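import Mathlib

/-!
# Four points of a commutative idempotent distributive quasigroup

A binary operation with `a * a = a`, `a * b = b * a`, `a * (a * b) = b` and left
self-distributivity: four elements lie in a set of at most `81` elements on which left
multiplication by each of them is given by fixed permutations. The derivation was found by
saturation; each step is one instance of an axiom.
-/

set_option autoImplicit false
set_option maxRecDepth 100000

namespace Cfsg.Agent.ThreeTrans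

namespace FourPoint

variable {α : Type*} {op : α → α → α}

theorem p213 (cm : ∀ x y, op x y = op y x) {x y z : α} (h : op x y = z) : op y x = z :=
  (cm y x).trans h

theorem p132 (inv : ∀ x y, op x (op x y) = y) {x y z : α} (h : op x y = z) : op x z = y :=
  h ▸ inv x y

theorem p321 (cm : ∀ x y, op x y = op y x) (inv : ∀ x y, op x (op x y) = y) {x y z : α}
    (h : op x y = z) : op z y = x :=
  p213 cm (p132 inv (p213 cm h))

theorem dist1 (dist : ∀ g x y, op g (op x y) = op (op g x) (op g y))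
    {g x y xy gx gy gz : α} (h : op x y = xy) (hx : op g x = gx) (hy : op g y = gy)
    (hz : op g xy = gz) : op gx gy = gz := by
  rw [← hx, ← hy, ← dist, h, hz]

theorem dist2 (dist : ∀ g x y, op g (op x y) = op (op g x) (op g y))
    {g x y xy gx gy gz : α} (h : op x y = xy) (hx : op g x = gx) (hy : op g y = gy)
    (hz : op gx gy = gz) : op g xy = gz := by
  rw [← h, dist, hx, hy, hz]

/-- The positions of the four generators. -/
def gen : Fin 4 → Fin 81 := ![0, 1, 2, 3]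

/-- Left multiplication by the four generators in the free object. -/
def act : Fin 4 → Fin 81 → Fin 81 := ![
  ![0, 4, 5, 6, 1, 2, 3, 16, 18, 20, 12, 14, 10, 15, 11, 13, 7, 29, 8, 31,
    9, 33, 34, 37, 39, 42, 44, 47, 45, 17, 40, 19, 36, 21, 22, 38, 32, 23, 35, 24,
    30, 43, 25, 41, 26, 28, 48, 27, 46, 69, 71, 55, 59, 65, 67, 51, 60, 61, 63, 52,
    56, 57, 75, 58, 79, 53, 73, 54, 78, 49, 77, 50, 74, 66, 72, 62, 80, 70, 68, 64,
    76],
  ![4, 1, 7, 8, 0, 12, 14, 2, 3, 21, 16, 18, 5, 25, 6, 27, 10, 19, 11, 17,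
    32, 9, 35, 38, 40, 13, 45, 15, 49, 51, 53, 55, 20, 36, 37, 22, 33, 34, 23, 65,
    24, 66, 47, 57, 69, 26, 70, 42, 58, 28, 52, 29, 50, 30, 56, 31, 54, 43, 48, 62,
    64, 73, 59, 77, 60, 39, 41, 79, 76, 44, 46, 75, 80, 61, 78, 71, 68, 63, 74, 67,
    72],
  ![5, 7, 2, 9, 10, 0, 15, 1, 19, 3, 4, 23, 16, 20, 26, 6, 12, 21, 30, 8,
    13, 17, 36, 11, 41, 43, 14, 45, 50, 52, 18, 40, 57, 59, 61, 62, 22, 44, 53, 42,
    31, 24, 39, 25, 37, 27, 54, 71, 72, 51, 28, 49, 29, 38, 46, 66, 68, 32, 60, 33,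
    58, 34, 35, 78, 80, 75, 55, 74, 56, 73, 76, 47, 48, 69, 67, 65, 70, 79, 63, 77,
    64],
  ![6, 8, 9, 3, 11, 13, 0, 17, 1, 2, 22, 4, 24, 5, 18, 20, 28, 7, 14, 21,
    15, 19, 10, 36, 12, 40, 46, 48, 16, 45, 54, 56, 58, 60, 39, 49, 23, 63, 64, 34,
    25, 50, 67, 68, 47, 29, 26, 44, 27, 35, 41, 70, 72, 55, 30, 53, 31, 59, 32, 57,
    33, 74, 76, 37, 38, 77, 80, 42, 43, 79, 51, 78, 52, 75, 61, 73, 62, 65, 71, 69,
    66]]

theorem act_reach (T : Set (Fin 81)) (h0 : (0 : Fin 81) ∈ T)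
    (hT : ∀ g q, q ∈ T → act g q ∈ T) : ∀ p, p ∈ T := by
  have t4 : (4 : Fin 81) ∈ T := hT 1 0 h0
  have t5 : (5 : Fin 81) ∈ T := hT 2 0 h0
  have t6 : (6 : Fin 81) ∈ T := hT 3 0 h0
  have t1 : (1 : Fin 81) ∈ T := hT 0 4 t4
  have t10 : (10 : Fin 81) ∈ T := hT 2 4 t4
  have t11 : (11 : Fin 81) ∈ T := hT 3 4 t4
  have t2 : (2 : Fin 81) ∈ T := hT 0 5 t5
  have t12 : (12 : Fin 81) ∈ T := hT 1 5 t5
  have t13 : (13 : Fin 81) ∈ T := hT 3 5 t5
  have t3 : (3 : Fin 81) ∈ T := hT 0 6 t6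
  have t14 : (14 : Fin 81) ∈ T := hT 1 6 t6
  have t15 : (15 : Fin 81) ∈ T := hT 2 6 t6
  have t7 : (7 : Fin 81) ∈ T := hT 2 1 t1
  have t8 : (8 : Fin 81) ∈ T := hT 3 1 t1
  have t16 : (16 : Fin 81) ∈ T := hT 1 10 t10
  have t22 : (22 : Fin 81) ∈ T := hT 3 10 t10
  have t18 : (18 : Fin 81) ∈ T := hT 1 11 t11
  have t23 : (23 : Fin 81) ∈ T := hT 2 11 t11
  have t9 : (9 : Fin 81) ∈ T := hT 3 2 t2
  have t24 : (24 : Fin 81) ∈ T := hT 3 12 t12
  have t25 : (25 : Fin 81) ∈ T := hT 1 13 t13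
  have t20 : (20 : Fin 81) ∈ T := hT 2 13 t13
  have t26 : (26 : Fin 81) ∈ T := hT 2 14 t14
  have t27 : (27 : Fin 81) ∈ T := hT 1 15 t15
  have t17 : (17 : Fin 81) ∈ T := hT 3 7 t7
  have t19 : (19 : Fin 81) ∈ T := hT 2 8 t8
  have t28 : (28 : Fin 81) ∈ T := hT 3 16 t16
  have t34 : (34 : Fin 81) ∈ T := hT 0 22 t22
  have t35 : (35 : Fin 81) ∈ T := hT 1 22 t22
  have t36 : (36 : Fin 81) ∈ T := hT 2 22 t22
  have t30 : (30 : Fin 81) ∈ T := hT 2 18 t18
  have t37 : (37 : Fin 81) ∈ T := hT 0 23 t23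
  have t38 : (38 : Fin 81) ∈ T := hT 1 23 t23
  have t21 : (21 : Fin 81) ∈ T := hT 1 9 t9
  have t39 : (39 : Fin 81) ∈ T := hT 0 24 t24
  have t40 : (40 : Fin 81) ∈ T := hT 1 24 t24
  have t41 : (41 : Fin 81) ∈ T := hT 2 24 t24
  have t42 : (42 : Fin 81) ∈ T := hT 0 25 t25
  have t43 : (43 : Fin 81) ∈ T := hT 2 25 t25
  have t32 : (32 : Fin 81) ∈ T := hT 1 20 t20
  have t44 : (44 : Fin 81) ∈ T := hT 0 26 t26
  have t45 : (45 : Fin 81) ∈ T := hT 1 26 t26
  have t46 : (46 : Fin 81) ∈ T := hT 3 26 t26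
  have t47 : (47 : Fin 81) ∈ T := hT 0 27 t27
  have t48 : (48 : Fin 81) ∈ T := hT 3 27 t27
  have t29 : (29 : Fin 81) ∈ T := hT 0 17 t17
  have t31 : (31 : Fin 81) ∈ T := hT 0 19 t19
  have t49 : (49 : Fin 81) ∈ T := hT 1 28 t28
  have t50 : (50 : Fin 81) ∈ T := hT 2 28 t28
  have t61 : (61 : Fin 81) ∈ T := hT 2 34 t34
  have t62 : (62 : Fin 81) ∈ T := hT 2 35 t35
  have t33 : (33 : Fin 81) ∈ T := hT 1 36 t36
  have t53 : (53 : Fin 81) ∈ T := hT 1 30 t30
  have t54 : (54 : Fin 81) ∈ T := hT 3 30 t30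
  have t63 : (63 : Fin 81) ∈ T := hT 3 37 t37
  have t64 : (64 : Fin 81) ∈ T := hT 3 38 t38
  have t65 : (65 : Fin 81) ∈ T := hT 1 39 t39
  have t66 : (66 : Fin 81) ∈ T := hT 1 41 t41
  have t67 : (67 : Fin 81) ∈ T := hT 3 42 t42
  have t57 : (57 : Fin 81) ∈ T := hT 1 43 t43
  have t68 : (68 : Fin 81) ∈ T := hT 3 43 t43
  have t58 : (58 : Fin 81) ∈ T := hT 3 32 t32
  have t69 : (69 : Fin 81) ∈ T := hT 1 44 t44
  have t70 : (70 : Fin 81) ∈ T := hT 1 46 t46
  have t71 : (71 : Fin 81) ∈ T := hT 2 47 t47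
  have t72 : (72 : Fin 81) ∈ T := hT 2 48 t48
  have t51 : (51 : Fin 81) ∈ T := hT 1 29 t29
  have t52 : (52 : Fin 81) ∈ T := hT 2 29 t29
  have t55 : (55 : Fin 81) ∈ T := hT 1 31 t31
  have t56 : (56 : Fin 81) ∈ T := hT 3 31 t31
  have t73 : (73 : Fin 81) ∈ T := hT 1 61 t61
  have t74 : (74 : Fin 81) ∈ T := hT 3 61 t61
  have t75 : (75 : Fin 81) ∈ T := hT 0 62 t62
  have t59 : (59 : Fin 81) ∈ T := hT 1 62 t62
  have t76 : (76 : Fin 81) ∈ T := hT 3 62 t62
  have t60 : (60 : Fin 81) ∈ T := hT 3 33 t33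
  have t77 : (77 : Fin 81) ∈ T := hT 1 63 t63
  have t78 : (78 : Fin 81) ∈ T := hT 2 63 t63
  have t79 : (79 : Fin 81) ∈ T := hT 0 64 t64
  have t80 : (80 : Fin 81) ∈ T := hT 2 64 t64
  intro p
  match p with
  | ⟨0, _⟩ => exact h0
  | ⟨1, _⟩ => exact t1
  | ⟨2, _⟩ => exact t2
  | ⟨3, _⟩ => exact t3
  | ⟨4, _⟩ => exact t4
  | ⟨5, _⟩ => exact t5
  | ⟨6, _⟩ => exact t6
  | ⟨7, _⟩ => exact t7
  | ⟨8, _⟩ => exact t8
  | ⟨9, _⟩ => exact t9
  | ⟨10, _⟩ => exact t10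
  | ⟨11, _⟩ => exact t11
  | ⟨12, _⟩ => exact t12
  | ⟨13, _⟩ => exact t13
  | ⟨14, _⟩ => exact t14
  | ⟨15, _⟩ => exact t15
  | ⟨16, _⟩ => exact t16
  | ⟨17, _⟩ => exact t17
  | ⟨18, _⟩ => exact t18
  | ⟨19, _⟩ => exact t19
  | ⟨20, _⟩ => exact t20
  | ⟨21, _⟩ => exact t21
  | ⟨22, _⟩ => exact t22
  | ⟨23, _⟩ => exact t23
  | ⟨24, _⟩ => exact t24
  | ⟨25, _⟩ => exact t25
  | ⟨26, _⟩ => exact t26
  | ⟨27, _⟩ => exact t27
  | ⟨28, _⟩ => exact t28
  | ⟨29, _⟩ => exact t29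
  | ⟨30, _⟩ => exact t30
  | ⟨31, _⟩ => exact t31
  | ⟨32, _⟩ => exact t32
  | ⟨33, _⟩ => exact t33
  | ⟨34, _⟩ => exact t34
  | ⟨35, _⟩ => exact t35
  | ⟨36, _⟩ => exact t36
  | ⟨37, _⟩ => exact t37
  | ⟨38, _⟩ => exact t38
  | ⟨39, _⟩ => exact t39
  | ⟨40, _⟩ => exact t40
  | ⟨41, _⟩ => exact t41
  | ⟨42, _⟩ => exact t42
  | ⟨43, _⟩ => exact t43
  | ⟨44, _⟩ => exact t44
  | ⟨45, _⟩ => exact t45
  | ⟨46, _⟩ => exact t46
  | ⟨47, _⟩ => exact t47
  | ⟨48, _⟩ => exact t48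
  | ⟨49, _⟩ => exact t49
  | ⟨50, _⟩ => exact t50
  | ⟨51, _⟩ => exact t51
  | ⟨52, _⟩ => exact t52
  | ⟨53, _⟩ => exact t53
  | ⟨54, _⟩ => exact t54
  | ⟨55, _⟩ => exact t55
  | ⟨56, _⟩ => exact t56
  | ⟨57, _⟩ => exact t57
  | ⟨58, _⟩ => exact t58
  | ⟨59, _⟩ => exact t59
  | ⟨60, _⟩ => exact t60
  | ⟨61, _⟩ => exact t61
  | ⟨62, _⟩ => exact t62
  | ⟨63, _⟩ => exact t63
  | ⟨64, _⟩ => exact t64
  | ⟨65, _⟩ => exact t65
  | ⟨66, _⟩ => exact t66
  | ⟨67, _⟩ => exact t67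
  | ⟨68, _⟩ => exact t68
  | ⟨69, _⟩ => exact t69
  | ⟨70, _⟩ => exact t70
  | ⟨71, _⟩ => exact t71
  | ⟨72, _⟩ => exact t72
  | ⟨73, _⟩ => exact t73
  | ⟨74, _⟩ => exact t74
  | ⟨75, _⟩ => exact t75
  | ⟨76, _⟩ => exact t76
  | ⟨77, _⟩ => exact t77
  | ⟨78, _⟩ => exact t78
  | ⟨79, _⟩ => exact t79
  | ⟨80, _⟩ => exact t80
  | ⟨n + 81, h⟩ => omega

set_option maxHeartbeats 1000000 in
theorem exists_table (idem : ∀ x, op x x = x) (cm : ∀ x y, op x y = op y x)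
    (inv : ∀ x y, op x (op x y) = y) (dist : ∀ g x y, op g (op x y) = op (op g x) (op g y))
    (a b c d : α) :
    ∃ f : Fin 81 → α, f 0 = a ∧ f 1 = b ∧ f 2 = c ∧ f 3 = d ∧
      ∀ g p, op (f (gen g)) (f p) = f (act g p) := by
  have h0 : op a a = a := idem a
  have h1 : op b b = b := idem b
  have h2 : op c c = c := idem c
  have h3 : op d d = d := idem d
  obtain ⟨e4, h5⟩ : ∃ e, op a b = e := ⟨_, rfl⟩
  have h6 : op b a = e4 := p213 cm h5
  have h7 : op a e4 = b := p132 inv h5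
  have h8 : op e4 a = b := p213 cm (p132 inv h5)
  have h9 : op b e4 = a := p132 inv (p213 cm h5)
  have h10 : op e4 b = a := p321 cm inv h5
  obtain ⟨e5, h12⟩ : ∃ e, op a c = e := ⟨_, rfl⟩
  have h13 : op c a = e5 := p213 cm h12
  have h14 : op a e5 = c := p132 inv h12
  have h15 : op e5 a = c := p213 cm (p132 inv h12)
  have h16 : op c e5 = a := p132 inv (p213 cm h12)
  have h17 : op e5 c = a := p321 cm inv h12
  obtain ⟨e6, h19⟩ : ∃ e, op a d = e := ⟨_, rfl⟩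
  have h20 : op d a = e6 := p213 cm h19
  have h21 : op a e6 = d := p132 inv h19
  have h22 : op e6 a = d := p213 cm (p132 inv h19)
  have h23 : op d e6 = a := p132 inv (p213 cm h19)
  have h24 : op e6 d = a := p321 cm inv h19
  obtain ⟨e7, h26⟩ : ∃ e, op b c = e := ⟨_, rfl⟩
  have h27 : op c b = e7 := p213 cm h26
  have h28 : op b e7 = c := p132 inv h26
  have h29 : op e7 b = c := p213 cm (p132 inv h26)
  have h30 : op c e7 = b := p132 inv (p213 cm h26)
  have h31 : op e7 c = b := p321 cm inv h26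
  obtain ⟨e8, h33⟩ : ∃ e, op b d = e := ⟨_, rfl⟩
  have h34 : op d b = e8 := p213 cm h33
  have h35 : op b e8 = d := p132 inv h33
  have h36 : op e8 b = d := p213 cm (p132 inv h33)
  have h37 : op d e8 = b := p132 inv (p213 cm h33)
  have h38 : op e8 d = b := p321 cm inv h33
  obtain ⟨e9, h40⟩ : ∃ e, op c d = e := ⟨_, rfl⟩
  have h41 : op d c = e9 := p213 cm h40
  have h42 : op c e9 = d := p132 inv h40
  have h43 : op e9 c = d := p213 cm (p132 inv h40)
  have h44 : op d e9 = c := p132 inv (p213 cm h40)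
  have h45 : op e9 d = c := p321 cm inv h40
  obtain ⟨e10, h47⟩ : ∃ e, op e4 c = e := ⟨_, rfl⟩
  have h48 : op c e4 = e10 := p213 cm h47
  have h51 : op c e10 = e4 := p132 inv (p213 cm h47)
  have h52 : op e10 c = e4 := p321 cm inv h47
  have h53 : op e10 e5 = e7 := dist1 dist h8 h48 h13 h27
  obtain ⟨e11, h61⟩ : ∃ e, op e4 d = e := ⟨_, rfl⟩
  have h62 : op d e4 = e11 := p213 cm h61
  have h63 : op e4 e11 = d := p132 inv h61
  have h65 : op d e11 = e4 := p132 inv (p213 cm h61)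
  have h66 : op e11 d = e4 := p321 cm inv h61
  have h67 : op e11 e6 = e8 := dist1 dist h8 h62 h20 h34
  obtain ⟨e12, h75⟩ : ∃ e, op e5 b = e := ⟨_, rfl⟩
  have h76 : op b e5 = e12 := p213 cm h75
  have h77 : op e5 e12 = b := p132 inv h75
  have h79 : op b e12 = e5 := p132 inv (p213 cm h75)
  have h80 : op e12 b = e5 := p321 cm inv h75
  have h81 : op a e12 = e10 := dist2 dist h75 h14 h5 h48
  have h82 : op e12 a = e10 := p213 cm h81
  have h83 : op a e10 = e12 := p132 inv h81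
  have h84 : op e10 a = e12 := p213 cm (p132 inv h81)
  obtain ⟨e13, h106⟩ : ∃ e, op e5 d = e := ⟨_, rfl⟩
  have h107 : op d e5 = e13 := p213 cm h106
  have h108 : op e5 e13 = d := p132 inv h106
  have h110 : op d e13 = e5 := p132 inv (p213 cm h106)
  have h111 : op e13 d = e5 := p321 cm inv h106
  have h112 : op e13 e6 = e9 := dist1 dist h15 h107 h20 h41
  have h117 : op e9 e6 = e13 := p321 cm inv h112
  obtain ⟨e14, h120⟩ : ∃ e, op e6 b = e := ⟨_, rfl⟩
  have h121 : op b e6 = e14 := p213 cm h120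
  have h124 : op b e14 = e6 := p132 inv (p213 cm h120)
  have h125 : op e14 b = e6 := p321 cm inv h120
  have h126 : op a e14 = e11 := dist2 dist h120 h21 h5 h62
  have h127 : op e14 a = e11 := p213 cm h126
  have h128 : op a e11 = e14 := p132 inv h126
  have h129 : op e11 a = e14 := p213 cm (p132 inv h126)
  obtain ⟨e15, h151⟩ : ∃ e, op e6 c = e := ⟨_, rfl⟩
  have h152 : op c e6 = e15 := p213 cm h151
  have h153 : op e6 e15 = c := p132 inv h151
  have h155 : op c e15 = e6 := p132 inv (p213 cm h151)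
  have h156 : op e15 c = e6 := p321 cm inv h151
  have h157 : op a e15 = e13 := dist2 dist h151 h21 h12 h107
  have h158 : op e15 a = e13 := p213 cm h157
  have h159 : op a e13 = e15 := p132 inv h157
  have h163 : op e9 e15 = e5 := dist2 dist h151 h117 h43 h111
  have h166 : op e5 e9 = e15 := p213 cm (p132 inv h163)
  have h167 : op e15 e5 = e9 := p132 inv (p213 cm h163)
  obtain ⟨e16, h182⟩ : ∃ e, op e7 a = e := ⟨_, rfl⟩
  have h183 : op a e7 = e16 := p213 cm h182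
  have h184 : op e7 e16 = a := p132 inv h182
  have h186 : op a e16 = e7 := p132 inv (p213 cm h182)
  have h187 : op e16 a = e7 := p321 cm inv h182
  have h188 : op b e16 = e10 := dist2 dist h182 h28 h6 h48
  have h189 : op e16 b = e10 := p213 cm h188
  have h190 : op b e10 = e16 := p132 inv h188
  have h191 : op e10 b = e16 := p213 cm (p132 inv h188)
  have h194 : op c e16 = e12 := dist2 dist h182 h30 h13 h76
  have h195 : op e16 c = e12 := p213 cm h194
  have h196 : op c e12 = e16 := p132 inv h194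
  have h197 : op e12 c = e16 := p213 cm (p132 inv h194)
  obtain ⟨e17, h260⟩ : ∃ e, op e7 d = e := ⟨_, rfl⟩
  have h261 : op d e7 = e17 := p213 cm h260
  have h262 : op e7 e17 = d := p132 inv h260
  have h264 : op d e17 = e7 := p132 inv (p213 cm h260)
  have h265 : op e17 d = e7 := p321 cm inv h260
  have h266 : op e17 e8 = e9 := dist1 dist h29 h261 h34 h41
  have h271 : op e9 e8 = e17 := p321 cm inv h266
  obtain ⟨e18, h274⟩ : ∃ e, op e8 a = e := ⟨_, rfl⟩
  have h275 : op a e8 = e18 := p213 cm h274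
  have h278 : op a e18 = e8 := p132 inv (p213 cm h274)
  have h279 : op e18 a = e8 := p321 cm inv h274
  have h280 : op b e18 = e11 := dist2 dist h274 h35 h6 h62
  have h281 : op e18 b = e11 := p213 cm h280
  have h282 : op b e11 = e18 := p132 inv h280
  have h283 : op e11 b = e18 := p213 cm (p132 inv h280)
  have h286 : op d e18 = e14 := dist2 dist h274 h37 h20 h121
  have h287 : op e18 d = e14 := p213 cm h286
  have h288 : op d e14 = e18 := p132 inv h286
  have h289 : op e14 d = e18 := p213 cm (p132 inv h286)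
  obtain ⟨e19, h352⟩ : ∃ e, op e8 c = e := ⟨_, rfl⟩
  have h353 : op c e8 = e19 := p213 cm h352
  have h354 : op e8 e19 = c := p132 inv h352
  have h356 : op c e19 = e8 := p132 inv (p213 cm h352)
  have h357 : op e19 c = e8 := p321 cm inv h352
  have h358 : op b e19 = e17 := dist2 dist h352 h35 h26 h261
  have h359 : op e19 b = e17 := p213 cm h358
  have h360 : op b e17 = e19 := p132 inv h358
  have h364 : op e9 e19 = e7 := dist2 dist h352 h271 h43 h265
  have h367 : op e7 e9 = e19 := p213 cm (p132 inv h364)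
  obtain ⟨e20, h383⟩ : ∃ e, op e9 a = e := ⟨_, rfl⟩
  have h384 : op a e9 = e20 := p213 cm h383
  have h387 : op a e20 = e9 := p132 inv (p213 cm h383)
  have h389 : op c e20 = e13 := dist2 dist h383 h42 h13 h107
  have h390 : op e20 c = e13 := p213 cm h389
  have h391 : op c e13 = e20 := p132 inv h389
  have h392 : op e13 c = e20 := p213 cm (p132 inv h389)
  have h395 : op d e20 = e15 := dist2 dist h383 h44 h20 h152
  have h396 : op e20 d = e15 := p213 cm h395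
  have h397 : op d e15 = e20 := p132 inv h395
  have h398 : op e15 d = e20 := p213 cm (p132 inv h395)
  have h401 : op e5 e20 = e6 := dist2 dist h383 h166 h15 h156
  have h403 : op e5 e6 = e20 := p132 inv h401
  obtain ⟨e21, h461⟩ : ∃ e, op e9 b = e := ⟨_, rfl⟩
  have h462 : op b e9 = e21 := p213 cm h461
  have h463 : op e9 e21 = b := p132 inv h461
  have h465 : op b e21 = e9 := p132 inv (p213 cm h461)
  have h467 : op c e21 = e17 := dist2 dist h461 h42 h27 h261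
  have h468 : op e21 c = e17 := p213 cm h467
  have h469 : op c e17 = e21 := p132 inv h467
  have h473 : op d e21 = e19 := dist2 dist h461 h44 h34 h353
  have h474 : op e21 d = e19 := p213 cm h473
  have h475 : op d e19 = e21 := p132 inv h473
  have h479 : op e7 e21 = e8 := dist2 dist h461 h367 h29 h357
  have h481 : op e7 e8 = e21 := p132 inv h479
  obtain ⟨e22, h539⟩ : ∃ e, op e10 d = e := ⟨_, rfl⟩
  have h540 : op d e10 = e22 := p213 cm h539
  have h541 : op e10 e22 = d := p132 inv h539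
  have h543 : op d e22 = e10 := p132 inv (p213 cm h539)
  have h544 : op e22 d = e10 := p321 cm inv h539
  have h545 : op e22 e9 = e11 := dist1 dist h52 h540 h41 h62
  have h549 : op e9 e11 = e22 := p132 inv (p213 cm h545)
  have h552 : op e22 e13 = e17 := dist1 dist h53 h540 h107 h261
  obtain ⟨e23, h562⟩ : ∃ e, op e11 c = e := ⟨_, rfl⟩
  have h563 : op c e11 = e23 := p213 cm h562
  have h564 : op e11 e23 = c := p132 inv h562
  have h566 : op c e23 = e11 := p132 inv (p213 cm h562)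
  have h568 : op e4 e23 = e22 := dist2 dist h562 h63 h47 h540
  have h571 : op e22 e4 = e23 := p213 cm (p132 inv h568)
  have h573 : op e22 e23 = e4 := p321 cm inv h568
  have h574 : op e9 e23 = e10 := dist2 dist h562 h549 h43 h544
  have h575 : op e23 e9 = e10 := p213 cm h574
  have h577 : op e10 e9 = e23 := p213 cm (p132 inv h574)
  have h584 : op e23 e15 = e19 := dist1 dist h67 h563 h152 h353
  have h586 : op e23 e19 = e15 := p132 inv h584
  obtain ⟨e24, h602⟩ : ∃ e, op e12 d = e := ⟨_, rfl⟩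
  have h603 : op d e12 = e24 := p213 cm h602
  have h606 : op d e24 = e12 := p132 inv (p213 cm h602)
  have h607 : op e24 d = e12 := p321 cm inv h602
  have h608 : op e24 e6 = e22 := dist1 dist h82 h603 h20 h540
  have h612 : op e6 e22 = e24 := p132 inv (p213 cm h608)
  have h614 : op e24 e8 = e13 := dist1 dist h80 h603 h34 h107
  have h618 : op e8 e13 = e24 := p132 inv (p213 cm h614)
  obtain ⟨e25, h644⟩ : ∃ e, op e13 b = e := ⟨_, rfl⟩
  have h645 : op b e13 = e25 := p213 cm h644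
  have h646 : op e13 e25 = b := p132 inv h644
  have h648 : op b e25 = e13 := p132 inv (p213 cm h644)
  have h649 : op e25 b = e13 := p321 cm inv h644
  have h650 : op e5 e25 = e24 := dist2 dist h644 h108 h75 h603
  have h653 : op e24 e5 = e25 := p213 cm (p132 inv h650)
  have h656 : op e8 e25 = e12 := dist2 dist h644 h618 h36 h607
  have h659 : op e12 e8 = e25 := p213 cm (p132 inv h656)
  have h661 : op e12 e25 = e8 := p321 cm inv h656
  have h666 : op e25 e14 = e21 := dist1 dist h112 h645 h121 h462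
  obtain ⟨e26, h684⟩ : ∃ e, op e14 c = e := ⟨_, rfl⟩
  have h685 : op c e14 = e26 := p213 cm h684
  have h688 : op c e26 = e14 := p132 inv (p213 cm h684)
  have h689 : op e26 c = e14 := p321 cm inv h684
  have h690 : op e26 e5 = e23 := dist1 dist h127 h685 h13 h563
  have h694 : op e5 e23 = e26 := p132 inv (p213 cm h690)
  have h696 : op e26 e7 = e15 := dist1 dist h125 h685 h27 h152
  have h700 : op e7 e15 = e26 := p132 inv (p213 cm h696)
  obtain ⟨e27, h726⟩ : ∃ e, op e15 b = e := ⟨_, rfl⟩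
  have h727 : op b e15 = e27 := p213 cm h726
  have h728 : op e15 e27 = b := p132 inv h726
  have h730 : op b e27 = e15 := p132 inv (p213 cm h726)
  have h731 : op e27 b = e15 := p321 cm inv h726
  have h732 : op e6 e27 = e26 := dist2 dist h726 h153 h120 h685
  have h735 : op e26 e6 = e27 := p213 cm (p132 inv h732)
  have h738 : op e7 e27 = e14 := dist2 dist h726 h700 h29 h689
  have h741 : op e14 e7 = e27 := p213 cm (p132 inv h738)
  have h743 : op e14 e27 = e7 := p321 cm inv h738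
  have h746 : op e27 e4 = e25 := dist1 dist h158 h727 h6 h645
  have h747 : op e4 e27 = e25 := p213 cm h746
  have h750 : op e4 e25 = e27 := p132 inv (p213 cm h746)
  have h753 : op e27 e12 = e21 := dist1 dist h167 h727 h76 h462
  obtain ⟨e28, h785⟩ : ∃ e, op e16 d = e := ⟨_, rfl⟩
  have h786 : op d e16 = e28 := p213 cm h785
  have h789 : op d e28 = e16 := p132 inv (p213 cm h785)
  have h790 : op e28 d = e16 := p321 cm inv h785
  have h791 : op e28 e6 = e17 := dist1 dist h187 h786 h20 h261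
  have h795 : op e6 e17 = e28 := p132 inv (p213 cm h791)
  have h797 : op e28 e8 = e22 := dist1 dist h189 h786 h34 h540
  have h801 : op e8 e22 = e28 := p132 inv (p213 cm h797)
  have h803 : op e28 e9 = e24 := dist1 dist h195 h786 h41 h603
  have h807 : op e9 e24 = e28 := p132 inv (p213 cm h803)
  obtain ⟨e29, h876⟩ : ∃ e, op e17 a = e := ⟨_, rfl⟩
  have h877 : op a e17 = e29 := p213 cm h876
  have h880 : op a e29 = e17 := p132 inv (p213 cm h876)
  have h882 : op e6 e29 = e16 := dist2 dist h876 h795 h22 h790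
  have h884 : op e6 e16 = e29 := p132 inv h882
  have h888 : op e7 e29 = e28 := dist2 dist h876 h262 h182 h786
  have h891 : op e28 e7 = e29 := p213 cm (p132 inv h888)
  obtain ⟨e30, h916⟩ : ∃ e, op e18 c = e := ⟨_, rfl⟩
  have h917 : op c e18 = e30 := p213 cm h916
  have h920 : op c e30 = e18 := p132 inv (p213 cm h916)
  have h921 : op e30 c = e18 := p321 cm inv h916
  have h922 : op e30 e5 = e19 := dist1 dist h279 h917 h13 h353
  have h926 : op e5 e19 = e30 := p132 inv (p213 cm h922)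
  have h928 : op e30 e7 = e23 := dist1 dist h281 h917 h27 h563
  have h932 : op e7 e23 = e30 := p132 inv (p213 cm h928)
  have h934 : op e30 e9 = e26 := dist1 dist h287 h917 h40 h685
  have h938 : op e9 e26 = e30 := p132 inv (p213 cm h934)
  obtain ⟨e31, h1007⟩ : ∃ e, op e19 a = e := ⟨_, rfl⟩
  have h1008 : op a e19 = e31 := p213 cm h1007
  have h1011 : op a e31 = e19 := p132 inv (p213 cm h1007)
  have h1012 : op e31 a = e19 := p321 cm inv h1007
  have h1013 : op e5 e31 = e18 := dist2 dist h1007 h926 h15 h921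
  have h1015 : op e5 e18 = e31 := p132 inv h1013
  have h1019 : op e8 e31 = e30 := dist2 dist h1007 h354 h274 h917
  have h1022 : op e30 e8 = e31 := p213 cm (p132 inv h1019)
  have h1027 : op e31 e4 = e29 := dist1 dist h359 h1008 h5 h877
  have h1031 : op e4 e29 = e31 := p132 inv (p213 cm h1027)
  obtain ⟨e32, h1066⟩ : ∃ e, op e20 b = e := ⟨_, rfl⟩
  have h1067 : op b e20 = e32 := p213 cm h1066
  have h1070 : op b e32 = e20 := p132 inv (p213 cm h1066)
  have h1071 : op e32 b = e20 := p321 cm inv h1066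
  have h1078 : op e32 e7 = e25 := dist1 dist h390 h1067 h26 h645
  have h1082 : op e7 e25 = e32 := p132 inv (p213 cm h1078)
  have h1084 : op e32 e8 = e27 := dist1 dist h396 h1067 h33 h727
  have h1088 : op e8 e27 = e32 := p132 inv (p213 cm h1084)
  obtain ⟨e33, h1157⟩ : ∃ e, op e21 a = e := ⟨_, rfl⟩
  have h1158 : op a e21 = e33 := p213 cm h1157
  have h1161 : op a e33 = e21 := p132 inv (p213 cm h1157)
  have h1162 : op e33 a = e21 := p321 cm inv h1157
  have h1169 : op e9 e33 = e32 := dist2 dist h1157 h463 h383 h1067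
  have h1172 : op e32 e9 = e33 := p213 cm (p132 inv h1169)
  have h1178 : op e33 e5 = e29 := dist1 dist h468 h1158 h12 h877
  have h1182 : op e5 e29 = e33 := p132 inv (p213 cm h1178)
  have h1184 : op e33 e6 = e31 := dist1 dist h474 h1158 h19 h1008
  have h1188 : op e6 e31 = e33 := p132 inv (p213 cm h1184)
  obtain ⟨e34, h1265⟩ : ∃ e, op e22 a = e := ⟨_, rfl⟩
  have h1266 : op a e22 = e34 := p213 cm h1265
  have h1269 : op a e34 = e22 := p132 inv (p213 cm h1265)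
  have h1270 : op e34 a = e22 := p321 cm inv h1265
  have h1271 : op e6 e34 = e12 := dist2 dist h1265 h612 h22 h607
  have h1273 : op e6 e12 = e34 := p132 inv h1271
  have h1277 : op e10 e34 = e24 := dist2 dist h1265 h541 h84 h603
  have h1279 : op e10 e24 = e34 := p132 inv h1277
  have h1281 : op e34 e24 = e10 := p132 inv (p213 cm h1277)
  have h1294 : op e34 e15 = e29 := dist1 dist h552 h1266 h159 h877
  have h1303 : op e5 e34 = e32 := dist2 dist h1273 h403 h77 h1066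
  have h1304 : op e34 e5 = e32 := p213 cm h1303
  have h1305 : op e5 e32 = e34 := p132 inv h1303
  obtain ⟨e35, h1337⟩ : ∃ e, op e22 b = e := ⟨_, rfl⟩
  have h1338 : op b e22 = e35 := p213 cm h1337
  have h1340 : op e35 e22 = b := p213 cm (p132 inv h1337)
  have h1341 : op b e35 = e22 := p132 inv (p213 cm h1337)
  have h1342 : op e35 b = e22 := p321 cm inv h1337
  have h1343 : op e8 e35 = e16 := dist2 dist h1337 h801 h36 h790
  have h1344 : op e35 e8 = e16 := p213 cm h1343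
  have h1345 : op e8 e16 = e35 := p132 inv h1343
  have h1346 : op e16 e8 = e35 := p213 cm (p132 inv h1343)
  have h1349 : op e10 e35 = e28 := dist2 dist h1337 h541 h191 h786
  have h1355 : op e35 e34 = e23 := dist1 dist h6 h1337 h1265 h571
  have h1358 : op e23 e35 = e34 := p213 cm (p132 inv h1355)
  have h1359 : op e34 e23 = e35 := p132 inv (p213 cm h1355)
  have h1365 : op e35 e21 = e18 := dist1 dist h545 h1338 h462 h282
  have h1370 : op e18 e21 = e35 := p321 cm inv h1365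
  have h1373 : op e35 e25 = e19 := dist1 dist h552 h1338 h645 h360
  have h1375 : op e35 e19 = e25 := p132 inv h1373
  have h1378 : op e19 e25 = e35 := p321 cm inv h1373
  have h1382 : op e7 e35 = e33 := dist2 dist h1345 h481 h184 h1157
  have h1383 : op e35 e7 = e33 := p213 cm h1382
  have h1384 : op e7 e33 = e35 := p132 inv h1382
  have h1415 : op e23 e25 = e29 := dist2 dist h1375 h1358 h586 h1294
  have h1416 : op e25 e23 = e29 := p213 cm h1415
  have h1430 : op e26 e24 = e33 := dist1 dist h1415 h694 h650 h1182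
  have h1435 : op e33 e24 = e26 := p321 cm inv h1430
  obtain ⟨e36, h1458⟩ : ∃ e, op e22 c = e := ⟨_, rfl⟩
  have h1459 : op c e22 = e36 := p213 cm h1458
  have h1462 : op c e36 = e22 := p132 inv (p213 cm h1458)
  have h1464 : op a e36 = e32 := dist2 dist h1458 h1266 h12 h1304
  have h1466 : op a e32 = e36 := p132 inv h1464
  have h1470 : op b e36 = e33 := dist2 dist h1458 h1338 h26 h1383
  have h1472 : op b e33 = e36 := p132 inv h1470
  have h1476 : op d e36 = e23 := dist2 dist h1458 h543 h41 h577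
  have h1478 : op d e23 = e36 := p132 inv h1476
  have h1479 : op e23 d = e36 := p213 cm (p132 inv h1476)
  obtain ⟨e37, h1619⟩ : ∃ e, op e23 a = e := ⟨_, rfl⟩
  have h1620 : op a e23 = e37 := p213 cm h1619
  have h1623 : op a e37 = e23 := p132 inv (p213 cm h1619)
  have h1624 : op e37 a = e23 := p321 cm inv h1619
  have h1625 : op e34 e37 = b := dist2 dist h1619 h1359 h1270 h1340
  have h1627 : op e34 b = e37 := p132 inv h1625
  have h1628 : op b e34 = e37 := p213 cm (p132 inv h1625)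
  have h1629 : op e37 b = e34 := p132 inv (p213 cm h1625)
  have h1630 : op b e37 = e34 := p321 cm inv h1625
  have h1631 : op e4 e37 = e35 := dist2 dist h1619 h568 h8 h1337
  have h1632 : op e37 e4 = e35 := p213 cm h1631
  have h1633 : op e4 e35 = e37 := p132 inv h1631
  have h1637 : op e5 e37 = e14 := dist2 dist h1619 h694 h15 h689
  have h1640 : op e14 e5 = e37 := p213 cm (p132 inv h1637)
  have h1643 : op e11 e37 = e26 := dist2 dist h1619 h564 h129 h685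
  have h1645 : op e11 e26 = e37 := p132 inv h1643
  have h1655 : op e37 e6 = e32 := dist1 dist h1479 h1620 h19 h1464
  have h1659 : op e6 e32 = e37 := p132 inv (p213 cm h1655)
  obtain ⟨e38, h1765⟩ : ∃ e, op e23 b = e := ⟨_, rfl⟩
  have h1766 : op b e23 = e38 := p213 cm h1765
  have h1769 : op b e38 = e23 := p132 inv (p213 cm h1765)
  have h1770 : op e38 b = e23 := p321 cm inv h1765
  have h1771 : op a e38 = e35 := dist2 dist h1765 h1620 h5 h1632
  have h1773 : op a e35 = e38 := p132 inv h1771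
  have h1777 : op e4 e38 = e34 := dist2 dist h1765 h568 h10 h1265
  have h1779 : op e4 e34 = e38 := p132 inv h1777
  have h1780 : op e34 e4 = e38 := p213 cm (p132 inv h1777)
  have h1783 : op e7 e38 = e18 := dist2 dist h1765 h932 h29 h921
  have h1784 : op e38 e7 = e18 := p213 cm h1783
  have h1785 : op e7 e18 = e38 := p132 inv h1783
  have h1786 : op e18 e7 = e38 := p213 cm (p132 inv h1783)
  have h1789 : op e11 e38 = e30 := dist2 dist h1765 h564 h283 h917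
  have h1790 : op e38 e11 = e30 := p213 cm h1789
  have h1795 : op e22 e38 = e37 := dist2 dist h1765 h573 h1337 h1633
  have h1797 : op e22 e37 = e38 := p132 inv h1795
  have h1814 : op e38 e8 = e33 := dist1 dist h1479 h1766 h33 h1470
  have h1818 : op e8 e33 = e38 := p132 inv (p213 cm h1814)
  have h1821 : op e38 e21 = e16 := dist1 dist h575 h1766 h462 h190
  have h1826 : op e16 e21 = e38 := p321 cm inv h1821
  have h1829 : op e38 e27 = e17 := dist1 dist h584 h1766 h727 h358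
  have h1834 : op e17 e27 = e38 := p321 cm inv h1829
  obtain ⟨e39, h1962⟩ : ∃ e, op e24 a = e := ⟨_, rfl⟩
  have h1963 : op a e24 = e39 := p213 cm h1962
  have h1966 : op a e39 = e24 := p132 inv (p213 cm h1962)
  have h1967 : op e39 a = e24 := p321 cm inv h1962
  have h1968 : op e34 e39 = d := dist2 dist h1962 h1281 h1270 h541
  have h1970 : op e34 d = e39 := p132 inv h1968
  have h1971 : op d e34 = e39 := p213 cm (p132 inv h1968)
  have h1973 : op d e39 = e34 := p321 cm inv h1968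
  have h2021 : op e4 e39 = e30 := dist2 dist h1970 h1779 h61 h1790
  have h2022 : op e39 e4 = e30 := p213 cm h2021
  have h2023 : op e4 e30 = e39 := p132 inv h2021
  obtain ⟨e40, h2095⟩ : ∃ e, op e24 b = e := ⟨_, rfl⟩
  have h2096 : op b e24 = e40 := p213 cm h2095
  have h2099 : op b e40 = e24 := p132 inv (p213 cm h2095)
  have h2101 : op a e40 = e30 := dist2 dist h2095 h1963 h5 h2022
  have h2103 : op a e30 = e40 := p132 inv h2101
  have h2107 : op d e40 = e25 := dist2 dist h2095 h606 h34 h659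
  have h2109 : op d e25 = e40 := p132 inv h2107
  have h2110 : op e25 d = e40 := p213 cm (p132 inv h2107)
  have h2168 : op c e40 = e31 := dist2 dist h2103 h13 h920 h1015
  have h2170 : op c e31 = e40 := p132 inv h2168
  obtain ⟨e41, h2310⟩ : ∃ e, op e24 c = e := ⟨_, rfl⟩
  have h2311 : op c e24 = e41 := p213 cm h2310
  have h2313 : op e41 e24 = c := p213 cm (p132 inv h2310)
  have h2314 : op c e41 = e24 := p132 inv (p213 cm h2310)
  have h2315 : op e41 c = e24 := p321 cm inv h2310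
  have h2316 : op e9 e41 = e16 := dist2 dist h2310 h807 h43 h790
  have h2319 : op e16 e9 = e41 := p213 cm (p132 inv h2316)
  have h2322 : op e10 e41 = e38 := dist2 dist h2310 h1279 h52 h1780
  have h2324 : op e10 e38 = e41 := p132 inv h2322
  have h2325 : op e38 e10 = e41 := p213 cm (p132 inv h2322)
  have h2334 : op e41 e39 = e25 := dist1 dist h13 h2310 h1962 h653
  have h2338 : op e39 e25 = e41 := p132 inv (p213 cm h2334)
  have h2343 : op e41 e7 = e31 := dist1 dist h2095 h2311 h27 h2168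
  have h2347 : op e7 e31 = e41 := p132 inv (p213 cm h2343)
  obtain ⟨e42, h2441⟩ : ∃ e, op e25 a = e := ⟨_, rfl⟩
  have h2442 : op a e25 = e42 := p213 cm h2441
  have h2445 : op a e42 = e25 := p132 inv (p213 cm h2441)
  have h2446 : op e42 a = e25 := p321 cm inv h2441
  have h2447 : op e4 e42 = e15 := dist2 dist h2441 h750 h8 h731
  have h2448 : op e42 e4 = e15 := p213 cm h2447
  have h2450 : op e15 e4 = e42 := p213 cm (p132 inv h2447)
  have h2453 : op e5 e42 = e41 := dist2 dist h2441 h650 h15 h2310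
  have h2454 : op e42 e5 = e41 := p213 cm h2453
  have h2465 : op e39 e42 = c := dist2 dist h2441 h2338 h1967 h2313
  have h2468 : op c e39 = e42 := p213 cm (p132 inv h2465)
  have h2470 : op c e42 = e39 := p321 cm inv h2465
  have h2476 : op e42 e6 = e30 := dist1 dist h2110 h2442 h19 h2101
  have h2480 : op e6 e30 = e42 := p132 inv (p213 cm h2476)
  have h2497 : op e42 e11 = e33 := dist1 dist h666 h2442 h126 h1158
  have h2501 : op e11 e33 = e42 := p132 inv (p213 cm h2497)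
  have h2510 : op e42 e37 = e17 := dist1 dist h1416 h2442 h1620 h880
  have h2512 : op e42 e17 = e37 := p132 inv h2510
  obtain ⟨e43, h2680⟩ : ∃ e, op e25 c = e := ⟨_, rfl⟩
  have h2681 : op c e25 = e43 := p213 cm h2680
  have h2684 : op c e43 = e25 := p132 inv (p213 cm h2680)
  have h2685 : op e43 c = e25 := p321 cm inv h2680
  have h2686 : op a e43 = e41 := dist2 dist h2680 h2442 h12 h2454
  have h2688 : op a e41 = e43 := p132 inv h2686
  have h2692 : op e5 e43 = e39 := dist2 dist h2680 h650 h17 h1962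
  have h2693 : op e43 e5 = e39 := p213 cm h2692
  have h2694 : op e5 e39 = e43 := p132 inv h2692
  have h2698 : op e7 e43 = e20 := dist2 dist h2680 h1082 h31 h1071
  have h2701 : op e20 e7 = e43 := p213 cm (p132 inv h2698)
  have h2704 : op e12 e43 = e35 := dist2 dist h2680 h661 h197 h1345
  have h2705 : op e43 e12 = e35 := p213 cm h2704
  have h2710 : op e13 e43 = e32 := dist2 dist h2680 h646 h392 h1067
  have h2712 : op e13 e32 = e43 := p132 inv h2710
  have h2716 : op e19 e43 = e16 := dist2 dist h2680 h1378 h357 h1344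
  have h2719 : op e16 e19 = e43 := p213 cm (p132 inv h2716)
  have h2743 : op e43 e9 = e31 := dist1 dist h2110 h2681 h40 h2168
  have h2747 : op e9 e31 = e43 := p132 inv (p213 cm h2743)
  obtain ⟨e44, h2982⟩ : ∃ e, op e26 a = e := ⟨_, rfl⟩
  have h2983 : op a e26 = e44 := p213 cm h2982
  have h2986 : op a e44 = e26 := p132 inv (p213 cm h2982)
  have h2987 : op e44 a = e26 := p321 cm inv h2982
  have h2988 : op c e44 = e37 := dist2 dist h2982 h688 h13 h1640
  have h2990 : op c e37 = e44 := p132 inv h2988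
  have h2991 : op e37 c = e44 := p213 cm (p132 inv h2988)
  have h3062 : op e4 e44 = e28 := dist2 dist h2990 h47 h1631 h1349
  have h3063 : op e44 e4 = e28 := p213 cm h3062
  have h3064 : op e4 e28 = e44 := p132 inv h3062
  have h3065 : op e28 e4 = e44 := p213 cm (p132 inv h3062)
  obtain ⟨e45, h3220⟩ : ∃ e, op e26 b = e := ⟨_, rfl⟩
  have h3221 : op b e26 = e45 := p213 cm h3220
  have h3224 : op b e45 = e26 := p132 inv (p213 cm h3220)
  have h3226 : op a e45 = e28 := dist2 dist h3220 h2983 h5 h3063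
  have h3228 : op a e28 = e45 := p132 inv h3226
  have h3232 : op c e45 = e27 := dist2 dist h3220 h688 h27 h741
  have h3234 : op c e27 = e45 := p132 inv h3232
  have h3235 : op e27 c = e45 := p213 cm (p132 inv h3232)
  have h3311 : op d e45 = e29 := dist2 dist h3228 h20 h789 h884
  have h3313 : op d e29 = e45 := p132 inv h3311
  obtain ⟨e46, h3609⟩ : ∃ e, op e26 d = e := ⟨_, rfl⟩
  have h3610 : op d e26 = e46 := p213 cm h3609
  have h3612 : op e46 e26 = d := p213 cm (p132 inv h3609)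
  have h3613 : op d e46 = e26 := p132 inv (p213 cm h3609)
  have h3614 : op e46 d = e26 := p321 cm inv h3609
  have h3615 : op e9 e46 = e18 := dist2 dist h3609 h938 h45 h921
  have h3618 : op e18 e9 = e46 := p213 cm (p132 inv h3615)
  have h3621 : op e11 e46 = e35 := dist2 dist h3609 h1645 h66 h1632
  have h3624 : op e35 e11 = e46 := p213 cm (p132 inv h3621)
  have h3645 : op e46 e44 = e27 := dist1 dist h20 h3609 h2982 h735
  have h3649 : op e44 e27 = e46 := p132 inv (p213 cm h3645)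
  have h3656 : op e46 e8 = e29 := dist1 dist h3220 h3610 h34 h3311
  have h3660 : op e8 e29 = e46 := p132 inv (p213 cm h3656)
  obtain ⟨e47, h3866⟩ : ∃ e, op e27 a = e := ⟨_, rfl⟩
  have h3867 : op a e27 = e47 := p213 cm h3866
  have h3870 : op a e47 = e27 := p132 inv (p213 cm h3866)
  have h3871 : op e47 a = e27 := p321 cm inv h3866
  have h3872 : op b e47 = e42 := dist2 dist h3866 h730 h6 h2450
  have h3874 : op b e42 = e47 := p132 inv h3872
  have h3878 : op e4 e47 = e13 := dist2 dist h3866 h747 h8 h649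
  have h3879 : op e47 e4 = e13 := p213 cm h3878
  have h3884 : op e6 e47 = e46 := dist2 dist h3866 h732 h22 h3609
  have h3885 : op e47 e6 = e46 := p213 cm h3884
  have h3899 : op e44 e47 = d := dist2 dist h3866 h3649 h2987 h3612
  have h3902 : op d e44 = e47 := p213 cm (p132 inv h3899)
  have h3904 : op d e47 = e44 := p321 cm inv h3899
  have h3914 : op e47 e5 = e28 := dist1 dist h3235 h3867 h12 h3226
  have h3918 : op e5 e28 = e47 := p132 inv (p213 cm h3914)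
  have h3934 : op e47 e10 = e33 := dist1 dist h753 h3867 h81 h1158
  have h3938 : op e10 e33 = e47 := p132 inv (p213 cm h3934)
  have h3939 : op e33 e10 = e47 := p321 cm inv h3934
  obtain ⟨e48, h4214⟩ : ∃ e, op e27 d = e := ⟨_, rfl⟩
  have h4215 : op d e27 = e48 := p213 cm h4214
  have h4218 : op d e48 = e27 := p132 inv (p213 cm h4214)
  have h4219 : op e48 d = e27 := p321 cm inv h4214
  have h4220 : op a e48 = e46 := dist2 dist h4214 h3867 h19 h3885
  have h4222 : op a e46 = e48 := p132 inv h4220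
  have h4226 : op e6 e48 = e44 := dist2 dist h4214 h732 h24 h2982
  have h4227 : op e48 e6 = e44 := p213 cm h4226
  have h4228 : op e6 e44 = e48 := p132 inv h4226
  have h4232 : op e8 e48 = e20 := dist2 dist h4214 h1088 h38 h1071
  have h4235 : op e20 e8 = e48 := p213 cm (p132 inv h4232)
  have h4244 : op e14 e48 = e38 := dist2 dist h4214 h743 h289 h1785
  have h4245 : op e48 e14 = e38 := p213 cm h4244
  have h4250 : op e15 e48 = e32 := dist2 dist h4214 h728 h398 h1067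
  have h4252 : op e15 e32 = e48 := p132 inv h4250
  have h4256 : op e17 e48 = e18 := dist2 dist h4214 h1834 h265 h1784
  have h4259 : op e18 e17 = e48 := p213 cm (p132 inv h4256)
  have h4283 : op e48 e9 = e29 := dist1 dist h3235 h4215 h41 h3311
  have h4287 : op e9 e29 = e48 := p132 inv (p213 cm h4283)
  obtain ⟨e49, h4697⟩ : ∃ e, op e28 b = e := ⟨_, rfl⟩
  have h4698 : op b e28 = e49 := p213 cm h4697
  have h4701 : op b e49 = e28 := p132 inv (p213 cm h4697)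
  have h4702 : op e49 b = e28 := p321 cm inv h4697
  have h4703 : op d e49 = e35 := dist2 dist h4697 h789 h34 h1346
  have h4705 : op d e35 = e49 := p132 inv h4703
  have h4709 : op e4 e49 = e26 := dist2 dist h4697 h3064 h10 h2987
  have h4712 : op e26 e4 = e49 := p213 cm (p132 inv h4709)
  obtain ⟨e50, h5064⟩ : ∃ e, op e28 c = e := ⟨_, rfl⟩
  have h5065 : op c e28 = e50 := p213 cm h5064
  have h5067 : op e50 e28 = c := p213 cm (p132 inv h5064)
  have h5068 : op c e50 = e28 := p132 inv (p213 cm h5064)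
  have h5070 : op d e50 = e41 := dist2 dist h5064 h789 h41 h2319
  have h5072 : op d e41 = e50 := p132 inv h5070
  have h5076 : op e5 e50 = e27 := dist2 dist h5064 h3918 h17 h3871
  have h5079 : op e27 e5 = e50 := p213 cm (p132 inv h5076)
  have h5116 : op e50 e49 = e29 := dist1 dist h27 h5064 h4697 h891
  have h5120 : op e49 e29 = e50 := p132 inv (p213 cm h5116)
  obtain ⟨e51, h5492⟩ : ∃ e, op e29 b = e := ⟨_, rfl⟩
  have h5493 : op b e29 = e51 := p213 cm h5492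
  have h5496 : op b e51 = e29 := p132 inv (p213 cm h5492)
  have h5498 : op e4 e51 = e19 := dist2 dist h5492 h1031 h10 h1012
  have h5501 : op e19 e4 = e51 := p213 cm (p132 inv h5498)
  have h5504 : op e7 e51 = e50 := dist2 dist h5492 h888 h29 h5064
  have h5505 : op e51 e7 = e50 := p213 cm h5504
  have h5510 : op e8 e51 = e26 := dist2 dist h5492 h3660 h36 h3614
  have h5513 : op e26 e8 = e51 := p213 cm (p132 inv h5510)
  have h5540 : op e49 e51 = c := dist2 dist h5492 h5120 h4702 h5067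
  have h5543 : op c e49 = e51 := p213 cm (p132 inv h5540)
  have h5545 : op c e51 = e49 := p321 cm inv h5540
  obtain ⟨e52, h5997⟩ : ∃ e, op e29 c = e := ⟨_, rfl⟩
  have h5998 : op c e29 = e52 := p213 cm h5997
  have h6001 : op c e52 = e29 := p132 inv (p213 cm h5997)
  have h6003 : op b e52 = e50 := dist2 dist h5997 h5493 h26 h5505
  have h6005 : op b e50 = e52 := p132 inv h6003
  have h6009 : op e5 e52 = e21 := dist2 dist h5997 h1182 h17 h1162
  have h6012 : op e21 e5 = e52 := p213 cm (p132 inv h6009)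
  have h6021 : op e9 e52 = e27 := dist2 dist h5997 h4287 h43 h4219
  have h6024 : op e27 e9 = e52 := p213 cm (p132 inv h6021)
  obtain ⟨e53, h6605⟩ : ∃ e, op e30 b = e := ⟨_, rfl⟩
  have h6606 : op b e30 = e53 := p213 cm h6605
  have h6609 : op b e53 = e30 := p132 inv (p213 cm h6605)
  have h6610 : op e53 b = e30 := p321 cm inv h6605
  have h6611 : op c e53 = e38 := dist2 dist h6605 h920 h27 h1786
  have h6613 : op c e38 = e53 := p132 inv h6611
  have h6617 : op e4 e53 = e24 := dist2 dist h6605 h2023 h10 h1967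
  have h6620 : op e24 e4 = e53 := p213 cm (p132 inv h6617)
  obtain ⟨e54, h7128⟩ : ∃ e, op e30 d = e := ⟨_, rfl⟩
  have h7129 : op d e30 = e54 := p213 cm h7128
  have h7131 : op e54 e30 = d := p213 cm (p132 inv h7128)
  have h7132 : op d e54 = e30 := p132 inv (p213 cm h7128)
  have h7134 : op c e54 = e46 := dist2 dist h7128 h920 h40 h3618
  have h7136 : op c e46 = e54 := p132 inv h7134
  have h7140 : op e6 e54 = e25 := dist2 dist h7128 h2480 h24 h2446
  have h7143 : op e25 e6 = e54 := p213 cm (p132 inv h7140)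
  have h7192 : op e54 e53 = e31 := dist1 dist h34 h7128 h6605 h1022
  have h7196 : op e53 e31 = e54 := p132 inv (p213 cm h7192)
  obtain ⟨e55, h7814⟩ : ∃ e, op e31 b = e := ⟨_, rfl⟩
  have h7815 : op b e31 = e55 := p213 cm h7814
  have h7818 : op b e55 = e31 := p132 inv (p213 cm h7814)
  have h7820 : op a e55 = e51 := dist2 dist h7814 h1011 h5 h5501
  have h7822 : op a e51 = e55 := p132 inv h7820
  have h7832 : op e7 e55 = e24 := dist2 dist h7814 h2347 h29 h2315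
  have h7835 : op e24 e7 = e55 := p213 cm (p132 inv h7832)
  have h7838 : op e8 e55 = e54 := dist2 dist h7814 h1019 h36 h7128
  have h7839 : op e55 e8 = e54 := p213 cm h7838
  have h7871 : op e53 e55 = d := dist2 dist h7814 h7196 h6610 h7131
  have h7874 : op d e53 = e55 := p213 cm (p132 inv h7871)
  have h7876 : op d e55 = e53 := p321 cm inv h7871
  obtain ⟨e56, h8600⟩ : ∃ e, op e31 d = e := ⟨_, rfl⟩
  have h8601 : op d e31 = e56 := p213 cm h8600
  have h8604 : op d e56 = e31 := p132 inv (p213 cm h8600)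
  have h8606 : op b e56 = e54 := dist2 dist h8600 h7815 h33 h7839
  have h8608 : op b e54 = e56 := p132 inv h8606
  have h8612 : op e6 e56 = e21 := dist2 dist h8600 h1188 h24 h1162
  have h8615 : op e21 e6 = e56 := p213 cm (p132 inv h8612)
  have h8624 : op e9 e56 = e25 := dist2 dist h8600 h2747 h45 h2685
  have h8627 : op e25 e9 = e56 := p213 cm (p132 inv h8624)
  obtain ⟨e57, h9473⟩ : ∃ e, op e32 c = e := ⟨_, rfl⟩
  have h9474 : op c e32 = e57 := p213 cm h9473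
  have h9477 : op c e57 = e32 := p132 inv (p213 cm h9473)
  have h9478 : op e57 c = e32 := p321 cm inv h9473
  have h9479 : op b e57 = e43 := dist2 dist h9473 h1070 h26 h2701
  have h9481 : op b e43 = e57 := p132 inv h9479
  have h9485 : op e5 e57 = e22 := dist2 dist h9473 h1305 h17 h1270
  have h9488 : op e22 e5 = e57 := p213 cm (p132 inv h9485)
  have h9504 : op e15 e57 = e44 := dist2 dist h9473 h4252 h156 h4227
  have h9507 : op e44 e15 = e57 := p213 cm (p132 inv h9504)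
  obtain ⟨e58, h10380⟩ : ∃ e, op e32 d = e := ⟨_, rfl⟩
  have h10381 : op d e32 = e58 := p213 cm h10380
  have h10383 : op e58 e32 = d := p213 cm (p132 inv h10380)
  have h10384 : op d e58 = e32 := p132 inv (p213 cm h10380)
  have h10386 : op b e58 = e48 := dist2 dist h10380 h1070 h33 h4235
  have h10388 : op b e48 = e58 := p132 inv h10386
  have h10392 : op e6 e58 = e23 := dist2 dist h10380 h1659 h24 h1624
  have h10395 : op e23 e6 = e58 := p213 cm (p132 inv h10392)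
  have h10410 : op e13 e58 = e39 := dist2 dist h10380 h2712 h111 h2693
  have h10413 : op e39 e13 = e58 := p213 cm (p132 inv h10410)
  have h10445 : op e58 e57 = e33 := dist1 dist h41 h10380 h9473 h1172
  have h10449 : op e57 e33 = e58 := p132 inv (p213 cm h10445)
  obtain ⟨e59, h11414⟩ : ∃ e, op e33 c = e := ⟨_, rfl⟩
  have h11415 : op c e33 = e59 := p213 cm h11414
  have h11418 : op c e59 = e33 := p132 inv (p213 cm h11414)
  have h11420 : op a e59 = e52 := dist2 dist h11414 h1161 h12 h6012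
  have h11422 : op a e52 = e59 := p132 inv h11420
  have h11432 : op e7 e59 = e22 := dist2 dist h11414 h1384 h31 h1342
  have h11435 : op e22 e7 = e59 := p213 cm (p132 inv h11432)
  have h11438 : op e9 e59 = e58 := dist2 dist h11414 h1169 h43 h10380
  have h11439 : op e59 e9 = e58 := p213 cm h11438
  have h11444 : op e10 e59 = e13 := dist2 dist h11414 h3938 h52 h3879
  have h11447 : op e13 e10 = e59 := p213 cm (p132 inv h11444)
  have h11483 : op e57 e59 = d := dist2 dist h11414 h10449 h9478 h10383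
  have h11486 : op d e57 = e59 := p213 cm (p132 inv h11483)
  have h11488 : op d e59 = e57 := p321 cm inv h11483
  have h11531 : op e59 e41 = e14 := dist1 dist h1435 h11415 h2311 h688
  have h11535 : op e41 e14 = e59 := p132 inv (p213 cm h11531)
  obtain ⟨e60, h12595⟩ : ∃ e, op e33 d = e := ⟨_, rfl⟩
  have h12596 : op d e33 = e60 := p213 cm h12595
  have h12599 : op d e60 = e33 := p132 inv (p213 cm h12595)
  have h12601 : op a e60 = e56 := dist2 dist h12595 h1161 h19 h8615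
  have h12603 : op a e56 = e60 := p132 inv h12601
  have h12607 : op c e60 = e58 := dist2 dist h12595 h11415 h40 h11439
  have h12609 : op c e58 = e60 := p132 inv h12607
  have h12619 : op e8 e60 = e23 := dist2 dist h12595 h1818 h38 h1770
  have h12622 : op e23 e8 = e60 := p213 cm (p132 inv h12619)
  have h12631 : op e11 e60 = e15 := dist2 dist h12595 h2501 h66 h2448
  have h12634 : op e15 e11 = e60 := p213 cm (p132 inv h12631)
  have h12710 : op e60 e22 = e44 := dist1 dist h3939 h12596 h540 h3904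
  have h12715 : op e44 e22 = e60 := p321 cm inv h12710
  have h12726 : op e60 e12 = e46 := dist1 dist h1435 h12596 h606 h3610
  have h12731 : op e46 e12 = e60 := p321 cm inv h12726
  obtain ⟨e61, h13943⟩ : ∃ e, op e34 c = e := ⟨_, rfl⟩
  have h13944 : op c e34 = e61 := p213 cm h13943
  have h13947 : op c e61 = e34 := p132 inv (p213 cm h13943)
  have h13948 : op e61 c = e34 := p321 cm inv h13943
  have h13949 : op a e61 = e57 := dist2 dist h13943 h1269 h12 h9488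
  have h13950 : op e61 a = e57 := p213 cm h13949
  have h13951 : op a e57 = e61 := p132 inv h13949
  have h13955 : op e4 e61 = e41 := dist2 dist h13943 h1779 h47 h2325
  have h13957 : op e4 e41 = e61 := p132 inv h13955
  have h14087 : op e61 e7 = e44 := dist1 dist h1627 h13944 h27 h2990
  have h14091 : op e7 e44 = e61 := p132 inv (p213 cm h14087)
  have h14093 : op e61 e9 = e42 := dist1 dist h1970 h13944 h40 h2468
  have h14097 : op e9 e42 = e61 := p132 inv (p213 cm h14093)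
  obtain ⟨e62, h15165⟩ : ∃ e, op e35 c = e := ⟨_, rfl⟩
  have h15166 : op c e35 = e62 := p213 cm h15165
  have h15169 : op c e62 = e35 := p132 inv (p213 cm h15165)
  have h15171 : op b e62 = e59 := dist2 dist h15165 h1341 h26 h11435
  have h15172 : op e62 b = e59 := p213 cm h15171
  have h15173 : op b e59 = e62 := p132 inv h15171
  have h15189 : op e8 e62 = e43 := dist2 dist h15165 h1343 h352 h2719
  have h15191 : op e8 e43 = e62 := p132 inv h15189
  have h15195 : op e10 e62 = e44 := dist2 dist h15165 h1349 h52 h3065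
  obtain ⟨e63, h16574⟩ : ∃ e, op e37 d = e := ⟨_, rfl⟩
  have h16575 : op d e37 = e63 := p213 cm h16574
  have h16578 : op d e63 = e37 := p132 inv (p213 cm h16574)
  have h16579 : op e63 d = e37 := p321 cm inv h16574
  have h16580 : op a e63 = e58 := dist2 dist h16574 h1623 h19 h10395
  have h16581 : op e63 a = e58 := p213 cm h16580
  have h16582 : op a e58 = e63 := p132 inv h16580
  have h16586 : op e4 e63 = e46 := dist2 dist h16574 h1631 h61 h3624
  have h16588 : op e4 e46 = e63 := p132 inv h16586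
  have h16629 : op e22 e63 = e41 := dist2 dist h16574 h1797 h544 h2325
  have h16632 : op e41 e22 = e63 := p213 cm (p132 inv h16629)
  have h16732 : op e63 e8 = e39 := dist1 dist h1629 h16575 h34 h1971
  have h16736 : op e8 e39 = e63 := p132 inv (p213 cm h16732)
  have h16738 : op e63 e9 = e47 := dist1 dist h2991 h16575 h41 h3902
  have h16742 : op e9 e47 = e63 := p132 inv (p213 cm h16738)
  obtain ⟨e64, h18124⟩ : ∃ e, op e38 d = e := ⟨_, rfl⟩
  have h18125 : op d e38 = e64 := p213 cm h18124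
  have h18128 : op d e64 = e38 := p132 inv (p213 cm h18124)
  have h18130 : op b e64 = e60 := dist2 dist h18124 h1769 h33 h12622
  have h18131 : op e64 b = e60 := p213 cm h18130
  have h18132 : op b e60 = e64 := p132 inv h18130
  have h18142 : op e7 e64 = e48 := dist2 dist h18124 h1783 h260 h4259
  have h18144 : op e7 e48 = e64 := p132 inv h18142
  have h18154 : op e10 e64 = e63 := dist2 dist h18124 h2324 h539 h16632
  have h18158 : op e64 e63 = e10 := p132 inv (p213 cm h18154)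
  obtain ⟨e65, h19881⟩ : ∃ e, op e39 b = e := ⟨_, rfl⟩
  have h19882 : op b e39 = e65 := p213 cm h19881
  have h19885 : op b e65 = e39 := p132 inv (p213 cm h19881)
  have h19887 : op a e65 = e53 := dist2 dist h19881 h1966 h5 h6620
  have h19889 : op a e53 = e65 := p132 inv h19887
  have h19899 : op e5 e65 = e35 := dist2 dist h19881 h2694 h75 h2705
  have h19902 : op e35 e5 = e65 := p213 cm (p132 inv h19899)
  have h19911 : op e8 e65 = e37 := dist2 dist h19881 h16736 h36 h16579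
  have h19914 : op e37 e8 = e65 := p213 cm (p132 inv h19911)
  obtain ⟨e66, h21895⟩ : ∃ e, op e41 b = e := ⟨_, rfl⟩
  have h21896 : op b e41 = e66 := p213 cm h21895
  have h21899 : op b e66 = e41 := p132 inv (p213 cm h21895)
  have h21901 : op c e66 = e55 := dist2 dist h21895 h2314 h27 h7835
  have h21903 : op c e55 = e66 := p132 inv h21901
  have h21907 : op e4 e66 = e57 := dist2 dist h21895 h13957 h10 h13950
  have h21910 : op e57 e4 = e66 := p213 cm (p132 inv h21907)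
  have h21925 : op e9 e66 = e38 := dist2 dist h21895 h2316 h461 h1826
  have h21928 : op e38 e9 = e66 := p213 cm (p132 inv h21925)
  have h22106 : op e66 e6 = e62 := dist1 dist h11535 h21896 h124 h15173
  have h22111 : op e62 e6 = e66 := p321 cm inv h22106
  obtain ⟨e67, h24130⟩ : ∃ e, op e42 d = e := ⟨_, rfl⟩
  have h24131 : op d e42 = e67 := p213 cm h24130
  have h24134 : op d e67 = e42 := p132 inv (p213 cm h24130)
  have h24136 : op a e67 = e54 := dist2 dist h24130 h2445 h19 h7143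
  have h24138 : op a e54 = e67 := p132 inv h24136
  have h24142 : op e4 e67 = e60 := dist2 dist h24130 h2447 h61 h12634
  have h24145 : op e60 e4 = e67 := p213 cm (p132 inv h24142)
  have h24160 : op e9 e67 = e34 := dist2 dist h24130 h14097 h45 h13948
  have h24163 : op e34 e9 = e67 := p213 cm (p132 inv h24160)
  have h24345 : op e67 e7 = e63 := dist1 dist h2512 h24131 h264 h16575
  have h24349 : op e7 e63 = e67 := p132 inv (p213 cm h24345)
  obtain ⟨e68, h26606⟩ : ∃ e, op e43 d = e := ⟨_, rfl⟩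
  have h26607 : op d e43 = e68 := p213 cm h26606
  have h26610 : op d e68 = e43 := p132 inv (p213 cm h26606)
  have h26612 : op c e68 = e56 := dist2 dist h26606 h2684 h40 h8627
  have h26614 : op c e56 = e68 := p132 inv h26612
  have h26618 : op e5 e68 = e58 := dist2 dist h26606 h2692 h106 h10413
  have h26621 : op e58 e5 = e68 := p213 cm (p132 inv h26618)
  have h26630 : op e8 e68 = e59 := dist2 dist h26606 h15191 h38 h15172
  have h26633 : op e59 e8 = e68 := p213 cm (p132 inv h26630)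
  obtain ⟨e69, h29359⟩ : ∃ e, op e44 b = e := ⟨_, rfl⟩
  have h29360 : op b e44 = e69 := p213 cm h29359
  have h29363 : op b e69 = e44 := p132 inv (p213 cm h29359)
  have h29365 : op a e69 = e49 := dist2 dist h29359 h2986 h5 h4712
  have h29367 : op a e49 = e69 := p132 inv h29365
  have h29383 : op e6 e69 = e38 := dist2 dist h29359 h4228 h120 h4245
  have h29386 : op e38 e6 = e69 := p213 cm (p132 inv h29383)
  have h29389 : op e7 e69 = e34 := dist2 dist h29359 h14091 h29 h13948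
  have h29392 : op e34 e7 = e69 := p213 cm (p132 inv h29389)
  obtain ⟨e70, h32487⟩ : ∃ e, op e46 b = e := ⟨_, rfl⟩
  have h32488 : op b e46 = e70 := p213 cm h32487
  have h32491 : op b e70 = e46 := p132 inv (p213 cm h32487)
  have h32493 : op d e70 = e51 := dist2 dist h32487 h3613 h34 h5513
  have h32495 : op d e51 = e70 := p132 inv h32493
  have h32499 : op e4 e70 = e58 := dist2 dist h32487 h16588 h10 h16581
  have h32502 : op e58 e4 = e70 := p213 cm (p132 inv h32499)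
  have h32523 : op e9 e70 = e35 := dist2 dist h32487 h3615 h461 h1370
  have h32526 : op e35 e9 = e70 := p213 cm (p132 inv h32523)
  have h32731 : op e70 e5 = e64 := dist1 dist h12731 h32488 h79 h18132
  have h32735 : op e5 e64 = e70 := p132 inv (p213 cm h32731)
  obtain ⟨e71, h35926⟩ : ∃ e, op e47 c = e := ⟨_, rfl⟩
  have h35927 : op c e47 = e71 := p213 cm h35926
  have h35930 : op c e71 = e47 := p132 inv (p213 cm h35926)
  have h35932 : op a e71 = e50 := dist2 dist h35926 h3870 h12 h5079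
  have h35934 : op a e50 = e71 := p132 inv h35932
  have h35938 : op e4 e71 = e59 := dist2 dist h35926 h3878 h47 h11447
  have h35941 : op e59 e4 = e71 := p213 cm (p132 inv h35938)
  have h35962 : op e9 e71 = e37 := dist2 dist h35926 h16742 h43 h16579
  have h35965 : op e37 e9 = e71 := p213 cm (p132 inv h35962)
  obtain ⟨e72, h39686⟩ : ∃ e, op e48 c = e := ⟨_, rfl⟩
  have h39687 : op c e48 = e72 := p213 cm h39686
  have h39690 : op c e72 = e48 := p132 inv (p213 cm h39686)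
  have h39692 : op d e72 = e52 := dist2 dist h39686 h4218 h41 h6024
  have h39694 : op d e52 = e72 := p132 inv h39692
  have h39704 : op e6 e72 = e57 := dist2 dist h39686 h4226 h151 h9507
  have h39707 : op e57 e6 = e72 := p213 cm (p132 inv h39704)
  have h39710 : op e7 e72 = e60 := dist2 dist h39686 h18144 h31 h18131
  have h39713 : op e60 e7 = e72 := p213 cm (p132 inv h39710)
  obtain ⟨e73, h43817⟩ : ∃ e, op e61 b = e := ⟨_, rfl⟩
  have h43818 : op b e61 = e73 := p213 cm h43817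
  have h43821 : op b e73 = e61 := p132 inv (p213 cm h43817)
  have h43823 : op a e73 = e66 := dist2 dist h43817 h13949 h5 h21910
  have h43825 : op a e66 = e73 := p132 inv h43823
  have h43829 : op c e73 = e69 := dist2 dist h43817 h13947 h27 h29392
  have h43831 : op c e69 = e73 := p132 inv h43829
  obtain ⟨e74, h48012⟩ : ∃ e, op e61 d = e := ⟨_, rfl⟩
  have h48013 : op d e61 = e74 := p213 cm h48012
  have h48016 : op d e74 = e61 := p132 inv (p213 cm h48012)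
  have h48018 : op a e74 = e72 := dist2 dist h48012 h13949 h19 h39707
  have h48020 : op a e72 = e74 := p132 inv h48018
  have h48024 : op c e74 = e67 := dist2 dist h48012 h13947 h40 h24163
  have h48026 : op c e67 = e74 := p132 inv h48024
  have h48027 : op e67 c = e74 := p213 cm (p132 inv h48024)
  obtain ⟨e75, h52598⟩ : ∃ e, op e62 a = e := ⟨_, rfl⟩
  have h52599 : op a e62 = e75 := p213 cm h52598
  have h52602 : op a e75 = e62 := p132 inv (p213 cm h52598)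
  have h52604 : op b e75 = e71 := dist2 dist h52598 h15171 h6 h35941
  have h52606 : op b e71 = e75 := p132 inv h52604
  have h52610 : op c e75 = e65 := dist2 dist h52598 h15169 h13 h19902
  have h52612 : op c e65 = e75 := p132 inv h52610
  have h52893 : op e75 d = e73 := dist1 dist h22111 h52599 h21 h43825
  have h52894 : op d e75 = e73 := p213 cm h52893
  have h52897 : op d e73 = e75 := p132 inv (p213 cm h52893)
  obtain ⟨e76, h57625⟩ : ∃ e, op e62 d = e := ⟨_, rfl⟩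
  have h57626 : op d e62 = e76 := p213 cm h57625
  have h57629 : op d e76 = e62 := p132 inv (p213 cm h57625)
  have h57631 : op b e76 = e68 := dist2 dist h57625 h15171 h33 h26633
  have h57633 : op b e68 = e76 := p132 inv h57631
  have h57637 : op c e76 = e70 := dist2 dist h57625 h15169 h40 h32526
  have h57639 : op c e70 = e76 := p132 inv h57637
  have h57640 : op e70 c = e76 := p213 cm (p132 inv h57637)
  have h57641 : op e76 e70 = c := p132 inv (p213 cm h57637)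
  have h57673 : op e10 e76 = e60 := dist2 dist h57625 h15195 h539 h12715
  have h57675 : op e10 e60 = e76 := p132 inv h57673
  obtain ⟨e77, h63063⟩ : ∃ e, op e63 b = e := ⟨_, rfl⟩
  have h63064 : op b e63 = e77 := p213 cm h63063
  have h63067 : op b e77 = e63 := p132 inv (p213 cm h63063)
  have h63069 : op a e77 = e70 := dist2 dist h63063 h16580 h5 h32502
  have h63070 : op e77 a = e70 := p213 cm h63069
  have h63071 : op a e70 = e77 := p132 inv h63069
  have h63075 : op d e77 = e65 := dist2 dist h63063 h16578 h34 h19914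
  have h63077 : op d e65 = e77 := p132 inv h63075
  have h63093 : op e7 e77 = e74 := dist2 dist h63063 h24349 h29 h48027
  have h63094 : op e77 e7 = e74 := p213 cm h63093
  have h63298 : op e64 e77 = e76 := dist2 dist h63063 h18158 h18131 h57675
  have h63299 : op e77 e64 = e76 := p213 cm h63298
  obtain ⟨e78, h68982⟩ : ∃ e, op e63 c = e := ⟨_, rfl⟩
  have h68983 : op c e63 = e78 := p213 cm h68982
  have h68986 : op c e78 = e63 := p132 inv (p213 cm h68982)
  have h68988 : op a e78 = e68 := dist2 dist h68982 h16580 h12 h26621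
  have h68990 : op a e68 = e78 := p132 inv h68988
  have h68994 : op b e78 = e74 := dist2 dist h68982 h63064 h26 h63094
  have h68996 : op b e74 = e78 := p132 inv h68994
  have h69000 : op d e78 = e71 := dist2 dist h68982 h16578 h41 h35965
  have h69002 : op d e71 = e78 := p132 inv h69000
  obtain ⟨e79, h75392⟩ : ∃ e, op e64 a = e := ⟨_, rfl⟩
  have h75393 : op a e64 = e79 := p213 cm h75392
  have h75396 : op a e79 = e64 := p132 inv (p213 cm h75392)
  have h75398 : op b e79 = e67 := dist2 dist h75392 h18130 h6 h24145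
  have h75400 : op b e67 = e79 := p132 inv h75398
  have h75404 : op d e79 = e69 := dist2 dist h75392 h18128 h20 h29386
  have h75406 : op d e69 = e79 := p132 inv h75404
  have h75416 : op e5 e79 = e76 := dist2 dist h75392 h32735 h15 h57640
  have h75417 : op e79 e5 = e76 := p213 cm h75416
  have h75655 : op e77 e79 = c := dist2 dist h75392 h63299 h63070 h57641
  have h75658 : op c e77 = e79 := p213 cm (p132 inv h75655)
  have h75660 : op c e79 = e77 := p321 cm inv h75655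
  obtain ⟨e80, h82323⟩ : ∃ e, op e64 c = e := ⟨_, rfl⟩
  have h82324 : op c e64 = e80 := p213 cm h82323
  have h82327 : op c e80 = e64 := p132 inv (p213 cm h82323)
  have h82329 : op a e80 = e76 := dist2 dist h82323 h75393 h12 h75417
  have h82331 : op a e76 = e80 := p132 inv h82329
  have h82335 : op b e80 = e72 := dist2 dist h82323 h18130 h26 h39713
  have h82337 : op b e72 = e80 := p132 inv h82335
  have h82341 : op d e80 = e66 := dist2 dist h82323 h18128 h41 h21928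
  have h82343 : op d e66 = e80 := p132 inv h82341
  refine ⟨![a, b, c, d, e4, e5, e6, e7, e8, e9, e10, e11, e12, e13, e14, e15, e16, e17, e18, e19,
    e20, e21, e22, e23, e24, e25, e26, e27, e28, e29, e30, e31, e32, e33, e34, e35, e36, e37, e38, e39,
    e40, e41, e42, e43, e44, e45, e46, e47, e48, e49, e50, e51, e52, e53, e54, e55, e56, e57, e58, e59,
    e60, e61, e62, e63, e64, e65, e66, e67, e68, e69, e70, e71, e72, e73, e74, e75, e76, e77, e78, e79,
    e80], rfl, rfl, rfl, rfl, ?_⟩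
  intro g p
  match g, p with
  | ⟨0, _⟩, ⟨0, _⟩ => exact h0
  | ⟨0, _⟩, ⟨1, _⟩ => exact h5
  | ⟨0, _⟩, ⟨2, _⟩ => exact h12
  | ⟨0, _⟩, ⟨3, _⟩ => exact h19
  | ⟨0, _⟩, ⟨4, _⟩ => exact h7
  | ⟨0, _⟩, ⟨5, _⟩ => exact h14
  | ⟨0, _⟩, ⟨6, _⟩ => exact h21
  | ⟨0, _⟩, ⟨7, _⟩ => exact h183
  | ⟨0, _⟩, ⟨8, _⟩ => exact h275
  | ⟨0, _⟩, ⟨9, _⟩ => exact h384
  | ⟨0, _⟩, ⟨10, _⟩ => exact h83
  | ⟨0, _⟩, ⟨11, _⟩ => exact h128
  | ⟨0, _⟩, ⟨12, _⟩ => exact h81
  | ⟨0, _⟩, ⟨13, _⟩ => exact h159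
  | ⟨0, _⟩, ⟨14, _⟩ => exact h126
  | ⟨0, _⟩, ⟨15, _⟩ => exact h157
  | ⟨0, _⟩, ⟨16, _⟩ => exact h186
  | ⟨0, _⟩, ⟨17, _⟩ => exact h877
  | ⟨0, _⟩, ⟨18, _⟩ => exact h278
  | ⟨0, _⟩, ⟨19, _⟩ => exact h1008
  | ⟨0, _⟩, ⟨20, _⟩ => exact h387
  | ⟨0, _⟩, ⟨21, _⟩ => exact h1158
  | ⟨0, _⟩, ⟨22, _⟩ => exact h1266
  | ⟨0, _⟩, ⟨23, _⟩ => exact h1620
  | ⟨0, _⟩, ⟨24, _⟩ => exact h1963
  | ⟨0, _⟩, ⟨25, _⟩ => exact h2442
  | ⟨0, _⟩, ⟨26, _⟩ => exact h2983
  | ⟨0, _⟩, ⟨27, _⟩ => exact h3867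
  | ⟨0, _⟩, ⟨28, _⟩ => exact h3228
  | ⟨0, _⟩, ⟨29, _⟩ => exact h880
  | ⟨0, _⟩, ⟨30, _⟩ => exact h2103
  | ⟨0, _⟩, ⟨31, _⟩ => exact h1011
  | ⟨0, _⟩, ⟨32, _⟩ => exact h1466
  | ⟨0, _⟩, ⟨33, _⟩ => exact h1161
  | ⟨0, _⟩, ⟨34, _⟩ => exact h1269
  | ⟨0, _⟩, ⟨35, _⟩ => exact h1773
  | ⟨0, _⟩, ⟨36, _⟩ => exact h1464
  | ⟨0, _⟩, ⟨37, _⟩ => exact h1623
  | ⟨0, _⟩, ⟨38, _⟩ => exact h1771
  | ⟨0, _⟩, ⟨39, _⟩ => exact h1966
  | ⟨0, _⟩, ⟨40, _⟩ => exact h2101
  | ⟨0, _⟩, ⟨41, _⟩ => exact h2688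
  | ⟨0, _⟩, ⟨42, _⟩ => exact h2445
  | ⟨0, _⟩, ⟨43, _⟩ => exact h2686
  | ⟨0, _⟩, ⟨44, _⟩ => exact h2986
  | ⟨0, _⟩, ⟨45, _⟩ => exact h3226
  | ⟨0, _⟩, ⟨46, _⟩ => exact h4222
  | ⟨0, _⟩, ⟨47, _⟩ => exact h3870
  | ⟨0, _⟩, ⟨48, _⟩ => exact h4220
  | ⟨0, _⟩, ⟨49, _⟩ => exact h29367
  | ⟨0, _⟩, ⟨50, _⟩ => exact h35934
  | ⟨0, _⟩, ⟨51, _⟩ => exact h7822
  | ⟨0, _⟩, ⟨52, _⟩ => exact h11422
  | ⟨0, _⟩, ⟨53, _⟩ => exact h19889
  | ⟨0, _⟩, ⟨54, _⟩ => exact h24138
  | ⟨0, _⟩, ⟨55, _⟩ => exact h7820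
  | ⟨0, _⟩, ⟨56, _⟩ => exact h12603
  | ⟨0, _⟩, ⟨57, _⟩ => exact h13951
  | ⟨0, _⟩, ⟨58, _⟩ => exact h16582
  | ⟨0, _⟩, ⟨59, _⟩ => exact h11420
  | ⟨0, _⟩, ⟨60, _⟩ => exact h12601
  | ⟨0, _⟩, ⟨61, _⟩ => exact h13949
  | ⟨0, _⟩, ⟨62, _⟩ => exact h52599
  | ⟨0, _⟩, ⟨63, _⟩ => exact h16580
  | ⟨0, _⟩, ⟨64, _⟩ => exact h75393
  | ⟨0, _⟩, ⟨65, _⟩ => exact h19887
  | ⟨0, _⟩, ⟨66, _⟩ => exact h43825
  | ⟨0, _⟩, ⟨67, _⟩ => exact h24136
  | ⟨0, _⟩, ⟨68, _⟩ => exact h68990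
  | ⟨0, _⟩, ⟨69, _⟩ => exact h29365
  | ⟨0, _⟩, ⟨70, _⟩ => exact h63071
  | ⟨0, _⟩, ⟨71, _⟩ => exact h35932
  | ⟨0, _⟩, ⟨72, _⟩ => exact h48020
  | ⟨0, _⟩, ⟨73, _⟩ => exact h43823
  | ⟨0, _⟩, ⟨74, _⟩ => exact h48018
  | ⟨0, _⟩, ⟨75, _⟩ => exact h52602
  | ⟨0, _⟩, ⟨76, _⟩ => exact h82331
  | ⟨0, _⟩, ⟨77, _⟩ => exact h63069
  | ⟨0, _⟩, ⟨78, _⟩ => exact h68988
  | ⟨0, _⟩, ⟨79, _⟩ => exact h75396
  | ⟨0, _⟩, ⟨80, _⟩ => exact h82329
  | ⟨1, _⟩, ⟨0, _⟩ => exact h6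
  | ⟨1, _⟩, ⟨1, _⟩ => exact h1
  | ⟨1, _⟩, ⟨2, _⟩ => exact h26
  | ⟨1, _⟩, ⟨3, _⟩ => exact h33
  | ⟨1, _⟩, ⟨4, _⟩ => exact h9
  | ⟨1, _⟩, ⟨5, _⟩ => exact h76
  | ⟨1, _⟩, ⟨6, _⟩ => exact h121
  | ⟨1, _⟩, ⟨7, _⟩ => exact h28
  | ⟨1, _⟩, ⟨8, _⟩ => exact h35
  | ⟨1, _⟩, ⟨9, _⟩ => exact h462
  | ⟨1, _⟩, ⟨10, _⟩ => exact h190
  | ⟨1, _⟩, ⟨11, _⟩ => exact h282
  | ⟨1, _⟩, ⟨12, _⟩ => exact h79
  | ⟨1, _⟩, ⟨13, _⟩ => exact h645
  | ⟨1, _⟩, ⟨14, _⟩ => exact h124
  | ⟨1, _⟩, ⟨15, _⟩ => exact h727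
  | ⟨1, _⟩, ⟨16, _⟩ => exact h188
  | ⟨1, _⟩, ⟨17, _⟩ => exact h360
  | ⟨1, _⟩, ⟨18, _⟩ => exact h280
  | ⟨1, _⟩, ⟨19, _⟩ => exact h358
  | ⟨1, _⟩, ⟨20, _⟩ => exact h1067
  | ⟨1, _⟩, ⟨21, _⟩ => exact h465
  | ⟨1, _⟩, ⟨22, _⟩ => exact h1338
  | ⟨1, _⟩, ⟨23, _⟩ => exact h1766
  | ⟨1, _⟩, ⟨24, _⟩ => exact h2096
  | ⟨1, _⟩, ⟨25, _⟩ => exact h648
  | ⟨1, _⟩, ⟨26, _⟩ => exact h3221
  | ⟨1, _⟩, ⟨27, _⟩ => exact h730
  | ⟨1, _⟩, ⟨28, _⟩ => exact h4698
  | ⟨1, _⟩, ⟨29, _⟩ => exact h5493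
  | ⟨1, _⟩, ⟨30, _⟩ => exact h6606
  | ⟨1, _⟩, ⟨31, _⟩ => exact h7815
  | ⟨1, _⟩, ⟨32, _⟩ => exact h1070
  | ⟨1, _⟩, ⟨33, _⟩ => exact h1472
  | ⟨1, _⟩, ⟨34, _⟩ => exact h1628
  | ⟨1, _⟩, ⟨35, _⟩ => exact h1341
  | ⟨1, _⟩, ⟨36, _⟩ => exact h1470
  | ⟨1, _⟩, ⟨37, _⟩ => exact h1630
  | ⟨1, _⟩, ⟨38, _⟩ => exact h1769
  | ⟨1, _⟩, ⟨39, _⟩ => exact h19882
  | ⟨1, _⟩, ⟨40, _⟩ => exact h2099
  | ⟨1, _⟩, ⟨41, _⟩ => exact h21896
  | ⟨1, _⟩, ⟨42, _⟩ => exact h3874
  | ⟨1, _⟩, ⟨43, _⟩ => exact h9481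
  | ⟨1, _⟩, ⟨44, _⟩ => exact h29360
  | ⟨1, _⟩, ⟨45, _⟩ => exact h3224
  | ⟨1, _⟩, ⟨46, _⟩ => exact h32488
  | ⟨1, _⟩, ⟨47, _⟩ => exact h3872
  | ⟨1, _⟩, ⟨48, _⟩ => exact h10388
  | ⟨1, _⟩, ⟨49, _⟩ => exact h4701
  | ⟨1, _⟩, ⟨50, _⟩ => exact h6005
  | ⟨1, _⟩, ⟨51, _⟩ => exact h5496
  | ⟨1, _⟩, ⟨52, _⟩ => exact h6003
  | ⟨1, _⟩, ⟨53, _⟩ => exact h6609
  | ⟨1, _⟩, ⟨54, _⟩ => exact h8608
  | ⟨1, _⟩, ⟨55, _⟩ => exact h7818
  | ⟨1, _⟩, ⟨56, _⟩ => exact h8606
  | ⟨1, _⟩, ⟨57, _⟩ => exact h9479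
  | ⟨1, _⟩, ⟨58, _⟩ => exact h10386
  | ⟨1, _⟩, ⟨59, _⟩ => exact h15173
  | ⟨1, _⟩, ⟨60, _⟩ => exact h18132
  | ⟨1, _⟩, ⟨61, _⟩ => exact h43818
  | ⟨1, _⟩, ⟨62, _⟩ => exact h15171
  | ⟨1, _⟩, ⟨63, _⟩ => exact h63064
  | ⟨1, _⟩, ⟨64, _⟩ => exact h18130
  | ⟨1, _⟩, ⟨65, _⟩ => exact h19885
  | ⟨1, _⟩, ⟨66, _⟩ => exact h21899
  | ⟨1, _⟩, ⟨67, _⟩ => exact h75400
  | ⟨1, _⟩, ⟨68, _⟩ => exact h57633
  | ⟨1, _⟩, ⟨69, _⟩ => exact h29363
  | ⟨1, _⟩, ⟨70, _⟩ => exact h32491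
  | ⟨1, _⟩, ⟨71, _⟩ => exact h52606
  | ⟨1, _⟩, ⟨72, _⟩ => exact h82337
  | ⟨1, _⟩, ⟨73, _⟩ => exact h43821
  | ⟨1, _⟩, ⟨74, _⟩ => exact h68996
  | ⟨1, _⟩, ⟨75, _⟩ => exact h52604
  | ⟨1, _⟩, ⟨76, _⟩ => exact h57631
  | ⟨1, _⟩, ⟨77, _⟩ => exact h63067
  | ⟨1, _⟩, ⟨78, _⟩ => exact h68994
  | ⟨1, _⟩, ⟨79, _⟩ => exact h75398
  | ⟨1, _⟩, ⟨80, _⟩ => exact h82335
  | ⟨2, _⟩, ⟨0, _⟩ => exact h13
  | ⟨2, _⟩, ⟨1, _⟩ => exact h27
  | ⟨2, _⟩, ⟨2, _⟩ => exact h2
  | ⟨2, _⟩, ⟨3, _⟩ => exact h40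
  | ⟨2, _⟩, ⟨4, _⟩ => exact h48
  | ⟨2, _⟩, ⟨5, _⟩ => exact h16
  | ⟨2, _⟩, ⟨6, _⟩ => exact h152
  | ⟨2, _⟩, ⟨7, _⟩ => exact h30
  | ⟨2, _⟩, ⟨8, _⟩ => exact h353
  | ⟨2, _⟩, ⟨9, _⟩ => exact h42
  | ⟨2, _⟩, ⟨10, _⟩ => exact h51
  | ⟨2, _⟩, ⟨11, _⟩ => exact h563
  | ⟨2, _⟩, ⟨12, _⟩ => exact h196
  | ⟨2, _⟩, ⟨13, _⟩ => exact h391
  | ⟨2, _⟩, ⟨14, _⟩ => exact h685
  | ⟨2, _⟩, ⟨15, _⟩ => exact h155
  | ⟨2, _⟩, ⟨16, _⟩ => exact h194
  | ⟨2, _⟩, ⟨17, _⟩ => exact h469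
  | ⟨2, _⟩, ⟨18, _⟩ => exact h917
  | ⟨2, _⟩, ⟨19, _⟩ => exact h356
  | ⟨2, _⟩, ⟨20, _⟩ => exact h389
  | ⟨2, _⟩, ⟨21, _⟩ => exact h467
  | ⟨2, _⟩, ⟨22, _⟩ => exact h1459
  | ⟨2, _⟩, ⟨23, _⟩ => exact h566
  | ⟨2, _⟩, ⟨24, _⟩ => exact h2311
  | ⟨2, _⟩, ⟨25, _⟩ => exact h2681
  | ⟨2, _⟩, ⟨26, _⟩ => exact h688
  | ⟨2, _⟩, ⟨27, _⟩ => exact h3234
  | ⟨2, _⟩, ⟨28, _⟩ => exact h5065
  | ⟨2, _⟩, ⟨29, _⟩ => exact h5998
  | ⟨2, _⟩, ⟨30, _⟩ => exact h920
  | ⟨2, _⟩, ⟨31, _⟩ => exact h2170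
  | ⟨2, _⟩, ⟨32, _⟩ => exact h9474
  | ⟨2, _⟩, ⟨33, _⟩ => exact h11415
  | ⟨2, _⟩, ⟨34, _⟩ => exact h13944
  | ⟨2, _⟩, ⟨35, _⟩ => exact h15166
  | ⟨2, _⟩, ⟨36, _⟩ => exact h1462
  | ⟨2, _⟩, ⟨37, _⟩ => exact h2990
  | ⟨2, _⟩, ⟨38, _⟩ => exact h6613
  | ⟨2, _⟩, ⟨39, _⟩ => exact h2468
  | ⟨2, _⟩, ⟨40, _⟩ => exact h2168
  | ⟨2, _⟩, ⟨41, _⟩ => exact h2314
  | ⟨2, _⟩, ⟨42, _⟩ => exact h2470
  | ⟨2, _⟩, ⟨43, _⟩ => exact h2684
  | ⟨2, _⟩, ⟨44, _⟩ => exact h2988
  | ⟨2, _⟩, ⟨45, _⟩ => exact h3232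
  | ⟨2, _⟩, ⟨46, _⟩ => exact h7136
  | ⟨2, _⟩, ⟨47, _⟩ => exact h35927
  | ⟨2, _⟩, ⟨48, _⟩ => exact h39687
  | ⟨2, _⟩, ⟨49, _⟩ => exact h5543
  | ⟨2, _⟩, ⟨50, _⟩ => exact h5068
  | ⟨2, _⟩, ⟨51, _⟩ => exact h5545
  | ⟨2, _⟩, ⟨52, _⟩ => exact h6001
  | ⟨2, _⟩, ⟨53, _⟩ => exact h6611
  | ⟨2, _⟩, ⟨54, _⟩ => exact h7134
  | ⟨2, _⟩, ⟨55, _⟩ => exact h21903
  | ⟨2, _⟩, ⟨56, _⟩ => exact h26614
  | ⟨2, _⟩, ⟨57, _⟩ => exact h9477
  | ⟨2, _⟩, ⟨58, _⟩ => exact h12609
  | ⟨2, _⟩, ⟨59, _⟩ => exact h11418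
  | ⟨2, _⟩, ⟨60, _⟩ => exact h12607
  | ⟨2, _⟩, ⟨61, _⟩ => exact h13947
  | ⟨2, _⟩, ⟨62, _⟩ => exact h15169
  | ⟨2, _⟩, ⟨63, _⟩ => exact h68983
  | ⟨2, _⟩, ⟨64, _⟩ => exact h82324
  | ⟨2, _⟩, ⟨65, _⟩ => exact h52612
  | ⟨2, _⟩, ⟨66, _⟩ => exact h21901
  | ⟨2, _⟩, ⟨67, _⟩ => exact h48026
  | ⟨2, _⟩, ⟨68, _⟩ => exact h26612
  | ⟨2, _⟩, ⟨69, _⟩ => exact h43831
  | ⟨2, _⟩, ⟨70, _⟩ => exact h57639
  | ⟨2, _⟩, ⟨71, _⟩ => exact h35930
  | ⟨2, _⟩, ⟨72, _⟩ => exact h39690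
  | ⟨2, _⟩, ⟨73, _⟩ => exact h43829
  | ⟨2, _⟩, ⟨74, _⟩ => exact h48024
  | ⟨2, _⟩, ⟨75, _⟩ => exact h52610
  | ⟨2, _⟩, ⟨76, _⟩ => exact h57637
  | ⟨2, _⟩, ⟨77, _⟩ => exact h75658
  | ⟨2, _⟩, ⟨78, _⟩ => exact h68986
  | ⟨2, _⟩, ⟨79, _⟩ => exact h75660
  | ⟨2, _⟩, ⟨80, _⟩ => exact h82327
  | ⟨3, _⟩, ⟨0, _⟩ => exact h20
  | ⟨3, _⟩, ⟨1, _⟩ => exact h34
  | ⟨3, _⟩, ⟨2, _⟩ => exact h41
  | ⟨3, _⟩, ⟨3, _⟩ => exact h3
  | ⟨3, _⟩, ⟨4, _⟩ => exact h62
  | ⟨3, _⟩, ⟨5, _⟩ => exact h107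
  | ⟨3, _⟩, ⟨6, _⟩ => exact h23
  | ⟨3, _⟩, ⟨7, _⟩ => exact h261
  | ⟨3, _⟩, ⟨8, _⟩ => exact h37
  | ⟨3, _⟩, ⟨9, _⟩ => exact h44
  | ⟨3, _⟩, ⟨10, _⟩ => exact h540
  | ⟨3, _⟩, ⟨11, _⟩ => exact h65
  | ⟨3, _⟩, ⟨12, _⟩ => exact h603
  | ⟨3, _⟩, ⟨13, _⟩ => exact h110
  | ⟨3, _⟩, ⟨14, _⟩ => exact h288
  | ⟨3, _⟩, ⟨15, _⟩ => exact h397
  | ⟨3, _⟩, ⟨16, _⟩ => exact h786
  | ⟨3, _⟩, ⟨17, _⟩ => exact h264
  | ⟨3, _⟩, ⟨18, _⟩ => exact h286
  | ⟨3, _⟩, ⟨19, _⟩ => exact h475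
  | ⟨3, _⟩, ⟨20, _⟩ => exact h395
  | ⟨3, _⟩, ⟨21, _⟩ => exact h473
  | ⟨3, _⟩, ⟨22, _⟩ => exact h543
  | ⟨3, _⟩, ⟨23, _⟩ => exact h1478
  | ⟨3, _⟩, ⟨24, _⟩ => exact h606
  | ⟨3, _⟩, ⟨25, _⟩ => exact h2109
  | ⟨3, _⟩, ⟨26, _⟩ => exact h3610
  | ⟨3, _⟩, ⟨27, _⟩ => exact h4215
  | ⟨3, _⟩, ⟨28, _⟩ => exact h789
  | ⟨3, _⟩, ⟨29, _⟩ => exact h3313
  | ⟨3, _⟩, ⟨30, _⟩ => exact h7129
  | ⟨3, _⟩, ⟨31, _⟩ => exact h8601
  | ⟨3, _⟩, ⟨32, _⟩ => exact h10381
  | ⟨3, _⟩, ⟨33, _⟩ => exact h12596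
  | ⟨3, _⟩, ⟨34, _⟩ => exact h1971
  | ⟨3, _⟩, ⟨35, _⟩ => exact h4705
  | ⟨3, _⟩, ⟨36, _⟩ => exact h1476
  | ⟨3, _⟩, ⟨37, _⟩ => exact h16575
  | ⟨3, _⟩, ⟨38, _⟩ => exact h18125
  | ⟨3, _⟩, ⟨39, _⟩ => exact h1973
  | ⟨3, _⟩, ⟨40, _⟩ => exact h2107
  | ⟨3, _⟩, ⟨41, _⟩ => exact h5072
  | ⟨3, _⟩, ⟨42, _⟩ => exact h24131
  | ⟨3, _⟩, ⟨43, _⟩ => exact h26607
  | ⟨3, _⟩, ⟨44, _⟩ => exact h3902
  | ⟨3, _⟩, ⟨45, _⟩ => exact h3311
  | ⟨3, _⟩, ⟨46, _⟩ => exact h3613
  | ⟨3, _⟩, ⟨47, _⟩ => exact h3904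
  | ⟨3, _⟩, ⟨48, _⟩ => exact h4218
  | ⟨3, _⟩, ⟨49, _⟩ => exact h4703
  | ⟨3, _⟩, ⟨50, _⟩ => exact h5070
  | ⟨3, _⟩, ⟨51, _⟩ => exact h32495
  | ⟨3, _⟩, ⟨52, _⟩ => exact h39694
  | ⟨3, _⟩, ⟨53, _⟩ => exact h7874
  | ⟨3, _⟩, ⟨54, _⟩ => exact h7132
  | ⟨3, _⟩, ⟨55, _⟩ => exact h7876
  | ⟨3, _⟩, ⟨56, _⟩ => exact h8604
  | ⟨3, _⟩, ⟨57, _⟩ => exact h11486
  | ⟨3, _⟩, ⟨58, _⟩ => exact h10384
  | ⟨3, _⟩, ⟨59, _⟩ => exact h11488
  | ⟨3, _⟩, ⟨60, _⟩ => exact h12599
  | ⟨3, _⟩, ⟨61, _⟩ => exact h48013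
  | ⟨3, _⟩, ⟨62, _⟩ => exact h57626
  | ⟨3, _⟩, ⟨63, _⟩ => exact h16578
  | ⟨3, _⟩, ⟨64, _⟩ => exact h18128
  | ⟨3, _⟩, ⟨65, _⟩ => exact h63077
  | ⟨3, _⟩, ⟨66, _⟩ => exact h82343
  | ⟨3, _⟩, ⟨67, _⟩ => exact h24134
  | ⟨3, _⟩, ⟨68, _⟩ => exact h26610
  | ⟨3, _⟩, ⟨69, _⟩ => exact h75406
  | ⟨3, _⟩, ⟨70, _⟩ => exact h32493
  | ⟨3, _⟩, ⟨71, _⟩ => exact h69002
  | ⟨3, _⟩, ⟨72, _⟩ => exact h39692
  | ⟨3, _⟩, ⟨73, _⟩ => exact h52897
  | ⟨3, _⟩, ⟨74, _⟩ => exact h48016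
  | ⟨3, _⟩, ⟨75, _⟩ => exact h52894
  | ⟨3, _⟩, ⟨76, _⟩ => exact h57629
  | ⟨3, _⟩, ⟨77, _⟩ => exact h63075
  | ⟨3, _⟩, ⟨78, _⟩ => exact h69000
  | ⟨3, _⟩, ⟨79, _⟩ => exact h75404
  | ⟨3, _⟩, ⟨80, _⟩ => exact h82341
  | ⟨n + 4, h⟩, _ => omega
  | _, ⟨n + 81, h⟩ => omega

end FourPoint

end Cfsg.Agent.ThreeTrans
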