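import Cfsg.Agent.ThreeTrans.Basic
import Cfsg.Agent.ThreeTrans.FourPoint
import Cfsg.Agent.Invol.BaerSuzuki

/-!
# A conjugation-invariant set of involutions with all products of order dividing three

In a finite group all products of two members of such a set lie in the 3-core. By Baer–Suzuki this
reduces to four members, where the orbit of a member has 3-power size by the 81-point table.
-/

set_option autoImplicit false

open Cfsg

namespace Cfsg.Agent.ThreeTrans

variable {G : Type*} [Group G]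

/-- Hypotheses: `T` is conjugation invariant, of involutions, with all products cubing to one. -/
structure IsCubeSet (T : Set G) : Prop where
  conj : ∀ g : G, ∀ t ∈ T, g * t * g⁻¹ ∈ T
  ord : ∀ t ∈ T, orderOf t = 2
  cube : ∀ s ∈ T, ∀ t ∈ T, (s * t) ^ 3 = 1

namespace IsCubeSet

variable {T : Set G} (hT : IsCubeSet T) {a b c d s t : G}

include hT

theorem inv_eq (hs : s ∈ T) : s⁻¹ = s := by
  have h := pow_orderOf_eq_one s
  rw [hT.ord s hs, sq] at h
  exact inv_eq_of_mul_eq_one_left h

theorem mul_self (hs : s ∈ T) : s * s = 1 := by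
  nth_rw 1 [← hT.inv_eq hs]
  exact inv_mul_cancel s

theorem self_mul (hs : s ∈ T) (x : G) : s * (s * x) = x := by
  rw [← mul_assoc, hT.mul_self hs, one_mul]

theorem braid (hs : s ∈ T) (ht : t ∈ T) : s * t * s = t * s * t := by
  have h : (s * t * s) * (t * s * t) = 1 := by
    rw [← hT.cube s hs t ht, pow_succ, pow_two]; simp only [mul_assoc]
  rw [eq_inv_of_mul_eq_one_left h, mul_inv_rev, mul_inv_rev, hT.inv_eq hs, hT.inv_eq ht, mul_assoc]

theorem triple_mem (hs : s ∈ T) (ht : t ∈ T) : s * t * s ∈ T := by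
  nth_rw 2 [← hT.inv_eq hs]
  exact hT.conj s t ht

/-- An element normalising a maximal invariant 3-subgroup normalises a Sylow 3-subgroup. -/
theorem exists_invariant_sylow [Finite G] (ha : a ∈ T) :
    ∃ P : Sylow 3 G, ∀ x ∈ (P : Subgroup G), a * x * a ∈ (P : Subgroup G) := by
  have : Fact (Nat.Prime 3) := ⟨Nat.prime_three⟩
  set S : Set (Subgroup G) := {P | IsPGroup 3 P ∧ ∀ x ∈ P, a * x * a ∈ P} with hS
  have hne : (⊥ : Subgroup G) ∈ S := by
    refine ⟨IsPGroup.of_bot, fun x hx => ?_⟩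
    rw [Subgroup.mem_bot] at hx ⊢
    rw [hx, mul_one, hT.mul_self ha]
  obtain ⟨P, ⟨hP, hPa⟩, hmax⟩ := (Set.toFinite S).exists_maximal ⟨⊥, hne⟩
  obtain ⟨Q, hPQ⟩ := hP.exists_le_sylow
  by_cases hPe : P = Q
  · exact ⟨Q, hPe ▸ hPa⟩
  exfalso
  have hlt : P < (Q : Subgroup G) := lt_of_le_of_ne hPQ hPe
  -- an element of `Q` outside `P` normalising `P`
  obtain ⟨n, hnQ, hnN, hnP⟩ :
      ∃ n ∈ (Q : Subgroup G), n ∈ Subgroup.normalizer (P : Set G) ∧ n ∉ P := by
    have hnil := Q.isPGroup'.isNilpotent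
    have hlt' : P.subgroupOf (Q : Subgroup G) < ⊤ := by
      rw [lt_top_iff_ne_top, ne_eq, Subgroup.subgroupOf_eq_top]
      exact fun h => hPe (le_antisymm hPQ h)
    have h1 := Group.normalizerCondition_of_isNilpotent (G := (Q : Subgroup G)) _ hlt'
    obtain ⟨n, hn, hn'⟩ := SetLike.exists_of_lt h1
    refine ⟨n, n.2, ?_, fun h => hn' h⟩
    rw [Subgroup.mem_normalizer_iff]
    intro y
    constructor
    · intro hy
      exact (Subgroup.mem_normalizer_iff.1 hn ⟨y, hPQ hy⟩).1 hy
    · intro hy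
      have hyQ : y ∈ (Q : Subgroup G) := by
        have h2 := (Q : Subgroup G).mul_mem
          ((Q : Subgroup G).mul_mem ((Q : Subgroup G).inv_mem n.2) (hPQ hy)) n.2
        simpa [mul_assoc] using h2
      exact (Subgroup.mem_normalizer_iff.1 hn ⟨y, hyQ⟩).2 hy
  set q : G := a * n * a * n⁻¹ with hq
  have hq3 : q ^ 3 = 1 := by
    rw [hq, show a * n * a * n⁻¹ = a * (n * a * n⁻¹) by group]
    exact hT.cube a ha _ (hT.conj n a ha)
  have haN : a ∈ Subgroup.normalizer (P : Set G) := by
    rw [Subgroup.mem_normalizer_iff]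
    intro y
    rw [hT.inv_eq ha]
    refine ⟨hPa y, fun hy => ?_⟩
    have h := hPa _ hy
    rwa [show a * (a * y * a) * a = y by
      simp only [mul_assoc, hT.mul_self ha, mul_one]
      exact hT.self_mul ha y] at h
  have hqN : q ∈ Subgroup.normalizer (P : Set G) :=
    mul_mem (mul_mem (mul_mem haN hnN) haN) (inv_mem hnN)
  -- the extending element
  have key : ∀ m : G, m ∈ Subgroup.normalizer (P : Set G) → IsPGroup 3 (Subgroup.zpowers m) →
      a * m * a ∈ P ⊔ Subgroup.zpowers m → m ∈ P := by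
    intro m hmN hm3 hma
    have hle : Subgroup.zpowers m ≤ Subgroup.normalizer (P : Set G) := by
      rwa [Subgroup.zpowers_le]
    have h3 : IsPGroup 3 (P ⊔ Subgroup.zpowers m : Subgroup G) :=
      hP.to_sup_of_normal_left' hm3 hle
    have hinv : ∀ x ∈ P ⊔ Subgroup.zpowers m, a * x * a ∈ P ⊔ Subgroup.zpowers m := by
      have hsub : P ⊔ Subgroup.zpowers m ≤
          (P ⊔ Subgroup.zpowers m).comap (MulAut.conj a).toMonoidHom := by
        refine sup_le (fun x hx => ?_) ?_
        · rw [Subgroup.mem_comap, MulEquiv.coe_toMonoidHom, MulAut.conj_apply, hT.inv_eq ha]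
          exact le_sup_left (a := P) (hPa x hx)
        · rw [Subgroup.zpowers_le, Subgroup.mem_comap, MulEquiv.coe_toMonoidHom, MulAut.conj_apply,
            hT.inv_eq ha]
          exact hma
      intro x hx
      have h := hsub hx
      rwa [Subgroup.mem_comap, MulEquiv.coe_toMonoidHom, MulAut.conj_apply, hT.inv_eq ha] at h
    exact hmax ⟨h3, hinv⟩ le_sup_left (le_sup_right (a := P) (Subgroup.mem_zpowers m))
  by_cases hqP : q ∈ P
  · refine hnP (key n hnN ?_ ?_)
    · exact Q.isPGroup'.to_le (by rwa [Subgroup.zpowers_le])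
    · rw [show a * n * a = q * n by rw [hq]; group]
      exact mul_mem (le_sup_left (a := P) hqP)
        (le_sup_right (a := P) (Subgroup.mem_zpowers n))
  · refine hqP (key q hqN ?_ ?_)
    · intro x
      obtain ⟨i, hi⟩ := Subgroup.mem_zpowers_iff.1 x.2
      refine ⟨1, Subtype.ext ?_⟩
      rw [pow_one, SubmonoidClass.coe_pow, OneMemClass.coe_one, ← hi, ← zpow_natCast, ← zpow_mul,
        mul_comm, zpow_mul, zpow_natCast, hq3, one_zpow]
    · have h : a * q * a = q⁻¹ := by
        refine eq_inv_of_mul_eq_one_left ?_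
        rw [hq]
        simp only [mul_assoc, hT.self_mul ha, inv_mul_cancel_left, mul_inv_cancel]
      rw [h]
      exact inv_mem (le_sup_right (a := P) (Subgroup.mem_zpowers q))

/-- In a group generated by four members, all four lie in an orbit of 3-power size, so the
pairwise products lie in an invariant Sylow 3-subgroup. -/
theorem four_point [Finite G] (ha : a ∈ T) (hb : b ∈ T) (hc : c ∈ T) (hd : d ∈ T)
    (hgen : Subgroup.closure ({a, b, c, d} : Set G) = ⊤) :
    ∃ P : Subgroup G, IsPGroup 3 P ∧ a * b ∈ P ∧ c * d ∈ P := by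
  classical
  have : Fact (Nat.Prime 3) := ⟨Nat.prime_three⟩
  let op : T → T → T := fun x y => ⟨x.1 * y.1 * x.1, hT.triple_mem x.2 y.2⟩
  obtain ⟨f, f0, f1, f2, f3, hf⟩ := FourPoint.exists_table (op := op)
    (fun x => Subtype.ext (by simp [op, hT.mul_self x.2]))
    (fun x y => Subtype.ext (hT.braid x.2 y.2))
    (fun x y => Subtype.ext (by
      simp only [op, mul_assoc, hT.self_mul x.2, hT.mul_self x.2, mul_one]))
    (fun g x y => Subtype.ext (by simp only [op, mul_assoc, hT.self_mul g.2]))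
    ⟨a, ha⟩ ⟨b, hb⟩ ⟨c, hc⟩ ⟨d, hd⟩
  let φ : Fin 81 → G := fun p => (f p).1
  have hφ : ∀ g p, φ (FourPoint.act g p) = φ (FourPoint.gen g) * φ p * φ (FourPoint.gen g) := by
    intro g p
    simp only [φ, ← hf g p, op]
  have hφ0 : φ 0 = a := by simp [φ, f0]
  have hinv : ∀ p, (φ p)⁻¹ = φ p := fun p => hT.inv_eq (f p).2
  -- every value is conjugate to `a`
  have hconj : ∀ p, ∃ k : G, φ p = k * a * k⁻¹ := by
    refine FourPoint.act_reach {p | ∃ k : G, φ p = k * a * k⁻¹} ⟨1, by simp [hφ0]⟩ ?_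
    rintro g q ⟨k, hk⟩
    refine ⟨φ (FourPoint.gen g) * k, ?_⟩
    rw [hφ, hk, mul_inv_rev, hinv]
    group
  -- the image is closed under conjugation
  set S : Finset G := Finset.univ.image φ with hS
  have hgenS : ∀ x ∈ ({a, b, c, d} : Set G), ∃ g, φ (FourPoint.gen g) = x := by
    intro x hx
    simp only [Set.mem_insert_iff, Set.mem_singleton_iff] at hx
    rcases hx with rfl | rfl | rfl | rfl
    exacts [⟨0, by simp [φ, FourPoint.gen, f0]⟩, ⟨1, by simp [φ, FourPoint.gen, f1]⟩,
      ⟨2, by simp [φ, FourPoint.gen, f2]⟩, ⟨3, by simp [φ, FourPoint.gen, f3]⟩]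
  have hclosed : ∀ k : G, ∀ s ∈ S, k * s * k⁻¹ ∈ S := by
    intro k
    have hk : k ∈ Subgroup.closure ({a, b, c, d} : Set G) := by rw [hgen]; trivial
    induction hk using Subgroup.closure_induction_left with
    | one => intro s hs; simpa using hs
    | mul_left x hx y _ ih =>
      intro s hs
      obtain ⟨g, rfl⟩ := hgenS x hx
      obtain ⟨p, -, hp⟩ := Finset.mem_image.1 (ih s hs)
      refine Finset.mem_image.2 ⟨FourPoint.act g p, Finset.mem_univ _, ?_⟩
      rw [hφ, hp, mul_inv_rev, hinv]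
      group
    | inv_mul_cancel x hx y _ ih =>
      intro s hs
      obtain ⟨g, rfl⟩ := hgenS x hx
      obtain ⟨p, -, hp⟩ := Finset.mem_image.1 (ih s hs)
      refine Finset.mem_image.2 ⟨FourPoint.act g p, Finset.mem_univ _, ?_⟩
      rw [hφ, hp, hinv, mul_inv_rev, hinv]
      group
  have hSa : (S : Set G) = MulAction.orbit (ConjAct G) a := by
    apply Set.ext
    intro x
    rw [Finset.mem_coe, ConjAct.mem_orbit_conjAct, isConj_comm, isConj_iff]
    constructor
    · intro hx
      obtain ⟨p, -, rfl⟩ := Finset.mem_image.1 hx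
      obtain ⟨k, hk⟩ := hconj p
      exact ⟨k, hk.symm⟩
    · rintro ⟨k, rfl⟩
      exact hclosed k a (Finset.mem_image.2 ⟨0, Finset.mem_univ _, hφ0⟩)
  -- all fibres of `φ` have the same size
  have hdvd : S.card ∣ 81 := by
    let F : G → ℕ := fun s => (Finset.univ.filter fun p => φ p = s).card
    have hinj : ∀ g, Function.Injective (FourPoint.act g) := by decide +kernel
    have hstep : ∀ g p, F (φ p) ≤ F (φ (FourPoint.act g p)) := by
      intro g p
      refine Finset.card_le_card_of_injOn (FourPoint.act g) ?_ (hinj g).injOn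
      intro q hq
      rw [Finset.mem_coe, Finset.mem_filter] at hq ⊢
      refine ⟨Finset.mem_univ _, ?_⟩
      rw [hφ, hφ, hq.2]
    have hF : ∀ p, F (φ p) = F a := by
      refine FourPoint.act_reach {p | F (φ p) = F a} (show F (φ 0) = F a by rw [hφ0]) ?_
      intro g q (hq : F (φ q) = F a)
      show F (φ (FourPoint.act g q)) = F a
      refine le_antisymm ?_ (hq ▸ hstep g q)
      refine (hstep g (FourPoint.act g q)).trans (le_of_eq ?_)
      rw [← hq]
      congr 1
      rw [hφ, hφ]
      simp only [mul_assoc, hT.self_mul (f (FourPoint.gen g)).2, hT.mul_self (f (FourPoint.gen g)).2,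
        mul_one, φ]
    have hcard := Finset.card_eq_sum_card_image φ (Finset.univ : Finset (Fin 81))
    rw [Finset.card_univ, Fintype.card_fin, Finset.sum_const_nat (m := F a)] at hcard
    · exact Dvd.intro _ hcard.symm
    · intro s hs
      obtain ⟨p, -, rfl⟩ := Finset.mem_image.1 hs
      exact hF p
  obtain ⟨P, hPa⟩ := hT.exists_invariant_sylow ha
  -- the Sylow subgroup is transitive on the orbit
  have htrans : ∀ x ∈ S, ∃ p ∈ (P : Subgroup G), p * a * p⁻¹ = x := by
    let Q : Subgroup (ConjAct G) :=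
      (P : Subgroup G).map ((ConjAct.toConjAct (G := G)) : G →* ConjAct G)
    set St := MulAction.stabilizer (ConjAct G) a with hSt
    have hidx : St.index = S.card := by
      rw [MulAction.index_stabilizer, ← hSa, Set.ncard_coe_finset]
    have hQ : ¬ 3 ∣ Q.index := by
      rw [Subgroup.index_map_equiv]
      exact P.not_dvd_index
    obtain ⟨j, -, hj⟩ := (Nat.dvd_prime_pow Nat.prime_three).1
      (show S.card ∣ 3 ^ 4 by simpa using hdvd)
    have hcop : St.index.Coprime Q.index := by
      rw [hidx, hj]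
      exact (Nat.prime_three.coprime_iff_not_dvd.2 hQ).pow_left j
    have hdiv : St.index ∣ St.relIndex Q := by
      refine hcop.dvd_of_dvd_mul_right ?_
      rw [← Subgroup.inf_relIndex_right, Subgroup.relIndex_mul_index inf_le_right]
      exact Subgroup.index_dvd_of_le inf_le_left
    have hsub : MulAction.orbit Q a ⊆ (S : Set G) := by
      rw [hSa]
      rintro - ⟨q, rfl⟩
      exact ⟨q.1, rfl⟩
    have hcardQ : (MulAction.orbit Q a).ncard = St.relIndex Q := by
      rw [← MulAction.index_stabilizer]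
      rfl
    have heq : MulAction.orbit Q a = (S : Set G) := by
      refine Set.eq_of_subset_of_ncard_le hsub ?_ (Finset.finite_toSet S)
      rw [hcardQ, Set.ncard_coe_finset, ← hidx]
      refine Nat.le_of_dvd ?_ hdiv
      rw [← hcardQ, Set.ncard_pos ((Finset.finite_toSet S).subset hsub)]
      exact ⟨a, MulAction.mem_orbit_self a⟩
    intro x hx
    rw [← Finset.mem_coe, ← heq] at hx
    obtain ⟨⟨q, p, hp, rfl⟩, rfl⟩ := hx
    exact ⟨p, hp, (ConjAct.toConjAct_smul _ _).symm⟩
  have hmem : ∀ x ∈ S, a * x ∈ (P : Subgroup G) := by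
    intro x hx
    obtain ⟨p, hp, rfl⟩ := htrans x hx
    rw [← mul_assoc, ← mul_assoc]
    exact mul_mem (hPa p hp) (inv_mem hp)
  have hval : ∀ g, φ (FourPoint.gen g) ∈ S :=
    fun g => Finset.mem_image.2 ⟨_, Finset.mem_univ _, rfl⟩
  refine ⟨P, P.isPGroup', hmem b ?_, ?_⟩
  · simpa [φ, FourPoint.gen, f1] using hval 1
  · have h1 := hmem c (by simpa [φ, FourPoint.gen, f2] using hval 2)
    have h2 := hmem d (by simpa [φ, FourPoint.gen, f3] using hval 3)
    have h3 := mul_mem (inv_mem h1) h2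
    rwa [mul_inv_rev, hT.inv_eq ha, hT.inv_eq hc, mul_assoc, hT.self_mul ha] at h3

/-- All products of two members lie in the 3-core. -/
theorem mul_mem_pCore [Finite G] (ha : a ∈ T) (hb : b ∈ T) : a * b ∈ Cfsg.pCore 3 G := by
  have : Fact (Nat.Prime 3) := ⟨Nat.prime_three⟩
  have hX : IsPGroup 3 (Subgroup.zpowers (a * b)) := by
    intro x
    obtain ⟨i, hi⟩ := Subgroup.mem_zpowers_iff.1 x.2
    refine ⟨1, Subtype.ext ?_⟩
    rw [pow_one, SubmonoidClass.coe_pow, OneMemClass.coe_one, ← hi, ← zpow_natCast, ← zpow_mul,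
      mul_comm, zpow_mul, zpow_natCast, hT.cube a ha b hb, one_zpow]
  obtain ⟨N, hN, hN3, hXN⟩ := Invol.baerSuzuki (Subgroup.zpowers (a * b)) hX (fun g => by
    set K := Subgroup.closure ({a, b, g * a * g⁻¹, g * b * g⁻¹} : Set G) with hK
    have hmem : ∀ x ∈ ({a, b, g * a * g⁻¹, g * b * g⁻¹} : Set G), x ∈ K ∧ x ∈ T := by
      intro x hx
      refine ⟨Subgroup.subset_closure hx, ?_⟩
      simp only [Set.mem_insert_iff, Set.mem_singleton_iff] at hx
      rcases hx with rfl | rfl | rfl | rfl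
      exacts [ha, hb, hT.conj g a ha, hT.conj g b hb]
    let T' : Set K := {x | (x : G) ∈ T}
    have hT' : IsCubeSet T' :=
      { conj := fun k x hx => hT.conj k.1 x.1 hx
        ord := fun x hx => by rw [← Subgroup.orderOf_coe]; exact hT.ord x.1 hx
        cube := fun x hx y hy => Subtype.ext (hT.cube x.1 hx y.1 hy) }
    obtain ⟨h1, h1'⟩ := hmem a (by simp)
    obtain ⟨h2, h2'⟩ := hmem b (by simp)
    obtain ⟨h3, h3'⟩ := hmem (g * a * g⁻¹) (by simp)
    obtain ⟨h4, h4'⟩ := hmem (g * b * g⁻¹) (by simp)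
    have hgen : Subgroup.closure ({⟨a, h1⟩, ⟨b, h2⟩, ⟨_, h3⟩, ⟨_, h4⟩} : Set K) = ⊤ := by
      apply Subgroup.map_injective K.subtype_injective
      rw [MonoidHom.map_closure, ← MonoidHom.range_eq_map, Subgroup.range_subtype]
      simp [Set.image_insert_eq, K]
    obtain ⟨P, hP, hab, hgab⟩ := hT'.four_point (a := ⟨a, h1⟩) (b := ⟨b, h2⟩) (c := ⟨_, h3⟩)
      (d := ⟨_, h4⟩) h1' h2' h3' h4' hgen
    refine (hP.map K.subtype).to_le (sup_le ?_ ?_)
    · rw [Subgroup.zpowers_le]
      exact ⟨_, hab, rfl⟩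
    · rw [MonoidHom.map_zpowers, Subgroup.zpowers_le]
      refine ⟨_, hgab, ?_⟩
      simp only [Subgroup.coe_subtype, Subgroup.coe_mul, MulEquiv.coe_toMonoidHom,
        MulAut.conj_apply]
      group)
  exact Core.le_pCore (hN := hN) hN3 (hXN (Subgroup.mem_zpowers _))

end IsCubeSet

end Cfsg.Agent.ThreeTrans
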