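import Cfsg.Agent.ThreeTrans.CentralizerMember
import Cfsg.Agent.ThreeTrans.O232Quot
import Cfsg.Agent.ThreeTrans.UnitaryPlane

/-!
# The normaliser of the product of two members that do not commute

When the common partners of two noncommuting members determine their line, only the three members of
the line invert the product, so the normaliser of the product is the symmetric group of degree three
times the joint centraliser.
-/

set_option autoImplicit false

open Cfsg

namespace Cfsg.Agent.ThreeTrans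

variable {G K : Type*} [Group G] [Group K] {D : Set G} {a d : G}

/-- The members commuting with both of two members. -/
def pairPerp (D : Set G) (a d : G) : Set G := {y | y ∈ D ∧ Commute a y ∧ Commute d y}

theorem pairPerp_eq (hnc : ¬ Commute a d) :
    {y : G | y ∈ D ∧ Commute a y ∧ Commute d y ∧ y ≠ a ∧ y ≠ d} = pairPerp D a d :=
  Set.ext fun y => ⟨fun h => ⟨h.1, h.2.1, h.2.2.1⟩, fun h => ⟨h.1, h.2.1, h.2.2,
    fun e => hnc (e ▸ h.2.2).symm, fun e => hnc (e ▸ h.2.1)⟩⟩

theorem inter_dperp_eq (hnc : ¬ Commute a d) :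
    {y : G | y ∈ D ∧ y ≠ a ∧ Commute a y} ∩ {y : G | y ∈ D ∧ y ≠ d ∧ Commute d y} = pairPerp D a d :=
  Set.ext fun y => ⟨fun h => ⟨h.1.1, h.1.2.2, h.2.2.2⟩, fun h =>
    ⟨⟨h.1, fun e => hnc (e ▸ h.2.2).symm, h.2.1⟩, h.1, fun e => hnc (e ▸ h.2.1), h.2.2⟩⟩

theorem closure_pairPerp_le : Subgroup.closure (pairPerp D a d) ≤ Subgroup.centralizer ({a, d} : Set G) := by
  rw [Subgroup.closure_le]
  intro y hy
  refine Subgroup.mem_centralizer_iff.2 fun u hu => ?_
  rcases hu with rfl | rfl
  exacts [hy.2.1.eq, hy.2.2.eq]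

theorem mem_centralizer_pair {g : G} :
    g ∈ Subgroup.centralizer ({a, d} : Set G) ↔ Commute a g ∧ Commute d g := by
  rw [Subgroup.mem_centralizer_iff]
  exact ⟨fun h => ⟨h a (Set.mem_insert _ _), h d (Set.mem_insert_of_mem _ rfl)⟩,
    fun h u hu => by rcases hu with rfl | rfl; exacts [h.1.eq, h.2.eq]⟩

theorem mem_centralizer_zpowers {x g : G} :
    g ∈ Subgroup.centralizer ((Subgroup.zpowers x : Subgroup G) : Set G) ↔ Commute x g := by
  rw [Subgroup.mem_centralizer_iff]
  exact ⟨fun h => h x (Subgroup.mem_zpowers x), fun h u hu => by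
    obtain ⟨n, rfl⟩ := Subgroup.mem_zpowers_iff.1 hu
    exact h.zpow_left n⟩

variable (hD : IsThreeTranspositionGroup D) (ha : a ∈ D) (hd : d ∈ D) (hnc : ¬ Commute a d)

include hD ha hd hnc

theorem pair_product_ne_inv : a * d ≠ (a * d)⁻¹ := by
  intro h
  rw [eq_inv_iff_mul_eq_one, ← sq, sq_eq_one_iff hD.1 ha hd] at h
  exact hnc h

/-- The members centralising the product commute with both. -/
theorem commute_of_commute_product {y : G} (hy : y ∈ D) (h : Commute (a * d) y) :
    Commute a y ∧ Commute d y := by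
  have hay : Commute a y := by
    by_contra hay
    have hb := braid hD.1 ha hy hay
    refine pair_product_ne_inv hD ha hd hnc ?_
    have e1 : a * y * a * (a * d) * (a * y * a) = (a * d) := by
      calc a * y * a * (a * d) * (a * y * a)
          = a * y * ((a * a) * (d * a)) * (y * a) := by simp only [mul_assoc]
        _ = a * (y * (a * d)⁻¹) * (y * a) := by
          rw [mul_self hD.1 ha, one_mul, mul_inv_rev, inv_eq hD.1 ha, inv_eq hD.1 hd]
          simp only [mul_assoc]
        _ = a * ((a * d)⁻¹ * y) * (y * a) := by rw [h.inv_left.symm.eq]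
        _ = a * (a * d)⁻¹ * ((y * y) * a) := by simp only [mul_assoc]
        _ = (a * d) := by
          rw [mul_self hD.1 hy, one_mul, mul_inv_rev, inv_eq hD.1 ha, inv_eq hD.1 hd,
            show a * (d * a) * a = a * d * (a * a) by simp only [mul_assoc], mul_self hD.1 ha, mul_one]
    rw [hb] at e1
    have e2 : y * a * y * (a * d) * (y * a * y) = (a * d)⁻¹ := by
      calc y * a * y * (a * d) * (y * a * y)
          = y * a * ((y * (a * d)) * (y * (a * y))) := by simp only [mul_assoc]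
        _ = y * a * (((a * d) * y) * (y * (a * y))) := by rw [h.symm.eq]
        _ = y * ((a * a) * (d * ((y * y) * (a * y)))) := by simp only [mul_assoc]
        _ = y * (d * a) * y := by
          rw [mul_self hD.1 ha, one_mul, mul_self hD.1 hy, one_mul]
          simp only [mul_assoc]
        _ = y * (a * d)⁻¹ * y := by rw [mul_inv_rev, inv_eq hD.1 ha, inv_eq hD.1 hd]
        _ = (a * d)⁻¹ := by
          rw [h.inv_left.symm.eq, mul_assoc, mul_self hD.1 hy, mul_one]
    exact e1.symm.trans e2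
  refine ⟨hay, ?_⟩
  have h1 : Commute (a * (a * d)) y := hay.mul_left h
  rwa [← mul_assoc, mul_self hD.1 ha, one_mul] at h1

theorem inter_centralizer_eq :
    D ∩ (Subgroup.centralizer ((Subgroup.zpowers (a * d) : Subgroup G) : Set G) : Set G) =
      pairPerp D a d := by
  ext y
  constructor
  · rintro ⟨hy, hc⟩
    exact ⟨hy, commute_of_commute_product hD ha hd hnc hy (mem_centralizer_zpowers.1 hc)⟩
  · rintro ⟨hy, h1, h2⟩
    exact ⟨hy, mem_centralizer_zpowers.2 (h1.mul_left h2)⟩

/-- Only the three members of the line invert the product. -/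
theorem inverting_members (hH : Hyp D) {y : G} (hy : y ∈ D) (h : y * (a * d) * y = (a * d)⁻¹) :
    y = a ∨ y = d ∨ y = a * d * a := by
  refine hH a ha d hd y hy hnc fun m hm hma hmd => ?_
  by_contra hmy
  have hx : Commute m (a * d) := hma.mul_right hmd
  have e1 : m * y * m * (a * d) * (m * y * m) = (a * d)⁻¹ := by
    calc m * y * m * (a * d) * (m * y * m)
        = m * y * ((m * (a * d)) * (m * (y * m))) := by simp only [mul_assoc]
      _ = m * y * (((a * d) * m) * (m * (y * m))) := by rw [hx.eq]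
      _ = m * (y * ((a * d) * ((m * m) * (y * m)))) := by simp only [mul_assoc]
      _ = m * (y * (a * d) * y) * m := by
        rw [mul_self hD.1 hm, one_mul]; simp only [mul_assoc]
      _ = (a * d)⁻¹ := by rw [h, hx.inv_right.eq, mul_assoc, mul_self hD.1 hm, mul_one]
  have e2 : y * m * y * (a * d) * (y * m * y) = (a * d) := by
    calc y * m * y * (a * d) * (y * m * y)
        = y * (m * (y * (a * d) * y) * m) * y := by simp only [mul_assoc]
      _ = y * (a * d)⁻¹ * y := by
        rw [h, hx.inv_right.eq, mul_mul_self hD.1 hm]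
      _ = (y * (a * d) * y)⁻¹ := by
        simp only [mul_inv_rev, inv_eq hD.1 hy, mul_assoc]
      _ = (a * d) := by rw [h, inv_inv]
  rw [braid hD.1 hm hy hmy] at e1
  exact pair_product_ne_inv hD ha hd hnc (e2.symm.trans e1)

/-- The symmetric group of degree three generated by the two members. -/
theorem pair_sym : Nonempty (↥(Subgroup.closure ({a, d} : Set G)) ≃* Equiv.Perm (Fin 3)) := by
  set S := Subgroup.closure ({a, d} : Set G)
  have haS : a ∈ S := Subgroup.subset_closure (Set.mem_insert _ _)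
  have hdS : d ∈ S := Subgroup.subset_closure (Set.mem_insert_of_mem _ rfl)
  refine DihThree.nonempty_mulEquiv (u := (⟨a * d, mul_mem haS hdS⟩ : S)) (d := (⟨a, haS⟩ : S))
    ⟨?_, ?_, ?_, ?_, ?_, ?_⟩ DihThree.perm_rel
  · exact Subtype.ext (cube_of_not_commute hD.1 ha hd hnc)
  · exact Subtype.ext (mul_self hD.1 ha)
  · refine Subtype.ext ?_
    show a * (a * d) * a = (a * d)⁻¹
    rw [mul_inv_rev, inv_eq hD.1 ha, inv_eq hD.1 hd, ← mul_assoc, mul_self hD.1 ha, one_mul]
  · intro h
    refine hnc ((sq_eq_one_iff hD.1 ha hd).1 ?_)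
    have h' : a * d = 1 := congrArg Subtype.val h
    rw [h', one_pow]
  · exact fun h => ne_one hD.1 ha (congrArg Subtype.val h)
  · rw [eq_top_iff]
    rintro ⟨g, hg⟩ -
    have hle : S ≤ (Subgroup.closure
        ({(⟨a * d, mul_mem haS hdS⟩ : S), (⟨a, haS⟩ : S)} : Set S)).map S.subtype := by
      rw [Subgroup.closure_le]
      have h1 : (⟨a, haS⟩ : S) ∈ Subgroup.closure
          ({(⟨a * d, mul_mem haS hdS⟩ : S), (⟨a, haS⟩ : S)} : Set S) :=
        Subgroup.subset_closure (Set.mem_insert_of_mem _ rfl)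
      rintro u (rfl | rfl)
      · exact ⟨_, h1, rfl⟩
      · refine ⟨_, mul_mem h1 (Subgroup.subset_closure (Set.mem_insert _ _)), ?_⟩
        show a * (a * u) = u
        rw [← mul_assoc, mul_self hD.1 ha, one_mul]
    obtain ⟨z, hz, hzg⟩ := hle hg
    rwa [show (⟨g, hg⟩ : S) = z from Subtype.ext hzg.symm]

theorem pair_sym_inf : Subgroup.closure ({a, d} : Set G) ⊓ Subgroup.centralizer ({a, d} : Set G) = ⊥ := by
  set S := Subgroup.closure ({a, d} : Set G)
  obtain ⟨e⟩ := pair_sym hD ha hd hnc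
  rw [eq_bot_iff]
  rintro g ⟨hg, hgc⟩
  have hle : S ≤ Subgroup.centralizer ({g} : Set G) := by
    obtain ⟨h1, h2⟩ := mem_centralizer_pair.1 hgc
    rw [Subgroup.closure_le]
    rintro u (rfl | rfl)
    · exact Subgroup.mem_centralizer_singleton_iff.2 h1.eq
    · exact Subgroup.mem_centralizer_singleton_iff.2 h2.eq
  have h3 : ∀ σ : Equiv.Perm (Fin 3), σ * e ⟨g, hg⟩ = e ⟨g, hg⟩ * σ := by
    intro σ
    obtain ⟨u, rfl⟩ := e.surjective σ
    rw [← map_mul, ← map_mul]
    exact congrArg e (Subtype.ext (Subgroup.mem_centralizer_singleton_iff.1 (hle u.2)))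
  have h4 : e ⟨g, hg⟩ = 1 :=
    (by decide +kernel : ∀ σ : Equiv.Perm (Fin 3), (∀ τ, τ * σ = σ * τ) → σ = 1) _ h3
  rw [EmbeddingLike.map_eq_one_iff] at h4
  exact Subgroup.mem_bot.2 (congrArg Subtype.val h4)

theorem pair_commute : ∀ x ∈ Subgroup.closure ({a, d} : Set G),
    ∀ y ∈ Subgroup.centralizer ({a, d} : Set G), x * y = y * x := by
  intro x hx y hy
  have hle : Subgroup.closure ({a, d} : Set G) ≤ Subgroup.centralizer ({y} : Set G) := by
    obtain ⟨h1, h2⟩ := mem_centralizer_pair.1 hy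
    rw [Subgroup.closure_le]
    rintro u (rfl | rfl)
    · exact Subgroup.mem_centralizer_singleton_iff.2 h1.eq
    · exact Subgroup.mem_centralizer_singleton_iff.2 h2.eq
  exact Subgroup.mem_centralizer_singleton_iff.1 (hle hx)

/-- The normaliser of the product. -/
theorem pair_normalizer (hH : Hyp D) :
    Subgroup.closure ({a, d} : Set G) ⊔ Subgroup.centralizer ({a, d} : Set G) =
      Subgroup.normalizer ((Subgroup.zpowers (a * d) : Subgroup G) : Set G) := by
  have hT := hD.1
  set x := a * d with hxdef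
  have haS : a ∈ Subgroup.closure ({a, d} : Set G) := Subgroup.subset_closure (Set.mem_insert _ _)
  have hdS : d ∈ Subgroup.closure ({a, d} : Set G) :=
    Subgroup.subset_closure (Set.mem_insert_of_mem _ rfl)
  have hax : a * x * a⁻¹ = x⁻¹ := by
    rw [hxdef, mul_inv_rev, inv_eq hT ha, inv_eq hT hd, ← mul_assoc, mul_self hT ha, one_mul]
  have hdx : d * x * d⁻¹ = x⁻¹ := by
    rw [hxdef, mul_inv_rev, inv_eq hT ha, inv_eq hT hd, mul_assoc, mul_assoc, mul_self hT hd, mul_one]
  have hnorm : ∀ g, (g * x * g⁻¹ = x ∨ g * x * g⁻¹ = x⁻¹) →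
      g ∈ Subgroup.normalizer ((Subgroup.zpowers x : Subgroup G) : Set G) := by
    intro g hg
    rw [Subgroup.mem_normalizer_iff_map_conj_eq, MonoidHom.map_zpowers]
    show Subgroup.zpowers (g * x * g⁻¹) = _
    rcases hg with h | h
    · rw [h]
    · rw [h, Subgroup.zpowers_inv]
  refine le_antisymm (sup_le ((Subgroup.closure_le _).2 ?_) ?_) fun g hg => ?_
  · rintro u (rfl | rfl)
    exacts [hnorm _ (Or.inr hax), hnorm _ (Or.inr hdx)]
  · intro g hg
    obtain ⟨h1, h2⟩ := mem_centralizer_pair.1 hg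
    exact hnorm _ (Or.inl (by rw [← (h1.mul_left h2).eq, mul_inv_cancel_right]))
  · have hgx : g * x * g⁻¹ = x ∨ g * x * g⁻¹ = x⁻¹ := by
      have hmem : g * x * g⁻¹ ∈ Subgroup.zpowers x :=
        (Subgroup.mem_normalizer_iff.1 hg x).1 (Subgroup.mem_zpowers x)
      have hx3 : orderOf x = 3 := orderOf_mul_of_not_commute hT ha hd hnc
      have hfin : IsOfFinOrder x := orderOf_pos_iff.1 (by omega)
      obtain ⟨n, hn⟩ := hfin.mem_powers_iff_mem_zpowers.2 hmem
      have hn' : x ^ (n % 3) = g * x * g⁻¹ := by rw [← hn, ← hx3, pow_mod_orderOf]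
      have hlt : n % 3 < 3 := Nat.mod_lt _ (by norm_num)
      interval_cases hk : n % 3
      · exfalso
        rw [pow_zero] at hn'
        rw [conj_eq_one_iff.1 hn'.symm] at hx3
        simp at hx3
      · exact Or.inl (by rw [← hn', pow_one])
      · refine Or.inr (hn'.symm.trans (eq_inv_of_mul_eq_one_left ?_))
        rw [← pow_succ, show 2 + 1 = orderOf x by omega, pow_orderOf_eq_one]
    set a' := g * a * g⁻¹ with ha'
    have haD : a' ∈ D := hD.2.1 g a ha
    have hinv : a' * x * a' = x⁻¹ := by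
      rcases hgx with h | h
      · calc a' * x * a' = g * a * g⁻¹ * (g * x * g⁻¹) * (g * a * g⁻¹) := by rw [h]
          _ = g * (a * x * a) * g⁻¹ := by group
          _ = g * (a * x * a⁻¹) * g⁻¹ := by rw [inv_eq hT ha]
          _ = (g * x * g⁻¹)⁻¹ := by rw [hax]; group
          _ = x⁻¹ := by rw [h]
      · have h' : g * x⁻¹ * g⁻¹ = x := by
          rw [show g * x⁻¹ * g⁻¹ = (g * x * g⁻¹)⁻¹ by group, h, inv_inv]
        calc a' * x * a' = g * a * g⁻¹ * (g * x⁻¹ * g⁻¹) * (g * a * g⁻¹) := by rw [h']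
          _ = g * (a * x⁻¹ * a) * g⁻¹ := by group
          _ = g * (a * x * a⁻¹)⁻¹ * g⁻¹ := by
            rw [show (a * x * a⁻¹)⁻¹ = a * x⁻¹ * a⁻¹ by group, inv_eq hT ha]
          _ = g * x * g⁻¹ := by rw [hax, inv_inv]
          _ = x⁻¹ := h
    have hb := braid hT ha hd hnc
    obtain ⟨s, hs, hsa⟩ : ∃ s ∈ Subgroup.closure ({a, d} : Set G), s * a' * s⁻¹ = a := by
      rcases inverting_members hD ha hd hnc hH haD hinv with h | h | h <;> rw [h]
      · exact ⟨1, one_mem _, by group⟩
      · refine ⟨d * a * d, mul_mem (mul_mem hdS haS) hdS, ?_⟩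
        rw [mul_inv_rev, mul_inv_rev, inv_eq hT ha, inv_eq hT hd]
        calc d * a * d * d * (d * (a * d)) = d * (a * ((d * d) * (d * (a * d)))) := by
              simp only [mul_assoc]
          _ = d * (a * d * a) * d := by rw [mul_self hT hd, one_mul]; simp only [mul_assoc]
          _ = a := by
            rw [hb, show d * (d * a * d) * d = (d * d) * a * (d * d) by simp only [mul_assoc],
              mul_self hT hd, one_mul, mul_one]
      · refine ⟨d, hdS, ?_⟩
        rw [inv_eq hT hd, hb, show d * (d * a * d) * d = (d * d) * a * (d * d) by simp only [mul_assoc],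
          mul_self hT hd, one_mul, mul_one]
    have hsx : s * g * x * (s * g)⁻¹ = x ∨ s * g * x * (s * g)⁻¹ = x⁻¹ := by
      have hsN : s * x * s⁻¹ = x ∨ s * x * s⁻¹ = x⁻¹ := by
        clear hsa
        induction hs using Subgroup.closure_induction with
        | mem u hu =>
          rcases hu with rfl | rfl
          exacts [Or.inr hax, Or.inr hdx]
        | one => exact Or.inl (by group)
        | mul u v _ _ h1 h2 =>
          rcases h1 with h1 | h1 <;> rcases h2 with h2 | h2 <;>
            [left; right; right; left] <;>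
            rw [show u * v * x * (u * v)⁻¹ = u * (v * x * v⁻¹) * u⁻¹ by group, h2] <;>
            first
              | exact h1
              | rw [show u * x⁻¹ * u⁻¹ = (u * x * u⁻¹)⁻¹ by group, h1, inv_inv]
              | rw [show u * x⁻¹ * u⁻¹ = (u * x * u⁻¹)⁻¹ by group, h1]
        | inv u _ h1 =>
          rcases h1 with h1 | h1
          · exact Or.inl (by conv_lhs => rw [← h1]
                             group)
          · refine Or.inr ?_
            calc u⁻¹ * x * u⁻¹⁻¹ = (u⁻¹ * x⁻¹ * u)⁻¹ := by group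
              _ = (u⁻¹ * (u * x * u⁻¹) * u)⁻¹ := by rw [h1]
              _ = x⁻¹ := by group
      rcases hsN with h1 | h1 <;> rcases hgx with h2 | h2 <;> [left; right; right; left] <;>
        rw [show s * g * x * (s * g)⁻¹ = s * (g * x * g⁻¹) * s⁻¹ by group, h2] <;>
        first
          | exact h1
          | rw [show s * x⁻¹ * s⁻¹ = (s * x * s⁻¹)⁻¹ by group, h1, inv_inv]
          | rw [show s * x⁻¹ * s⁻¹ = (s * x * s⁻¹)⁻¹ by group, h1]
    have hk : s * g * a * (s * g)⁻¹ = a := by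
      rw [show s * g * a * (s * g)⁻¹ = s * (g * a * g⁻¹) * s⁻¹ by group]; exact hsa
    have hda : d = a * x := by rw [hxdef, ← mul_assoc, mul_self hT ha, one_mul]
    obtain ⟨t, ht, hta, htd⟩ : ∃ t ∈ Subgroup.closure ({a, d} : Set G),
        t * (s * g) * a * (t * (s * g))⁻¹ = a ∧ t * (s * g) * d * (t * (s * g))⁻¹ = d := by
      rcases hsx with h | h
      · refine ⟨1, one_mem _, by rw [one_mul]; exact hk, ?_⟩
        rw [one_mul]
        calc s * g * d * (s * g)⁻¹ = (s * g * a * (s * g)⁻¹) * (s * g * x * (s * g)⁻¹) := by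
              rw [hda]; group
          _ = d := by rw [hk, h, hda]
      · refine ⟨a, haS, ?_, ?_⟩
        · rw [show a * (s * g) * a * (a * (s * g))⁻¹ = a * (s * g * a * (s * g)⁻¹) * a⁻¹ by group, hk,
            mul_inv_cancel_right]
        · calc a * (s * g) * d * (a * (s * g))⁻¹
              = a * ((s * g * a * (s * g)⁻¹) * (s * g * x * (s * g)⁻¹)) * a⁻¹ := by rw [hda]; group
            _ = a * (a * x⁻¹) * a⁻¹ := by rw [hk, h]
            _ = d := by
              rw [hxdef, mul_inv_rev, inv_eq hT ha, inv_eq hT hd, ← mul_assoc, mul_self hT ha, one_mul,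
                mul_assoc, mul_self hT ha, mul_one]
    have hmem : t * (s * g) ∈ Subgroup.centralizer ({a, d} : Set G) :=
      mem_centralizer_pair.2 ⟨((mul_inv_eq_iff_eq_mul.1 hta : _ = _).symm : a * _ = _ * a),
        ((mul_inv_eq_iff_eq_mul.1 htd : _ = _).symm : d * _ = _ * d)⟩
    rw [show g = (t * s)⁻¹ * (t * (s * g)) by group]
    exact Subgroup.mul_mem_sup (inv_mem (mul_mem ht hs)) hmem

/-- Conjugates of the product inside the joint centraliser come from common partners. -/
theorem mem_pairPerp_of_map {g : G}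
    (h : (Subgroup.zpowers (a * d)).map (MulAut.conj g).toMonoidHom ≤
      Subgroup.centralizer ({a, d} : Set G)) :
    g * a * g⁻¹ ∈ pairPerp D a d ∧ g * d * g⁻¹ ∈ pairPerp D a d := by
  have hmem : g * (a * d) * g⁻¹ ∈ Subgroup.centralizer ({a, d} : Set G) :=
    h ⟨a * d, Subgroup.mem_zpowers _, rfl⟩
  obtain ⟨h1, h2⟩ := mem_centralizer_pair.1 hmem
  have hnc' : ¬ Commute (g * a * g⁻¹) (g * d * g⁻¹) := fun hh => hnc ((commute_conj g a d).1 hh)
  have e : g * (a * d) * g⁻¹ = g * a * g⁻¹ * (g * d * g⁻¹) := by group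
  rw [e] at h1 h2
  obtain ⟨u1, u2⟩ := commute_of_commute_product hD (hD.2.1 g a ha) (hD.2.1 g d hd) hnc' ha h1.symm
  obtain ⟨v1, v2⟩ := commute_of_commute_product hD (hD.2.1 g a ha) (hD.2.1 g d hd) hnc' hd h2.symm
  exact ⟨⟨hD.2.1 g a ha, u1.symm, v1.symm⟩, ⟨hD.2.1 g d hd, u2.symm, v2.symm⟩⟩

end Cfsg.Agent.ThreeTrans

namespace Cfsg.Agent.ThreeTrans

variable {G K : Type*} [Group G] [Group K]

/-- The largest number of pairwise commuting common partners of two noncommuting members. -/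
structure PairWidth (S : Set G) (k : ℕ) : Prop where
  le : ∀ p ∈ S, ∀ q ∈ S, ¬ Commute p q → ∀ C ⊆ pairPerp S p q,
    (∀ u ∈ C, ∀ v ∈ C, Commute u v) → C.ncard ≤ k
  exist : ∀ p ∈ S, ∀ q ∈ S, ¬ Commute p q → ∃ C ⊆ pairPerp S p q,
    (∀ u ∈ C, ∀ v ∈ C, Commute u v) ∧ C.ncard = k

theorem SetIso.pairPerp_image {S : Set G} {T : Set K} {φ : G → K} (h : SetIso S T φ) {p q : G}
    (hp : p ∈ S) (hq : q ∈ S) : φ '' pairPerp S p q = pairPerp T (φ p) (φ q) := by
  apply Set.ext
  intro k
  constructor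
  · rintro ⟨u, ⟨hu, h1, h2⟩, rfl⟩
    exact ⟨h.bij.mapsTo hu, (h.comm p hp u hu).2 h1, (h.comm q hq u hu).2 h2⟩
  · rintro ⟨hk, h1, h2⟩
    obtain ⟨u, hu, rfl⟩ := h.bij.surjOn hk
    exact ⟨u, ⟨hu, (h.comm p hp u hu).1 h1, (h.comm q hq u hu).1 h2⟩, rfl⟩

theorem SetIso.pairWidth {S : Set G} {T : Set K} {φ : G → K} (h : SetIso S T φ) {k : ℕ}
    (hT : PairWidth T k) : PairWidth S k := by
  constructor
  · intro p hp q hq hpq C hC hcl
    rw [← (h.bij.injOn.mono fun u hu => (hC hu).1).ncard_image]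
    refine hT.le _ (h.bij.mapsTo hp) _ (h.bij.mapsTo hq) (fun e => hpq ((h.comm p hp q hq).1 e)) _
      (h.pairPerp_image hp hq ▸ Set.image_mono hC) ?_
    rintro - ⟨u, hu, rfl⟩ - ⟨v, hv, rfl⟩
    exact (h.comm u (hC hu).1 v (hC hv).1).2 (hcl u hu v hv)
  · intro p hp q hq hpq
    obtain ⟨C, hC, hcl, hk⟩ := hT.exist _ (h.bij.mapsTo hp) _ (h.bij.mapsTo hq)
      fun e => hpq ((h.comm p hp q hq).1 e)
    rw [← h.pairPerp_image hp hq] at hC
    refine ⟨pairPerp S p q ∩ φ ⁻¹' C, Set.inter_subset_left, fun u hu v hv =>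
      (h.comm u hu.1.1 v hv.1.1).1 (hcl _ hu.2 _ hv.2), ?_⟩
    rw [← (h.bij.injOn.mono fun u hu => hu.1.1).ncard_image, Set.image_inter_preimage,
      Set.inter_eq_right.2 hC, hk]

/-- One more in the group than in a layer. -/
theorem PairWidth.step [Finite G] {D : Set G} {k : ℕ} (hdiam : Diam D)
    (hL : ∀ t ∈ D, PairWidth (dperp D t) k) : PairWidth D (k + 1) := by
  constructor
  · intro p hp q hq hpq C hC hcl
    rcases C.eq_empty_or_nonempty with rfl | ⟨e, he⟩
    · simp
    obtain ⟨heD, hpe, hqe⟩ := hC he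
    have hpS : p ∈ dperp D e := ⟨hp, fun h => hpq (h ▸ hqe.symm), hpe.symm⟩
    have hqS : q ∈ dperp D e := ⟨hq, fun h => hpq (h ▸ hpe), hqe.symm⟩
    have h1 := (hL e heD).le p hpS q hqS hpq (C \ {e})
      (fun u hu => ⟨⟨(hC hu.1).1, hu.2, hcl e he u hu.1⟩, (hC hu.1).2⟩)
      fun u hu v hv => hcl u hu.1 v hv.1
    have := Set.ncard_sdiff_singleton_add_one he (Set.toFinite C)
    omega
  · intro p hp q hq hpq
    obtain ⟨e, he, heq⟩ := hdiam p hp q hq hpq
    have hpS : p ∈ dperp D e := dperp_symm hp he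
    have hqS : q ∈ dperp D e := ⟨hq, fun h => hpq (h ▸ he.2.2), heq⟩
    obtain ⟨C, hC, hcl, hk⟩ := (hL e he.1).exist p hpS q hqS hpq
    have hne : e ∉ C := fun h => (hC h).1.2.1 rfl
    refine ⟨insert e C, ?_, ?_, by rw [Set.ncard_insert_of_notMem hne, hk]⟩
    · rintro u (rfl | hu)
      · exact ⟨he.1, he.2.2, heq.symm⟩
      · exact ⟨(hC hu).1.1, (hC hu).2⟩
    · rintro u (rfl | hu) v (rfl | hv)
      exacts [Commute.refl _, (hC hv).1.2.2, (hC hu).1.2.2.symm, hcl u hu v hv]

theorem PairWidth.commutingWidth_eq [Finite G] {D : Set G} {k : ℕ} (h : PairWidth D k)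
    (hD : IsThreeTranspositionGroup D) {a d : G} (ha : a ∈ D) (hd : d ∈ D) (hnc : ¬ Commute a d) :
    commutingWidth (D ∩ (Subgroup.centralizer ((Subgroup.zpowers (a * d) : Subgroup G) : Set G) : Set G))
      = k := by
  rw [inter_centralizer_eq hD ha hd hnc]
  refine IsGreatest.csSup_eq ⟨?_, ?_⟩
  · obtain ⟨C, hC, hcl, hk⟩ := h.exist a ha d hd hnc
    exact ⟨C, hC, Set.toFinite C, hcl, hk⟩
  · rintro n ⟨C, hC, -, hcl, rfl⟩
    exact h.le a ha d hd hnc C hC hcl

/-- A layer of type M(22): five. -/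
theorem pairWidth_five [Finite G] {S : Set G} (hP : Planes S) (hR : Rich S) : PairWidth S 5 := by
  constructor
  · intro p hp q hq hpq C hC hcl
    refine (Set.ncard_le_ncard (t := {u | u ∈ insert p C ∧ Commute q u}) (fun u hu =>
      ⟨Set.mem_insert_of_mem p hu, (hC hu).2.2⟩) (Set.toFinite _)).trans ?_
    refine hP.bound (insert p C) (Set.insert_subset hp fun u hu => (hC hu).1) ?_ q hq p
      (Set.mem_insert p C) fun h => hpq h.symm
    rintro u (rfl | hu) v (rfl | hv)
    exacts [Commute.refl _, (hC hv).2.1, (hC hu).2.1.symm, hcl u hu v hv]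
  · intro p hp q hq hpq
    obtain ⟨b, hb⟩ := hR p hp
    obtain ⟨r, hr, hrp, hrb, hrl⟩ := hP.ext p hp b hb
    have h5 := hP.five p hp b hb r hr hrp hrb hrl q hq
    obtain ⟨C, hC, hk⟩ := Set.exists_subset_card_eq h5
    refine ⟨C, fun u hu => ?_, fun u hu v hv => ?_, hk⟩
    · exact ⟨(hC hu).1.1, (commute_pl hp hb hr hrp hrb (hC hu).1).1, (hC hu).2⟩
    · obtain ⟨h1, h2, h3⟩ := commute_pl hp hb hr hrp hrb (hC hu).1
      exact (hC hv).1.2 u (hC hu).1.1 h1.symm h2.symm h3.symm

end Cfsg.Agent.ThreeTrans
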