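import Cfsg.Agent.ThreeTrans.PrimeLemmas

/-!
# Elements of order 11 and 7 in type M(22)
-/

set_option autoImplicit false

open Cfsg

universe u

namespace Cfsg.Agent.ThreeTrans

variable {G : Type u} [Group G] [Finite G] {D : Set G}

/-- What is used about type M(22) in this file. -/
structure PrimeData (D : Set G) : Prop where
  layer : M22Layer D
  card : Nat.card G = 3510 * 18393661440
  cen : ∀ a ∈ D, Nat.card ↥(Subgroup.centralizer ({a} : Set G)) = 18393661440
  pair : ∀ a ∈ D, ∀ b ∈ dperp D a,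
    Nat.card ↥(Subgroup.centralizer ({a} : Set G) ⊓ Subgroup.centralizer ({b} : Set G)) = 26542080
  moved : ∀ a ∈ D, ∀ c ∈ D, ¬ Commute a c →
    Nat.card ↥(Subgroup.centralizer ({a} : Set G) ⊓ Subgroup.centralizer ({c} : Set G)) = 6531840
  residue : ∀ d ∈ D, ∃ (F : Type) (_ : Field F) (_ : Fintype F), Fintype.card F = 4 ∧
    ∃ (χ : ↥(Subgroup.centralizer ({d} : Set G)) →* PSU 6 F 2) (E : Set (PSU 6 F 2)),
      Function.Surjective χ ∧ (∀ x, χ x = 1 ↔ ((x : G) = 1 ∨ (x : G) = d)) ∧
      IsThreeTranspositionGroup E ∧ E.Nonempty ∧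
      (∀ q ∈ E, ∃ u : ↥(Subgroup.centralizer ({d} : Set G)), (u : G) ∈ dperp D d ∧ χ u = q) ∧
      ∀ u : ↥(Subgroup.centralizer ({d} : Set G)), (u : G) ∈ dperp D d → χ u ∈ E

theorem primeData (hD : IsThreeTranspositionGroup D) (hcls : IsThreeTranspositionClass D)
    (h22 : IsOfTypeM22 G D) : PrimeData D := by
  classical
  have hF := m22Full hD h22
  have hL := m22Layer hD h22
  have hfix : ∀ {g y : G}, g ∈ Subgroup.centralizer ({y} : Set G) → g * y * g⁻¹ = y := fun hg => by
    rw [Subgroup.mem_centralizer_singleton_iff.1 hg, mul_inv_cancel_right]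
  refine ⟨hL, card_M22 hD hcls h22, fun a ha => (counts hD h22 a ha).2.2, ?_, ?_, ?_⟩
  · intro a ha b hb
    have h := card_eq_orbit_mul (Subgroup.centralizer ({a} : Set G)) b (dperp D a)
      (fun g hg => hfix hg ▸ dperp_conj hD.2.1 g hb)
      fun y hy => by
        obtain ⟨g, hg1, hg2⟩ := exists_conj_pair hD hcls hF ha hb ha hy
        exact ⟨g, Subgroup.mem_centralizer_singleton_iff.2 (mul_inv_eq_iff_eq_mul.1 hg1), hg2⟩
    rw [(counts hD h22 a ha).2.2, hL.card1 a ha] at h
    omega
  · intro a ha c hc hac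
    obtain ⟨hsol, hperf⟩ := sol_perf_of_simple (simple_M22 hD hcls h22) (perfect_M22 hD h22)
    have h := card_eq_orbit_mul (Subgroup.centralizer ({a} : Set G)) c {e | e ∈ D ∧ ¬ Commute a e}
      (fun g hg => ⟨hD.2.1 g c hc, fun e => hac ((commute_conj g a c).1 (by rwa [hfix hg]))⟩)
      fun y hy => by
        obtain ⟨g, hg1, hg2⟩ := exists_commute_conj_not_commute hsol hperf hcls ha hc hy.1 hac hy.2
        exact ⟨g, Subgroup.mem_centralizer_singleton_iff.2 hg1.eq, hg2⟩
    have hN : {e | e ∈ D ∧ ¬ Commute a e}.ncard = 2816 := by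
      have h2 := ncard_nonpartners (D := D) ha
      rw [hL.card1 a ha, hL.card] at h2
      omega
    rw [(counts hD h22 a ha).2.2, hN] at h
    omega
  · intro d hd
    have he : D \ {1} = D := Set.sdiff_singleton_eq_self fun h1 => ne_one hD.1 h1 rfl
    obtain ⟨F, hFld, hFt, hF4, hq⟩ := m22_quotient (D₀ := D) (by rwa [he]) h22
    obtain ⟨χ, hχ, hker⟩ := hq d (by rwa [he])
    refine ⟨F, hFld, hFt, hF4, χ, χ '' {u | (u : G) ∈ dperp D d}, hχ, hker, ⟨⟨?_, ?_⟩, ?_, ?_⟩, ?_,
      fun q hq => hq, fun u hu => ⟨u, hu, rfl⟩⟩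
    · rintro - ⟨u, hu, rfl⟩
      refine orderOf_eq_prime ?_ fun h => ?_
      · rw [← map_pow, show u ^ 2 = 1 from Subtype.ext (by
          rw [SubgroupClass.coe_pow, sq]; exact mul_self hD.1 hu.1), map_one]
      · rcases (hker u).1 h with h | h
        · exact ne_one hD.1 hu.1 h
        · exact hu.2.1 h
    · rintro - ⟨u, hu, rfl⟩ - ⟨v, hv, rfl⟩
      rcases hD.1.2 _ hu.1 _ hv.1 with h | h <;> [left; right] <;>
        rw [← map_mul, ← map_pow, show (u * v) ^ _ = 1 from Subtype.ext h, map_one]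
    · rintro q - ⟨u, hu, rfl⟩
      obtain ⟨g, rfl⟩ := hχ q
      refine ⟨g * u * g⁻¹, ?_, by simp⟩
      have h := dperp_conj hD.2.1 (g : G) hu
      rw [hfix g.2] at h
      exact h
    · have hgen : Subgroup.closure {u : ↥(Subgroup.centralizer ({d} : Set G)) | (u : G) ∈ dperp D d} = ⊤ := by
        refine Subgroup.map_injective (Subgroup.centralizer ({d} : Set G)).subtype_injective ?_
        rw [MonoidHom.map_closure, ← MonoidHom.range_eq_map, Subgroup.range_subtype]
        conv_rhs => rw [centralizer_eq_closure hD hF h22.1 hd]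
        congr 1
        apply Set.ext
        intro u
        constructor
        · rintro ⟨v, hv, rfl⟩; exact hv
        · exact fun hu => ⟨⟨u, Subgroup.mem_centralizer_singleton_iff.2 hu.2.2.symm.eq⟩, hu, rfl⟩
      rw [← MonoidHom.map_closure, hgen, Subgroup.map_top_of_surjective _ hχ]
    · obtain ⟨u, hu⟩ := Set.nonempty_of_ncard_ne_zero (s := dperp D d) (by rw [hL.card1 d hd]; norm_num)
      exact ⟨_, ⟨u, Subgroup.mem_centralizer_singleton_iff.2 hu.2.2.symm.eq⟩, hu, rfl⟩

/-- The members commuting with an element. -/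
abbrev fixSet (D : Set G) (x : G) : Set G := {u | u ∈ D ∧ Commute x u}

theorem fixSet_eq_inter (D : Set G) (x : G) :
    D ∩ (Subgroup.centralizer ({x} : Set G) : Set G) = fixSet D x := by
  ext u
  simp only [Set.mem_inter_iff, SetLike.mem_coe, Subgroup.mem_centralizer_singleton_iff, fixSet,
    Set.mem_setOf_eq, Commute, SemiconjBy, eq_comm]

theorem fixSet_conj (hc : ∀ g, ∀ u ∈ D, g * u * g⁻¹ ∈ D) {x g u : G} (hg : Commute g x)
    (hu : u ∈ fixSet D x) : g * u * g⁻¹ ∈ fixSet D x := by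
  refine ⟨hc g u hu.1, ?_⟩
  have h := (commute_conj g x u).2 hu.2
  rwa [hg.eq, mul_inv_cancel_right] at h

theorem orderOf_dvd_pair {x a b : G} (ha : Commute x a) (hb : Commute x b) :
    orderOf x ∣ Nat.card ↥(Subgroup.centralizer ({a} : Set G) ⊓ Subgroup.centralizer ({b} : Set G)) := by
  have h := orderOf_dvd_natCard (⟨x, Subgroup.mem_inf.2 ⟨Subgroup.mem_centralizer_singleton_iff.2 ha.eq,
    Subgroup.mem_centralizer_singleton_iff.2 hb.eq⟩⟩ :
      ↥(Subgroup.centralizer ({a} : Set G) ⊓ Subgroup.centralizer ({b} : Set G)))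
  rwa [← Subgroup.orderOf_coe] at h

/-- The part of the centraliser of `x` in the centraliser of a fixed member. -/
theorem card_cen_inf (hD : IsThreeTranspositionGroup D) (hP : PrimeData D) {x d : G} {p : ℕ}
    (hx : orderOf x = p) (hd : d ∈ D) (hxd : Commute x d)
    (hp : p = 11 ∨ p = 7 ∧ ∀ u ∈ dperp D d, ¬ Commute x u) :
    Nat.card ↥(Subgroup.centralizer ({x} : Set G) ⊓ Subgroup.centralizer ({d} : Set G)) = 2 * p := by
  classical
  have hodd : p % 2 = 1 := by rcases hp with rfl | ⟨rfl, -⟩ <;> norm_num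
  obtain ⟨F, hFld, hFt, hF4, χ, E, hχ, hker, hE, hne, hlift, -⟩ := hP.residue d hd
  obtain ⟨h11, h7⟩ := psu_centralizer_prime hF4 (MulEquiv.refl (PSU 6 F 2)) hE hne
  set C := Subgroup.centralizer ({x} : Set G) ⊓ Subgroup.centralizer ({d} : Set G)
  set xd : ↥(Subgroup.centralizer ({d} : Set G)) := ⟨x, Subgroup.mem_centralizer_singleton_iff.2 hxd.eq⟩
  have hxd2 : x ≠ d := fun h => by
    rw [h, hD.1.1 d hd] at hx; omega
  have hord : orderOf (χ xd) = p := by
    have hpp : p.Prime := by rcases hp with rfl | ⟨rfl, -⟩ <;> norm_num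
    have := Fact.mk hpp
    refine orderOf_eq_prime ?_ fun h => ?_
    · rw [← map_pow, show xd ^ p = 1 from Subtype.ext (by
        rw [SubgroupClass.coe_pow, ← hx]; exact pow_orderOf_eq_one x), map_one]
    · rcases (hker xd).1 h with h | h
      · rw [show x = 1 from h, orderOf_one] at hx; exact hpp.one_lt.ne hx
      · exact hxd2 h
  have hcen : Subgroup.centralizer ({χ xd} : Set (PSU 6 F 2)) = Subgroup.zpowers (χ xd) := by
    rcases hp with rfl | ⟨rfl, hfree⟩
    · exact h11 _ hord
    refine h7 _ hord fun q hq hcom => ?_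
    obtain ⟨u, hu, rfl⟩ := hlift q hq
    refine hfree _ hu ?_
    have h0 : χ (xd * u * xd⁻¹ * u⁻¹) = 1 := by
      rw [map_mul, map_mul, map_mul, map_inv, map_inv, hcom.eq]; group
    rcases (hker _).1 h0 with h | h
    · simp only [Subgroup.coe_mul, Subgroup.coe_inv, xd] at h
      exact mul_inv_eq_iff_eq_mul.1 (mul_inv_eq_one.1 h)
    · exfalso
      simp only [Subgroup.coe_mul, Subgroup.coe_inv, xd] at h
      have h1 : x * (u : G) * x⁻¹ = d * (u : G) := mul_inv_eq_iff_eq_mul.1 h
      have h2 : ∀ n : ℕ, x ^ n * (u : G) * (x ^ n)⁻¹ = d ^ n * (u : G) := by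
        intro n
        induction n with
        | zero => simp
        | succ n ih =>
          calc x ^ (n + 1) * (u : G) * (x ^ (n + 1))⁻¹ = x * (x ^ n * (u : G) * (x ^ n)⁻¹) * x⁻¹ := by
                rw [pow_succ']; group
            _ = x * d ^ n * x⁻¹ * (x * (u : G) * x⁻¹) := by rw [ih]; group
            _ = d ^ (n + 1) * (u : G) := by
              rw [h1, (hxd.pow_right n).eq, mul_inv_cancel_right, pow_succ]; group
      have h3 := h2 7
      rw [← hx, pow_orderOf_eq_one, hx] at h3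
      simp only [one_mul, inv_one, mul_one] at h3
      have h4 : d ^ 7 = 1 := right_eq_mul.1 h3
      rw [pow_succ, show 6 = 2 * 3 from rfl, pow_mul, sq, mul_self hD.1 hd, one_pow, one_mul] at h4
      exact ne_one hD.1 hd h4
  set φ : C →* PSU 6 F 2 := χ.comp (Subgroup.inclusion inf_le_right) with hφ
  have hrange : φ.range = Subgroup.zpowers (χ xd) := by
    refine le_antisymm ?_ (Subgroup.zpowers_le.2
      ⟨⟨x, Subgroup.mem_inf.2 ⟨Subgroup.mem_centralizer_singleton_iff.2 rfl,
        Subgroup.mem_centralizer_singleton_iff.2 hxd.eq⟩⟩, rfl⟩)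
    rintro - ⟨y, rfl⟩
    rw [← hcen, Subgroup.mem_centralizer_singleton_iff]
    show χ _ * χ xd = χ xd * χ _
    rw [← map_mul, ← map_mul]
    congr 1
    exact Subtype.ext (Subgroup.mem_centralizer_singleton_iff.1 (Subgroup.mem_inf.1 y.2).1)
  have hk : φ.ker.map C.subtype = Subgroup.zpowers d := by
    refine le_antisymm ?_ (Subgroup.zpowers_le.2 ?_)
    · rintro - ⟨y, hy, rfl⟩
      rcases (hker _).1 hy with h | h
      · rw [show C.subtype y = 1 from h]; exact one_mem _
      · rw [show C.subtype y = d from h]; exact Subgroup.mem_zpowers d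
    · exact ⟨⟨d, Subgroup.mem_inf.2 ⟨Subgroup.mem_centralizer_singleton_iff.2 hxd.symm.eq,
        Subgroup.mem_centralizer_singleton_iff.2 rfl⟩⟩, (hker _).2 (Or.inr rfl), rfl⟩
  rw [Subgroup.card_eq_card_quotient_mul_card_subgroup φ.ker,
    Nat.card_congr (QuotientGroup.quotientKerEquivRange φ).toEquiv, hrange, Nat.card_zpowers, hord,
    ← Subgroup.card_map_of_injective C.subtype_injective, hk, Nat.card_zpowers, hD.1.1 d hd, mul_comm]

variable (hD : IsThreeTranspositionGroup D) (hP : PrimeData D)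

include hD hP

/-- An element of order 11. -/
theorem eleven_M22 {x : G} (hx : orderOf x = 11) : ∃ d ∈ D, fixSet D x = {d} ∧
    Nat.card ↥(Subgroup.centralizer ({x} : Set G)) = 22 := by
  obtain ⟨d, hd, hxd⟩ := exists_fixed_of_pow (fun u hu => hD.2.1 x u hu) (by norm_num : (11).Prime)
    (hx ▸ pow_orderOf_eq_one x) (S := D) (by rw [hP.layer.card]; norm_num)
  have hF : fixSet D x = {d} := by
    refine Set.eq_singleton_iff_unique_mem.2 ⟨⟨hd, hxd⟩, fun u hu => ?_⟩
    by_contra hne
    have h := orderOf_dvd_pair hxd hu.2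
    rw [hx] at h
    by_cases hc : Commute d u
    · rw [hP.pair d hd u ⟨hu.1, hne, hc⟩] at h; norm_num at h
    · rw [hP.moved d hd u hu.1 hc] at h; norm_num at h
  refine ⟨d, hd, hF, ?_⟩
  rw [show (22 : ℕ) = 2 * 11 from rfl, ← card_cen_inf hD hP hx hd hxd (Or.inl rfl)]
  congr 1
  have hle : Subgroup.centralizer ({x} : Set G) ≤ Subgroup.centralizer ({d} : Set G) := by
    intro g hg
    have h := fixSet_conj hD.2.1 (show Commute g x from Subgroup.mem_centralizer_singleton_iff.1 hg)
      (⟨hd, hxd⟩ : d ∈ fixSet D x)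
    rw [hF, Set.mem_singleton_iff] at h
    exact Subgroup.mem_centralizer_singleton_iff.2 (mul_inv_eq_iff_eq_mul.1 h)
  rw [inf_eq_left.2 hle]

/-- At most 45 members commute pairwise nowhere. -/
theorem noncommuting_le (S : Set G) (hS : S ⊆ D) (hnc : ∀ u ∈ S, ∀ v ∈ S, u ≠ v → ¬ Commute u v) :
    S.ncard ≤ 45 := by
  classical
  have hL := hP.layer
  set T := (Set.toFinite (D \ S)).toFinset
  set Sf := (Set.toFinite S).toFinset
  have hn : Sf.card = S.ncard := (Set.ncard_eq_toFinset_card _).symm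
  have hcardT : T.card + S.ncard = 3510 := by
    rw [← Set.ncard_eq_toFinset_card, Set.ncard_sdiff_add_ncard_of_subset hS, hL.card]
  have hT : ∀ {u v}, u ∈ S → v ∈ dperp D u → v ∈ T := fun {u v} hu hv => by
    rw [Set.Finite.mem_toFinset]
    exact ⟨hv.1, fun h => hnc u hu v h hv.2.1.symm hv.2.2⟩
  set f : G → G → ℕ := fun u v => if Commute u v then 1 else 0
  have h1 : ∀ u ∈ Sf, ∀ w ∈ Sf, ∑ v ∈ T, f u v * f w v = if u = w then 693 else 126 := by
    intro u hu w hw
    rw [Set.Finite.mem_toFinset] at hu hw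
    have e : ∀ v, f u v * f w v = if Commute u v ∧ Commute w v then 1 else 0 := fun v => by
      simp only [f]; split_ifs <;> simp_all
    rw [Finset.sum_congr rfl fun v _ => e v, ← Finset.card_filter]
    split_ifs with huw
    · subst huw
      rw [← hL.card1 u (hS hu), Set.ncard_eq_toFinset_card _ (Set.toFinite _)]
      congr 1
      ext v
      simp only [Finset.mem_filter, Set.Finite.mem_toFinset]
      refine ⟨fun h => ?_, fun h => ⟨hT hu h, h.2.2, h.2.2⟩⟩
      have h' := (Set.Finite.mem_toFinset _).1 h.1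
      exact ⟨h'.1, fun e => h'.2 (e ▸ hu), h.2.1⟩
    · rw [← hL.common u (hS hu) w (hS hw) (hnc u hu w hw huw), Set.ncard_eq_toFinset_card _ (Set.toFinite _)]
      congr 1
      ext v
      simp only [Finset.mem_filter, Set.Finite.mem_toFinset, Set.mem_setOf_eq]
      refine ⟨fun h => ?_, fun h => ⟨hT hu h.1, h.1.2.2, h.2⟩⟩
      have h' := (Set.Finite.mem_toFinset _).1 h.1
      exact ⟨⟨h'.1, fun e => h'.2 (e ▸ hu), h.2.1⟩, h.2.2⟩
  have hm1 : ∑ v ∈ T, ∑ u ∈ Sf, f u v = S.ncard * 693 := by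
    rw [Finset.sum_comm, ← hn, ← smul_eq_mul, ← Finset.sum_const]
    refine Finset.sum_congr rfl fun u hu => ?_
    have := h1 u hu u hu
    rw [if_pos rfl] at this
    rw [← this]
    exact Finset.sum_congr rfl fun v _ => by simp only [f]; split_ifs <;> rfl
  have hm2 : ∑ v ∈ T, (∑ u ∈ Sf, f u v) ^ 2 + 126 * S.ncard =
      693 * S.ncard + 126 * S.ncard ^ 2 := by
    simp only [sq, Finset.sum_mul_sum]
    rw [Finset.sum_comm]
    simp only [Finset.sum_comm (s := T)]
    have : ∀ u ∈ Sf, (∑ w ∈ Sf, ∑ v ∈ T, f u v * f w v) + 126 = 693 + 126 * Sf.card := by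
      intro u hu
      rw [Finset.sum_congr rfl (h1 u hu), ← Finset.add_sum_erase _ _ hu, if_pos rfl,
        Finset.sum_congr rfl (fun w hw => if_neg (fun h => (Finset.ne_of_mem_erase hw) h.symm)),
        Finset.sum_const, smul_eq_mul, Finset.card_erase_of_mem hu]
      have : 1 ≤ Sf.card := Finset.card_pos.2 ⟨u, hu⟩
      omega
    have h2 := Finset.sum_congr rfl this
    rw [Finset.sum_add_distrib, Finset.sum_const, Finset.sum_const, smul_eq_mul, smul_eq_mul, hn] at h2
    rw [mul_comm 126 S.ncard, h2]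
    ring
  have hcs : (∑ v ∈ T, ∑ u ∈ Sf, f u v) ^ 2 ≤ T.card * ∑ v ∈ T, (∑ u ∈ Sf, f u v) ^ 2 :=
    sq_sum_le_card_mul_sum_sq
  rw [hm1] at hcs
  by_contra hlt
  push Not at hlt
  obtain ⟨j, hj⟩ : ∃ j, S.ncard = 46 + j := ⟨S.ncard - 46, by omega⟩
  rw [hj] at hcs hm2 hcardT
  nlinarith [hcs, hm2, hcardT]

/-- An element of order 7. -/
theorem seven_M22 {x : G} (hx : orderOf x = 7) : ∃ d ∈ D, ∃ c ∈ D, ¬ Commute d c ∧
    fixSet D x = {d, c, d * c * d} ∧ Nat.card ↥(Subgroup.centralizer ({x} : Set G)) = 42 ∧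
    Nat.card ↥(Subgroup.centralizer ({x} : Set G) ⊓ Subgroup.centralizer ({d} : Set G)) = 14 := by
  classical
  have hT := hD.1
  set S := fixSet D x
  have hnc : ∀ u ∈ S, ∀ v ∈ S, u ≠ v → ¬ Commute u v := fun u hu v hv hne hc => by
    have h := orderOf_dvd_pair hu.2 hv.2
    rw [hx, hP.pair u hu.1 v ⟨hv.1, hne.symm, hc⟩] at h
    norm_num at h
  have hmod : S.ncard % 7 = 3 := by
    rw [show S = {u | u ∈ D ∧ Commute x u} from rfl, ncard_fixed_modEq (fun u hu => hD.2.1 x u hu)
      (by norm_num : (7).Prime) (hx ▸ pow_orderOf_eq_one x), hP.layer.card]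
  have h45 := noncommuting_le hD hP S (fun u hu => hu.1) hnc
  obtain ⟨d, hd⟩ := Set.nonempty_of_ncard_ne_zero (s := S) (by omega)
  set K := Subgroup.centralizer ({x} : Set G) with hK
  have hmem : ∀ {u}, u ∈ S → u ∈ K := fun hu => Subgroup.mem_centralizer_singleton_iff.2 hu.2.symm.eq
  have hdcd : ∀ {u v}, u ∈ S → v ∈ S → u * v * u ∈ S := fun {u v} hu hv => by
    have := fixSet_conj hD.2.1 hu.2.symm hv
    rwa [inv_eq hT hu.1] at this
  have h14 : ∀ u ∈ S, Nat.card ↥(K ⊓ Subgroup.centralizer ({u} : Set G)) = 14 := fun u hu =>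
    card_cen_inf hD hP hx hu.1 hu.2 (Or.inr ⟨rfl, fun v hv hxv => hnc u hu v ⟨hv.1, hxv⟩ hv.2.1.symm hv.2.2⟩)
  have htrans : ∀ u ∈ S, ∃ g ∈ K, g * d * g⁻¹ = u := by
    intro u hu
    rcases eq_or_ne u d with rfl | hne
    · exact ⟨1, one_mem _, by simp⟩
    · refine ⟨d * u * d, mul_mem (mul_mem (hmem hd) (hmem hu)) (hmem hd), ?_⟩
      have hb := braid hT hu.1 hd.1 (hnc u hu d hd hne)
      rw [inv_eq hT (hdcd hd hu).1]
      calc d * u * d * d * (d * u * d) = d * (u * (d * d) * (d * u * d)) := by simp only [mul_assoc]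
        _ = d * (u * (u * d * u)) := by rw [mul_self hT hd.1, mul_one, hb]
        _ = u := by
          simp only [mul_assoc, mul_self_mul hT hu.1]
          rw [mul_self_mul hT hd.1]
  have hcardK : Nat.card K = S.ncard * 14 := by
    rw [card_eq_orbit_mul K d S
      (fun g hg => fixSet_conj hD.2.1 (show Commute g x from Subgroup.mem_centralizer_singleton_iff.1 hg) hd)
      htrans, h14 d hd]
  -- an odd number of fixed members
  have hodd : S.ncard % 2 = 1 := by
    have h := ncard_fixed_modEq (S := S) (x := d) (fun u hu => fixSet_conj hD.2.1 hd.2.symm hu)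
      (p := 2) Nat.prime_two (by rw [sq]; exact mul_self hT hd.1)
    rw [← h, show {u | u ∈ S ∧ Commute d u} = {d} from Set.eq_singleton_iff_unique_mem.2
      ⟨⟨hd, Commute.refl d⟩, fun u hu => by
        by_contra hne
        exact hnc d hd u hu.1 (fun e => hne e.symm) hu.2⟩, Set.ncard_singleton]
  have hdvd : S.ncard * 14 ∣ 3510 * 18393661440 := hcardK ▸ hP.card ▸ K.card_subgroup_dvd_card
  have hcases : S.ncard = 3 ∨ S.ncard = 45 := by
    have h : S.ncard = 3 ∨ S.ncard = 17 ∨ S.ncard = 31 ∨ S.ncard = 45 := by omega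
    rcases h with h | h | h | h
    · exact Or.inl h
    · rw [h] at hdvd; norm_num at hdvd
    · rw [h] at hdvd; norm_num at hdvd
    · exact Or.inr h
  have h3 : S.ncard = 3 := by
    refine hcases.resolve_right fun h => ?_
    rw [h] at hcardK
    -- a Sylow 5-subgroup is normalised by one of the members
    have := Fact.mk Nat.prime_two
    have : Fact (Nat.Prime 5) := ⟨by norm_num⟩
    set P2 : Sylow 2 K := default
    have hfac : ∀ p k, p.Prime → p ^ k ∣ 630 → ¬ p ^ (k + 1) ∣ 630 → (Nat.card K).factorization p = k := by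
      intro p k hp h1 h2
      rw [hcardK]
      have e1 := (hp.pow_dvd_iff_le_factorization (k := k) (by norm_num : (630 : ℕ) ≠ 0)).1 h1
      have e2 := mt (hp.pow_dvd_iff_le_factorization (k := k + 1) (by norm_num : (630 : ℕ) ≠ 0)).2 h2
      show Nat.factorization 630 p = k
      omega
    have hP2 : Nat.card P2 = 2 := by
      rw [P2.card_eq_multiplicity, hfac 2 1 Nat.prime_two (by norm_num) (by norm_num), pow_one]
    have hcyc : IsCyclic P2 := isCyclic_of_prime_card hP2
    have hmin : (Nat.card K).minFac = 2 := by rw [hcardK]; norm_num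
    have hcomp := IsCyclic.isComplement' hmin hcyc
    set M := (MonoidHom.transferSylow P2 (hcyc.normalizer_le_centralizer hmin)).ker
    have hMc : Nat.card M = 315 := by
      have := hcomp.card_mul
      rw [hP2, hcardK] at this
      omega
    set Q : Sylow 5 K := default
    have hQ5 : Nat.card Q = 5 := by
      rw [Q.card_eq_multiplicity, hfac 5 1 (by norm_num) (by norm_num) (by norm_num), pow_one]
    have hQM : (Q : Subgroup K) ≤ M := by
      intro q hq
      have h5 : orderOf q ∣ 5 := by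
        have := orderOf_dvd_natCard (⟨q, hq⟩ : (Q : Subgroup K))
        rwa [show Nat.card (Q : Subgroup K) = 5 from hQ5, ← Subgroup.orderOf_coe] at this
      have hidx : M.index = 2 := by
        have := M.card_mul_index; rw [hMc, hcardK] at this; omega
      have h2 : orderOf (q : K ⧸ M) ∣ 2 := by
        have := orderOf_dvd_natCard (q : K ⧸ M)
        rwa [← Subgroup.index_eq_card, hidx] at this
      have h5' : orderOf (q : K ⧸ M) ∣ 5 := (orderOf_map_dvd (QuotientGroup.mk' M) q).trans h5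
      have := Nat.dvd_gcd h2 h5'
      rw [show Nat.gcd 2 5 = 1 from rfl, Nat.dvd_one, orderOf_eq_one_iff] at this
      exact (QuotientGroup.eq_one_iff q).1 this
    have hNM := Q.normalizer_sup_eq_top' hQM
    have h2N : 2 ∣ Nat.card ↥(Subgroup.normalizer ((Q : Subgroup K) : Set K)) := by
      have h1 := Subgroup.relIndex_sup_right (H := Subgroup.normalizer ((Q : Subgroup K) : Set K)) (K := M)
      rw [show Subgroup.normalizer ((Q : Subgroup K) : Set K) ⊔ M = ⊤ from hNM, Subgroup.relIndex_top_right] at h1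
      have hidx : M.index = 2 := by
        have := M.card_mul_index; rw [hMc, hcardK] at this; omega
      rw [hidx] at h1
      rw [h1]
      exact Subgroup.relIndex_dvd_card _ _
    obtain ⟨τ, hτ⟩ := exists_prime_orderOf_dvd_card' 2 h2N
    -- the involution is one of the members
    have hτ' : orderOf (τ : K) = 2 := by rw [Subgroup.orderOf_coe, hτ]
    obtain ⟨P', hP'⟩ := (IsPGroup.of_card (p := 2) (n := 1)
      (show Nat.card (Subgroup.zpowers (τ : K)) = 2 ^ 1 by rw [Nat.card_zpowers, hτ', pow_one])).exists_le_sylow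
    set dK : K := ⟨d, hmem hd⟩
    have hdK : orderOf dK = 2 := by rw [← Subgroup.orderOf_coe]; exact hT.1 d hd.1
    obtain ⟨P'', hP''⟩ := (IsPGroup.of_card (p := 2) (n := 1)
      (show Nat.card (Subgroup.zpowers dK) = 2 ^ 1 by rw [Nat.card_zpowers, hdK, pow_one])).exists_le_sylow
    obtain ⟨g, hg⟩ := MulAction.exists_smul_eq K P'' P'
    have hτmem : (τ : K) ∈ P' := hP' (Subgroup.mem_zpowers _)
    have hτmem' : g⁻¹ * (τ : K) * g ∈ P'' := by
      rw [← hg] at hτmem
      obtain ⟨u, hu, hu'⟩ := hτmem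
      change g * u * g⁻¹ = (τ : K) at hu'
      rw [← hu', show g⁻¹ * (g * u * g⁻¹) * g = u by group]
      exact hu
    have hP''e : (P'' : Subgroup K) = Subgroup.zpowers dK := by
      refine (Subgroup.eq_of_le_of_card_ge hP'' ?_).symm
      rw [P''.card_eq_multiplicity, hfac 2 1 Nat.prime_two (by norm_num) (by norm_num), Nat.card_zpowers, hdK]
      norm_num
    have hτd : g⁻¹ * (τ : K) * g = dK := by
      have h1 : g⁻¹ * (τ : K) * g ∈ Subgroup.zpowers dK := hP''e ▸ hτmem'
      obtain ⟨m, hm⟩ := Subgroup.mem_zpowers_iff.1 h1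
      have h2 : g⁻¹ * (τ : K) * g ≠ 1 := fun h => by
        have : (τ : K) = 1 := by
          calc (τ : K) = g * (g⁻¹ * τ * g) * g⁻¹ := by group
            _ = 1 := by rw [h]; group
        rw [this, orderOf_one] at hτ'; omega
      rw [← zpow_mod_orderOf, hdK] at hm
      rcases Int.emod_two_eq_zero_or_one m with e | e <;> norm_num [e] at hm
      · exact absurd hm.symm h2
      · exact hm.symm
    set e := ((τ : K) : G)
    have heS : e ∈ S := by
      have : e = (g : G) * d * (g : G)⁻¹ := by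
        rw [show e = ((g * (g⁻¹ * (τ : K) * g) * g⁻¹ : K) : G) by simp [e, mul_assoc], hτd]
        rfl
      rw [this]
      exact fixSet_conj hD.2.1 (show Commute (g : G) x from Subgroup.mem_centralizer_singleton_iff.1 g.2) hd
    -- which commutes with that subgroup
    obtain ⟨q, hq, hq5⟩ : ∃ q ∈ (Q : Subgroup K), orderOf q = 5 := by
      obtain ⟨q, hq⟩ := exists_prime_orderOf_dvd_card' (G := (Q : Subgroup K)) 5 (by rw [hQ5])
      exact ⟨q, q.2, by rw [Subgroup.orderOf_coe, hq]⟩
    set w := (τ : K) * q * (τ : K)⁻¹ * q⁻¹ with hw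
    have hwQ : w ∈ (Q : Subgroup K) := mul_mem ((Subgroup.mem_normalizer_iff.1 τ.2 q).1 hq) (inv_mem hq)
    have hc1 : (q : G) * e * (q : G)⁻¹ ∈ D := hD.2.1 _ _ heS.1
    have hwG : (w : G) = e * ((q : G) * e * (q : G)⁻¹) := by
      rw [hw]; simp only [Subgroup.coe_mul, Subgroup.coe_inv, e, inv_eq hT heS.1, mul_assoc]
    have hw1 : w = 1 := by
      have h5 : orderOf w ∣ 5 := by
        have := orderOf_dvd_natCard (⟨w, hwQ⟩ : (Q : Subgroup K))
        rwa [show Nat.card (Q : Subgroup K) = 5 from hQ5, ← Subgroup.orderOf_coe] at this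
      have h6 : orderOf w ∣ 6 := by
        rw [← Subgroup.orderOf_coe, hwG]
        rcases hT.2 _ heS.1 _ hc1 with hh | hh
        · exact (orderOf_dvd_of_pow_eq_one hh).trans (by norm_num)
        · exact (orderOf_dvd_of_pow_eq_one hh).trans (by norm_num)
      have := Nat.dvd_gcd h5 h6
      rw [show Nat.gcd 5 6 = 1 from rfl, Nat.dvd_one, orderOf_eq_one_iff] at this
      exact this
    have hcomm : (q : G) ∈ K ⊓ Subgroup.centralizer ({e} : Set G) := by
      refine Subgroup.mem_inf.2 ⟨q.2, Subgroup.mem_centralizer_singleton_iff.2 ?_⟩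
      have h1 := congrArg Subtype.val (mul_inv_eq_iff_eq_mul.1 (mul_inv_eq_one.1 hw1))
      exact h1.symm
    have := orderOf_dvd_natCard (⟨(q : G), hcomm⟩ : ↥(K ⊓ Subgroup.centralizer ({e} : Set G)))
    rw [Subgroup.orderOf_mk, Subgroup.orderOf_coe, hq5, h14 e heS] at this
    norm_num at this
  -- the three members
  obtain ⟨c, hc, hne⟩ := Set.exists_ne_of_one_lt_ncard (s := S) (by omega) d
  have hdc := hnc d hd c hc (fun e => hne e.symm)
  refine ⟨d, hd.1, c, hc.1, hdc, (Set.eq_of_subset_of_ncard_le ?_ ?_ (Set.toFinite _)).symm,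
    by rw [hcardK, h3], h14 d hd⟩
  · rintro u (rfl | rfl | rfl)
    exacts [hd, hc, hdcd hd hc]
  · have h1 : d * c * d ≠ d := fun h => by
      apply hdc
      have h' := mul_eq_right.1 h
      rw [mul_eq_one_iff_eq_inv, inv_eq hT hc.1] at h'
      rw [h']
    have h2 : d * c * d ≠ c := fun h => by
      apply hdc
      calc d * c = d * c * (d * d) := by rw [mul_self hT hd.1, mul_one]
        _ = c * d := by rw [← mul_assoc, h]
    rw [h3, Set.ncard_insert_of_notMem (by simp [hne.symm, Ne.symm h1]) (Set.toFinite _),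
      Set.ncard_pair (Ne.symm h2)]

end Cfsg.Agent.ThreeTrans
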