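import Cfsg.Agent.ThreeTrans.SimpleM22
import Cfsg.Agent.ThreeTrans.CountD
import Mathlib.GroupTheory.Perm.Cycle.Type

/-!
# Involutions in type M(22)

Every involution fixes a member (an odd permutation cannot come from a perfect group), and the
involutions of the centraliser of a member are read off from the unitary model.
-/

set_option autoImplicit false

open Cfsg Cfsg.Agent.Classical Cfsg.Agent.Classical.Herm Module

namespace Cfsg.Agent.ThreeTrans

/-- In a perfect group an involution has a fixed member in a set of size twice an odd number. -/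
theorem exists_commute_of_perfect {G : Type*} [Group G] [Finite G] {D : Set G}
    (hc : ∀ g, ∀ x ∈ D, g * x * g⁻¹ ∈ D) (hp : commutator G = ⊤) (hn : D.ncard % 4 = 2) {t : G}
    (ht : t * t = 1) : ∃ x ∈ D, Commute t x := by
  classical
  by_contra hcon
  push Not at hcon
  have : Fintype D := (Set.toFinite D).fintype
  let ρ : G →* Equiv.Perm D :=
    { toFun := fun g =>
        { toFun := fun x => ⟨g * x * g⁻¹, hc g x x.2⟩
          invFun := fun x => ⟨g⁻¹ * x * g⁻¹⁻¹, hc g⁻¹ x x.2⟩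
          left_inv := fun x => Subtype.ext (by group)
          right_inv := fun x => Subtype.ext (by group) }
      map_one' := Equiv.ext fun x => Subtype.ext (by simp)
      map_mul' := fun g h => Equiv.ext fun x => Subtype.ext (by
        simp only [Equiv.coe_fn_mk, Equiv.Perm.mul_apply, mul_inv_rev, mul_assoc]) }
  have hsign : Equiv.Perm.sign (ρ t) = 1 := by
    have hle : commutator G ≤ (Equiv.Perm.sign.comp ρ).ker := Abelianization.commutator_subset_ker _
    rw [hp] at hle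
    exact MonoidHom.mem_ker.1 (hle (Subgroup.mem_top t))
  have hfix : Fintype.card (Function.fixedPoints (ρ t)) = 0 := Fintype.card_eq_zero_iff.2
    ⟨fun x => hcon x.1 x.1.2 (mul_inv_eq_iff_eq_mul.1 (congrArg Subtype.val x.2))⟩
  rw [Equiv.Perm.sign_of_pow_two_eq_one (by rw [sq, ← map_mul, ht, map_one]), hfix, Nat.sub_zero,
    ← Nat.card_eq_fintype_card, Nat.card_coe_set_eq,
    (show Odd (D.ncard / 2) from Nat.odd_iff.2 (by omega)).neg_one_pow] at hsign
  exact absurd hsign (by decide)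

namespace UModel

variable {F V : Type*} [Field F] [AddCommGroup V] [Module F V] {θ : F →+* F}
  {B : V →ₛₗ[θ] V →ₗ[F] F} (hB : Space B)

include hB

/-- An involution is a product of at most three commuting independent transvections. -/
theorem involution_eq {g : suG B} (hg : g * g = 1) :
    g = 1 ∨ (∃ a : Pt B, g = tr hB a) ∨
    (∃ a b : Pt B, B a.1 b.1 = 0 ∧ (∀ k : F, b.1 ≠ k • a.1) ∧ g = tr hB a * tr hB b) ∨
    ∃ a b c : Pt B, B a.1 b.1 = 0 ∧ B a.1 c.1 = 0 ∧ B b.1 c.1 = 0 ∧ (∀ k : F, b.1 ≠ k • a.1) ∧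
      (∀ α β : F, c.1 ≠ α • a.1 + β • b.1) ∧ g = tr hB a * tr hB b * tr hB c := by
  have := hB.fin; have := hB.finF
  have hgg : ∀ x, g.1 (g.1 x) = x := fun x => congrArg (fun g : suG B => g.1 x) hg
  set N : V →ₗ[F] V := (g.1 : V →ₗ[F] V) + LinearMap.id with hN
  have hNa : ∀ x, N x = g.1 x + x := fun x => rfl
  have hN1 : ∀ x y, B (N x) y = B x (N y) := fun x y => by
    simp only [hNa, map_add, LinearMap.add_apply]
    congr 1
    conv_lhs => rw [← hgg y, g.2.1]
  have hN2 : ∀ x, N (N x) = 0 := fun x => by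
    simp only [hNa, map_add, hgg]
    rw [add_comm x, vadd_self hB]
  obtain ⟨k, s, f, hfull, hz⟩ := UInv.exists_full hB.herm hN1 hN2
  have hgx : ∀ x, g.1 x = x + ∑ i, B (f.w i) x • f.w i := fun x => by
    have h1 : N x = ∑ i, B (f.w i) x • f.w i := by
      conv_lhs => rw [← hfull x, f.comb_apply]
      simp [map_sum, f.Nu, f.Nw, hz, UInv.HFr.coord]
    rw [← h1, hNa, add_comm (g.1 x) x, ← add_assoc, vadd_self hB, zero_add]
  have hw0 : ∀ i, f.w i ≠ 0 := fun i h => by
    have := f.uw i i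
    rw [h, if_pos rfl] at this
    simp at this
  have hb := f.bound
  rw [hB.rank] at hb
  rcases k with _ | _ | _ | _ | k
  · exact Or.inl (ext_suG hB fun x => by rw [hgx]; simp)
  · refine Or.inr (Or.inl ⟨⟨f.w 0, hw0 0, f.ww 0 0⟩, ext_suG hB fun x => ?_⟩)
    rw [hgx, tr_apply]; simp
  · refine Or.inr (Or.inr (Or.inl ⟨⟨f.w 0, hw0 0, f.ww 0 0⟩, ⟨f.w 1, hw0 1, f.ww 1 1⟩, f.ww 0 1,
      fun m hm => ?_, ext_suG hB fun x => ?_⟩))
    · have := congrArg (B (f.u 1)) hm
      simp [f.uw] at this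
    · show g.1 x = (tr hB _).1 ((tr hB _).1 x)
      rw [hgx, tr_apply, tr_apply]
      simp [Fin.sum_univ_two, f.ww]
      abel
  · refine Or.inr (Or.inr (Or.inr ⟨⟨f.w 0, hw0 0, f.ww 0 0⟩, ⟨f.w 1, hw0 1, f.ww 1 1⟩,
      ⟨f.w 2, hw0 2, f.ww 2 2⟩, f.ww 0 1, f.ww 0 2, f.ww 1 2, fun m hm => ?_, fun α β hm => ?_,
      ext_suG hB fun x => ?_⟩))
    · have := congrArg (B (f.u 1)) hm
      simp [f.uw] at this
    · have := congrArg (B (f.u 2)) hm
      simp [f.uw] at this
    · show g.1 x = (tr hB _).1 ((tr hB _).1 ((tr hB _).1 x))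
      rw [hgx, tr_apply, tr_apply, tr_apply]
      simp [Fin.sum_univ_three, f.ww]
      abel
  · omega

end UModel

/-- In a group isomorphic to PSU(6, 2) a class of 3-transpositions is the image of the transvections,
and the cube of a lift of an involution is an involution. -/
theorem psu_hom_lift {F : Type*} [Field F] [Fintype F] (hF : Fintype.card F = 4) {X : Type*} [Group X]
    (e : X ≃* Cfsg.PSU 6 F 2) {E : Set X} (hE : IsThreeTranspositionGroup E) (hne : E.Nonempty) :
    ∃ (θ : F →+* F) (hB : UModel.Space (hermB 6 θ)) (π : suG (hermB 6 θ) →* X),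
      Function.Surjective π ∧ (∀ g, π (g * g) = 1 → g ^ 3 * g ^ 3 = 1) ∧
      UModel.Model (hermB 6 θ) E (fun v => π (UModel.tr hB v)) := by
  obtain ⟨θ, hθq, hθ, hfix, -⟩ := exists_powHom (F := F) (q := 2) (by rw [hF]; norm_num)
  have hB : UModel.Space (hermB 6 θ) := by
    refine ⟨hermB_isHerm hθ 6, inferInstance, inferInstance, by rw [Module.finrank_fin_fun], ?_⟩
    intro a ha
    rw [hθq] at ha
    have : a * (a - 1) = 0 := by linear_combination ha
    rcases mul_eq_zero.1 this with h | h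
    · exact Or.inl h
    · exact Or.inr (sub_eq_zero.1 h)
  have hmap : (Subgroup.center (Cfsg.SU 6 F 2)).map (suEquiv 6 hθq).toMonoidHom
      = Subgroup.center (suG (hermB 6 θ)) := by
    ext x
    simp only [Subgroup.mem_map, Subgroup.mem_center_iff]
    constructor
    · rintro ⟨y, hy, rfl⟩ g
      obtain ⟨g', rfl⟩ := (suEquiv 6 hθq).surjective g
      simp only [MulEquiv.coe_toMonoidHom, ← map_mul, hy g']
    · intro hx
      refine ⟨(suEquiv 6 hθq).symm x, fun g => (suEquiv 6 hθq).injective ?_, by simp⟩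
      simp [hx]
  have h3 : Nat.card (Subgroup.center (suG (hermB 6 θ))) = 3 := by
    rw [← hmap, Subgroup.card_map_of_injective (f := (suEquiv 6 hθq).toMonoidHom) (suEquiv 6 hθq).injective,
      card_center_SU hθ hθq hfix (by norm_num)]
    norm_num
  have hpow : ∀ z ∈ Subgroup.center (suG (hermB 6 θ)), z ^ 3 = 1 := fun z hz => by
    have h1 : (⟨z, hz⟩ : Subgroup.center (suG (hermB 6 θ))) ^ 3 = 1 := by
      rw [← h3]; exact pow_card_eq_one'
    exact congrArg Subtype.val h1
  set ε := (QuotientGroup.congr _ _ (suEquiv 6 hθq) hmap).symm.trans e.symm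
  obtain ⟨π, h1, h2, -, hM⟩ := UModel.exists_model hB hpow ε hE hne
  have := hB.fin
  have : Finite (suG (hermB 6 θ)) := Finite.of_equiv _ (suEquiv 6 hθq).toEquiv
  have hk : π.ker = Subgroup.center (suG (hermB 6 θ)) := by
    refine (Subgroup.eq_of_le_of_card_ge (fun z hz => h2 z hz) (le_of_eq ?_)).symm
    have e1 := Subgroup.card_eq_card_quotient_mul_card_subgroup π.ker
    have e2 := Subgroup.card_eq_card_quotient_mul_card_subgroup (Subgroup.center (suG (hermB 6 θ)))
    rw [Nat.card_congr (QuotientGroup.quotientKerEquivOfSurjective π h1).toEquiv] at e1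
    rw [Nat.card_congr ε.toEquiv, e1] at e2
    exact Nat.eq_of_mul_eq_mul_left (Nat.card_pos_iff.2 ⟨⟨1⟩, Finite.of_surjective π h1⟩) e2
  refine ⟨θ, hB, π, h1, fun g hg => ?_, hM⟩
  rw [← pow_add, show 3 + 3 = 2 * 3 from rfl, pow_mul, sq]
  exact hpow _ (hk ▸ MonoidHom.mem_ker.2 hg)

theorem isOfTypeM22_diff {X : Type*} [Group X] [Finite X] {D₀ : Set X} (h : IsOfTypeM22 X D₀) :
    IsOfTypeM22 X (D₀ \ {1}) := by
  obtain ⟨hZ, d, hd, c, hc, hdc, hq, c₃, hc₃, hR⟩ := h
  have k1 : ∀ H K : Subgroup X, H = K → (∃ (F : Type) (_ : Field F) (_ : Fintype F),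
      Fintype.card F = 4 ∧ Nonempty (H ⧸ Subgroup.center H ≃* PSU 6 F 2)) →
      ∃ (F : Type) (_ : Field F) (_ : Fintype F),
        Fintype.card F = 4 ∧ Nonempty (K ⧸ Subgroup.center K ≃* PSU 6 F 2) := by
    rintro H K rfl h; exact h
  have k2 : ∀ H K : Subgroup X, H = K →
      IsProjReflectionGroupModThree (H ⧸ Subgroup.center H) 6 1 c₃ →
      IsProjReflectionGroupModThree (K ⧸ Subgroup.center K) 6 1 c₃ := by
    rintro H K rfl h; exact h
  exact ⟨hZ, d, ⟨hd, fun hh => hdc (by rw [hh]; exact Commute.one_left c)⟩, c,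
    ⟨hc, fun hh => hdc (by rw [hh]; exact Commute.one_right d)⟩, hdc,
    k1 _ _ (closure_congr_one (dperp_diff_iff d)) hq, c₃, hc₃,
    k2 _ _ (closure_congr_one (inter_dperp_diff_iff d c)) hR⟩

variable {G : Type*} [Group G] [Finite G] {D : Set G}

theorem factor_one {t : G} (ht : t ∈ D) : Factor D 1 t [t] :=
  ⟨by simp, rfl, fun x hx => by simp at hx; rwa [hx],
    fun x hx y hy => by simp at hx hy; rw [hx, hy], by simp⟩

theorem factor_two {a b : G} (ha : a ∈ D) (hb : b ∈ dperp D a) : Factor D 2 (a * b) [a, b] := by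
  refine ⟨by simpa using hb.2.1.symm, rfl, fun x hx => ?_, fun x hx y hy => ?_, by simp⟩
  · simp at hx; rcases hx with rfl | rfl
    exacts [ha, hb.1]
  · simp at hx hy
    rcases hx with rfl | rfl <;> rcases hy with rfl | rfl
    exacts [Commute.refl _, hb.2.2, hb.2.2.symm, Commute.refl _]

theorem factor_three {a b c : G} (ha : a ∈ D) (hb : b ∈ dperp D a) (hc : c ∈ dperp (dperp D a) b) :
    Factor D 3 (a * b * c) [a, b, c] := by
  refine ⟨by simp [hb.2.1.symm, hc.1.2.1.symm, hc.2.1.symm], rfl, fun x hx => ?_, fun x hx y hy => ?_,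
    by simp [mul_assoc]⟩
  · simp at hx; rcases hx with rfl | rfl | rfl
    exacts [ha, hb.1, hc.1.1]
  · simp at hx hy
    rcases hx with rfl | rfl | rfl <;> rcases hy with rfl | rfl | rfl
    exacts [Commute.refl _, hb.2.2, hc.1.2.2, hb.2.2.symm, Commute.refl _, hc.2.2, hc.1.2.2.symm,
      hc.2.2.symm, Commute.refl _]

theorem Factor.conj (hc : ∀ g, ∀ x ∈ D, g * x * g⁻¹ ∈ D) {n : ℕ} {t : G} {l : List G}
    (h : Factor D n t l) (g : G) : Factor D n (g * t * g⁻¹) (l.map (fun x => g * x * g⁻¹)) := by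
  obtain ⟨k1, k2, k3, k4, k5⟩ := h
  refine ⟨k1.map (fun x y e => mul_left_cancel (mul_right_cancel e)), by simp [k2], fun x hx => ?_,
    fun x hx y hy => ?_, ?_⟩
  · obtain ⟨z, hz, rfl⟩ := List.mem_map.1 hx
    exact hc g z (k3 z hz)
  · obtain ⟨z, hz, rfl⟩ := List.mem_map.1 hx
    obtain ⟨w, hw, rfl⟩ := List.mem_map.1 hy
    exact (commute_conj g z w).2 (k4 z hz w hw)
  · rw [show (fun x => g * x * g⁻¹) = MulAut.conj g from rfl, List.prod_hom l (MulAut.conj g), k5]
    rfl

section M22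

variable (hD : IsThreeTranspositionGroup D) (h22 : IsOfTypeM22 G D)

include hD h22

/-- Type M(22) is perfect. -/
theorem perfect_M22 : commutator G = ⊤ := by
  rw [eq_top_iff, ← hD.2.2, Subgroup.closure_le]
  intro d hd
  have hmem : d ∈ Subgroup.centralizer ({d} : Set G) := Subgroup.mem_centralizer_singleton_iff.2 rfl
  rw [← centralizer_perfect_M22 hD h22 hd] at hmem
  exact Subgroup.commutator_mono le_top le_top hmem

/-- The involutions commuting with the base member. -/
theorem involution_base : ∃ d ∈ D, ∀ t : G, Commute t d → t * t = 1 → t ≠ 1 →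
    ∃ n, 1 ≤ n ∧ n ≤ 3 ∧ ∃ l, Factor D n t l := by
  have hT := hD.1
  have hF := m22Full hD h22
  have hZ := h22.1
  have he : D \ {1} = D := Set.sdiff_singleton_eq_self fun h1 => ne_one hT h1 rfl
  obtain ⟨⟨hcls, -, hN⟩, -, -⟩ := layerData_of_M22 (by rwa [he]) h22
  rw [he] at hcls hN
  obtain ⟨-, d, hd, c, -, -, ⟨F, hFld, hFt, hF4, ⟨e⟩⟩, -⟩ := id h22
  refine ⟨d, hd, fun t htd ht2 ht1 => ?_⟩
  set H := Subgroup.closure {y : G | y ∈ D ∧ y ≠ d ∧ Commute d y}
  have hH : H = Subgroup.closure (dperp D d) := rfl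
  have hcard : 2 ^ 15 ∣ Nat.card (H ⧸ Subgroup.center H) := by
    rw [Nat.card_congr e.toEquiv]
    exact two_pow_dvd_psu hF4
  have : IsSimpleGroup (H ⧸ Subgroup.center H) :=
    (MulEquiv.isSimpleGroup_congr e).2 (Cfsg.Agent.S0283.result
      (by rw [hF4]; norm_num : Fintype.card F = 2 ^ 2) 6 (by norm_num) (by norm_num))
  have hgrp := lowImage_group hD hH
  have hG := good_of_simple (not_isMulCommutative_of_two_pow_dvd hgrp hcard) hgrp
  obtain ⟨q, hq, -⟩ := hG.2.1
  obtain ⟨θ, hB, π, hsurj, hcube, hM⟩ := psu_hom_lift hF4 e hgrp ⟨q, hq⟩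
  have hcen : Subgroup.centralizer ({d} : Set G) = H := centralizer_eq_closure hD hF hZ hd
  set u : H := ⟨t, hcen ▸ Subgroup.mem_centralizer_singleton_iff.2 htd.eq⟩
  have hu2 : u * u = 1 := Subtype.ext ht2
  obtain ⟨g₀, hg₀⟩ := hsurj (u : H ⧸ Subgroup.center H)
  have hu2' : π g₀ * π g₀ = 1 := by rw [hg₀, ← QuotientGroup.mk_mul, hu2, QuotientGroup.mk_one]
  set g := g₀ ^ 3 with hgdef
  have hgu : π g = (u : H ⧸ Subgroup.center H) := by
    rw [map_pow, pow_succ, sq, hu2', one_mul, hg₀]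
  have hlift : ∀ v : UModel.Pt (hermB 6 θ), ∃ x : H, (x : G) ∈ dperp D d ∧
      (x : H ⧸ Subgroup.center H) = π (UModel.tr hB v) := fun v => by
    obtain ⟨⟨x, hx, hxe⟩, -⟩ := UModel.tp_mem hM v
    exact ⟨x, hx, hxe⟩
  have hcomm : ∀ {v w : UModel.Pt (hermB 6 θ)} {x y : H}, (x : G) ∈ dperp D d → (y : G) ∈ dperp D d →
      (x : H ⧸ Subgroup.center H) = π (UModel.tr hB v) →
      (y : H ⧸ Subgroup.center H) = π (UModel.tr hB w) →
      (hermB 6 θ) v.1 w.1 = 0 → Commute (x : G) y := fun {v w x y} hx hy ex ey h0 =>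
    reflect hD hH hx hy (by rw [ex, ey]; exact (hM.comm_iff v w).2 h0)
  have hdist : ∀ {v w : UModel.Pt (hermB 6 θ)} {x y : H},
      (x : H ⧸ Subgroup.center H) = π (UModel.tr hB v) →
      (y : H ⧸ Subgroup.center H) = π (UModel.tr hB w) →
      (∀ k : F, w.1 ≠ k • v.1) → (y : G) ≠ x := fun {v w x y} ex ey h0 hxy => by
    rw [Subtype.ext hxy, ex] at ey
    exact ((hM.eq_iff v w).1 ey).elim fun k hk => h0 k hk
  have hdiv : ∀ P : H, π g = (P : H ⧸ Subgroup.center H) → t = P ∨ t = (P : G) * d := by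
    intro P hP
    have hmem : P⁻¹ * u ∈ Subgroup.center H := by
      rw [← QuotientGroup.eq, ← hP, hgu]
    rcases eq_one_or_eq_of_centralises hD hZ hF.data hF.links hd
      (commute_of_mem_H hH (P⁻¹ * u).2).symm (fun x hx => (congrArg Subtype.val
        (Subgroup.mem_center_iff.1 hmem ⟨x, mem_H hH hx⟩)).symm) with h | h <;>
      rw [Subgroup.coe_mul, Subgroup.coe_inv] at h
    · exact Or.inl (inv_mul_eq_one.1 h).symm
    · exact Or.inr (inv_mul_eq_iff_eq_mul.1 h)
  have hg : g * g = 1 := hcube g₀ (by rw [map_mul, hu2'])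
  rcases UModel.involution_eq hB hg with h | ⟨a, h⟩ | ⟨a, b, hab, hba, h⟩ |
    ⟨a, b, c', hab, hac, hbc, hba, hcab, h⟩
  · rcases hdiv 1 (by rw [h, map_one]; rfl) with h' | h'
    · exact absurd h' ht1
    · rw [Subgroup.coe_one, one_mul] at h'
      exact ⟨1, le_rfl, by norm_num, _, h' ▸ factor_one hd⟩
  · obtain ⟨x, hx, ex⟩ := hlift a
    rcases hdiv x (by rw [h, ex]) with h' | h'
    · exact ⟨1, le_rfl, by norm_num, _, h' ▸ factor_one hx.1⟩
    · refine ⟨2, by norm_num, by norm_num, [(x : G), d], ?_⟩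
      rw [h']
      exact factor_two hx.1 (dperp_symm hd hx)
  · obtain ⟨x, hx, ex⟩ := hlift a
    obtain ⟨y, hy, ey⟩ := hlift b
    have hyx : (y : G) ∈ dperp D x := ⟨hy.1, hdist ex ey hba, hcomm hx hy ex ey hab⟩
    rcases hdiv (x * y) (by rw [h, map_mul, QuotientGroup.mk_mul, ex, ey]) with h' | h' <;>
      rw [Subgroup.coe_mul] at h'
    · exact ⟨2, by norm_num, by norm_num, _, h' ▸ factor_two hx.1 hyx⟩
    · exact ⟨3, by norm_num, le_rfl, _, h' ▸ factor_three hx.1 hyx ⟨dperp_symm hd hx, hy.2.1.symm,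
        hy.2.2.symm⟩⟩
  · obtain ⟨x, hx, ex⟩ := hlift a
    obtain ⟨y, hy, ey⟩ := hlift b
    obtain ⟨z, hz, ez⟩ := hlift c'
    have hyx : (y : G) ∈ dperp D x := ⟨hy.1, hdist ex ey hba, hcomm hx hy ex ey hab⟩
    have hxz := hcomm hx hz ex ez hac
    have hyz := hcomm hy hz ey ez hbc
    rcases hdiv (x * y * z) (by
        rw [h, map_mul, map_mul, QuotientGroup.mk_mul, QuotientGroup.mk_mul, ex, ey, ez]) with h' | h' <;>
      rw [Subgroup.coe_mul, Subgroup.coe_mul] at h'
    · exact ⟨3, by norm_num, le_rfl, _, h' ▸ factor_three hx.1 hyx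
        ⟨⟨hz.1, hdist ex ez fun k hk => hcab k 0 (by rw [hk, zero_smul, add_zero]), hxz⟩,
          hdist ey ez fun k hk => hcab 0 k (by rw [hk, zero_smul, zero_add]), hyz⟩⟩
    have hzl : (z : G) ∉ ln (dperp D d) x y := by
      intro hl
      have hl' : π (UModel.tr hB c') ∈ ln (lowImage H (dperp D d) \ {1}) (π (UModel.tr hB a))
          (π (UModel.tr hB b)) := by
        refine ⟨UModel.tp_mem hM c', ?_⟩
        rintro - ⟨⟨w, hw, rfl⟩, -⟩ k1 k2
        rw [← ex] at k1
        rw [← ey] at k2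
        rw [← ez]
        exact (show Commute (w : H) z from Subtype.ext
          (hl.2 w hw (reflect hD hH hw hx k1) (reflect hD hH hw hy k2)).eq).map (QuotientGroup.mk' _)
      obtain ⟨α, β, hv⟩ := (UModel.mem_ln hB hM a b hab hba c').1 hl'
      exact hcab α β hv
    obtain ⟨p, q, r, -, -, -, hfac⟩ := frame_shift hD h22 hd hx ⟨hy, hyx.2⟩ hz hxz.symm hyz.symm hzl
    exact ⟨3, by norm_num, le_rfl, _, h' ▸ hfac⟩

/-- Every involution is a product of at most three commuting members. -/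
theorem involution_M22 {t : G} (ht2 : t * t = 1) (ht1 : t ≠ 1) :
    ∃ n, 1 ≤ n ∧ n ≤ 3 ∧ ∃ l, Factor D n t l := by
  have he : D \ {1} = D := Set.sdiff_singleton_eq_self fun h1 => ne_one hD.1 h1 rfl
  obtain ⟨⟨hcls, -, -⟩, -, -⟩ := layerData_of_M22 (by rwa [he]) h22
  rw [he] at hcls
  obtain ⟨d, hd, hbase⟩ := involution_base hD h22
  have hc := counts hD h22
  obtain ⟨x, hx, htx⟩ := exists_commute_of_perfect hD.2.1 (perfect_M22 hD h22)
    (by rw [ncard_members hD h22.1 (m22Full hD h22) (arcs_of_M22 hD h22) (layer_counts_M22 hD h22)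
      (fun x hx => (hc x hx).1) (fun x hx => (hc x hx).2.1) hd]) ht2
  obtain ⟨g, rfl⟩ := class_isConj hcls hd hx
  obtain ⟨n, h1, h3, l, hl⟩ := hbase (g⁻¹ * t * g) (by
      have := (commute_conj g (g⁻¹ * t * g) d).1
      rw [show g * (g⁻¹ * t * g) * g⁻¹ = t by group] at this
      exact this htx)
    (by rw [show g⁻¹ * t * g * (g⁻¹ * t * g) = g⁻¹ * (t * t) * g by group, ht2]; group)
    fun h => ht1 (by rw [show t = g * (g⁻¹ * t * g) * g⁻¹ by group, h]; group)
  refine ⟨n, h1, h3, l.map fun x => g * x * g⁻¹, ?_⟩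
  have := hl.conj hD.2.1 g
  rwa [show g * (g⁻¹ * t * g) * g⁻¹ = t by group] at this

end M22

end Cfsg.Agent.ThreeTrans

namespace Cfsg.Agent.ThreeTrans

variable {G : Type*} [Group G] [Finite G] {D : Set G}

theorem Factor.sq_eq_one (hT : IsThreeTranspositionSet D) {n : ℕ} {t : G} {l : List G}
    (h : Factor D n t l) : t * t = 1 := by
  obtain ⟨-, -, hm, hc, rfl⟩ := h
  induction l with
  | nil => simp
  | cons p q ih =>
    have hp : Commute q.prod p := Commute.list_prod_left q p fun y hy =>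
      hc y (List.mem_cons_of_mem _ hy) p List.mem_cons_self
    rw [List.prod_cons, show p * q.prod * (p * q.prod) = p * (q.prod * p) * q.prod by group, hp.eq,
      ← mul_assoc, mul_self hT (hm p List.mem_cons_self), one_mul]
    exact ih (fun y hy => hm y (List.mem_cons_of_mem _ hy)) fun y hy z hz =>
      hc y (List.mem_cons_of_mem _ hy) z (List.mem_cons_of_mem _ hz)

/-- The three classes of involutions of type M(22). -/
theorem involution_classes_M22 (hD : IsThreeTranspositionGroup D) (hprim : IsPrimitiveUnderConj D)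
    (h22 : IsOfTypeM22 G D) :
    (∀ m : ℕ, 1 ≤ m → m ≤ 3 → (∃ x : G, orderOf x = 2 ∧ ∃ l, Factor D m x l) ∧
      ∀ x y : G, (∃ l, Factor D m x l) → (∃ l, Factor D m y l) → IsConj x y) ∧
    ∀ (m m' : ℕ) (x : G), 1 ≤ m → m ≤ 3 → 1 ≤ m' → m' ≤ 3 → (∃ l, Factor D m x l) →
      (∃ l, Factor D m' x l) → m = m' := by
  have hT := hD.1
  have hF := m22Full hD h22
  have hcls := class_of_primitive hD hprim
  have hc := counts hD h22
  have key : ∀ {m : ℕ} {x : G}, 1 ≤ m → m ≤ 3 → (∃ l, Factor D m x l) →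
      (m = 1 ∧ x ∈ D) ∨ (m = 2 ∧ ∃ a ∈ D, ∃ b ∈ dperp D a, x = a * b) ∨
        (m = 3 ∧ ∃ a ∈ D, ∃ b ∈ dperp D a, ∃ c ∈ dperp (dperp D a) b, x = a * b * c) := by
    rintro m x h1 h3 ⟨l, hn, hl, hmem, hco, hp⟩
    interval_cases m
    · obtain ⟨a, rfl⟩ := List.length_eq_one_iff.1 hl
      exact Or.inl ⟨rfl, by rw [← hp]; simpa using hmem⟩
    · obtain ⟨a, b, rfl⟩ := List.length_eq_two.1 hl
      simp only [List.nodup_cons, List.mem_cons, List.not_mem_nil, or_false, not_or] at hn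
      exact Or.inr (Or.inl ⟨rfl, a, hmem a (by simp), b,
        ⟨hmem b (by simp), Ne.symm hn.1, hco a (by simp) b (by simp)⟩, by rw [← hp]; simp⟩)
    · obtain ⟨a, b, c, rfl⟩ := List.length_eq_three.1 hl
      simp only [List.nodup_cons, List.mem_cons, List.not_mem_nil, or_false, not_or] at hn
      exact Or.inr (Or.inr ⟨rfl, a, hmem a (by simp), b,
        ⟨hmem b (by simp), Ne.symm hn.1.1, hco a (by simp) b (by simp)⟩, c,
        ⟨⟨hmem c (by simp), Ne.symm hn.1.2, hco a (by simp) c (by simp)⟩, Ne.symm hn.2.1,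
          hco b (by simp) c (by simp)⟩, by rw [← hp]; simp [mul_assoc]⟩)
  have mv1 : ∀ {a a' : G}, a ∈ D → a' ∈ D → IsConj a a' := fun ha ha' =>
    isConj_iff.2 (hprim.1 _ ha _ ha')
  have mv2 : ∀ {a b a' b' : G}, a ∈ D → b ∈ dperp D a → a' ∈ D → b' ∈ dperp D a' →
      ∃ g, g * a * g⁻¹ = a' ∧ g * b * g⁻¹ = b' := fun {a b a' b'} ha hb ha' hb' => by
    obtain ⟨g, hg⟩ := hprim.1 a ha a' ha'
    have hb1 : g * b * g⁻¹ ∈ dperp D a' := ⟨hD.2.1 g b hb.1,
      fun e => hb.2.1 (mul_left_cancel (mul_right_cancel (e.trans hg.symm))),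
      hg ▸ (commute_conj g a b).2 hb.2.2⟩
    obtain ⟨k, hk, hkb⟩ := exists_mv hD hF ha' hb1 hb'
    have hka : Commute k a' := (commute_of_mem_H (D := D) (d := a') rfl hk).symm
    refine ⟨k * g, ?_, ?_⟩
    · rw [show k * g * a * (k * g)⁻¹ = k * (g * a * g⁻¹) * k⁻¹ by group, hg, hka.eq, mul_inv_cancel_right]
    · rw [← hkb]; group
  have hconj : ∀ {m : ℕ} {x y : G}, 1 ≤ m → m ≤ 3 → (∃ l, Factor D m x l) → (∃ l, Factor D m y l) →
      IsConj x y := by
    intro m x y h1 h3 hx hy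
    rcases key h1 h3 hx with ⟨rfl, k1⟩ | ⟨rfl, a, ha, b, hb, rfl⟩ | ⟨rfl, a, ha, b, hb, c, hc, rfl⟩
    · rcases key h1 h3 hy with ⟨-, k2⟩ | ⟨h, -⟩ | ⟨h, -⟩
      exacts [mv1 k1 k2, absurd h (by norm_num), absurd h (by norm_num)]
    · rcases key h1 h3 hy with ⟨h, -⟩ | ⟨-, a', ha', b', hb', rfl⟩ | ⟨h, -⟩
      exacts [absurd h (by norm_num), isConj_iff.2 ((mv2 ha hb ha' hb').imp fun g ⟨g1, g2⟩ => by
        rw [← g1, ← g2]; group), absurd h (by norm_num)]
    · rcases key h1 h3 hy with ⟨h, -⟩ | ⟨h, -⟩ | ⟨-, a', ha', b', hb', c', hc', rfl⟩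
      exacts [absurd h (by norm_num), absurd h (by norm_num),
        isConj_iff.2 ((exists_conj_triple hD hF hcls ha hb hc ha' hb' hc').imp
          fun g ⟨g1, g2, g3⟩ => by rw [← g1, ← g2, ← g3]; group)]
  -- the centralisers
  have hpair : ∀ {a b : G}, a ∈ D → b ∈ dperp D a →
      Nat.card ↥(Subgroup.centralizer ({a * b} : Set G)) = 53084160 := by
    intro a b ha hb
    have hfix : ∀ {g y : G}, g ∈ Subgroup.centralizer ({y} : Set G) → g * y * g⁻¹ = y := fun hg => by
      rw [Subgroup.mem_centralizer_singleton_iff.1 hg, mul_inv_cancel_right]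
    have hmk : ∀ {g y : G}, g * y * g⁻¹ = y → g ∈ Subgroup.centralizer ({y} : Set G) := fun h =>
      Subgroup.mem_centralizer_singleton_iff.2 (mul_inv_eq_iff_eq_mul.1 h)
    set C := Subgroup.centralizer ({a} : Set G) with hC
    have h1 := card_eq_orbit_mul C b (dperp D a) (fun g hg => ⟨hD.2.1 g b hb.1,
        fun e => hb.2.1 (mul_left_cancel (mul_right_cancel (e.trans (hfix hg).symm))),
        hfix hg ▸ (commute_conj g a b).2 hb.2.2⟩)
      fun y hy => by
        obtain ⟨g, g1, g2⟩ := mv2 ha hb ha hy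
        exact ⟨g, hmk g1, g2⟩
    rw [(hc a ha).1, (hc a ha).2.2] at h1
    set M := Subgroup.centralizer ({a * b} : Set G)
    have h2 := card_eq_orbit_mul M a {a, b} (fun g hg => by
        have hf := (factor_two ha hb).conj hD.2.1 g
        rw [hfix hg] at hf
        have := (Factor.pair hT hF.data.noTwins hf (factor_two ha hb) (g * a * g⁻¹)).1 (by simp)
        simpa using this)
      fun y hy => by
        rcases hy with rfl | rfl
        · exact ⟨1, one_mem _, by simp⟩
        · obtain ⟨g, g1, g2⟩ := mv2 ha hb hb.1 (dperp_symm ha hb)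
          refine ⟨g, hmk ?_, g1⟩
          rw [show g * (a * y) * g⁻¹ = g * a * g⁻¹ * (g * y * g⁻¹) by group, g1, g2, hb.2.2.eq]
    rw [Set.ncard_pair hb.2.1.symm] at h2
    have e : M ⊓ C = C ⊓ Subgroup.centralizer ({b} : Set G) := by
      ext g
      simp only [Subgroup.mem_inf]
      constructor
      · rintro ⟨g1, g2⟩
        refine ⟨g2, hmk (mul_left_cancel (a := a) ?_)⟩
        calc a * (g * b * g⁻¹) = g * a * g⁻¹ * (g * b * g⁻¹) := by rw [hfix g2]
          _ = g * (a * b) * g⁻¹ := by group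
          _ = a * b := hfix g1
      · rintro ⟨g1, g2⟩
        refine ⟨hmk ?_, g1⟩
        calc g * (a * b) * g⁻¹ = g * a * g⁻¹ * (g * b * g⁻¹) := by group
          _ = a * b := by rw [hfix g1, hfix g2]
    rw [e] at h2
    omega
  refine ⟨fun m h1 h3 => ⟨?_, fun x y => hconj h1 h3⟩, fun m m' x h1 h3 h1' h3' hx hx' => ?_⟩
  · obtain ⟨a, ha, -⟩ := hprim.2.1
    obtain ⟨b, hb⟩ := hF.data.nice.rich a ha
    obtain ⟨c, hcb⟩ := (hF.data.layerNice a ha).rich b hb
    have hord : ∀ {x : G}, x * x = 1 →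
        Nat.card ↥(Subgroup.centralizer ({x} : Set G)) < Nat.card G → orderOf x = 2 := by
      intro x h hlt
      refine orderOf_eq_prime (by rw [sq, h]) fun h1 => ?_
      rw [h1, Subgroup.centralizer_eq_top_iff_subset.2 (by simp), Subgroup.card_top] at hlt
      exact lt_irrefl _ hlt
    have hG : 18393661440 < Nat.card G := by
      have := card_eq_orbit_mul ⊤ a D (fun g _ => hD.2.1 g a ha)
        (fun y hy => (hprim.1 a ha y hy).imp fun g hg => ⟨Subgroup.mem_top g, hg⟩)
      rw [Subgroup.card_top, top_inf_eq, (hc a ha).2.2, ncard_members hD h22.1 hF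
        (arcs_of_M22 hD h22) (layer_counts_M22 hD h22) (fun x hx => (hc x hx).1)
        (fun x hx => (hc x hx).2.1) ha] at this
      omega
    interval_cases m
    · exact ⟨a, hT.1 a ha, _, factor_one ha⟩
    · exact ⟨a * b, hord ((factor_two ha hb).sq_eq_one hT) (by rw [hpair ha hb]; omega), _,
        factor_two ha hb⟩
    · exact ⟨a * b * c, hord ((factor_three ha hb hcb).sq_eq_one hT)
        (by rw [card_centralizer_triple hD hcls h22 ha hb hcb]; norm_num; omega), _,
        factor_three ha hb hcb⟩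
  · rcases key h1 h3 hx with ⟨rfl, k⟩ | ⟨rfl, a, ha, b, hb, e⟩ | ⟨rfl, a, ha, b, hb, c, hcb, e⟩ <;>
    rcases key h1' h3' hx' with ⟨rfl, k'⟩ | ⟨rfl, a', ha', b', hb', e'⟩ |
      ⟨rfl, a', ha', b', hb', c', hcb', e'⟩ <;> first
      | rfl
      | (exfalso
         have q := (hc x k).2.2
         first
          | (rw [e', hpair ha' hb'] at q; omega)
          | (rw [e', card_centralizer_triple hD hcls h22 ha' hb' hcb'] at q; norm_num at q))
      | (exfalso
         have q := hpair ha hb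
         rw [← e] at q
         first
          | (rw [(hc x k').2.2] at q; omega)
          | (rw [e', card_centralizer_triple hD hcls h22 ha' hb' hcb'] at q; norm_num at q))
      | (exfalso
         have q := card_centralizer_triple hD hcls h22 ha hb hcb
         rw [← e] at q
         first
          | (rw [(hc x k').2.2] at q; norm_num at q)
          | (rw [e', hpair ha' hb'] at q; norm_num at q))

end Cfsg.Agent.ThreeTrans
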