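import Cfsg.Agent.ThreeTrans.PairCentralizer
import Cfsg.Agent.ThreeTrans.InvolM22
import Cfsg.Agent.LargeExtra.Quotient
import Cfsg.Agent.Layer.FStar

/-!
# The 2-radical of the centraliser of a pair in type M(22) is a product of order two with an extraspecial group
-/

set_option autoImplicit false

open Cfsg

namespace Cfsg.Agent.ThreeTrans

variable {G : Type*} [Group G] {D : Set G} {a b x y z : G}

/-- The quotients of two points on a line act trivially on the layer. -/
theorem line_product_commute (hD : IsThreeTranspositionSet D)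
    (hl : Lines (dperp D a)) (hb : b ∈ dperp D a) (hx : x ∈ dperp (dperp D a) b)
    (hy : y ∈ ln (dperp D a) b x) (hyb : y ≠ b) (hz : z ∈ dperp (dperp D a) b) :
    Commute z (x * y * z * (x * y)⁻¹) := by
  have hxD : x ∈ D := hx.1.1
  have hyD : y ∈ D := hy.1.1
  have hzD : z ∈ D := hz.1.1
  have hxy : Commute x y := hy.2 x hx.1 hx.2.2.symm (Commute.refl x)
  rw [mul_inv_rev, inv_eq hD hxD, inv_eq hD hyD,
    show x * y * z * (y * x) = x * (y * z * y) * x by simp only [mul_assoc]]
  by_cases hzx : Commute z x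
  · have hzy : Commute z y := hy.2 z hz.1 hz.2.2.symm hzx
    rw [conj_self_of_commute hD hyD hzy.symm, conj_self_of_commute hD hxD hzx.symm]
  · have hzy : ¬ Commute z y := fun h => hzx (by
      obtain ⟨-, he⟩ := hl.pair b hb x hx b (mem_ln_left hb) y hy hyb.symm
      have hx' : x ∈ ln (dperp D a) b y := he ▸ mem_ln_right hx.1
      exact hx'.2 z hz.1 hz.2.2.symm h)
    have h : Commute (x * z * x) (y * z * y) := by
      rw [← braid hD hzD hxD hzx, ← braid hD hzD hyD hzy]
      have := (commute_conj z x y).2 hxy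
      rwa [inv_eq hD hzD] at this
    have := (commute_conj x _ _).2 h
    rwa [inv_eq hD hxD, conj_twice (mul_self hD hxD)] at this

/-- The data on the 2-radical of the centraliser of a pair. -/
structure PairRadical (D : Set G) (a b : G) (E : Subgroup G) : Prop where
  le : E ≤ pairCen a b
  card : Nat.card E = 2 ^ 10
  mem_a : a ∈ E
  mem_ab : a * b ∈ E
  comm : ∀ g ∈ E, ∀ h ∈ E, g * h * g⁻¹ * h⁻¹ = 1 ∨ g * h * g⁻¹ * h⁻¹ = a * b
  sq : ∀ g ∈ E, g * g = 1 ∨ g * g = a * b
  center : ∀ g ∈ E, (∀ h ∈ E, Commute g h) → g ∈ Subgroup.closure ({a, b} : Set G)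
  moves : ∀ x ∈ dperp (dperp D a) b, ∀ g : G, g * x * g⁻¹ ∈ D →
    (g * x * g⁻¹ * x⁻¹ = 1 ∨ g * x * g⁻¹ * x⁻¹ = a * b) → Commute g x

theorem mem_closure_pair (hD : IsThreeTranspositionSet D) (ha : a ∈ D) (hb : b ∈ D)
    (hab : Commute a b) {v : G} (hv : v ∈ Subgroup.closure ({a, b} : Set G)) :
    v = 1 ∨ v = a ∨ v = b ∨ v = a * b := by
  have iaa := mul_self hD ha
  have ibb := mul_self hD hb
  induction hv using Subgroup.closure_induction with
  | mem u hu =>
    rcases hu with rfl | rfl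
    · exact Or.inr (Or.inl rfl)
    · exact Or.inr (Or.inr (Or.inl rfl))
  | one => exact Or.inl rfl
  | mul u v _ _ hu hv =>
    rcases hu with rfl | rfl | rfl | rfl <;> rcases hv with rfl | rfl | rfl | rfl <;>
      simp [mul_assoc, mul_self_mul hD ha, mul_self_mul hD hb, iaa, ibb, hab.symm.eq,
        hab.symm.left_comm]
  | inv u _ hu =>
    rcases hu with rfl | rfl | rfl | rfl <;>
      simp [inv_eq hD ha, inv_eq hD hb, hab.symm.eq]

/-- The 2-radical of the centraliser of a pair. -/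
theorem exists_pairRadical [Finite G] (hD : IsThreeTranspositionGroup D)
    (hprim : IsPrimitiveUnderConj D) (h22 : IsOfTypeM22 G D) (ha : a ∈ D) (hb : b ∈ dperp D a) :
    ∃ E : Subgroup G, PairRadical D a b E ∧ E ≤ Subgroup.centralizer ({a * b} : Set G) ∧
      ((pairCen a b).subgroupOf (Subgroup.centralizer ({a * b} : Set G))).index = 2 ∧
      ∃ (_ : (E.subgroupOf (Subgroup.centralizer ({a * b} : Set G))).Normal) (F : Type) (_ : Field F)
        (_ : Fintype F), Fintype.card F = 4 ∧ Nonempty (↥(Subgroup.centralizer ({a * b} : Set G)) ⧸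
          E.subgroupOf (Subgroup.centralizer ({a * b} : Set G)) ≃* MulAut (PSU 4 F 2)) := by
  classical
  have hT := hD.1
  have hZ := h22.1
  have hcls := class_of_primitive hD hprim
  have hF := m22Full hD h22
  have hcl := (involution_classes_M22 hD hprim h22).2
  obtain ⟨-, hindex, -, E, hVE, hEC, -, hcard, ⟨hEK, hker⟩, hV, hn, F, hFld, hFt, hFc, hq⟩ :=
    pair_centralizer_kernel hD hcls h22 ha hb
  have : Finite E := inferInstance
  set S := dperp D a with hS
  set A := dperp S b with hA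
  have hl := hF.data.layerLines a ha
  have haE : a ∈ E := hVE (Subgroup.subset_closure (Or.inl rfl))
  have habE : a * b ∈ E :=
    mul_mem haE (hVE (Subgroup.subset_closure (Or.inr rfl)))
  -- the pairs on the lines
  let Pr : Set (G × G) := {p | p.1 ∈ A ∧ p.2 ∈ ln S b p.1 ∧ p.2 ≠ b ∧ p.2 ≠ p.1}
  have hPco : ∀ {p}, p ∈ Pr → Commute p.1 p.2 := fun {p} hp =>
    hp.2.1.2 _ hp.1.1 hp.1.2.2.symm (Commute.refl _)
  have hP2 : ∀ {p}, p ∈ Pr → p.2 ∈ dperp S p.1 := fun {p} hp =>
    ⟨hp.2.1.1, hp.2.2.2, hPco hp⟩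
  have hPpair : ∀ {p}, p ∈ Pr → Factor D 2 (p.1 * p.2) [p.1, p.2] := fun {p} hp =>
    factor_two hp.1.1.1 ⟨hp.2.1.1.1, hp.2.2.2, hPco hp⟩
  have hPtriple : ∀ {p}, p ∈ Pr → ∀ {s}, s ∈ S → s = b → Factor D 3 (s * (p.1 * p.2)) [s, p.1, p.2] := by
    rintro p hp s hs rfl
    rw [← mul_assoc]
    refine factor_three hs.1 ⟨hp.1.1.1, hp.1.2.1, hp.1.2.2⟩
      ⟨⟨hp.2.1.1.1, hp.2.2.1, hp.2.1.2 s hs (Commute.refl s) hp.1.2.2⟩, hp.2.2.2, hPco hp⟩
  have hPtripleA : ∀ {p}, p ∈ Pr → Factor D 3 (a * (p.1 * p.2)) [a, p.1, p.2] := fun {p} hp => by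
    rw [← mul_assoc]
    exact factor_three ha hp.1.1 (hP2 hp)
  have h23 : ∀ {t : G} {l l' : List G}, Factor D 2 t l → Factor D 3 t l' → False := fun h h' => by
    have := hcl 2 3 _ (by norm_num) (by norm_num) (by norm_num) (by norm_num) ⟨_, h⟩ ⟨_, h'⟩
    omega
  have hTE : ∀ {p}, p ∈ Pr → p.1 * p.2 ∈ E := fun {p} hp => hker _
    (mul_mem (mem_pairCen.2 ⟨hp.1.1.2.2.symm, hp.1.2.2.symm⟩)
      (mem_pairCen.2 ⟨hp.2.1.1.2.2.symm,
        (hp.2.1.2 b hb (Commute.refl b) hp.1.2.2).symm⟩))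
    fun z hz => line_product_commute hT hl hb hp.1 hp.2.1 hp.2.2.1 hz
  -- counting the pairs
  have hPcard : Pr.ncard = 540 := by
    have h180 : A.ncard = 180 := (counts hD h22 a ha).2.1 b hb
    have h3 : ∀ x ∈ A, (ln S b x \ {b, x}).ncard = 3 := by
      intro x hx
      rw [Set.ncard_sdiff (by
        rintro u (rfl | rfl)
        exacts [mem_ln_left hb, mem_ln_right hx.1]), hl.five b hb x hx,
        Set.ncard_pair hx.2.1.symm]
    have hsub : Pr = ↑((Set.toFinite A).toFinset.biUnion fun x =>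
        (Set.toFinite (ln S b x \ {b, x})).toFinset.image (Prod.mk x)) := by
      ext ⟨u, v⟩
      simp only [Finset.coe_biUnion, Finset.coe_image, Set.Finite.coe_toFinset, Set.mem_iUnion,
        Set.mem_image, Set.mem_sdiff, Set.mem_insert_iff, Set.mem_singleton_iff, Prod.mk.injEq,
        not_or, exists_prop]
      constructor
      · rintro ⟨h1, h2, h3, h4⟩
        exact ⟨u, h1, v, ⟨h2, h3, h4⟩, rfl, rfl⟩
      · rintro ⟨x, hx, w, ⟨h2, h3, h4⟩, rfl, rfl⟩
        exact ⟨hx, h2, h3, h4⟩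
    rw [hsub, Set.ncard_coe_finset, Finset.card_biUnion, Finset.sum_congr rfl fun x hx => by
      rw [Finset.card_image_of_injective _ fun _ _ h => (Prod.mk.inj h).2,
        ← Set.ncard_eq_toFinset_card, h3 x ((Set.Finite.mem_toFinset _).1 hx)],
      Finset.sum_const, ← Set.ncard_eq_toFinset_card, h180]
    · rfl
    · intro i _ j _ hij
      rw [Function.onFun, Finset.disjoint_left]
      intro q hq1 hq2
      simp only [Finset.mem_image] at hq1 hq2
      obtain ⟨v, -, rfl⟩ := hq1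
      obtain ⟨w, -, e⟩ := hq2
      exact hij (Prod.mk.inj e).1.symm
  let e := Finite.equivFin G
  let f : G × G → G := fun p => if e p.1 < e p.2 then p.1 * p.2 else a * (p.1 * p.2)
  have hinj : Set.InjOn f Pr := by
    intro p hp q hq hpq
    have hsame : p.1 * p.2 = q.1 * q.2 → (p = q ∨ (p.1 = q.2 ∧ p.2 = q.1)) := by
      intro h
      have := Factor.pair hT hF.data.noTwins (hPpair hp) (h ▸ hPpair hq)
      have h1 := (this p.1).1 (by simp)
      have h2 := (this p.2).1 (by simp)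
      simp only [List.mem_cons, List.not_mem_nil, or_false] at h1 h2
      rcases h1 with h1 | h1 <;> rcases h2 with h2 | h2
      · exact absurd (h2.trans h1.symm) hp.2.2.2
      · exact Or.inl (Prod.ext h1 h2)
      · exact Or.inr ⟨h1, h2⟩
      · exact absurd (h2.trans h1.symm) hp.2.2.2
    have hne : e q.1 ≠ e q.2 := fun h => hq.2.2.2 (e.injective h).symm
    by_cases h1 : e p.1 < e p.2 <;> by_cases h2 : e q.1 < e q.2 <;>
      simp only [f, h1, h2, if_true, if_false] at hpq
    · rcases hsame hpq with h | ⟨k1, k2⟩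
      · exact h
      · rw [k1, k2] at h1; exact absurd h1 (lt_asymm h2)
    · exact (h23 (hPpair hp) (hpq ▸ hPtripleA hq)).elim
    · exact (h23 (hPpair hq) (hpq.symm ▸ hPtripleA hp)).elim
    · rcases hsame (mul_left_cancel hpq) with h | ⟨k1, k2⟩
      · exact h
      · rw [k1, k2] at h1; omega
  let T : Set G := insert a ((fun p : G × G => p.1 * p.2) '' Pr)
  have hTE' : Subgroup.closure T ≤ E := by
    rw [Subgroup.closure_le]
    rintro t (rfl | ⟨p, hp, rfl⟩)
    exacts [haE, hTE hp]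
  have hgen : Subgroup.closure T = E := by
    refine Subgroup.eq_of_le_of_card_ge hTE' ?_
    have h1 : 540 ≤ Nat.card ↥(Subgroup.closure T) := by
      have h := Set.ncard_le_ncard (s := f '' Pr) (t := (Subgroup.closure T : Set G)) (by
        rintro - ⟨p, hp, rfl⟩
        have hp' : p.1 * p.2 ∈ Subgroup.closure T :=
          Subgroup.subset_closure (Set.mem_insert_of_mem _ ⟨p, hp, rfl⟩)
        show f p ∈ Subgroup.closure T
        simp only [f]
        split_ifs
        exacts [hp', mul_mem (Subgroup.subset_closure (Set.mem_insert _ _)) hp'])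
      rw [hinj.ncard_image, hPcard, ← Nat.card_coe_set_eq] at h
      exact h
    obtain ⟨k, hk⟩ := Subgroup.card_dvd_of_le hTE'
    rw [hcard] at hk ⊢
    rcases Nat.lt_or_ge k 2 with h | h
    · interval_cases k <;> omega
    · have := Nat.mul_le_mul h1 h
      omega
  -- commutators
  have hcab : ∀ g ∈ E, Commute g (a * b) := fun g hg =>
    (mem_pairCen.1 (hEK hg)).1.mul_right (mem_pairCen.1 (hEK hg)).2
  have hinvol : a * b * (a * b) = 1 := (factor_two ha hb).sq_eq_one hT
  have hgt : ∀ g ∈ E, ∀ h ∈ E, g * h * g⁻¹ * h⁻¹ = 1 ∨ g * h * g⁻¹ * h⁻¹ = a * b := by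
    intro g hg h hh
    rw [← hgen] at hh
    induction hh using Subgroup.closure_induction with
    | mem t ht =>
      rcases ht with rfl | ⟨p, hp, rfl⟩
      · left; rw [(mem_pairCen.1 (hEK hg)).1.eq, mul_inv_cancel_right, mul_inv_cancel]
      have hfac : Factor D 2 (g * (p.1 * p.2) * g⁻¹) _ := (hPpair hp).conj hD.2.1 g
      have hpp : p.1 * p.2 * (p.1 * p.2) = 1 := (hPpair hp).sq_eq_one hT
      set c := g * (p.1 * p.2) * g⁻¹ * (p.1 * p.2)⁻¹ with hc
      have hgc : g * (p.1 * p.2) * g⁻¹ = c * (p.1 * p.2) := by rw [hc, inv_mul_cancel_right]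
      rcases mem_closure_pair hT ha hb.1 hb.2.2 (hV g hg _ (hTE hp)).1 with h1 | h1 | h1 | h1
      · exact Or.inl h1
      · exact (h23 hfac (by rw [hgc, show c = a from h1]; exact hPtripleA hp)).elim
      · exact (h23 hfac (by rw [hgc, show c = b from h1]; exact hPtriple hp hb rfl)).elim
      · exact Or.inr h1
    | one => left; group
    | mul u v hu hv hu' hv' =>
      have hcu : Commute u (a * b) := hcab u (hgen ▸ hu)
      have key : g * (u * v) * g⁻¹ * (u * v)⁻¹ =
          g * u * g⁻¹ * u⁻¹ * (u * (g * v * g⁻¹ * v⁻¹) * u⁻¹) := by group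
      rcases hu' with e1 | e1 <;> rcases hv' with e2 | e2 <;> rw [key, e1, e2]
      · left; group
      · right; rw [hcu.eq]; group
      · right; group
      · left; rw [hcu.eq, mul_inv_cancel_right, hinvol]
    | inv u hu hu' =>
      have hcu : Commute u (a * b) := hcab u (hgen ▸ hu)
      have key : g * u⁻¹ * g⁻¹ * u⁻¹⁻¹ = u⁻¹ * (g * u * g⁻¹ * u⁻¹)⁻¹ * u := by group
      rcases hu' with e1 | e1 <;> rw [key, e1]
      · left; group
      · right
        rw [inv_eq_of_mul_eq_one_left hinvol, mul_assoc, ← hcu.eq, inv_mul_cancel_left]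
  have hsq : ∀ g ∈ E, g * g = 1 ∨ g * g = a * b := by
    intro g hg
    rw [← hgen] at hg
    induction hg using Subgroup.closure_induction with
    | mem t ht =>
      rcases ht with rfl | ⟨p, hp, rfl⟩
      exacts [Or.inl (mul_self hT ha), Or.inl ((hPpair hp).sq_eq_one hT)]
    | one => left; group
    | mul u v hu hv hu' hv' =>
      have hu0 : u ∈ E := hgen ▸ hu
      have hv0 : v ∈ E := hgen ▸ hv
      have key : u * v * (u * v) = u * (v * u * v⁻¹ * u⁻¹) * u⁻¹ * (u * u) * (v * v) := by group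
      have hc1 : u * (a * b) * u⁻¹ = a * b := mul_inv_eq_iff_eq_mul.2 (hcab u hu0).eq
      rcases hgt v hv0 u hu0 with e0 | e0 <;> rcases hu' with e1 | e1 <;>
        rcases hv' with e2 | e2 <;> rw [key, e0, e1, e2] <;> simp [hc1, hinvol]
    | inv u hu hu' =>
      rcases hu' with e1 | e1
      · left; rw [← mul_inv_rev, e1, inv_one]
      · right; rw [← mul_inv_rev, e1, inv_eq_of_mul_eq_one_left hinvol]
  refine ⟨E, ⟨hEK, hcard, haE, habE, hgt, hsq, fun g hg hcen => ?_, fun x hx g hgx hg => ?_⟩, hEC,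
    hindex, hn, F, hFld, hFt, hFc, hq⟩
  · obtain ⟨hga, hgb⟩ := mem_pairCen.1 (hEK hg)
    refine mem_of_central hD hZ hF ha hb hga hgb fun x hx => ?_
    have hmem : ∀ y, (x, y) ∈ Pr → g * x * g⁻¹ = x ∨ g * x * g⁻¹ = y := by
      intro y hy
      have h := hcen _ (hTE hy)
      have hfac := (hPpair hy).conj hD.2.1 g
      rw [h.eq, mul_inv_cancel_right] at hfac
      have := (Factor.pair hT hF.data.noTwins hfac (hPpair hy) (g * x * g⁻¹)).1 (by simp)
      simpa using this
    obtain ⟨x₁, x₂, x₃, -, hline, hnd, -⟩ := factor_second hD hZ hF.data ha hb hx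
    simp only [List.nodup_cons, List.mem_cons, List.not_mem_nil, or_false, not_or] at hnd
    have hpr : ∀ y, y ∈ ln S b x → y ≠ b → y ≠ x → (x, y) ∈ Pr := fun y h1 h2 h3 => ⟨hx, h1, h2, h3⟩
    obtain ⟨⟨-, hb1, hb2, -⟩, ⟨hx1, hx2, -⟩, ⟨h12, -⟩, -⟩ := hnd
    have m1 : (x, x₁) ∈ Pr := hpr x₁ (by rw [hS, hline]; simp) (Ne.symm hb1) (Ne.symm hx1)
    have m2 : (x, x₂) ∈ Pr := hpr x₂ (by rw [hS, hline]; simp) (Ne.symm hb2) (Ne.symm hx2)
    refine mul_inv_eq_iff_eq_mul.1 ?_
    rcases hmem _ m1 with h | h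
    · exact h
    rcases hmem _ m2 with h' | h'
    · exact h'
    · exact absurd (h.symm.trans h') h12
  · rcases hg with h | h
    · exact mul_inv_eq_iff_eq_mul.1 (mul_inv_eq_one.1 h)
    · exfalso
      have h13 := hcl 1 3 (g * x * g⁻¹) le_rfl (by norm_num) (by norm_num) le_rfl
        ⟨_, factor_one hgx⟩ ⟨[a, b, x], by
          rw [← inv_mul_cancel_right (g * x * g⁻¹) x, show g * x * g⁻¹ * x⁻¹ = a * b from h]
          exact factor_three ha hb hx⟩
      omega

end Cfsg.Agent.ThreeTrans
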