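import Cfsg.Agent.ThreeTrans.PairExtraM22
import Cfsg.Agent.Core.Fitting
import Cfsg.Agent.Layer.FStar

/-!
# The generalised Fitting subgroup of the centraliser of a pair in type M(22)
-/

set_option autoImplicit false

open Cfsg

namespace Cfsg.Agent.ThreeTrans

/-- A normal subgroup of the automorphism group of a centreless simple group. -/
theorem normal_mulAut_cases {S : Type*} [Group S] [IsSimpleGroup S]
    (hc : Subgroup.center S = ⊥) (M : Subgroup (MulAut S)) [M.Normal] :
    M = ⊥ ∨ (MulAut.conj : S →* MulAut S).range ≤ M := by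
  rcases Subgroup.Normal.eq_bot_or_eq_top
    (inferInstance : (M.comap (MulAut.conj : S →* MulAut S)).Normal) with h | h
  · refine Or.inl ((Subgroup.eq_bot_iff_forall _).2 fun m hm => MulEquiv.ext fun s => ?_)
    have h1 : m * MulAut.conj s * m⁻¹ * (MulAut.conj s)⁻¹ ∈ M := by
      have := mul_mem hm (Subgroup.Normal.conj_mem inferInstance m⁻¹ (inv_mem hm) (MulAut.conj s))
      rwa [← mul_assoc, ← mul_assoc] at this
    have h2 : m * MulAut.conj s * m⁻¹ = MulAut.conj (m s) :=
      MulEquiv.ext fun t => by simp [MulAut.mul_apply, map_mul]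
    rw [h2, ← map_inv, ← map_mul] at h1
    have h3 : m s * s⁻¹ ∈ (⊥ : Subgroup S) := h ▸ Subgroup.mem_comap.2 h1
    rw [Subgroup.mem_bot, mul_inv_eq_one] at h3
    exact h3
  · refine Or.inr ?_
    rintro - ⟨s, rfl⟩
    exact Subgroup.mem_comap.1 (h ▸ Subgroup.mem_top s)

variable {G : Type*} [Group G] {D : Set G} {a b : G}

/-- The generalised Fitting subgroup of the centraliser of a pair is the 2-radical. -/
theorem pair_generalizedFitting [Finite G] (hD : IsThreeTranspositionGroup D)
    (h22 : IsOfTypeM22 G D) (ha : a ∈ D) (hb : b ∈ dperp D a) {E C : Subgroup G}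
    (hE : PairRadical D a b E) (hEC : E ≤ C) (hindex : ((pairCen a b).subgroupOf C).index = 2)
    [(E.subgroupOf C).Normal] {F : Type} [Field F] [Fintype F] (hF : Fintype.card F = 4)
    (hq : Nonempty (↥C ⧸ E.subgroupOf C ≃* MulAut (PSU 4 F 2))) (haC : pairCen a b ≤ C) :
    generalizedFittingSubgroup ↥C = E.subgroupOf C := by
  classical
  have hT := hD.1
  obtain ⟨e⟩ := hq
  have : IsSimpleGroup (PSU 4 F 2) := Cfsg.Agent.S0283.result
    (by rw [hF]; norm_num : Fintype.card F = 2 ^ 2) 4 (by norm_num) (by norm_num)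
  have hcS := center_psu_four hF
  let q : ↥C →* MulAut (PSU 4 F 2) := e.toMonoidHom.comp (QuotientGroup.mk' (E.subgroupOf C))
  have hqs : Function.Surjective q := e.surjective.comp (QuotientGroup.mk'_surjective _)
  have hker : ∀ g : ↥C, q g = 1 ↔ (g : G) ∈ E := fun g => by
    simp only [q, MonoidHom.comp_apply, MulEquiv.coe_toMonoidHom, EmbeddingLike.map_eq_one_iff,
      QuotientGroup.mk'_apply, QuotientGroup.eq_one_iff, Subgroup.mem_subgroupOf]
  set EC := E.subgroupOf C with hECdef
  have hconjinj : Function.Injective (MulAut.conj : PSU 4 F 2 →* MulAut (PSU 4 F 2)) := by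
    refine (injective_iff_map_eq_one _).2 fun s hs => Subgroup.mem_bot.1 (hcS ▸ ?_)
    refine Subgroup.mem_center_iff.2 fun t => ?_
    have h : s * t * s⁻¹ = t := DFunLike.congr_fun hs t
    exact (mul_inv_eq_iff_eq_mul.1 h).symm
  have hInn : Nat.card (MulAut.conj : PSU 4 F 2 →* MulAut (PSU 4 F 2)).range = 25920 := by
    rw [← card_psu_four hF]
    exact Nat.card_congr (MonoidHom.ofInjective hconjinj).toEquiv.symm
  -- the image of the joint centraliser
  set K := (pairCen a b).subgroupOf C with hK
  have hKq : (K.map q).index = 2 := by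
    rw [Subgroup.index_map_eq K hqs fun g hg =>
      Subgroup.mem_subgroupOf.2 (hE.le ((hker g).1 hg)), hindex]
  -- the centraliser of the radical
  set N := Subgroup.centralizer (EC : Set ↥C) with hN
  have hNK : N ≤ K := by
    intro g hg
    have h1 := Subgroup.mem_centralizer_iff.1 hg ⟨a, hEC hE.mem_a⟩ (Subgroup.mem_subgroupOf.2 hE.mem_a)
    have h2 := Subgroup.mem_centralizer_iff.1 hg ⟨a * b, hEC hE.mem_ab⟩
      (Subgroup.mem_subgroupOf.2 hE.mem_ab)
    have e1 : Commute (g : G) a := (congrArg Subtype.val h1).symm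
    have e2 : Commute (g : G) (a * b) := (congrArg Subtype.val h2).symm
    refine Subgroup.mem_subgroupOf.2 (mem_pairCen.2 ⟨e1, ?_⟩)
    have := e1.mul_right e2
    rwa [mul_self_mul hT ha] at this
  have hNE : N ≤ EC := by
    have hNn : N.Normal := Subgroup.normal_centralizer
    haveI : (N.map q).Normal := hNn.map q hqs
    rcases normal_mulAut_cases hcS (N.map q) with h | h
    · exact fun g hg => Subgroup.mem_subgroupOf.2 ((hker g).1 (by
        rw [← Subgroup.mem_bot, ← h]; exact Subgroup.mem_map_of_mem q hg))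
    exfalso
    have hNKq : N.map q = K.map q := by
      refine Subgroup.eq_of_le_of_card_ge (Subgroup.map_mono hNK) ?_
      have h1 := (K.map q).card_mul_index
      rw [hKq, card_mulAut_psu_four hF] at h1
      have h2 := Nat.card_mono (Set.toFinite (N.map q : Set (MulAut (PSU 4 F 2))))
        (SetLike.coe_subset_coe.2 h)
      rw [Nat.card_coe_set_eq, Nat.card_coe_set_eq] at h2
      have h3 : 25920 ≤ Nat.card ↥(N.map q) := by
        rw [← hInn]; exact h2
      omega
    have hcentral : ∀ g ∈ E, g ∈ Subgroup.closure ({a, b} : Set G) := by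
      intro g hg
      obtain ⟨hga, hgb⟩ := mem_pairCen.1 (hE.le hg)
      refine mem_of_central hD h22.1 (m22Full hD h22) ha hb hga hgb fun x hx => ?_
      have hxK : x ∈ pairCen a b := mem_pairCen.2 ⟨hx.1.2.2.symm, hx.2.2.symm⟩
      obtain ⟨n, hn, hnx⟩ := (hNKq ▸ Subgroup.mem_map_of_mem q
        (show (⟨x, haC hxK⟩ : ↥C) ∈ K from Subgroup.mem_subgroupOf.2 hxK) : q ⟨x, haC hxK⟩ ∈ N.map q)
      have hm : (n : G)⁻¹ * x ∈ E := (hker (n⁻¹ * ⟨x, haC hxK⟩)).1 (by
        rw [map_mul, map_inv, hnx, inv_mul_cancel])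
      refine hE.moves x hx g (hD.2.1 g x hx.1.1) ?_
      set m := (n : G)⁻¹ * x with hmdef
      have hxe : x = n * m := by rw [hmdef, mul_inv_cancel_left]
      have hcn : ∀ u ∈ E, Commute (n : G) u := fun u hu =>
        (congrArg Subtype.val (Subgroup.mem_centralizer_iff.1 hn ⟨u, hEC hu⟩
          (Subgroup.mem_subgroupOf.2 hu))).symm
      have key : g * x * g⁻¹ * x⁻¹ = g * m * g⁻¹ * m⁻¹ := by
        rw [hxe, ← mul_assoc g, ← (hcn g hg).eq, mul_inv_rev]
        calc (n : G) * g * m * g⁻¹ * (m⁻¹ * (n : G)⁻¹)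
            = n * (g * m * g⁻¹ * m⁻¹) * (n : G)⁻¹ := by group
          _ = g * m * g⁻¹ * m⁻¹ := by
            rw [(hcn _ (mul_mem (mul_mem (mul_mem hg hm) (inv_mem hg)) (inv_mem hm))).eq,
              mul_inv_cancel_right]
      rw [key]
      exact hE.comm g hg m hm
    have hle : E ≤ Subgroup.closure ({a, b} : Set G) := hcentral
    have hsub : (E : Set G) ⊆ {1, a, b, a * b} := fun u hu => by
      simpa using mem_closure_pair hT ha hb.1 hb.2.2 (hle hu)
    have h4 := Set.ncard_le_ncard hsub (Set.toFinite _)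
    rw [← Nat.card_coe_set_eq, SetLike.coe_sort_coe, hE.card] at h4
    have := Set.ncard_insert_le 1 ({a, b, a * b} : Set G)
    have := Set.ncard_insert_le a ({b, a * b} : Set G)
    have := Set.ncard_insert_le b ({a * b} : Set G)
    have := Set.ncard_singleton (a * b)
    omega
  have hp : IsPGroup 2 ↥EC := IsPGroup.of_card (n := 10)
    ((Nat.card_congr (Subgroup.subgroupOfEquivOfLe hEC).toEquiv).trans hE.card)
  haveI : Fact (Nat.Prime 2) := ⟨Nat.prime_two⟩
  have hEF : EC ≤ fittingSubgroup ↥C := Core.le_fittingSubgroup hp.isNilpotent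
  have hFE : fittingSubgroup ↥C ≤ EC := by
    have hnil := Core.fittingSubgroup_isNilpotent (G := ↥C)
    haveI : (fittingSubgroup ↥C).Normal := inferInstance
    haveI : ((fittingSubgroup ↥C).map q).Normal := Subgroup.Normal.map inferInstance q hqs
    have hMnil : Group.IsNilpotent ↥((fittingSubgroup ↥C).map q) :=
      Group.nilpotent_of_surjective (q.subgroupMap (fittingSubgroup ↥C))
        (q.subgroupMap_surjective _)
    rcases normal_mulAut_cases hcS ((fittingSubgroup ↥C).map q) with h | h
    · exact fun g hg => Subgroup.mem_subgroupOf.2 ((hker g).1 (by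
        rw [← Subgroup.mem_bot, ← h]; exact Subgroup.mem_map_of_mem q hg))
    exfalso
    haveI := hMnil
    have h1 : Group.IsNilpotent ↥(MulAut.conj : PSU 4 F 2 →* MulAut (PSU 4 F 2)).range :=
      Group.nilpotent_of_mulEquiv (Subgroup.subgroupOfEquivOfLe h)
    haveI := h1
    have h2 : Group.IsNilpotent (PSU 4 F 2) :=
      Group.nilpotent_of_mulEquiv (MonoidHom.ofInjective hconjinj).symm
    have : Nontrivial (PSU 4 F 2) := IsSimpleGroup.toNontrivial
    have hsol : Group.IsSolvable (PSU 4 F 2) := inferInstance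
    exact bot_ne_top ((hcS.symm).trans (eq_top_iff.2 fun x _ => Subgroup.mem_center_iff.2
      fun y => IsSimpleGroup.comm_iff_isSolvable.2 hsol y x))
  have hlayer : layer ↥C = ⊥ := by
    refine le_bot_iff.1 (sSup_le fun L hL => ?_)
    exfalso
    have h1 : L ≤ N := by
      refine fun l hl => Subgroup.mem_centralizer_iff.2 fun u hu => ?_
      exact (Subgroup.mem_centralizer_iff.1 (Layer.fitting_le_centralizer_layer (hEF hu)) l
        (Layer.component_le_layer hL hl)).symm
    refine Layer.qs_subgroup_not_abelian hL.2 ?_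
    rw [Subgroup.commutator_eq_bot_iff_le_centralizer]
    exact fun l hl => Subgroup.mem_centralizer_iff.2 fun k hk =>
      (Subgroup.mem_centralizer_iff.1 (h1 hk) l (hNE (h1 hl))).symm
  rw [generalizedFittingSubgroup, hlayer, bot_sup_eq]
  exact le_antisymm hFE hEF

theorem eq_one_or_eq_of_mem_zpowers {u v : G} (hu : u * u = 1) (hv : v ∈ Subgroup.zpowers u) :
    v = 1 ∨ v = u := by
  obtain ⟨k, rfl⟩ := Subgroup.mem_zpowers_iff.1 hv
  rcases Int.even_or_odd' k with ⟨j, rfl | rfl⟩
  · left; rw [zpow_mul, zpow_two, hu, one_zpow]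
  · right; rw [zpow_add_one, zpow_mul, zpow_two, hu, one_zpow, one_mul]

/-- The 2-radical is a product of a group of order two with an extraspecial group. -/
theorem PairRadical.structure_eq [Finite G] (hD : IsThreeTranspositionGroup D) (ha : a ∈ D)
    (hb : b ∈ dperp D a) {E : Subgroup G} (hE : PairRadical D a b E) :
    ∃ (E₀ : Type) (_ : Group E₀) (_ : Finite E₀), IsExtraspecial 2 E₀ ∧ Nat.card E₀ = 2 ^ 9 ∧
      Nonempty (↥E ≃* Multiplicative (ZMod 2) × E₀) := by
  classical
  have hT := hD.1
  have hab0 : a * b ≠ 1 := fun h => hb.2.1 (by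
    rw [← mul_self_mul hT ha b, h, mul_one])
  have hne : a ≠ a * b := fun h => ne_one hT hb.1 (left_eq_mul.1 h)
  set z : G := a * b with hz
  have hzz : z * z = 1 := by
    rw [hz, hb.2.2.symm.mul_mul_mul_comm, mul_self hT ha, mul_self hT hb.1, one_mul]
  have hca : ∀ g ∈ E, Commute g a := fun g hg => (mem_pairCen.1 (hE.le hg)).1
  have hcz : ∀ g ∈ E, Commute g z := fun g hg =>
    (hca g hg).mul_right (mem_pairCen.1 (hE.le hg)).2
  obtain ⟨M, -, ⟨hME, hzM, haM⟩, hmax⟩ := Finite.exists_le_maximal
    (p := fun M : Subgroup G => M ≤ E ∧ z ∈ M ∧ a ∉ M) (a := Subgroup.zpowers z)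
    ⟨Subgroup.zpowers_le.2 hE.mem_ab, Subgroup.mem_zpowers z, fun h => by
      rcases eq_one_or_eq_of_mem_zpowers hzz h with h | h
      · exact ne_one hT ha h
      · exact hne h⟩
  have hcM : ∀ g ∈ E, ∀ m ∈ M, g * m * g⁻¹ ∈ M := fun g hg m hm => by
    rcases hE.comm g hg m (hME hm) with h | h <;> rw [mul_inv_eq_iff_eq_mul] at h <;> rw [h]
    exacts [by rwa [one_mul], mul_mem hzM hm]
  have hcover : ∀ g ∈ E, g ∈ M ∨ a * g ∈ M := by
    intro g hg
    by_contra hcon
    push Not at hcon
    obtain ⟨hgM, hagM⟩ := hcon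
    have hgg : g * g ∈ M := by
      rcases hE.sq g hg with h | h <;> rw [h]
      exacts [one_mem _, hzM]
    let M' : Subgroup G :=
      { carrier := {x | x ∈ M ∨ g * x ∈ M}
        one_mem' := Or.inl (one_mem M)
        inv_mem' := by
          rintro x (h | h)
          · exact Or.inl (inv_mem h)
          · refine Or.inr ?_
            show g * x⁻¹ ∈ M
            have h1 : g * (g * x)⁻¹ * g⁻¹ * (g * g) ∈ M := mul_mem (hcM g hg _ (inv_mem h)) hgg
            rwa [show g * (g * x)⁻¹ * g⁻¹ * (g * g) = g * x⁻¹ by group] at h1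
        mul_mem' := by
          rintro x y (hx | hx) (hy | hy)
          · exact Or.inl (mul_mem hx hy)
          · refine Or.inr ?_
            show g * (x * y) ∈ M
            have h1 := mul_mem (hcM g hg x hx) hy
            rwa [show g * x * g⁻¹ * (g * y) = g * (x * y) by group] at h1
          · refine Or.inr ?_
            show g * (x * y) ∈ M
            rw [← mul_assoc]; exact mul_mem hx hy
          · refine Or.inl ?_
            have h1 : g⁻¹ * (g * x) * g * (g * g)⁻¹ * (g * y) ∈ M := by
              have := hcM g⁻¹ (inv_mem hg) _ hx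
              rw [inv_inv] at this
              exact mul_mem (mul_mem this (inv_mem hgg)) hy
            rwa [show g⁻¹ * (g * x) * g * (g * g)⁻¹ * (g * y) = x * y by group] at h1 }
    have hle : M ≤ M' := fun x hx => Or.inl hx
    have hgM' : g ∈ M' := Or.inr hgg
    refine hgM (hmax (y := M') ⟨?_, hle hzM, ?_⟩ hle hgM')
    · rintro x (h | h)
      · exact hME h
      · have := mul_mem (inv_mem hg) (hME h)
        rwa [inv_mul_cancel_left] at this
    · rintro (h | h)
      · exact haM h
      · exact hagM (by rwa [(hca g hg).eq] at h)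
  have haa := mul_self hT ha
  -- the product
  have hcomm : ∀ (u : Subgroup.zpowers a) (m : M), Commute (u : G) (m : G) := fun u m => by
    obtain ⟨k, hk⟩ := Subgroup.mem_zpowers_iff.1 u.2
    rw [← hk]
    exact ((hca m (hME m.2)).symm.zpow_left k)
  have haE : Subgroup.zpowers a ≤ E := Subgroup.zpowers_le.2 hE.mem_a
  let f : Subgroup.zpowers a × M →* ↥E :=
    MonoidHom.mk' (fun p => ⟨(p.1 : G) * p.2, mul_mem (haE p.1.2) (hME p.2.2)⟩) fun p r =>
      Subtype.ext (show (p.1 : G) * r.1 * ((p.2 : G) * r.2) = (p.1 : G) * p.2 * ((r.1 : G) * r.2) from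
        (hcomm r.1 p.2).mul_mul_mul_comm _ _)
  have hf : Function.Bijective f := by
    refine ⟨(injective_iff_map_eq_one f).2 ?_, fun g => ?_⟩
    · rintro ⟨⟨u, hu⟩, m, hm⟩ h
      have h' : u * m = 1 := congrArg Subtype.val h
      rcases eq_one_or_eq_of_mem_zpowers haa hu with rfl | rfl
      · exact Prod.ext (Subtype.ext rfl) (Subtype.ext (by simpa using h'))
      · exfalso
        exact haM (by rw [eq_inv_of_mul_eq_one_left h']; exact inv_mem hm)
    · rcases hcover g g.2 with h | h
      · exact ⟨(1, ⟨g, h⟩), Subtype.ext (one_mul _)⟩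
      · exact ⟨(⟨a, Subgroup.mem_zpowers a⟩, ⟨a * g, h⟩), Subtype.ext (mul_self_mul hT ha _)⟩
  have hza : Nat.card (Subgroup.zpowers a) = 2 := by
    rw [Nat.card_zpowers]; exact orderOf_eq_prime (by rw [_root_.sq, haa]) (ne_one hT ha)
  have hMc : Nat.card M = 2 ^ 9 := by
    have := Nat.card_congr (Equiv.ofBijective f hf)
    rw [Nat.card_prod, hza, hE.card] at this
    omega
  have hext : IsExtraspecial 2 ↥M := by
    refine LargeExtra.extraspecial_of (IsPGroup.of_card hMc) (w := ⟨z, hzM⟩)
      (fun h => hab0 (congrArg Subtype.val h)) (Subtype.ext hzz)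
      (Subgroup.mem_center_iff.2 fun g => Subtype.ext (hcz g (hME g.2)).eq) ?_ ?_ ?_ ?_
    · intro c hc
      have hcE : ∀ h ∈ E, Commute (c : G) h := fun h hh => by
        rcases hcover h hh with hm | hm
        · exact (congrArg Subtype.val (Subgroup.mem_center_iff.1 hc ⟨h, hm⟩)).symm
        · have h1 : Commute (c : G) (a * h) :=
            (congrArg Subtype.val (Subgroup.mem_center_iff.1 hc ⟨a * h, hm⟩)).symm
          have h2 := ((hca c (hME c.2))).mul_right h1
          rwa [mul_self_mul hT ha] at h2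
      rcases mem_closure_pair hT ha hb.1 hb.2.2 (hE.center c (hME c.2) hcE) with h | h | h | h
      · exact Or.inl (Subtype.ext h)
      · exact absurd (h ▸ c.2) haM
      · exfalso
        refine haM ?_
        have := mul_mem hzM (h ▸ c.2 : b ∈ M)
        rwa [hz, mul_mul_self hT hb.1] at this
      · exact Or.inr (Subtype.ext h)
    · intro g h
      rcases hE.comm g (hME g.2) h (hME h.2) with k | k
      exacts [Or.inl (Subtype.ext k), Or.inr (Subtype.ext k)]
    · intro g
      rcases hE.sq g (hME g.2) with k | k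
      exacts [Or.inl (Subtype.ext k), Or.inr (Subtype.ext k)]
    · by_contra hcon
      push Not at hcon
      have hsub : (M : Set G) ⊆ {1, a, b, a * b} := fun c hc => by
        have hcE : ∀ h ∈ E, Commute c h := fun h hh => by
          rcases hcover h hh with hm | hm
          · exact congrArg Subtype.val (hcon ⟨c, hc⟩ ⟨h, hm⟩)
          · have h1 : Commute c (a * h) := congrArg Subtype.val (hcon ⟨c, hc⟩ ⟨a * h, hm⟩)
            have h2 := (hca c (hME hc)).mul_right h1
            rwa [mul_self_mul hT ha] at h2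
        simpa using mem_closure_pair hT ha hb.1 hb.2.2 (hE.center c (hME hc) hcE)
      have h4 := Set.ncard_le_ncard hsub (Set.toFinite _)
      rw [← Nat.card_coe_set_eq, SetLike.coe_sort_coe, hMc] at h4
      have := Set.ncard_insert_le 1 ({a, b, a * b} : Set G)
      have := Set.ncard_insert_le a ({b, a * b} : Set G)
      have := Set.ncard_insert_le b ({a * b} : Set G)
      have := Set.ncard_singleton (a * b)
      omega
  let eM : ↥M ≃ {_i : Fin (Nat.card M) // True} :=
    (Finite.equivFin ↥M).trans (Equiv.subtypeUnivEquiv fun _ => trivial).symm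
  letI : Group {_i : Fin (Nat.card M) // True} := eM.symm.group
  let eT : ↥M ≃* {_i : Fin (Nat.card M) // True} := eM.symm.mulEquiv.symm
  exact ⟨{_i : Fin (Nat.card M) // True}, inferInstance, inferInstance, LargeExtra.extraspecial_congr eT hext,
    (Nat.card_congr eT.toEquiv).symm.trans hMc,
    ⟨(MulEquiv.ofBijective f hf).symm.trans ((mulEquivOfPrimeCardEq (p := 2) hza (by simp)).prodCongr eT)⟩⟩

end Cfsg.Agent.ThreeTrans
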