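import Cfsg.Agent.ThreeTrans.PairM23
import Cfsg.Agent.ThreeTrans.UnitaryCounts
import Cfsg.Agent.ThreeTrans.Primitive

/-!
# Simplicity in type M(22)

The centraliser of a member is perfect with centre the member and simple quotient; a primitive
group with such centralisers is simple.
-/

set_option autoImplicit false

open Cfsg

namespace Cfsg.Agent.ThreeTrans

variable {G : Type*} [Group G] {D : Set G}

theorem conjList_eq_conj (hT : IsThreeTranspositionSet D) (w : G) :
    ∀ {l : List G}, (∀ p ∈ l, p ∈ D) → conjList l w = l.prod * w * l.prod⁻¹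
  | [], _ => by simp [conjList]
  | p :: l, h => by
    have ih := conjList_eq_conj hT w (l := l) fun q hq => h q (List.mem_cons_of_mem _ hq)
    simp only [conjList] at ih ⊢
    rw [List.foldr_cons, ih, List.prod_cons, mul_inv_rev, inv_eq hT (h p List.mem_cons_self)]
    group

/-- A primitive group is simple when the centralisers of members are perfect with simple quotient
by the member. -/
theorem simple_of_perfect_centralizers (hD : IsThreeTranspositionGroup D)
    (hprim : IsPrimitiveUnderConj D) (hZ : Subgroup.center G = ⊥)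
    {K : Type*} [Group K] [IsSimpleGroup K]
    (hper : ∀ d ∈ D, ⁅Subgroup.centralizer ({d} : Set G), Subgroup.centralizer ({d} : Set G)⁆ =
      Subgroup.centralizer ({d} : Set G))
    (hχ : ∀ d ∈ D, ∃ χ : ↥(Subgroup.centralizer ({d} : Set G)) →* K, Function.Surjective χ ∧
      ∀ x, χ x = 1 ↔ ((x : G) = 1 ∨ (x : G) = d)) : IsSimpleGroup G := by
  have hT := hD.1
  obtain ⟨d, hd, -⟩ := hprim.2.1
  have hd1 : d ≠ 1 := ne_one hT hd
  have : Nontrivial G := ⟨d, 1, hd1⟩
  refine IsSimpleGroup.mk fun N hN => ?_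
  rcases prim_classes hD hprim (R := fun a b => ∃ n ∈ N, n * a * n⁻¹ = b)
    (fun a => ⟨1, one_mem _, by simp⟩)
    (fun {a b} ⟨n, hn, h⟩ => ⟨n⁻¹, inv_mem hn, by rw [← h]; group⟩)
    (fun {a b c} ⟨n, hn, h⟩ ⟨m, hm, h'⟩ => ⟨m * n, mul_mem hm hn, by rw [← h', ← h]; group⟩)
    (fun g {a b} ⟨n, hn, h⟩ => ⟨g * n * g⁻¹, hN.conj_mem n hn g, by rw [← h]; group⟩) with h | h
  · refine Or.inl (eq_bot_iff.2 fun n hn => ?_)
    rw [← hZ, Subgroup.mem_center_iff]
    intro g
    have hmem : g ∈ Subgroup.centralizer ({n} : Set G) := by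
      revert g
      rw [← Subgroup.eq_top_iff', eq_top_iff, ← hD.2.2, Subgroup.closure_le]
      intro a ha
      refine Subgroup.mem_centralizer_singleton_iff.2 ?_
      have := h a ha (n * a * n⁻¹) (hD.2.1 n a ha) ⟨n, hn, rfl⟩
      exact eq_mul_inv_iff_mul_eq.1 this
    exact Subgroup.mem_centralizer_singleton_iff.1 hmem
  refine Or.inr ?_
  suffices hdN : d ∈ N by
    rw [eq_top_iff, ← hD.2.2, Subgroup.closure_le]
    intro a ha
    obtain ⟨g, rfl⟩ := hprim.1 d hd a ha
    exact hN.conj_mem d hdN g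
  by_contra hdN
  set C := Subgroup.centralizer ({d} : Set G)
  have hdC : d ∈ C := Subgroup.mem_centralizer_singleton_iff.2 rfl
  obtain ⟨χ, hsurj, hker⟩ := hχ d hd
  rcases IsSimpleGroup.eq_bot_or_eq_top_of_normal ((N.subgroupOf C).map χ)
    ((hN.subgroupOf C).map χ hsurj) with hb | ht
  · have htriv : ∀ x ∈ C, x ∈ N → x = 1 := fun x hx hxN => by
      have h1 : χ ⟨x, hx⟩ = 1 := by
        rw [← Subgroup.mem_bot, ← hb]
        exact ⟨⟨x, hx⟩, hxN, rfl⟩
      rcases (hker _).1 h1 with h' | h'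
      · exact h'
      · exact absurd (h' ▸ hxN : d ∈ N) hdN
    set π := QuotientGroup.mk' N
    have hπ : ∀ a ∈ D, π a = π d := fun a ha => by
      obtain ⟨n, hn, rfl⟩ := h d hd a ha
      have : π n = 1 := (QuotientGroup.eq_one_iff n).2 hn
      rw [map_mul, map_mul, map_inv, this]
      group
    have hcyc : ∀ g : G, π g ∈ Subgroup.zpowers (π d) := by
      have : (⊤ : Subgroup G) ≤ (Subgroup.zpowers (π d)).comap π := by
        rw [← hD.2.2, Subgroup.closure_le]
        exact fun a ha => by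
          show π a ∈ Subgroup.zpowers (π d)
          rw [hπ a ha]
          exact Subgroup.mem_zpowers _
      exact fun g => this (Subgroup.mem_top g)
    have hbot : ⁅C, C⁆ ≤ ⊥ := Subgroup.commutator_le.2 fun x hx y hy => by
      refine htriv _ (mul_mem (mul_mem (mul_mem hx hy) (inv_mem hx)) (inv_mem hy)) ?_
      rw [← QuotientGroup.eq_one_iff]
      show π (x * y * x⁻¹ * y⁻¹) = 1
      obtain ⟨i, hi⟩ := Subgroup.mem_zpowers_iff.1 (hcyc x)
      obtain ⟨j, hj⟩ := Subgroup.mem_zpowers_iff.1 (hcyc y)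
      rw [map_mul, map_mul, map_mul, map_inv, map_inv, ← hi, ← hj]
      group
    rw [hper d hd] at hbot
    exact hd1 (Subgroup.mem_bot.1 (hbot hdC))
  · refine hdN ?_
    have hle : ⁅C, C⁆ ≤ N := Subgroup.commutator_le.2 fun x hx y hy => by
      have key : ∀ z : ↥C, ∃ n ∈ N, Commute n d ∧ ((z : G) = n ∨ (z : G) = n * d) := by
        intro z
        obtain ⟨w, hw, hwz⟩ : χ z ∈ (N.subgroupOf C).map χ := ht ▸ Subgroup.mem_top _
        refine ⟨w, hw, Subgroup.mem_centralizer_singleton_iff.1 w.2, ?_⟩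
        rcases (hker (w⁻¹ * z)).1 (by rw [map_mul, map_inv, hwz, inv_mul_cancel]) with h' | h' <;>
          rw [Subgroup.coe_mul, Subgroup.coe_inv] at h'
        · exact Or.inl (inv_mul_eq_one.1 h').symm
        · exact Or.inr (inv_mul_eq_iff_eq_mul.1 h')
      rw [← QuotientGroup.eq_one_iff]
      show QuotientGroup.mk' N (x * y * x⁻¹ * y⁻¹) = 1
      have hk : ∀ z : ↥C, QuotientGroup.mk' N (z : G) = 1 ∨
          QuotientGroup.mk' N (z : G) = QuotientGroup.mk' N d := fun z => by
        obtain ⟨n, hn, -, h' | h'⟩ := key z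
        · exact Or.inl (by rw [h']; exact (QuotientGroup.eq_one_iff n).2 hn)
        · exact Or.inr (by
            rw [h', map_mul, show QuotientGroup.mk' N n = 1 from (QuotientGroup.eq_one_iff n).2 hn,
              one_mul])
      rw [map_mul, map_mul, map_mul, map_inv, map_inv]
      rcases hk ⟨x, hx⟩ with e | e <;> rcases hk ⟨y, hy⟩ with e' | e' <;> rw [e, e'] <;> group
    exact hle ((hper d hd).symm ▸ hdC)

section M22

variable [Finite G] (hD : IsThreeTranspositionGroup D) (h22 : IsOfTypeM22 G D)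

include hD h22

/-- A frame in the layer of `d` times `d` is a product of three members of the layer. -/
theorem frame_shift {d : G} (hd : d ∈ D) {a b x : G} (ha₀ : a ∈ dperp D d)
    (hb₀ : b ∈ dperp (dperp D d) a) (hx₀ : x ∈ dperp D d) (hxa : Commute x a) (hxb : Commute x b)
    (hxl : x ∉ ln (dperp D d) a b) : ∃ p q r : G, p ∈ dperp D d ∧ q ∈ dperp D d ∧ r ∈ dperp D d ∧
      Factor D 3 (a * b * x * d) [p, q, r] := by
  have hT := hD.1
  have hF := m22Full hD h22
  have hZ := h22.1
  obtain ⟨T, T', hl, hl', hnd, hmem, hcomm, hfix⟩ :=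
    (layer_counts_M22 hD h22 d hd).ovals a ha₀ b hb₀ x hx₀ hxa hxb hxl
  obtain ⟨p₁, p₂, p₃, rfl⟩ := List.length_eq_three.1 hl
  obtain ⟨q₁, q₂, q₃, rfl⟩ := List.length_eq_three.1 hl'
  simp only [List.cons_append, List.nil_append] at hnd hmem hcomm
  have hone : ∀ l : List G, (∀ p ∈ l, p ∈ dperp D d) → (∀ w ∈ dperp D d, conjList l w = w) →
      l.prod = 1 ∨ l.prod = d := fun l hl hw => by
    refine eq_one_or_eq_of_centralises hD hZ hF.data hF.links hd
      ((Commute.list_prod_left l d) fun p hp => (hl p hp).2.2.symm) fun w hw' => ?_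
    have := hw w hw'
    rw [conjList_eq_conj hT w (fun p hp => (hl p hp).1)] at this
    exact mul_inv_eq_iff_eq_mul.1 this
  have s1 : [a, b, x, p₁, p₂, p₃].Sublist [a, b, x, p₁, p₂, p₃, q₁, q₂, q₃] := List.sublist_append_left _ [q₁, q₂, q₃]
  have s2 : [a, b, x, q₁, q₂, q₃].Sublist [a, b, x, p₁, p₂, p₃, q₁, q₂, q₃] :=
    (List.Sublist.refl [a, b, x]).append (List.sublist_append_right [p₁, p₂, p₃] [q₁, q₂, q₃])
  have s0 : [a, b, x].Sublist [a, b, x, p₁, p₂, p₃, q₁, q₂, q₃] := List.sublist_append_left _ _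
  have t1 : [p₁, p₂, p₃].Sublist [a, b, x, p₁, p₂, p₃, q₁, q₂, q₃] :=
    (List.sublist_append_left [p₁, p₂, p₃] [q₁, q₂, q₃]).trans (List.sublist_append_right [a, b, x] _)
  have t2 : [q₁, q₂, q₃].Sublist [a, b, x, p₁, p₂, p₃, q₁, q₂, q₃] := List.sublist_append_right [a, b, x, p₁, p₂, p₃] _
  have ha := hmem a (by simp)
  have hb := hmem b (by simp)
  have hx := hmem x (by simp)
  have h1 := hone [a, b, x, p₁, p₂, p₃]
    (fun p hp => hmem p (s1.subset hp)) fun w hw => (hfix w hw).1
  have h2 := hone [a, b, x, q₁, q₂, q₃]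
    (fun p hp => hmem p (s2.subset hp)) fun w hw => (hfix w hw).2
  simp only [List.prod_cons, List.prod_nil, mul_one, ← mul_assoc] at h1 h2
  have habx : (a * b * x) * (a * b * x) = 1 := by
    have hc1 : Commute a b := hcomm a (by simp) b (by simp)
    have hc2 : Commute a x := hcomm a (by simp) x (by simp)
    have hc3 : Commute b x := hcomm b (by simp) x (by simp)
    rw [show (a * b * x) * (a * b * x) = a * b * (x * (a * b)) * x by group,
      ← (hc2.mul_left hc3).eq, ← mul_assoc, hc1.symm.mul_mul_mul_comm, mul_self hT ha.1,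
      mul_self hT hb.1, one_mul, one_mul, mul_self hT hx.1]
  rcases h1 with h1 | h1
  swap
  · refine ⟨p₁, p₂, p₃, hmem _ (by simp), hmem _ (by simp), hmem _ (by simp), hnd.sublist t1, rfl,
      fun p hp => (hmem p (t1.subset hp)).1,
      fun p hp q hq => hcomm p (t1.subset hp) q (t1.subset hq), ?_⟩
    calc [p₁, p₂, p₃].prod = (a * b * x) * (a * b * x) * (p₁ * p₂ * p₃) := by
          rw [habx]; simp [mul_assoc]
      _ = a * b * x * (a * b * x * p₁ * p₂ * p₃) := by group
      _ = a * b * x * d := by rw [h1]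
  rcases h2 with h2 | h2
  swap
  · refine ⟨q₁, q₂, q₃, hmem _ (by simp), hmem _ (by simp), hmem _ (by simp), hnd.sublist t2, rfl,
      fun p hp => (hmem p (t2.subset hp)).1,
      fun p hp q hq => hcomm p (t2.subset hp) q (t2.subset hq), ?_⟩
    calc [q₁, q₂, q₃].prod = (a * b * x) * (a * b * x) * (q₁ * q₂ * q₃) := by
          rw [habx]; simp [mul_assoc]
      _ = a * b * x * (a * b * x * q₁ * q₂ * q₃) := by group
      _ = a * b * x * d := by rw [h2]
  exfalso
  have h₀ : Factor D 3 (a * b * x) [a, b, x] :=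
    ⟨hnd.sublist s0, rfl, fun p hp => (hmem p (s0.subset hp)).1,
      fun p hp q hq => hcomm p (s0.subset hp) q (s0.subset hq),
      by simp [mul_assoc]⟩
  have hT1 : p₁ * p₂ * p₃ = a * b * x := by
    calc p₁ * p₂ * p₃ = (a * b * x) * (a * b * x) * (p₁ * p₂ * p₃) := by rw [habx, one_mul]
      _ = (a * b * x) * (a * b * x * p₁ * p₂ * p₃) := by group
      _ = a * b * x := by rw [h1, mul_one]
  have hT2 : q₁ * q₂ * q₃ = a * b * x := by
    calc q₁ * q₂ * q₃ = (a * b * x) * (a * b * x) * (q₁ * q₂ * q₃) := by rw [habx, one_mul]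
      _ = (a * b * x) * (a * b * x * q₁ * q₂ * q₃) := by group
      _ = a * b * x := by rw [h2, mul_one]
  have hF1 : Factor D 3 (a * b * x) [p₁, p₂, p₃] :=
    ⟨hnd.sublist t1, rfl, fun p hp => (hmem p (t1.subset hp)).1,
      fun p hp q hq => hcomm p (t1.subset hp) q (t1.subset hq),
      by rw [← hT1]; simp [mul_assoc]⟩
  have hF2 : Factor D 3 (a * b * x) [q₁, q₂, q₃] :=
    ⟨hnd.sublist t2, rfl, fun p hp => (hmem p (t2.subset hp)).1,
      fun p hp q hq => hcomm p (t2.subset hp) q (t2.subset hq),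
      by rw [← hT2]; simp [mul_assoc]⟩
  obtain ⟨l₂, -, -, hall⟩ := two_factorisations hD hZ hF.data h₀
  rcases hall _ hF1 with k | k
  · have := (k p₁).1 List.mem_cons_self
    simp only [List.mem_cons, List.not_mem_nil, or_false] at this
    rcases this with rfl | rfl | rfl <;> simp at hnd
  rcases hall _ hF2 with k' | k'
  · have := (k' q₁).1 List.mem_cons_self
    simp only [List.mem_cons, List.not_mem_nil, or_false] at this
    rcases this with rfl | rfl | rfl <;> simp at hnd
  · have := ((k p₁).trans (k' p₁).symm).1 List.mem_cons_self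
    simp only [List.mem_cons, List.not_mem_nil, or_false] at this
    rcases this with rfl | rfl | rfl <;> simp at hnd

/-- The centraliser of a member is perfect. -/
theorem centralizer_perfect_M22 {d : G} (hd : d ∈ D) :
    ⁅Subgroup.centralizer ({d} : Set G), Subgroup.centralizer ({d} : Set G)⁆ =
      Subgroup.centralizer ({d} : Set G) := by
  have hT := hD.1
  have hF := m22Full hD h22
  have hZ := h22.1
  have hcen := centralizer_eq_closure hD hF hZ hd
  rw [hcen]
  set H := Subgroup.closure (dperp D d)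
  refine le_antisymm (Subgroup.commutator_le_self H) ?_
  have hS : ∀ {u}, u ∈ dperp D d → u ∈ H := fun hu => Subgroup.subset_closure hu
  have hev : ∀ {u v}, u ∈ dperp D d → v ∈ dperp D d → u * v ∈ ⁅H, H⁆ := fun {u v} hu hv => by
    obtain ⟨k, hk, rfl⟩ := exists_mv hD hF hd hv hu
    have := Subgroup.commutator_mem_commutator hk (hS hv)
    rwa [commutatorElement_def, inv_eq hT hv.1] at this
  have hdH : d ∈ ⁅H, H⁆ := by
    obtain ⟨a, ha₀⟩ := hF.data.nice.rich d hd
    obtain ⟨b, hb₀⟩ := (hF.data.layerNice d hd).rich a ha₀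
    obtain ⟨x, hx₀, hxa, hxb, hxl⟩ := (hF.planes d hd).ext a ha₀ b hb₀
    obtain ⟨p, q, r, hp, hq, hr, hfac⟩ := frame_shift hD h22 hd ha₀ hb₀ hx₀ hxa hxb hxl
    have hpr := hfac.2.2.2.2
    simp only [List.prod_cons, List.prod_nil, mul_one] at hpr
    have hx2 : x * x = 1 := mul_self hT hx₀.1
    have e : d = (x * b) * (a * p) * (q * r) := by
      rw [show x * b * (a * p) * (q * r) = x * b * a * (p * (q * r)) by group, hpr]
      simp only [mul_assoc, mul_self_mul hT ha₀.1, mul_self_mul hT hb₀.1.1, mul_self_mul hT hx₀.1]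
    rw [e]
    exact mul_mem (mul_mem (hev hx₀ hb₀.1) (hev ha₀ hp)) (hev hq hr)
  refine (Subgroup.closure_le _).2 fun b hb => ?_
  obtain ⟨c, hc⟩ := (hF.data.layerNice d hd).rich b hb
  obtain ⟨x₁, x₂, x₃, hl, -, -, hprod⟩ := exists_second_triple hD hZ hF.data hd hb hc
  have hm : ∀ {p}, p = x₁ ∨ p = x₂ ∨ p = x₃ → p ∈ dperp D d := fun {p} hp => by
    have : p ∈ ln (dperp D d) b c := by rw [hl]; simp; tauto
    exact this.1
  have he : b = (x₁ * x₂) * (x₃ * c) * d := by
    rw [show x₁ * x₂ * (x₃ * c) = x₁ * x₂ * x₃ * c by group, hprod,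
      show d * b * c * c = d * b by rw [mul_assoc _ c, mul_self hT hc.1.1, mul_one],
      hb.2.2.eq, mul_assoc, mul_self hT hd, mul_one]
  rw [SetLike.mem_coe, he]
  exact mul_mem (mul_mem (hev (hm (Or.inl rfl)) (hm (Or.inr (Or.inl rfl))))
    (hev (hm (Or.inr (Or.inr rfl))) hc.1)) hdH

end M22

end Cfsg.Agent.ThreeTrans
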