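import Cfsg.Agent.ThreeTrans.CountM23
import Mathlib.GroupTheory.FixedPointFree

/-!
# The centraliser of a member in type M(23)

The centraliser of a member is perfect and maps onto a simple group of type M(22) with the member
as kernel.
-/

set_option autoImplicit false

open Cfsg
open scoped commutatorElement

namespace Cfsg.Agent.ThreeTrans

universe u

/-- A group is simple when it is perfect, every involution fixes a member and the centralisers of
members are perfect with simple quotient by the member. -/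
theorem simple_of_fixed_members {G : Type*} [Group G] [Finite G] {D : Set G}
    (hD : IsThreeTranspositionGroup D) (hcls : IsThreeTranspositionClass D)
    (hp : commutator G = ⊤)
    (hfix : ∀ t : G, t * t = 1 → ∃ x ∈ D, Commute t x)
    (hq : ∀ d ∈ D, ⁅Subgroup.centralizer ({d} : Set G), Subgroup.centralizer ({d} : Set G)⁆ =
        Subgroup.centralizer ({d} : Set G) ∧
      ∃ (K : Type _) (_ : Group K) (χ : ↥(Subgroup.centralizer ({d} : Set G)) →* K),
        IsSimpleGroup K ∧ Function.Surjective χ ∧ ∀ x, χ x = 1 ↔ ((x : G) = 1 ∨ (x : G) = d))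
    (hne : D.Nonempty) : IsSimpleGroup G := by
  have hT := hD.1
  obtain ⟨d₀, hd₀⟩ := hne
  have : Nontrivial G := ⟨d₀, 1, ne_one hT hd₀⟩
  refine IsSimpleGroup.mk fun N hN => ?_
  by_cases hmem : ∃ d ∈ D, d ∈ N
  · obtain ⟨d, hd, hdN⟩ := hmem
    refine Or.inr ?_
    rw [eq_top_iff, ← hD.2.2, Subgroup.closure_le]
    intro a ha
    obtain ⟨g, rfl⟩ := class_isConj hcls hd ha
    exact hN.conj_mem d hdN g
  push Not at hmem
  have htriv : ∀ d ∈ D, ∀ n ∈ N, Commute n d → n = 1 := by
    intro d hd n hn hnd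
    have hqd := hq d hd
    set C := Subgroup.centralizer ({d} : Set G)
    obtain ⟨hper, K, _, χ, hK, hsurj, hker⟩ := hqd
    have hnC : n ∈ C := Subgroup.mem_centralizer_singleton_iff.2 hnd.eq
    rcases IsSimpleGroup.eq_bot_or_eq_top_of_normal ((N.subgroupOf C).map χ)
      ((hN.subgroupOf C).map χ hsurj) with hb | ht
    · have h1 : χ ⟨n, hnC⟩ = 1 := by
        rw [← Subgroup.mem_bot, ← hb]
        exact ⟨⟨n, hnC⟩, hn, rfl⟩
      rcases (hker _).1 h1 with h | h
      · exact h
      · exact absurd (h ▸ hn : d ∈ N) (hmem d hd)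
    · exfalso
      refine hmem d hd ?_
      set π := QuotientGroup.mk' N
      have hk : ∀ z : ↥C, π (z : G) = 1 ∨ π (z : G) = π d := fun z => by
        obtain ⟨w, hw, hwz⟩ : χ z ∈ (N.subgroupOf C).map χ := ht ▸ Subgroup.mem_top _
        have hw' : π (w : G) = 1 := (QuotientGroup.eq_one_iff (w : G)).2 hw
        rcases (hker (w⁻¹ * z)).1 (by rw [map_mul, map_inv, hwz, inv_mul_cancel]) with h' | h' <;>
          rw [Subgroup.coe_mul, Subgroup.coe_inv] at h'
        · exact Or.inl (by rw [← inv_mul_eq_one.1 h']; exact hw')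
        · exact Or.inr (by rw [inv_mul_eq_iff_eq_mul.1 h', map_mul, hw', one_mul])
      have hle : ⁅C, C⁆ ≤ N := Subgroup.commutator_le.2 fun x hx y hy => by
        rw [← QuotientGroup.eq_one_iff]
        show π (x * y * x⁻¹ * y⁻¹) = 1
        rw [map_mul, map_mul, map_mul, map_inv, map_inv]
        rcases hk ⟨x, hx⟩ with e | e <;> rcases hk ⟨y, hy⟩ with e' | e' <;> rw [e, e'] <;> group
      exact hle (hper.symm ▸ Subgroup.mem_centralizer_singleton_iff.2 rfl)
  refine Or.inl (eq_bot_iff.2 fun n hn => ?_)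
  have hodd : ∀ t ∈ N, t * t = 1 → t = 1 := fun t ht ht2 => by
    obtain ⟨x, hx, htx⟩ := hfix t ht2
    exact htriv x hx t ht htx
  -- every member inverts `N`
  have hinv : ∀ d ∈ D, ∀ m ∈ N, d * m * d⁻¹ = m⁻¹ := by
    intro d hd m hm
    let φ : N → N := fun x => ⟨d * x * d⁻¹, hN.conj_mem x x.2 d⟩
    let φ' : N →* N := MonoidHom.mk' φ fun x y => Subtype.ext (by simp [φ])
    have hfp : MonoidHom.FixedPointFree φ' := fun g hg => Subtype.ext <|
      htriv d hd g g.2 (mul_inv_eq_iff_eq_mul.1 (congrArg Subtype.val hg)).symm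
    have h2 : Function.Involutive φ' := fun x => Subtype.ext <| by
      show d * (d * (x : G) * d⁻¹) * d⁻¹ = x
      rw [inv_eq hT hd]
      exact conj_twice (mul_self hT hd)
    exact congrArg Subtype.val (congrFun (hfp.coe_eq_inv_of_involutive h2) ⟨m, hm⟩)
  set Z := Subgroup.centralizer (N : Set G)
  have : Z.Normal := inferInstanceAs (Subgroup.centralizer (N : Set G)).Normal
  have hcyc : ∀ g : G, QuotientGroup.mk' Z g ∈ Subgroup.zpowers (QuotientGroup.mk' Z d₀) := by
    have : (⊤ : Subgroup G) ≤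
        (Subgroup.zpowers (QuotientGroup.mk' Z d₀)).comap (QuotientGroup.mk' Z) := by
      rw [← hD.2.2, Subgroup.closure_le]
      intro e he
      show QuotientGroup.mk' Z e ∈ Subgroup.zpowers (QuotientGroup.mk' Z d₀)
      rw [show QuotientGroup.mk' Z e = QuotientGroup.mk' Z d₀ from ?_]
      · exact Subgroup.mem_zpowers _
      refine (QuotientGroup.eq (s := Z)).2 ?_
      refine Subgroup.mem_centralizer_iff.2 fun m hm => ?_
      have h1 := hinv e he m hm
      have h2 := hinv d₀ hd₀ m⁻¹ (inv_mem hm)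
      rw [inv_eq hT he] at h1 ⊢
      rw [inv_eq hT hd₀, inv_inv] at h2
      calc m * (e * d₀) = e * (e * m * e) * d₀ := by simp only [mul_assoc, mul_self_mul hT he]
        _ = e * m⁻¹ * d₀ := by rw [h1]
        _ = e * d₀ * (d₀ * m⁻¹ * d₀) := by simp only [mul_assoc, mul_self_mul hT hd₀]
        _ = e * d₀ * m := by rw [h2]
    exact fun g => this (Subgroup.mem_top g)
  have hle : commutator G ≤ Z := by
    rw [commutator_def]
    refine Subgroup.commutator_le.2 fun x _ y _ => ?_
    rw [← QuotientGroup.eq_one_iff]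
    show QuotientGroup.mk' Z (x * y * x⁻¹ * y⁻¹) = 1
    obtain ⟨i, hi⟩ := Subgroup.mem_zpowers_iff.1 (hcyc x)
    obtain ⟨j, hj⟩ := Subgroup.mem_zpowers_iff.1 (hcyc y)
    rw [map_mul, map_mul, map_mul, map_inv, map_inv, ← hi, ← hj]
    group
  rw [hp] at hle
  have hc := Subgroup.mem_centralizer_iff.1 (hle (Subgroup.mem_top d₀)) n hn
  have h := hinv d₀ hd₀ n hn
  rw [← hc, mul_inv_cancel_right] at h
  exact Subgroup.mem_bot.2 (hodd n hn (mul_eq_one_iff_eq_inv.2 h))

/-- The image of the centraliser of each member: a group of type M(22). -/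
structure Cover23 {G : Type u} [Group G] (D : Set G) {X : Type u} [Group X] (E : Set X) (b : G) :
    Prop where
  top : Subgroup.centralizer ({b} : Set G) = Subgroup.closure (dperp D b)
  perfect : ⁅Subgroup.centralizer ({b} : Set G), Subgroup.centralizer ({b} : Set G)⁆ =
    Subgroup.centralizer ({b} : Set G)
  maps : ∃ (χ : ↥(Subgroup.centralizer ({b} : Set G)) →* X) (ψ : G → X), Function.Surjective χ ∧
    (∀ x, χ x = 1 ↔ ((x : G) = 1 ∨ (x : G) = b)) ∧
    (∀ x : ↥(Subgroup.centralizer ({b} : Set G)), ψ x = χ x) ∧ SetIso (dperp D b) E ψ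

/-- In type M(23) every member has such a cover. -/
theorem exists_cover23 {G : Type u} [Group G] [Finite G] {D : Set G}
    (hD : IsThreeTranspositionGroup D) (hprim : IsPrimitiveUnderConj D) (h : IsOfTypeM23 G D) :
    ∃ (X : Type u) (_ : Group X) (_ : Finite X) (E : Set X), IsThreeTranspositionGroup E ∧
      IsThreeTranspositionClass E ∧ IsOfTypeM22 X E ∧ ∀ b ∈ D, Cover23 D E b := by
  classical
  have hT := hD.1
  have hc := hD.2.1
  have hF := m23Data hD hprim h
  have hcls := class_of_primitive hD hprim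
  obtain ⟨d', hd', F, _, _, -, hpair⟩ := pair_base hD hprim h
  obtain ⟨hZ, d, hd, c, -, -, h22, -⟩ := h
  set H := Subgroup.closure {y : G | y ∈ D ∧ y ≠ d ∧ Commute d y}
  have hH : H = Subgroup.closure (dperp D d) := rfl
  have hgrp := lowImage_group hD hH
  obtain ⟨⟨hcls', hG, hN⟩, -, -⟩ := layerData_of_M22 (D₀ := lowImage H (dperp D d)) hgrp h22
  obtain ⟨hG', -, -⟩ := layerData_of_M22 (D₀ := lowImage H (dperp D d)) hgrp h22
  set E := lowImage H (dperp D d) \ {1} with hEdef
  -- members are commutators in their centralisers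
  have hdd : ∀ b ∈ D, b ∈ ⁅Subgroup.centralizer ({b} : Set G), Subgroup.centralizer ({b} : Set G)⁆ := by
    intro b hb
    obtain ⟨g, hg⟩ := class_isConj hcls hd' hb
    obtain ⟨u, hu⟩ := hF.nice.rich d' hd'
    obtain ⟨hperf, -⟩ := hpair u hu
    have hle : (pairCen d' u).map (MulAut.conj g).toMonoidHom ≤ Subgroup.centralizer ({b} : Set G) := by
      rintro - ⟨x, hx, rfl⟩
      refine Subgroup.mem_centralizer_singleton_iff.2 ?_
      show g * x * g⁻¹ * b = b * (g * x * g⁻¹)
      rw [← hg]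
      exact ((commute_conj g x d').2 (mem_pairCen.1 hx).1).eq
    have hmem : g * d' * g⁻¹ ∈ (pairCen d' u).map (MulAut.conj g).toMonoidHom :=
      ⟨d', mem_pairCen.2 ⟨Commute.refl d', hu.2.2⟩, rfl⟩
    rw [hg, ← hperf, Subgroup.map_commutator] at hmem
    exact Subgroup.commutator_mono hle hle hmem
  have hdH : d ∈ H := by
    obtain ⟨u, hu⟩ := hF.nice.rich d' hd'
    obtain ⟨g, hg⟩ := class_isConj hcls hd hd'
    -- `d` commutes with its own centraliser, which is generated by members
    have h1 := hdd d hd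
    have hle : Subgroup.centralizer ({d} : Set G) ≤ memGroup D d := fun x hx =>
      hF.transport.mem_memGroup_of_commute hD hd (Subgroup.mem_centralizer_singleton_iff.1 hx)
    have h2 : ⁅Subgroup.centralizer ({d} : Set G), Subgroup.centralizer ({d} : Set G)⁆ ≤ H := by
      refine Subgroup.commutator_le.2 fun x hx y hy => ?_
      have hstep : ∀ x ∈ memGroup D d, ∃ k ∈ H, x = k ∨ x = k * d := by
        intro x hx
        have hdd1 : d * d = 1 := mul_self hT hd
        have hcomm : ∀ k ∈ H, Commute d k := fun k hk => commute_of_mem_H hH hk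
        induction hx using Subgroup.closure_induction_left with
        | one => exact ⟨1, one_mem _, Or.inl rfl⟩
        | mul_left e he y _ ih =>
          obtain ⟨k, hk, hy'⟩ := ih
          rcases eq_or_ne e d with rfl | hne
          · rcases hy' with rfl | rfl
            · exact ⟨y, hk, Or.inr (hcomm y hk).eq⟩
            · exact ⟨k, hk, Or.inl (by rw [← mul_assoc, (hcomm k hk).eq, mul_assoc, hdd1, mul_one])⟩
          · refine ⟨e * k, mul_mem (mem_H hH ⟨he.1, hne, he.2⟩) hk, ?_⟩
            rcases hy' with rfl | rfl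
            · exact Or.inl rfl
            · exact Or.inr (mul_assoc _ _ _).symm
        | inv_mul_cancel e he y _ ih =>
          obtain ⟨k, hk, hy'⟩ := ih
          rw [inv_eq hT he.1]
          rcases eq_or_ne e d with rfl | hne
          · rcases hy' with rfl | rfl
            · exact ⟨y, hk, Or.inr (hcomm y hk).eq⟩
            · exact ⟨k, hk, Or.inl (by rw [← mul_assoc, (hcomm k hk).eq, mul_assoc, hdd1, mul_one])⟩
          · refine ⟨e * k, mul_mem (mem_H hH ⟨he.1, hne, he.2⟩) hk, ?_⟩
            rcases hy' with rfl | rfl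
            · exact Or.inl rfl
            · exact Or.inr (mul_assoc _ _ _).symm
      obtain ⟨k, hk, hx'⟩ := hstep x (hle hx)
      obtain ⟨l, hl, hy'⟩ := hstep y (hle hy)
      have e : ⁅x, y⁆ = ⁅k, l⁆ := by
        have hk' := commute_of_mem_H hH hk
        have hl' := commute_of_mem_H hH hl
        have hd' : d⁻¹ = d := inv_eq hT hd
        simp only [commutatorElement_def]
        rcases hx' with rfl | rfl <;> rcases hy' with rfl | rfl <;>
          simp only [mul_inv_rev, hd', mul_assoc]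
        · rw [hk'.inv_right.left_comm, mul_self_mul hT hd]
        · rw [← hl'.left_comm, mul_self_mul hT hd]
        · rw [hl'.left_comm, mul_self_mul hT hd, hk'.inv_right.left_comm, mul_self_mul hT hd]
      rw [e, commutatorElement_def]
      exact mul_mem (mul_mem (mul_mem hk hl) (inv_mem hk)) (inv_mem hl)
    exact h2 h1
  have hcen : Subgroup.centralizer ({d} : Set G) = H := by
    refine le_antisymm (fun x hx => ?_) fun x hx => Subgroup.mem_centralizer_singleton_iff.2
      (commute_of_mem_H hH hx).eq.symm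
    refine (?_ : memGroup D d ≤ H)
      (hF.transport.mem_memGroup_of_commute hD hd (Subgroup.mem_centralizer_singleton_iff.1 hx))
    rw [memGroup, Subgroup.closure_le]
    rintro e ⟨he, hde⟩
    rcases eq_or_ne e d with rfl | hne
    · exact hdH
    · exact mem_H hH ⟨he, hne, hde⟩
  have hker : ∀ y : H, (y : H ⧸ Subgroup.center H) = 1 ↔ ((y : G) = 1 ∨ (y : G) = d) := by
    intro y
    constructor
    · intro hy
      exact eq_one_or_eq_of_centralises' hD hZ hF.nice hF.trace hF.hyp hd
        (commute_of_mem_H hH y.2).symm ((mk_eq_one_iff hH).1 hy)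
    · rintro (hy | hy) <;> refine (mk_eq_one_iff hH).2 fun e he => ?_ <;> rw [hy]
      · exact Commute.one_left e
      · exact he.2.2
  let φ : G → H ⧸ Subgroup.center H := fun u =>
    if h : u ∈ H then ((⟨u, h⟩ : H) : H ⧸ Subgroup.center H) else 1
  have hφ : ∀ u : H, φ u = (u : H ⧸ Subgroup.center H) := fun u => dif_pos u.2
  have hφ' : ∀ u (hu : u ∈ dperp D d), φ u = ((⟨u, mem_H hH hu⟩ : H) : H ⧸ Subgroup.center H) :=
    fun u hu => dif_pos (mem_H hH hu)
  have hne : ∀ {u : H}, (u : G) ∈ dperp D d → (u : H ⧸ Subgroup.center H) ≠ 1 := fun hu =>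
    mk_ne_one hD hd hH hcls hG' hF.noTwins hu
  have hiso : SetIso (dperp D d) E φ := by
    refine ⟨⟨fun u hu => ?_, fun u hu v hv huv => ?_, ?_⟩, fun u hu v hv => ?_, fun u hu v hv => ?_⟩
    · rw [hφ' u hu]
      exact ⟨⟨_, hu, rfl⟩, hne hu⟩
    · rw [hφ' u hu, hφ' v hv] at huv
      exact congrArg Subtype.val (eq_of_mk_eq hD hH (u := ⟨u, mem_H hH hu⟩)
        (v := ⟨v, mem_H hH hv⟩) hu hv (hne hu) huv)
    · rintro - ⟨⟨x, hx, rfl⟩, -⟩
      exact ⟨x, hx, hφ x⟩
    · rw [hφ' u hu, hφ' v hv]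
      exact ⟨reflect hD hH (u := ⟨u, mem_H hH hu⟩) (v := ⟨v, mem_H hH hv⟩) hu hv, fun h =>
        (show Commute (⟨u, mem_H hH hu⟩ : H) ⟨v, mem_H hH hv⟩ from Subtype.ext h.eq).map
          (QuotientGroup.mk' _)⟩
    · rw [hφ' u hu, hφ' v hv, hφ' _ (((closedSet_of_group hD).dperp d).conj u hu v hv)]
      rfl
  refine ⟨H ⧸ Subgroup.center H, inferInstance, inferInstance, E, hgrp, hcls',
    isOfTypeM22_diff h22, fun b hb => ?_⟩
  obtain ⟨g, hg⟩ := class_isConj hcls hb hd
  have hmem : ∀ {x : G}, x ∈ Subgroup.centralizer ({b} : Set G) ↔ g * x * g⁻¹ ∈ H := by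
    intro x
    rw [← hcen, Subgroup.mem_centralizer_singleton_iff, Subgroup.mem_centralizer_singleton_iff, ← hg]
    exact (commute_conj g x b).symm
  set C := Subgroup.centralizer ({b} : Set G)
  let ε : ↥C →* H :=
    MonoidHom.mk' (fun x => ⟨g * x * g⁻¹, hmem.1 x.2⟩) fun x y => Subtype.ext
      (show g * ((x : G) * y) * g⁻¹ = g * (x : G) * g⁻¹ * (g * (y : G) * g⁻¹) by group)
  have hε : Function.Surjective ε := fun y => ⟨⟨g⁻¹ * y * g, hmem.2 (by
    rw [show g * (g⁻¹ * (y : G) * g) * g⁻¹ = y by group]; exact y.2)⟩,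
      Subtype.ext (show g * (g⁻¹ * (y : G) * g) * g⁻¹ = y by group)⟩
  set χ := (QuotientGroup.mk' (Subgroup.center H)).comp ε
  have hχ : Function.Surjective χ := (QuotientGroup.mk'_surjective _).comp hε
  have hχker : ∀ x, χ x = 1 ↔ ((x : G) = 1 ∨ (x : G) = b) := fun x => by
    rw [MonoidHom.comp_apply, QuotientGroup.mk'_apply, hker]
    show g * (x : G) * g⁻¹ = 1 ∨ g * (x : G) * g⁻¹ = d ↔ _
    rw [← hg, conj_eq_one_iff]
    exact or_congr Iff.rfl ⟨fun h => mul_left_cancel (mul_right_cancel h), fun h => by rw [h]⟩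
  have hmapH : (Subgroup.closure (dperp D b)).map (MulAut.conj g).toMonoidHom = H := by
    rw [MonoidHom.map_closure, hH]
    congr 1
    exact (hg ▸ setIso_conj hc g b).bij.image_eq
  refine ⟨?_, ?_, χ, φ ∘ fun x => g * x * g⁻¹, hχ, hχker, fun x => hφ (ε x),
    (hg ▸ setIso_conj hc g b).trans hiso⟩
  · ext x
    rw [hmem, ← hmapH]
    exact ⟨fun ⟨y, hy, hyx⟩ => mul_left_cancel (mul_right_cancel hyx) ▸ hy, fun hx => ⟨x, hx, rfl⟩⟩
  · refine le_antisymm (Subgroup.commutator_le_self C) fun x hx => ?_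
    have htop : (⁅(⊤ : Subgroup C), (⊤ : Subgroup C)⁆).map χ = ⊤ := by
      rw [Subgroup.map_commutator, Subgroup.map_top_of_surjective χ hχ, ← commutator_def]
      exact perfect_M22 hgrp (isOfTypeM22_diff h22)
    obtain ⟨y, hy, hyx⟩ : χ ⟨x, hx⟩ ∈ (⁅(⊤ : Subgroup C), (⊤ : Subgroup C)⁆).map χ := htop ▸ Subgroup.mem_top _
    have hy' : (y : G) ∈ ⁅C, C⁆ := by
      have := Subgroup.mem_map_of_mem C.subtype hy
      rwa [Subgroup.map_commutator, ← MonoidHom.range_eq_map, Subgroup.range_subtype] at this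
    rcases (hχker (y⁻¹ * ⟨x, hx⟩)).1 (by rw [map_mul, map_inv, hyx, inv_mul_cancel]) with h' | h' <;>
      rw [Subgroup.coe_mul, Subgroup.coe_inv] at h'
    · exact (inv_mul_eq_one.1 h' : (y : G) = x) ▸ hy'
    · rw [show x = (y : G) * b from inv_mul_eq_iff_eq_mul.1 h']
      exact mul_mem hy' (hdd b hb)

end Cfsg.Agent.ThreeTrans
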