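import Cfsg.Agent.Classical.HermSimple

/-!
# Elementary abelian 2-groups of isometries of a Hermitian space over four elements

In dimension `2k` such a group has order at most `2 ^ (k * k)`; if it is that large its fixed space
is totally isotropic of dimension `k`.
-/

set_option autoImplicit false

open Module Cfsg.Agent.Classical.Herm

namespace Cfsg.Agent.ThreeTrans.ElemHerm

universe u v

variable {F : Type u} [Field F] {σ : F →+* F}

/-- The two scalars fixed by the involution. -/
abbrev TwoFix (σ : F →+* F) : Prop := ∀ a : F, σ a = a → a = 0 ∨ a = 1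

theorem two (hq : TwoFix σ) : (1 : F) + 1 = 0 := by
  rcases hq (1 + 1) (by rw [map_add, map_one]) with h | h
  · exact h
  · exact absurd h (by simp)

theorem char_add (hq : TwoFix σ) (k : F) : k + k = 0 := by
  rw [← mul_one k, ← mul_add, two hq, mul_zero]

theorem char_sub (hq : TwoFix σ) (a b : F) : a - b = a + b := by
  linear_combination -(char_add hq b)

variable {W : Type v} [AddCommGroup W] [Module F W] {h : W →ₛₗ[σ] W →ₗ[F] F}

theorem vchar_add (hq : TwoFix σ) (x : W) : x + x = 0 := by
  rw [← one_smul F x, ← add_smul, two hq, zero_smul]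

theorem vchar_sub (hq : TwoFix σ) (a b : W) : a - b = a + b := by
  rw [sub_eq_add_neg, ← eq_neg_of_add_eq_zero_left (vchar_add hq b)]

/-- A subgroup on which the form takes fixed values only is at most half of the space. -/
theorem card_sq_le [Finite W] (hq : TwoFix σ) (hH : IsHerm h) (S : AddSubgroup W)
    (hS : ∀ x ∈ S, ∀ y ∈ S, σ (h x y) = h x y) : Nat.card S * Nat.card S ≤ Nat.card W := by
  classical
  have := Fintype.ofFinite W
  let τ : W → W →+ F := fun x =>
    { toFun := fun w => h x w + σ (h x w)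
      map_zero' := by simp
      map_add' := fun a b => by simp only [map_add]; abel }
  have hτ : ∀ x w, τ x w = h x w + σ (h x w) := fun _ _ => rfl
  have hrange : ∀ x w, τ x w = 0 ∨ τ x w = 1 := fun x w => hq _ (by
    rw [hτ, map_add, hH.invol, add_comm])
  have hadd : ∀ x y w, τ (x + y) w = τ x w + τ y w := fun x y w => by
    simp only [hτ, map_add, LinearMap.add_apply]; abel
  -- a nonzero vector pairs trivially with exactly half of the space
  have hhalf : ∀ x : W, x ≠ 0 → (Finset.univ.filter fun w => τ x w = 0).card * 2 = Fintype.card W := by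
    intro x hx
    obtain ⟨y, hy⟩ : ∃ y, h x y ≠ 0 := by
      by_contra hc
      push Not at hc
      exact hx (hH.nondeg x hc)
    obtain ⟨c, hc⟩ := exists_trace hH.toIsInvol (a := (1 : F)) (map_one σ)
    set y₁ := (c * (h x y)⁻¹) • y with hy₁
    have h1 : τ x y₁ = 1 := by
      have : h x y₁ = c := by rw [hy₁, map_smul, smul_eq_mul, mul_assoc, inv_mul_cancel₀ hy, mul_one]
      rw [hτ, this, hc]
    have hcomp : (Finset.univ.filter fun w => τ x w = 0).card =
        (Finset.univ.filter fun w => ¬ τ x w = 0).card := by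
      refine Finset.card_bij' (fun w _ => w + y₁) (fun w _ => w - y₁) ?_ ?_ (by simp) (by simp)
      · intro w hw
        simp only [Finset.mem_filter, Finset.mem_univ, true_and] at hw ⊢
        rw [map_add, hw, h1, zero_add]
        exact one_ne_zero
      · intro w hw
        simp only [Finset.mem_filter, Finset.mem_univ, true_and] at hw ⊢
        rw [map_sub, h1, (hrange x w).resolve_left hw, sub_self]
    have h2 := Finset.card_filter_add_card_filter_not (s := (Finset.univ : Finset W))
      (fun w => τ x w = 0)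
    rw [Finset.card_univ] at h2
    omega
  set T : Finset W := Finset.univ.filter (· ∈ S) with hT
  have hTc : T.card = Nat.card S := by
    rw [hT, Nat.card_eq_fintype_card, Fintype.card_subtype]
  -- every vector pairs trivially with at least half of the subgroup
  have hgood : ∀ w : W, T.card ≤ (T.filter fun x => τ x w = 0).card * 2 := by
    intro w
    by_cases hall : ∀ x ∈ T, τ x w = 0
    · rw [Finset.filter_true_of_mem hall]; omega
    push Not at hall
    obtain ⟨x₁, hx₁, h1⟩ := hall
    have hcomp : (T.filter fun x => ¬ τ x w = 0).card ≤ (T.filter fun x => τ x w = 0).card := by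
      refine Finset.card_le_card_of_injOn (· + x₁) ?_ (fun a _ b _ hab => add_right_cancel hab)
      intro x hx
      simp only [hT, Finset.coe_filter, Finset.mem_filter, Finset.mem_univ, true_and,
        Set.mem_ofPred_eq] at hx hx₁ ⊢
      refine ⟨S.add_mem hx.1 hx₁, ?_⟩
      rw [hadd, (hrange x w).resolve_left hx.2, (hrange x₁ w).resolve_left h1, two hq]
    have h2 := Finset.card_filter_add_card_filter_not (s := T) (fun x => τ x w = 0)
    omega
  have hfull : ∀ w ∈ T, (T.filter fun x => τ x w = 0).card = T.card := by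
    intro w hw
    rw [Finset.filter_true_of_mem]
    intro x hx
    simp only [hT, Finset.mem_filter, Finset.mem_univ, true_and] at hx hw
    rw [hτ, hS x hx w hw, char_add hq]
  have hcount := Finset.sum_card_bipartiteAbove_eq_sum_card_bipartiteBelow
    (s := T) (t := (Finset.univ : Finset W)) (fun x w => τ x w = 0)
  simp only [Finset.bipartiteAbove, Finset.bipartiteBelow] at hcount
  have h0 : (0 : W) ∈ T := by simp [hT, S.zero_mem]
  have hL : (∑ x ∈ T, (Finset.univ.filter fun w => τ x w = 0).card) * 2 =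
      Fintype.card W + T.card * Fintype.card W := by
    rw [Finset.sum_mul, ← Finset.add_sum_erase _ _ h0,
      Finset.sum_congr rfl fun x hx => hhalf x (Finset.ne_of_mem_erase hx), Finset.sum_const,
      Finset.card_erase_of_mem h0, smul_eq_mul,
      Finset.filter_true_of_mem (fun w _ => by simp [hτ]), Finset.card_univ]
    have hpos : 1 ≤ T.card := Finset.card_pos.2 ⟨0, h0⟩
    nlinarith [Nat.sub_add_cancel hpos]
  have hR : T.card * T.card + Fintype.card W * T.card ≤
      (∑ w : W, (T.filter fun x => τ x w = 0).card) * 2 := by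
    rw [Finset.sum_mul]
    have e : ∀ w : W, (if w ∈ T then T.card else 0) + T.card ≤
        (T.filter fun x => τ x w = 0).card * 2 := fun w => by
      split_ifs with hw
      · rw [hfull w hw]; omega
      · simpa using hgood w
    refine le_trans (le_of_eq ?_) (Finset.sum_le_sum fun w _ => e w)
    rw [Finset.sum_add_distrib, Finset.sum_ite_mem, Finset.univ_inter, Finset.sum_const,
      Finset.sum_const, Finset.card_univ, smul_eq_mul, smul_eq_mul]
  rw [← hTc, Nat.card_eq_fintype_card]
  rw [hcount] at hL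
  nlinarith

/-- A 2-group of isometries fixes a nonzero isotropic vector in dimension at least two. -/
theorem exists_fixed_isotropic [Finite W] (hq : TwoFix σ) (hH : IsHerm h) [FiniteDimensional F W]
    (hn : 2 ≤ finrank F W) (A : Subgroup (W ≃ₗ[F] W)) (hiso : ∀ a ∈ A, ∀ x y, h (a x) (a y) = h x y)
    (hA : IsPGroup 2 A) : ∃ p, p ≠ 0 ∧ h p p = 0 ∧ ∀ a ∈ A, a p = p := by
  have : Fact (Nat.Prime 2) := ⟨Nat.prime_two⟩
  have key : ∀ M : Submodule F W, (∀ a ∈ A, ∀ x ∈ M, a x ∈ M) → (∃ x ∈ M, x ≠ 0) →
      ∃ x ∈ M, x ≠ 0 ∧ ∀ a ∈ A, a x = x := by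
    intro M hM ⟨z, hz, hz0⟩
    let act : MulAction A M :=
      { smul := fun a x => ⟨a.1 x.1, hM a.1 a.2 x.1 x.2⟩
        one_smul := fun x => rfl
        mul_smul := fun a b x => rfl }
    have hdvd : 2 ∣ Nat.card M := by
      have h2 : (2 : ℕ) • (⟨z, hz⟩ : M) = 0 := Subtype.ext (by
        show (2 : ℕ) • z = 0
        rw [two_nsmul, vchar_add hq])
      have ho : addOrderOf (⟨z, hz⟩ : M) = 2 :=
        addOrderOf_eq_prime h2 fun h => hz0 (congrArg Subtype.val h)
      exact ho ▸ addOrderOf_dvd_natCard _
    obtain ⟨b, hb, hne⟩ := hA.exists_fixed_point_of_prime_dvd_card_of_fixed_point M hdvd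
      (a := (0 : M)) (fun a => Subtype.ext (map_zero a.1))
    exact ⟨b.1, b.2, fun h => hne (Subtype.ext h.symm),
      fun a ha => congrArg Subtype.val (hb ⟨a, ha⟩)⟩
  have := finrank_pos_iff (R := F) (M := W) |>.1 (by omega)
  obtain ⟨z, hz⟩ := exists_ne (0 : W)
  obtain ⟨p, -, hp0, hp⟩ := key ⊤ (fun _ _ _ _ => trivial) ⟨z, trivial, hz⟩
  rcases hq _ (fix_self hH p) with hpp | hpp
  · exact ⟨p, hp0, hpp, hp⟩
  have hne : LinearMap.ker (h p) ≠ ⊥ := by
    intro hb
    have := LinearMap.finrank_le_finrank_of_injective (LinearMap.ker_eq_bot.1 hb)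
    rw [Module.finrank_self] at this
    omega
  obtain ⟨z', hz', hz'0⟩ := Submodule.exists_mem_ne_zero_of_ne_bot hne
  obtain ⟨q, hq', hq0, hqfix⟩ := key (LinearMap.ker (h p)) (fun a ha x hx => by
    rw [LinearMap.mem_ker] at hx ⊢
    have := hiso a ha p x
    rwa [hp a ha, hx] at this) ⟨z', hz', hz'0⟩
  rw [LinearMap.mem_ker] at hq'
  rcases hq _ (fix_self hH q) with hqq | hqq
  · exact ⟨q, hq0, hqq, hqfix⟩
  refine ⟨p + q, fun h0 => ?_, by simp [hpp, hqq, hq', (eq_zero_comm hH).1 hq', two hq],
    fun a ha => by rw [map_add, hp a ha, hqfix a ha]⟩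
  have := congrArg (h p) h0
  rw [map_add, hpp, hq', add_zero, map_zero] at this
  exact one_ne_zero this

/-- The order of an elementary abelian 2-group of isometries. -/
theorem elem_bound [Finite F] (hq : TwoFix σ) (k : ℕ) :
    ∀ {W : Type v} [AddCommGroup W] [Module F W] [FiniteDimensional F W]
      (h : W →ₛₗ[σ] W →ₗ[F] F), IsHerm h → finrank F W = 2 * k →
      ∀ A : Subgroup (W ≃ₗ[F] W), (∀ a ∈ A, ∀ x y, h (a x) (a y) = h x y) → (∀ a ∈ A, a * a = 1) →
      Nat.card A ≤ 2 ^ (k * k) ∧ (Nat.card A = 2 ^ (k * k) →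
        ∃ U : Submodule F W, (∀ x ∈ U, ∀ y ∈ U, h x y = 0) ∧
          (∀ x, (∀ y ∈ U, h y x = 0) → x ∈ U) ∧ (∀ a ∈ A, ∀ x ∈ U, a x = x) ∧
          ∀ x, (∀ a ∈ A, a x = x) → x ∈ U) := by
  induction k with
  | zero =>
    intro W _ _ _ h hH hr A hiso hinv
    have hW : ∀ x : W, x = 0 := fun x =>
      have := finrank_zero_iff (R := F) (M := W) |>.1 hr
      Subsingleton.elim _ _
    have : Subsingleton A := ⟨fun a b => Subtype.ext (LinearEquiv.ext fun x => by
      rw [hW (a.1 x), hW (b.1 x)])⟩
    refine ⟨by simp, fun _ => ⟨⊥, fun x hx y _ => ?_, fun x _ => ?_, fun a _ x _ => ?_, fun x _ => ?_⟩⟩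
    · rw [hW x]; simp
    · rw [hW x]; exact zero_mem _
    · rw [hW x, map_zero]
    · rw [hW x]; exact zero_mem _
  | succ k ih =>
    intro W _ _ _ h hH hr A hiso hinv
    have : Finite W := Module.finite_of_finite F
    have : Finite (W ≃ₗ[F] W) := Finite.of_injective _ DFunLike.coe_injective
    have hs := fun {x w : W} (e : h x w = 0) => (eq_zero_comm hH).1 e
    have hA : IsPGroup 2 A := fun a => ⟨1, by
      rw [pow_one, sq]; exact Subtype.ext (hinv a.1 a.2)⟩
    have hcomm : ∀ a ∈ A, ∀ b ∈ A, a * b = b * a := fun a ha b hb => by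
      have h1 := hinv _ (mul_mem ha hb)
      have ha' := inv_eq_of_mul_eq_one_left (hinv a ha)
      have hb' := inv_eq_of_mul_eq_one_left (hinv b hb)
      calc a * b = (a * b)⁻¹ := (inv_eq_of_mul_eq_one_left h1).symm
        _ = b * a := by rw [mul_inv_rev, ha', hb']
    obtain ⟨p, hp0, hpp, hfix⟩ := exists_fixed_isotropic hq hH (by omega) A hiso hA
    obtain ⟨f, hff, hpf⟩ := exists_hyp_partner hH hp0 hpp
    have hfp : h f p = 1 := by rw [← hH.symm, hpf, map_one]
    -- the complement
    set W' : Submodule F W := LinearMap.ker (h p) ⊓ LinearMap.ker (h f) with hW'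
    have memW : ∀ x, x ∈ W' ↔ h p x = 0 ∧ h f x = 0 := fun x => by
      simp [hW', LinearMap.mem_ker]
    let π₀ : W →ₗ[F] W := LinearMap.id - (h f).smulRight p - (h p).smulRight f
    have hπ₀ : ∀ x, π₀ x = x - h f x • p - h p x • f := fun x => rfl
    let π : W →ₗ[F] W' := π₀.codRestrict W' fun x => (memW _).2
      ⟨by simp [hπ₀, hpp, hpf], by simp [hπ₀, hff, hfp]⟩
    have hπ : ∀ x, (π x : W) = x - h f x • p - h p x • f := fun x => rfl
    have hπid : ∀ x : W', π (x : W) = x := fun x => Subtype.ext (by
      rw [hπ, ((memW _).1 x.2).1, ((memW _).1 x.2).2]; simp)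
    have hπp : π p = 0 := Subtype.ext (by rw [hπ, hfp, hpp]; simp)
    have hsplit : ∀ x, h p x = 0 → x = (π x : W) + h f x • p := fun x hx => by
      rw [hπ, hx]; simp
    have hrank : finrank F W' = 2 * k := by
      have hsurj : Function.Surjective ((h p).prod (h f)) := fun c => ⟨c.2 • p + c.1 • f, by
        simp [hpp, hpf, hff, hfp]⟩
      have h1 := LinearMap.finrank_range_add_finrank_ker ((h p).prod (h f))
      rw [LinearMap.range_eq_top.2 hsurj, finrank_top, Module.finrank_prod, Module.finrank_self,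
        LinearMap.ker_prod, hr] at h1
      rw [hW']; omega
    let h' : W' →ₛₗ[σ] W' →ₗ[F] F := (h.comp W'.subtype).compl₂ W'.subtype
    have hh' : ∀ x y : W', h' x y = h (x : W) y := fun _ _ => rfl
    have hflat : ∀ (x : W') (y : W), h (x : W) (π y) = h (x : W) y := fun x y => by
      rw [hπ]; simp [hs ((memW _).1 x.2).1, hs ((memW _).1 x.2).2]
    have hH' : IsHerm h' := ⟨hH.toIsInvol, fun x y => hH.symm _ _, fun x hx =>
      Subtype.ext (hH.nondeg _ fun y => by rw [← hflat x y]; exact hx (π y))⟩
    have hperp : ∀ a ∈ A, ∀ x, h p x = 0 → h p (a x) = 0 := fun a ha x hx => by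
      have := hiso a ha p x
      rwa [hfix a ha, hx] at this
    -- the induced action
    let act : ∀ a : A, W' →ₗ[F] W' := fun a => π ∘ₗ (a.1 : W →ₗ[F] W) ∘ₗ W'.subtype
    have hact : ∀ (a : A) (x : W'), act a x = π (a.1 (x : W)) := fun _ _ => rfl
    have hdown : ∀ (a : A) (x : W), h p x = 0 → π (a.1 x) = act a (π x) := fun a x hx => by
      rw [hact]
      conv_lhs => rw [hsplit x hx]
      rw [map_add, map_smul, hfix _ a.2, map_add, map_smul, hπp, smul_zero, add_zero]
    have act_mul : ∀ (a b : A) (x : W'), act (a * b) x = act a (act b x) := fun a b x => by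
      rw [hact, hact b, ← hdown a _ (hperp _ b.2 _ ((memW _).1 x.2).1)]
      rfl
    have act_one : ∀ x : W', act 1 x = x := fun x => by rw [hact]; exact hπid x
    have act_inv : ∀ (a : A) (x : W'), act a (act a x) = x := fun a x => by
      rw [← act_mul, show a * a = 1 from Subtype.ext (hinv _ a.2), act_one]
    let φ : A →* (W' ≃ₗ[F] W') :=
      { toFun := fun a => LinearEquiv.ofLinearMap (act a) (act a)
          (LinearMap.ext fun x => act_inv a x) (LinearMap.ext fun x => act_inv a x)
        map_one' := LinearEquiv.ext fun x => act_one x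
        map_mul' := fun a b => LinearEquiv.ext fun x => act_mul a b x }
    have hφ : ∀ (a : A) (x : W'), φ a x = π (a.1 (x : W)) := fun _ _ => rfl
    have hiso' : ∀ b ∈ φ.range, ∀ x y, h' (b x) (b y) = h' x y := by
      rintro _ ⟨a, rfl⟩ x y
      rw [hh', hh', hφ, hφ, ← hiso _ a.2 (x : W) y]
      conv_rhs => rw [hsplit _ (hperp _ a.2 _ ((memW _).1 x.2).1),
        hsplit _ (hperp _ a.2 _ ((memW _).1 y.2).1)]
      have e1 := ((memW _).1 (π (a.1 (x : W))).2).1
      have e2 := ((memW _).1 (π (a.1 (y : W))).2).1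
      simp [hpp, hs e1, e2]
    have hinv' : ∀ b ∈ φ.range, b * b = 1 := by
      rintro _ ⟨a, rfl⟩
      rw [← map_mul, show a * a = 1 from Subtype.ext (hinv _ a.2), map_one]
    obtain ⟨hb', heq'⟩ := ih h' hH' hrank φ.range hiso' hinv'
    -- the displacement of the partner
    set d : A → W := fun a => a.1 f - f with hd
    have hdp : ∀ a, h p (d a) = 0 := fun a => by
      have := hiso _ a.2 p f
      rw [hfix _ a.2, hpf] at this
      simp [hd, this, hpf]
    have hadd : ∀ a : A, a.1 f = f + d a := fun a => by simp [hd]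
    have hker : ∀ g ∈ φ.ker, ∀ z, h p z = 0 → g.1 z = z + h (d g) z • p := by
      intro g hg z hz
      have h1 : π (g.1 z) = π z := by
        rw [hdown g z hz]
        exact LinearEquiv.congr_fun (MonoidHom.mem_ker.1 hg) (π z)
      have h2 := hsplit _ (hperp _ g.2 _ hz)
      rw [h1] at h2
      have h3 : g.1 z = z + (h f (g.1 z) - h f z) • p := by
        conv_rhs => arg 1; rw [hsplit z hz]
        conv_lhs => rw [h2]
        rw [sub_smul]
        abel
      set c := h f (g.1 z) - h f z with hc
      have h4 := hiso _ g.2 f z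
      rw [hadd, h3] at h4
      simp [hfp, hs (hdp g)] at h4
      rw [h3]
      congr 2
      have : c + h (d g) z = 0 := by linear_combination h4
      linear_combination this - char_add hq (h (d g) z)
    have hcomm' : ∀ (a g : A), g ∈ φ.ker → a.1 (d g) = d g + h (d g) (d a) • p := by
      intro a g hg
      have h1 : a.1 (g.1 f) = g.1 (a.1 f) := LinearEquiv.congr_fun (hcomm _ a.2 _ g.2) f
      rw [hadd g, hadd a, map_add, map_add, hadd a, hadd g, hker g hg _ (hdp a)] at h1
      have h2 : a.1 (d g) = (f + d g + (d a + h (d g) (d a) • p)) - (f + d a) :=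
        eq_sub_of_add_eq' h1
      rw [h2]; abel
    have hyfix : ∀ (a g : A), g ∈ φ.ker → φ a (π (d g)) = π (d g) := fun a g hg => by
      rw [show φ a (π (d g)) = act a (π (d g)) from rfl, ← hdown a _ (hdp g), hcomm' a g hg,
        map_add, map_smul, hπp, smul_zero, add_zero]
    have hyd : ∀ (g : A) (x : W), h p x = 0 → h (π (d g) : W) x = h (d g) x := fun g x hx => by
      conv_rhs => rw [hsplit _ (hdp g)]
      simp [hx]
    have hfixed : ∀ (a g : A), g ∈ φ.ker → σ (h (d g) (d a)) = h (d g) (d a) := by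
      intro a g hg
      have h1 := hiso _ a.2 (d g) f
      rw [hcomm' a g hg, hadd a] at h1
      simp [hdp a, hpf] at h1
      linear_combination h1 - char_add hq (h (d g) (d a))
    let ψ : φ.ker →* Multiplicative W' :=
      { toFun := fun g => Multiplicative.ofAdd (π (d g.1))
        map_one' := by simp [hd]
        map_mul' := fun g g' => by
          rw [← ofAdd_add]
          refine congrArg _ ?_
          rw [← map_add]
          have : d (g.1 * g'.1) = d g.1 + d g'.1 + h (d g.1) (d g'.1) • p := by
            show g.1.1 (g'.1.1 f) - f = _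
            rw [hadd g'.1, map_add, hker g.1 g.2 _ (hdp g'.1), hadd g.1]
            abel
          show π (d (g.1 * g'.1)) = _
          rw [this, map_add π _ (_ • p), map_smul, hπp, smul_zero, add_zero] }
    let S : AddSubgroup W' :=
      { carrier := {w | ∃ g : φ.ker, π (d g.1) = w}
        zero_mem' := ⟨1, Multiplicative.ofAdd.injective ψ.map_one⟩
        add_mem' := by
          rintro _ _ ⟨g, rfl⟩ ⟨g', rfl⟩
          exact ⟨g * g', Multiplicative.ofAdd.injective (ψ.map_mul g g')⟩
        neg_mem' := by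
          rintro _ ⟨g, rfl⟩
          exact ⟨g, eq_neg_of_add_eq_zero_left (vchar_add hq _)⟩ }
    have hSiso : ∀ x ∈ S, ∀ y ∈ S, σ (h' x y) = h' x y := by
      rintro _ ⟨g, rfl⟩ _ ⟨g', rfl⟩
      rw [hh', hflat, hyd g.1 _ (hdp g'.1)]
      exact hfixed g'.1 g.1 g.2
    have hS1 := card_sq_le hq hH' S hSiso
    have hcW : Nat.card W' = 2 ^ (4 * k) := by
      rw [Module.natCard_eq_pow_finrank (K := F), hrank, card_eq_fix_sq hH.toIsInvol,
        show Nat.card (fixField σ) = 2 from ?_, ← pow_mul]
      · ring_nf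
      · rw [Nat.card_eq_two_iff' (0 : fixField σ)]
        exact ⟨1, one_ne_zero, fun y hy => Subtype.ext ((hq _ y.2).resolve_left fun h0 =>
          hy (Subtype.ext h0))⟩
    have hS : Nat.card S ≤ 2 ^ (2 * k) := by
      by_contra hlt
      push Not at hlt
      have := Nat.mul_lt_mul'' hlt hlt
      rw [← pow_add, show 2 * k + 2 * k = 4 * k by omega] at this
      omega
    have hψr : Nat.card ψ.range = Nat.card S := Nat.card_congr
      { toFun := fun w => ⟨Multiplicative.toAdd w.1, by
          obtain ⟨g, hg⟩ := w.2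
          exact ⟨g, by rw [← hg]; rfl⟩⟩
        invFun := fun w => ⟨Multiplicative.ofAdd w.1, by
          obtain ⟨g, hg⟩ := w.2
          exact ⟨g, by rw [← hg]; rfl⟩⟩
        left_inv := fun w => rfl
        right_inv := fun w => rfl }
    have hscal : ∀ g ∈ ψ.ker, d g.1 = h f (d g.1) • p := fun g hg => by
      have h1 : π (d g.1) = 0 := Multiplicative.ofAdd.injective (MonoidHom.mem_ker.1 hg)
      conv_lhs => rw [hsplit _ (hdp g.1), h1, Submodule.coe_zero, zero_add]
    have hψk : Nat.card ψ.ker ≤ 2 := by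
      have hc : ∀ g : ψ.ker, σ (h f (d g.1.1)) = h f (d g.1.1) := fun g => by
        have h1 := hiso _ g.1.1.2 f f
        rw [hadd, hscal g.1 g.2, hff] at h1
        simp [hff, hpp, hfp, hpf] at h1
        linear_combination h1 - char_add hq (h f (d g.1.1))
      classical
      let c : ψ.ker → Bool := fun g => decide (h f (d g.1.1) = 0)
      have hinj : Function.Injective c := by
        intro g g' hgg
        have h01 : h f (d g.1.1) = h f (d g'.1.1) := by
          simp only [c, decide_eq_decide] at hgg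
          rcases hq _ (hc g) with e | e
          · rw [e, hgg.1 e]
          · rw [e, (hq _ (hc g')).resolve_left fun e' => by
              rw [hgg.2 e'] at e; exact zero_ne_one e]
        have hdd : d g.1.1 = d g'.1.1 := by rw [hscal g.1 g.2, hscal g'.1 g'.2, h01]
        refine Subtype.ext (Subtype.ext (Subtype.ext (LinearEquiv.ext fun x => ?_)))
        have hx : h p (x - h p x • f) = 0 := by simp [hpf]
        conv_lhs => rw [← sub_add_cancel x (h p x • f), map_add, map_smul, hker _ g.1.2 _ hx, hadd, hdd]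
        conv_rhs => rw [← sub_add_cancel x (h p x • f), map_add, map_smul, hker _ g'.1.2 _ hx, hadd]
      have := Nat.card_le_card_of_injective c hinj
      simpa using this
    have hcardA : Nat.card A = Nat.card φ.range * (Nat.card S * Nat.card ψ.ker) := by
      rw [← φ.ker.index_mul_card, Subgroup.index_ker, ← hψr]
      congr 1
      rw [← ψ.ker.index_mul_card, Subgroup.index_ker]
    have hexp : 2 ^ ((k + 1) * (k + 1)) = 2 ^ (k * k) * (2 ^ (2 * k) * 2) := by
      rw [← pow_succ, ← pow_add]; ring_nf
    refine ⟨by rw [hcardA, hexp]; gcongr, fun he => ?_⟩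
    rw [hcardA, hexp] at he
    -- all three factors are as large as possible
    have hr1 : Nat.card φ.range = 2 ^ (k * k) := by
      refine le_antisymm hb' (Nat.le_of_mul_le_mul_right ?_ (show 0 < 2 ^ (2 * k) * 2 by positivity))
      rw [← he]; gcongr
    have hr2 : Nat.card S * Nat.card ψ.ker = 2 ^ (2 * k) * 2 := by
      rw [hr1] at he
      exact Nat.eq_of_mul_eq_mul_left (by positivity) he
    have hr3 : Nat.card S = 2 ^ (2 * k) := by
      refine le_antisymm hS (Nat.le_of_mul_le_mul_right ?_ (show 0 < 2 by norm_num))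
      rw [← hr2]; gcongr
    have hr4 : Nat.card ψ.ker = 2 := by
      rw [hr3] at hr2
      exact Nat.eq_of_mul_eq_mul_left (by positivity) hr2
    obtain ⟨U', hU1, hU2, hU3, hU4⟩ := heq' hr1
    have hSU : ∀ w, w ∈ S ↔ w ∈ U' := by
      have hle : (S : Set W') ⊆ (U' : Set W') := by
        rintro _ ⟨g, rfl⟩
        refine hU4 _ ?_
        rintro _ ⟨a, rfl⟩
        exact hyfix a g.1 g.2
      have h2 : Nat.card U' ≤ 2 ^ (2 * k) := by
        by_contra hlt
        push Not at hlt
        have h3 := Nat.mul_lt_mul'' hlt hlt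
        have h4 : Nat.card U' * Nat.card U' ≤ Nat.card W' :=
          card_sq_le hq hH' U'.toAddSubgroup fun x hx y hy => by rw [hU1 x hx y hy, map_zero]
        rw [← pow_add, show 2 * k + 2 * k = 4 * k by omega] at h3
        omega
      have h5 : (S : Set W') = U' := Set.eq_of_subset_of_ncard_le hle (by
        rw [← Nat.card_coe_set_eq, ← Nat.card_coe_set_eq]
        exact h2.trans hr3.ge) (Set.toFinite _)
      exact fun w => Set.ext_iff.1 h5 w
    let U : Submodule F W := LinearMap.ker (h p) ⊓ U'.comap π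
    have memU : ∀ x, x ∈ U ↔ h p x = 0 ∧ π x ∈ U' := fun x => by
      simp [U, LinearMap.mem_ker]
    refine ⟨U, fun x hx y hy => ?_, fun x hx => ?_, fun a ha x hx => ?_, fun x hx => ?_⟩
    · obtain ⟨x1, x2⟩ := (memU x).1 hx
      obtain ⟨y1, y2⟩ := (memU y).1 hy
      have := hU1 _ x2 _ y2
      rw [hh', hflat] at this
      conv_lhs => rw [hsplit x x1]
      simp [this, y1]
    · have hxp : h p x = 0 := hx p ((memU p).2 ⟨hpp, by rw [hπp]; exact zero_mem _⟩)
      refine (memU x).2 ⟨hxp, hU2 _ fun y hy => ?_⟩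
      rw [hh', hflat]
      exact hx _ ((memU _).2 ⟨((memW _).1 y.2).1, by rw [hπid]; exact hy⟩)
    · obtain ⟨x1, x2⟩ := (memU x).1 hx
      obtain ⟨g, hg⟩ := (hSU _).2 x2
      obtain ⟨w, hw⟩ : ∃ w, σ w ≠ w := exists_moved hH.toIsInvol
      obtain ⟨g', hg'⟩ := (hSU _).2 (U'.smul_mem w x2)
      set φg := h (d g.1) (d ⟨a, ha⟩) with hφg
      have k1 : σ φg = φg := hfixed _ _ g.2
      have k2 : h (d g'.1) (d ⟨a, ha⟩) = σ w * φg := by
        rw [hφg, ← hyd g'.1 _ (hdp _), ← hyd g.1 _ (hdp _), hg', hg]
        simp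
      have k3 : σ (σ w * φg) = σ w * φg := k2 ▸ hfixed _ _ g'.2
      have hzero : φg = 0 := (hq _ k1).resolve_right fun h1 => hw (by
        rw [h1, mul_one, hH.invol] at k3
        exact k3.symm)
      have h1 := hcomm' ⟨a, ha⟩ g.1 g.2
      rw [← hφg, hzero, zero_smul, add_zero] at h1
      have hx' : x = d g.1 + (h f x - h f (d g.1)) • p := by
        conv_lhs => rw [hsplit x x1, ← hg]
        rw [hπ, hdp g.1]
        simp [sub_smul]; abel
      conv_lhs => rw [hx', map_add, map_smul, h1, hfix a ha]
      exact hx'.symm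
    · have hxp : h p x = 0 := by
        obtain ⟨g, hg1⟩ : ∃ g : ψ.ker, g ≠ 1 := by
          have : Nontrivial ψ.ker := Finite.one_lt_card_iff_nontrivial.1 (by omega)
          exact exists_ne 1
        by_contra hne
        have h1 : x - h p x • f + h (d g.1.1) (x - h p x • f) • p + h p x • g.1.1.1 f = x := by
          have := hx _ g.1.1.2
          conv_lhs at this => rw [← sub_add_cancel x (h p x • f), map_add, map_smul,
            hker _ g.1.2 _ (show h p (x - h p x • f) = 0 by simp [hpf])]
          exact this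
        have h2 : h (d g.1.1) (x - h p x • f) = 0 := by
          rw [hscal g.1 g.2]; simp [hpf]
        rw [h2, zero_smul, add_zero, hadd, smul_add, ← add_assoc, sub_add_cancel] at h1
        have h3 : d g.1.1 = 0 := (smul_eq_zero.1 (left_eq_add.1 h1.symm)).resolve_left hne
        refine hg1 (Subtype.ext (Subtype.ext (Subtype.ext (LinearEquiv.ext fun z => ?_))))
        conv_lhs => rw [← sub_add_cancel z (h p z • f), map_add, map_smul,
          hker _ g.1.2 _ (show h p (z - h p z • f) = 0 by simp [hpf]), hadd, h3]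
        simp
      refine (memU x).2 ⟨hxp, hU4 _ ?_⟩
      rintro _ ⟨a, rfl⟩
      rw [show φ a (π x) = act a (π x) from rfl, ← hdown a x hxp, hx _ a.2]

end Cfsg.Agent.ThreeTrans.ElemHerm
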