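import Cfsg.Agent.ThreeTrans.InvolM22
import Cfsg.Agent.ThreeTrans.ElemHerm

/-!
# Elementary abelian 2-subgroups of type M(22)

They have order at most `2 ^ 10`, and those of that order are generated by members.
-/

set_option autoImplicit false

open Cfsg Cfsg.Agent.Classical Cfsg.Agent.Classical.Herm Module

namespace Cfsg.Agent.ThreeTrans

theorem finite_suG {F V : Type*} [Field F] [AddCommGroup V] [Module F V] {θ : F →+* F}
    {B : V →ₛₗ[θ] V →ₗ[F] F} (hB : UModel.Space B) : Finite (suG B) := by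
  have := hB.fin; have := hB.finF
  have : Finite V := Module.finite_of_finite F
  have : Finite (V ≃ₗ[F] V) := Finite.of_injective _ DFunLike.coe_injective
  infer_instance

/-- As `psu_hom`, with the kernel and the exponent of the centre. -/
theorem psu_hom_kernel {F : Type*} [Field F] [Fintype F] (hF : Fintype.card F = 4) {X : Type*} [Group X]
    (e : X ≃* Cfsg.PSU 6 F 2) {E : Set X} (hE : IsThreeTranspositionGroup E) (hne : E.Nonempty) :
    ∃ (θ : F →+* F) (hB : UModel.Space (hermB 6 θ)) (π : suG (hermB 6 θ) →* X),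
      Function.Surjective π ∧ (∀ g, π g = 1 → g ∈ Subgroup.center (suG (hermB 6 θ)) ∧ g ^ 3 = 1) ∧
      UModel.Model (hermB 6 θ) E (fun v => π (UModel.tr hB v)) := by
  obtain ⟨θ, hθq, hθ, hfix, -⟩ := exists_powHom (F := F) (q := 2) (by rw [hF]; norm_num)
  have hB : UModel.Space (hermB 6 θ) := by
    refine ⟨hermB_isHerm hθ 6, inferInstance, inferInstance, by rw [Module.finrank_fin_fun], ?_⟩
    intro a ha
    rw [hθq] at ha
    have : a * (a - 1) = 0 := by linear_combination ha
    rcases mul_eq_zero.1 this with h | h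
    · exact Or.inl h
    · exact Or.inr (sub_eq_zero.1 h)
  have hmap : (Subgroup.center (Cfsg.SU 6 F 2)).map (suEquiv 6 hθq).toMonoidHom
      = Subgroup.center (suG (hermB 6 θ)) := by
    ext x
    simp only [Subgroup.mem_map, Subgroup.mem_center_iff]
    constructor
    · rintro ⟨y, hy, rfl⟩ g
      obtain ⟨g', rfl⟩ := (suEquiv 6 hθq).surjective g
      simp only [MulEquiv.coe_toMonoidHom, ← map_mul, hy g']
    · intro hx
      refine ⟨(suEquiv 6 hθq).symm x, fun g => (suEquiv 6 hθq).injective ?_, by simp⟩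
      simp [hx]
  have h3 : Nat.card (Subgroup.center (suG (hermB 6 θ))) = 3 := by
    rw [← hmap, Subgroup.card_map_of_injective (f := (suEquiv 6 hθq).toMonoidHom) (suEquiv 6 hθq).injective,
      card_center_SU hθ hθq hfix (by norm_num)]
    norm_num
  have hpow : ∀ z ∈ Subgroup.center (suG (hermB 6 θ)), z ^ 3 = 1 := fun z hz => by
    have h1 : (⟨z, hz⟩ : Subgroup.center (suG (hermB 6 θ))) ^ 3 = 1 := by
      rw [← h3]; exact pow_card_eq_one'
    exact congrArg Subtype.val h1
  set ε := (QuotientGroup.congr _ _ (suEquiv 6 hθq) hmap).symm.trans e.symm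
  obtain ⟨π, h1, h2, -, hM⟩ := UModel.exists_model hB hpow ε hE hne
  have := finite_suG hB
  have hk : π.ker = Subgroup.center (suG (hermB 6 θ)) := by
    refine (Subgroup.eq_of_le_of_card_ge (fun z hz => h2 z hz) (le_of_eq ?_)).symm
    have e1 := Subgroup.card_eq_card_quotient_mul_card_subgroup π.ker
    have e2 := Subgroup.card_eq_card_quotient_mul_card_subgroup (Subgroup.center (suG (hermB 6 θ)))
    rw [Nat.card_congr (QuotientGroup.quotientKerEquivOfSurjective π h1).toEquiv] at e1
    rw [Nat.card_congr ε.toEquiv, e1] at e2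
    exact Nat.eq_of_mul_eq_mul_left (Nat.card_pos_iff.2 ⟨⟨1⟩, Finite.of_surjective π h1⟩) e2
  exact ⟨θ, hB, π, h1, fun g hg => ⟨hk ▸ MonoidHom.mem_ker.2 hg, hpow _ (hk ▸ MonoidHom.mem_ker.2 hg)⟩, hM⟩

namespace UModel

variable {F V : Type*} [Field F] [AddCommGroup V] [Module F V] {θ : F →+* F}
  {B : V →ₛₗ[θ] V →ₗ[F] F} (hB : Space B)

include hB

/-- An elementary abelian group of isometries has order at most `2 ^ 9`; if it is that large it
consists of products of transvections at the points of a totally isotropic subspace. -/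
theorem elem_suG (A : Subgroup (suG B)) (hA : ∀ g ∈ A, g * g = 1) :
    Nat.card A ≤ 512 ∧ (Nat.card A = 512 → ∃ U : Submodule F V, (∀ x ∈ U, ∀ y ∈ U, B x y = 0) ∧
      ∀ g ∈ A, ∃ l : List (Pt B), (∀ w ∈ l, w.1 ∈ U) ∧ g = (l.map (tr hB)).prod) := by
  have := hB.fin; have := hB.finF
  have hc : Nat.card (A.map (suG B).subtype) = Nat.card A :=
    Subgroup.card_map_of_injective (suG B).subtype_injective
  obtain ⟨h1, h2⟩ := ElemHerm.elem_bound hB.fixed 3 B hB.herm (by rw [hB.rank]) (A.map (suG B).subtype)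
    (by rintro _ ⟨g, -, rfl⟩; exact g.2.1)
    (by rintro _ ⟨g, hg, rfl⟩; rw [← map_mul, hA g hg, map_one])
  rw [hc] at h1 h2
  refine ⟨by simpa using h1, fun h => ?_⟩
  obtain ⟨U, hU, hU2, hfix, -⟩ := h2 (by simpa using h)
  refine ⟨U, hU, fun g hg => ?_⟩
  have hz : ∀ z ∈ U, g.1 z = z := fun z hzU => hfix _ ⟨g, hg, rfl⟩ z hzU
  have hmem : ∀ (w : V) (z : V), z ∈ U → (B w z = 0) → B z w = 0 := fun w z _ h => (symm_zero hB).1 h
  rcases involution_eq hB (hA g hg) with h | ⟨a, h⟩ | ⟨a, b, hab, hba, h⟩ |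
    ⟨a, b, c, hab, hac, hbc, hba, hcab, h⟩
  · exact ⟨[], by simp, by simpa using h⟩
  · have ha : a.1 ∈ U := hU2 _ fun z hzU => hmem _ z hzU (by
      have h1 := hz z hzU
      rw [h, tr_apply, add_eq_left] at h1
      exact (smul_eq_zero.1 h1).resolve_right a.2.1)
    exact ⟨[a], by simp [ha], by simpa using h⟩
  · have hcoef : ∀ z ∈ U, B a.1 z = 0 ∧ B b.1 z = 0 := fun z hzU => by
      have h1 := hz z hzU
      rw [h] at h1
      change (tr hB a).1 ((tr hB b).1 z) = z at h1
      simp only [tr_apply, map_add, map_smul, hab, smul_zero, add_zero, add_assoc, add_eq_left] at h1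
      by_cases hb : B b.1 z = 0
      · simp only [hb, zero_smul, add_zero, zero_add, smul_zero] at h1
        exact ⟨(smul_eq_zero.1 h1).resolve_right a.2.1, hb⟩
      · exfalso
        refine hba (-(B b.1 z)⁻¹ * B a.1 z) ?_
        rw [neg_mul, neg_smul, mul_smul, eq_neg_iff_add_eq_zero]
        have := congrArg (fun x => (B b.1 z)⁻¹ • x) h1
        simpa [smul_add, smul_smul, inv_mul_cancel₀ hb, add_comm] using this
    have ha : a.1 ∈ U := hU2 _ fun z hzU => hmem _ z hzU (hcoef z hzU).1
    have hb : b.1 ∈ U := hU2 _ fun z hzU => hmem _ z hzU (hcoef z hzU).2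
    exact ⟨[a, b], by simp [ha, hb], by simpa using h⟩
  · have hcoef : ∀ z ∈ U, B a.1 z = 0 ∧ B b.1 z = 0 ∧ B c.1 z = 0 := fun z hzU => by
      have h1 := hz z hzU
      rw [h] at h1
      change (tr hB a).1 ((tr hB b).1 ((tr hB c).1 z)) = z at h1
      simp only [tr_apply, map_add, map_smul, hab, hac, hbc, smul_zero, add_zero, add_assoc,
        add_eq_left] at h1
      by_cases hc : B c.1 z = 0
      · simp only [hc, zero_smul, add_zero, zero_add, smul_zero] at h1
        by_cases hb : B b.1 z = 0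
        · simp only [hb, zero_smul, add_zero, zero_add, smul_zero] at h1
          exact ⟨(smul_eq_zero.1 h1).resolve_right a.2.1, hb, hc⟩
        · exfalso
          refine hba (-(B b.1 z)⁻¹ * B a.1 z) ?_
          rw [neg_mul, neg_smul, mul_smul, eq_neg_iff_add_eq_zero]
          have := congrArg (fun x => (B b.1 z)⁻¹ • x) h1
          simpa [smul_add, smul_smul, inv_mul_cancel₀ hb, add_comm] using this
      · exfalso
        refine hcab (-(B c.1 z)⁻¹ * B a.1 z) (-(B c.1 z)⁻¹ * B b.1 z) ?_
        rw [neg_mul, neg_mul, neg_smul, neg_smul, mul_smul, mul_smul, ← neg_add, eq_neg_iff_add_eq_zero]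
        have h3 := congrArg (fun x => (B c.1 z)⁻¹ • x) h1
        simp only [smul_add, smul_zero, smul_smul, inv_mul_cancel₀ hc, one_smul] at h3
        linear_combination (norm := module) h3
    have ha : a.1 ∈ U := hU2 _ fun z hzU => hmem _ z hzU (hcoef z hzU).1
    have hb : b.1 ∈ U := hU2 _ fun z hzU => hmem _ z hzU (hcoef z hzU).2.1
    have hcU : c.1 ∈ U := hU2 _ fun z hzU => hmem _ z hzU (hcoef z hzU).2.2
    exact ⟨[a, b, c], by simp [ha, hb, hcU], by simpa [mul_assoc] using h⟩

/-- Nine transvections at the points of a plane generate an elementary abelian group of order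
`2 ^ 9`. -/
theorem exists_plane_group : ∃ v : Fin 9 → Pt B, (∀ i j, B (v i).1 (v j).1 = 0) ∧
    512 ≤ Nat.card (Subgroup.closure (Set.range fun i => tr hB (v i))) := by
  have := hB.fin; have := hB.finF; have := finite_suG hB
  obtain ⟨w, hw⟩ := Herm.exists_moved hB.herm.toIsInvol
  obtain ⟨P0, hP0, hPP, -⟩ := exists_iso hB (0 : V) 0 0 0
  obtain ⟨y, hy⟩ := exists_pair hB hP0
  obtain ⟨c, hc0, hcc, hPc, hyc, -, -⟩ := exists_iso hB P0 y 0 0
  have hind : ∀ k : F, c ≠ k • P0 := fun k hk => by
    rw [hk, map_smul, smul_eq_mul, hy, mul_one] at hyc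
    exact hc0 (by rw [hk, hyc, zero_smul])
  obtain ⟨y', hy'⟩ := exists_pair hB hc0
  obtain ⟨Q, hQ0, hQQ, hPQ, hcQ, hyQ, hyQ'⟩ := exists_iso hB P0 c y y'
  have hQind : ∀ α β : F, Q ≠ α • P0 + β • c := by
    intro α β hk
    rw [hk] at hyQ hyQ'
    simp only [map_add, map_smul, smul_eq_mul, hy, hyc, mul_one, mul_zero, add_zero] at hyQ
    rw [hyQ] at hyQ'
    simp only [map_add, map_smul, smul_eq_mul, map_zero, zero_mul, zero_add, hy', mul_one] at hyQ'
    exact hQ0 (by rw [hk, hyQ, hyQ', zero_smul, zero_smul, add_zero])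
  obtain ⟨a, z, z₂, Q', s, t, -, hQ'Q', -, -, -, hTQ, hPQ', haT, haP, haQ, hzT, hzP, hzQ, h2T, h2P, h2Q,
    -, -, -, -⟩ := exists_frame hB hP0 hPP hc0 hcc hQQ hPc hPQ hcQ hind hQind
  have hs := fun {x w : V} (h : B x w = 0) => (symm_zero hB).1 h
  have ho := fun {x w : V} (h : B x w = 1) => symm_one hB h
  set u : Fin 3 → V := ![P0, c, Q'] with hu
  set du : Fin 3 → V := ![a, z, z₂] with hdu
  have huu : ∀ i j, B (u i) (u j) = 0 := by
    intro i j
    fin_cases i <;> fin_cases j <;> simp [u, hPP, hcc, hQ'Q', hPc, hs hPc, hTQ, hs hTQ, hPQ', hs hPQ']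
  have hdual : ∀ i j, B (du i) (u j) = if i = j then 1 else 0 := by
    intro i j
    fin_cases i <;> fin_cases j <;> simp [u, du, haT, haP, haQ, hzT, hzP, hzQ, h2T, h2P, h2Q]
  have hdual' : ∀ i j, B (u j) (du i) = if i = j then 1 else 0 := by
    intro i j
    rw [← hB.herm.symm, hdual]; split_ifs <;> simp
  let co : Fin 9 → Fin 3 → F := ![![1, 0, 0], ![0, 1, 0], ![0, 0, 1], ![1, 1, 0], ![1, w, 0],
    ![1, 0, 1], ![1, 0, w], ![0, 1, 1], ![0, 1, w]]
  have hdc : ∀ (i : Fin 3) (e : Fin 3 → F), B (du i) (∑ k, e k • u k) = e i := fun i e => by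
    simp [map_sum, hdual]
  have hne : ∀ i, (∑ k, co i k • u k) ≠ 0 := by
    intro i h0
    have h1 := fun j : Fin 3 => hdc j (co i)
    rw [h0] at h1
    simp only [map_zero] at h1
    fin_cases i <;> first
      | exact zero_ne_one (α := F) (by simpa [co] using h1 0)
      | exact zero_ne_one (α := F) (by simpa [co] using h1 1)
      | exact zero_ne_one (α := F) (by simpa [co] using h1 2)
  have horth : ∀ e e' : Fin 3 → F, B (∑ k, e k • u k) (∑ k, e' k • u k) = 0 := fun e e' => by
    simp [map_sum, huu]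
  let v : Fin 9 → Pt B := fun i => ⟨∑ k, co i k • u k, hne i, horth _ _⟩
  have hv : ∀ i j, B (v i).1 (v j).1 = 0 := fun i j => horth _ _
  refine ⟨v, hv, ?_⟩
  -- the action of a product
  have hprod : ∀ (l : List (Fin 9)) (x : V), ((l.map fun i => tr hB (v i)).prod).1 x =
      x + (l.map fun i => B (v i).1 x • (v i).1).sum := by
    intro l
    induction l with
    | nil => intro x; simp
    | cons i l ih =>
      intro x
      show (tr hB (v i)).1 (((l.map fun i => tr hB (v i)).prod).1 x) = _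
      rw [ih, tr_apply, map_add]
      have h0 : B (v i).1 ((l.map fun j => B (v j).1 x • (v j).1).sum) = 0 := by
        clear ih
        induction l with
        | nil => simp
        | cons j l ihl => simp [hv i j, ihl]
      rw [h0, add_zero, List.map_cons, List.sum_cons]
      abel
  let g : (Fin 9 → Bool) → Subgroup.closure (Set.range fun i => tr hB (v i)) := fun e =>
    ⟨((List.finRange 9).map fun i => if e i then tr hB (v i) else 1).prod,
      list_prod_mem (by
        intro x hx
        obtain ⟨i, -, rfl⟩ := List.mem_map.1 hx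
        split_ifs
        · exact Subgroup.subset_closure ⟨i, rfl⟩
        · exact one_mem _)⟩
  have hg : ∀ (e : Fin 9 → Bool) (x : V), (g e).1.1 x =
      x + ∑ i, (if e i then B (v i).1 x • (v i).1 else 0) := by
    intro e x
    have e1 : ((List.finRange 9).map fun i => if e i then tr hB (v i) else 1).prod =
        (((List.finRange 9).filter fun i => e i).map fun i => tr hB (v i)).prod := by
      generalize List.finRange 9 = l
      induction l with
      | nil => rfl
      | cons j l ih => by_cases hj : e j <;> simp [hj, ih]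
    show (((List.finRange 9).map fun i => if e i then tr hB (v i) else 1).prod).1 x = _
    rw [e1, hprod]
    congr 1
    rw [← List.sum_toFinset _ ((List.nodup_finRange 9).filter _), ← Finset.sum_filter]
    exact Finset.sum_congr (by ext; simp) fun _ _ => rfl
  have hentry : ∀ (e : Fin 9 → Bool) (i j : Fin 3),
      B (du i) ((g e).1.1 (du j)) - B (du i) (du j) =
        ∑ k, (if e k then θ (co k j) * co k i else 0) := by
    intro e i j
    rw [hg, map_add, add_sub_cancel_left, map_sum]
    refine Finset.sum_congr rfl fun k _ => ?_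
    split_ifs
    · rw [map_smul, smul_eq_mul, hdc]
      congr 1
      show B (∑ l, co k l • u l) (du j) = _
      simp [map_sum, hdual']
    · rw [map_zero]
  have hinj : Function.Injective g := by
    intro e e' h
    have H := fun i j => (hentry e i j).symm.trans ((h ▸ hentry e' i j :))
    have hsep : ∀ p q p' q' : Bool,
        (if p then (1 : F) else 0) + (if q then w else 0) =
          (if p' then (1 : F) else 0) + (if q' then w else 0) → p = p' ∧ q = q' := by
      intro p q p' q' hh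
      have hh' := congrArg θ hh
      cases p <;> cases q <;> cases p' <;> cases q' <;> simp [map_add] at hh hh' ⊢ <;>
        exact hw (by grind)
    have hsep1 : ∀ p p' : Bool, (if p then (1 : F) else 0) = (if p' then (1 : F) else 0) → p = p' := by
      intro p p' hh; cases p <;> cases p' <;> simp at hh ⊢
    obtain ⟨e3, e4⟩ : e 3 = e' 3 ∧ e 4 = e' 4 := hsep _ _ _ _ (by
      simpa [Fin.sum_univ_succ, Fin.sum_univ_one, -Finset.sum_boole, co] using H 1 0)
    obtain ⟨e5, e6⟩ : e 5 = e' 5 ∧ e 6 = e' 6 := hsep _ _ _ _ (by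
      simpa [Fin.sum_univ_succ, Fin.sum_univ_one, -Finset.sum_boole, co] using H 2 0)
    obtain ⟨e7, e8⟩ : e 7 = e' 7 ∧ e 8 = e' 8 := hsep _ _ _ _ (by
      simpa [Fin.sum_univ_succ, Fin.sum_univ_one, -Finset.sum_boole, co] using H 2 1)
    have e0 : e 0 = e' 0 := hsep1 _ _ (by simpa [Fin.sum_univ_succ, Fin.sum_univ_one, -Finset.sum_boole, co, e3, e4, e5, e6] using H 0 0)
    have e1 : e 1 = e' 1 := hsep1 _ _ (by simpa [Fin.sum_univ_succ, Fin.sum_univ_one, -Finset.sum_boole, co, e3, e4, e7, e8] using H 1 1)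
    have e2 : e 2 = e' 2 := hsep1 _ _ (by simpa [Fin.sum_univ_succ, Fin.sum_univ_one, -Finset.sum_boole, co, e5, e6, e7, e8] using H 2 2)
    funext i
    fin_cases i <;> assumption
  have := Nat.card_le_card_of_injective g hinj
  simpa [Nat.card_eq_fintype_card] using this

end UModel

variable {G : Type*} [Group G] [Finite G] {D : Set G}

/-- Around the base member. -/
theorem elem_base (hD : IsThreeTranspositionGroup D) (h22 : IsOfTypeM22 G D) :
    ∃ d ∈ D, (∀ A : Subgroup G, IsElementaryAbelian 2 A → (∀ a ∈ A, Commute a d) →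
      Nat.card A ≤ 1024 ∧ (Nat.card A = 1024 → A ≤ Subgroup.closure {x | x ∈ D ∧ x ∈ A})) ∧
      ∃ A : Subgroup G, IsElementaryAbelian 2 A ∧ 1024 ≤ Nat.card A := by
  classical
  have hT := hD.1
  have hF := m22Full hD h22
  have hZ := h22.1
  have he : D \ {1} = D := Set.sdiff_singleton_eq_self fun h1 => ne_one hT h1 rfl
  obtain ⟨⟨hcls, -, hN⟩, -, -⟩ := layerData_of_M22 (by rwa [he]) h22
  rw [he] at hcls hN
  obtain ⟨-, d, hd, c, -, -, ⟨F, hFld, hFt, hF4, ⟨e⟩⟩, -⟩ := id h22
  refine ⟨d, hd, ?_⟩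
  set H := Subgroup.closure {y : G | y ∈ D ∧ y ≠ d ∧ Commute d y}
  have hH : H = Subgroup.closure (dperp D d) := rfl
  have hcard : 2 ^ 15 ∣ Nat.card (H ⧸ Subgroup.center H) := by
    rw [Nat.card_congr e.toEquiv]
    exact two_pow_dvd_psu hF4
  have : IsSimpleGroup (H ⧸ Subgroup.center H) :=
    (MulEquiv.isSimpleGroup_congr e).2 (Cfsg.Agent.S0283.result
      (by rw [hF4]; norm_num : Fintype.card F = 2 ^ 2) 6 (by norm_num) (by norm_num))
  have hgrp := lowImage_group hD hH
  have hG := good_of_simple (not_isMulCommutative_of_two_pow_dvd hgrp hcard) hgrp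
  obtain ⟨q, hq, -⟩ := hG.2.1
  obtain ⟨θ, hB, π, hsurj, hker, hM⟩ := psu_hom_kernel hF4 e hgrp ⟨q, hq⟩
  have := finite_suG hB
  have hcen : Subgroup.centralizer ({d} : Set G) = H := centralizer_eq_closure hD hF hZ hd
  have hlift : ∀ v : UModel.Pt (hermB 6 θ), ∃ x : H, (x : G) ∈ dperp D d ∧
      (x : H ⧸ Subgroup.center H) = π (UModel.tr hB v) := fun v => by
    obtain ⟨⟨x, hx, hxe⟩, -⟩ := UModel.tp_mem hM v
    exact ⟨x, hx, hxe⟩
  choose xl hxl1 hxl2 using hlift
  have hcomm : ∀ {v w : UModel.Pt (hermB 6 θ)}, (hermB 6 θ) v.1 w.1 = 0 → Commute (xl v : G) (xl w) :=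
    fun {v w} h0 => reflect hD hH (hxl1 v) (hxl1 w) (by
      rw [hxl2, hxl2]; exact (hM.comm_iff v w).2 h0)
  have hZH : ∀ z : H, z ∈ Subgroup.center H → (z : G) = 1 ∨ (z : G) = d := fun z hz =>
    eq_one_or_eq_of_centralises hD hZ hF.data hF.links hd (commute_of_mem_H hH z.2).symm
      fun x hx => (congrArg Subtype.val (Subgroup.mem_center_iff.1 hz ⟨x, mem_H hH hx⟩)).symm
  have hdH : d ∈ H := hcen ▸ Subgroup.mem_centralizer_singleton_iff.2 rfl
  have hdZ : (⟨d, hdH⟩ : H) ∈ Subgroup.center H :=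
    Subgroup.mem_center_iff.2 fun y => Subtype.ext (commute_of_mem_H hH y.2).symm.eq
  set mkH := QuotientGroup.mk' (Subgroup.center H) with hmkH
  constructor
  · intro A hA hAd
    have hAH : A ≤ H := fun a ha => hcen ▸ Subgroup.mem_centralizer_singleton_iff.2 (hAd a ha).eq
    set ι : A →* H := Subgroup.inclusion hAH
    set q : A →* H ⧸ Subgroup.center H := mkH.comp ι with hqdef
    have hsq : ∀ a : A, a * a = 1 := fun a => Subtype.ext (by
      show (a : G) * a = 1
      rw [← sq]; exact hA.2 _ a.2)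
    have hab : ∀ a b : A, a * b = b * a := hA.1.is_comm.comm
    let A' : Subgroup (suG (hermB 6 θ)) :=
      { carrier := {g | g * g = 1 ∧ π g ∈ q.range}
        one_mem' := ⟨one_mul _, by rw [map_one]; exact one_mem _⟩
        mul_mem' := by
          rintro g g' ⟨h1, a, ha⟩ ⟨h1', a', ha'⟩
          refine ⟨?_, by rw [map_mul, ← ha, ← ha']; exact mul_mem ⟨a, rfl⟩ ⟨a', rfl⟩⟩
          have h2 : π (g * g' * (g * g')) = 1 := by
            rw [map_mul, map_mul, ← ha, ← ha', ← map_mul, ← map_mul, hsq, map_one]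
          set k := g * g' * (g * g') with hk
          obtain ⟨hkc, hk3⟩ := hker k h2
          have e1 : g * k * g = k⁻¹ := by
            have ig : g⁻¹ = g := inv_eq_of_mul_eq_one_left h1
            have ig' : g'⁻¹ = g' := inv_eq_of_mul_eq_one_left h1'
            simp only [hk, mul_inv_rev, ig, ig']
            calc g * (g * g' * (g * g')) * g = g * g * (g' * g * g') * g := by simp only [mul_assoc]
              _ = g' * g * (g' * g) := by rw [h1, one_mul]; simp only [mul_assoc]
          rw [Subgroup.mem_center_iff.1 hkc g, mul_assoc, h1, mul_one] at e1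
          have e2 : k * k = 1 := by nth_rw 2 [e1]; exact mul_inv_cancel k
          show k = 1
          rwa [pow_succ, sq, e2, one_mul] at hk3
        inv_mem' := by
          rintro g ⟨h1, h2⟩
          rw [inv_eq_of_mul_eq_one_left h1]
          exact ⟨h1, h2⟩ }
    have hlift2 : ∀ a : A, ∃ g ∈ A', π g = q a := by
      intro a
      obtain ⟨g₀, hg₀⟩ := hsurj (q a)
      have h2 : π g₀ * π g₀ = 1 := by rw [hg₀, ← map_mul, hsq, map_one]
      have h3 : π (g₀ ^ 3) = q a := by rw [map_pow, pow_succ, sq, h2, one_mul, hg₀]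
      refine ⟨g₀ ^ 3, ⟨?_, by rw [h3]; exact ⟨a, rfl⟩⟩, h3⟩
      rw [← pow_add, show 3 + 3 = 2 * 3 from rfl, pow_mul, sq]
      exact (hker _ (by rw [map_mul]; exact h2)).2
    obtain ⟨hb1, hb2⟩ := UModel.elem_suG hB A' fun g hg => hg.1
    have hinj : Function.Injective fun g : A' => π g.1 := by
      intro g g' h
      have h1 := (hker (g.1 * g'.1) (by rw [map_mul, show π g.1 = π g'.1 from h, ← map_mul, g'.2.1, map_one])).2
      have h2 : g.1 * g'.1 * (g.1 * g'.1) = 1 := (mul_mem g.2 g'.2).1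
      rw [pow_succ, sq, h2, one_mul] at h1
      exact Subtype.ext (by rw [mul_eq_one_iff_eq_inv] at h1; rw [h1, inv_eq_of_mul_eq_one_left g'.2.1])
    have hrange : Nat.card q.range = Nat.card A' := (Nat.card_congr (Equiv.ofBijective
      (fun g : A' => (⟨π g.1, g.2.2⟩ : q.range)) ⟨fun g g' h => hinj (congrArg Subtype.val h),
        fun ⟨x, a, ha⟩ => (hlift2 a).elim fun g hg => ⟨⟨g, hg.1⟩, Subtype.ext (hg.2.trans ha)⟩⟩)).symm
    have hkq : ∀ a ∈ q.ker, (a : G) = 1 ∨ (a : G) = d := fun a ha =>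
      hZH (ι a) ((QuotientGroup.eq_one_iff _).1 (MonoidHom.mem_ker.1 ha))
    have hk2 : Nat.card q.ker ≤ 2 := by
      have := Nat.card_le_card_of_injective (fun a : q.ker => decide ((a.1 : G) = 1)) fun a a' h => by
        refine Subtype.ext (Subtype.ext ?_)
        simp only [decide_eq_decide] at h
        rcases hkq _ a.2 with e | e
        · rw [e, h.1 e]
        · rcases hkq _ a'.2 with e' | e'
          · rw [e', h.2 e']
          · rw [e, e']
      simpa using this
    have hcardA : Nat.card A = Nat.card A' * Nat.card q.ker := by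
      rw [← hrange, ← q.ker.index_mul_card, Subgroup.index_ker]
    refine ⟨by rw [hcardA]; exact (Nat.mul_le_mul hb1 hk2).trans (by norm_num), fun h1024 => ?_⟩
    rw [hcardA] at h1024
    have h512 : Nat.card A' = 512 := by nlinarith [Nat.zero_le (Nat.card q.ker)]
    have hk2' : Nat.card q.ker = 2 := by rw [h512] at h1024; omega
    have hdA : d ∈ A := by
      obtain ⟨a, ha, hne⟩ : ∃ a ∈ q.ker, a ≠ 1 := by
        by_contra hcon
        push Not at hcon
        have : q.ker = ⊥ := (Subgroup.eq_bot_iff_forall _).2 hcon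
        rw [this, Subgroup.card_bot] at hk2'; omega
      rcases hkq a ha with e | e
      · exact absurd (Subtype.ext e) hne
      · exact e ▸ a.2
    obtain ⟨U, hU, hgen⟩ := hb2 h512
    -- every element is a product of lifts from `U`, up to `d`
    have hword : ∀ a : A, ∃ l : List (UModel.Pt (hermB 6 θ)), (∀ w ∈ l, w.1 ∈ U) ∧
        ((a : G) = (l.map fun w => (xl w : G)).prod ∨ (a : G) = (l.map fun w => (xl w : G)).prod * d) := by
      intro a
      obtain ⟨g, hg, hga⟩ := hlift2 a
      obtain ⟨l, hl, rfl⟩ := hgen g hg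
      refine ⟨l, hl, ?_⟩
      have hP : mkH (l.map xl).prod = q a := by
        rw [← hga, map_list_prod, map_list_prod, List.map_map, List.map_map]
        exact congrArg List.prod (List.map_congr_left fun w _ => hxl2 w)
      have hz : (l.map xl).prod⁻¹ * ι a ∈ Subgroup.center H := QuotientGroup.eq.1 hP
      have hco : (((l.map xl).prod : H) : G) = (l.map fun w => (xl w : G)).prod := by
        rw [SubmonoidClass.coe_list_prod, List.map_map]; rfl
      rcases hZH _ hz with h | h <;> rw [Subgroup.coe_mul, Subgroup.coe_inv, hco] at h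
      · exact Or.inl (inv_mul_eq_one.1 h).symm
      · exact Or.inr (inv_mul_eq_iff_eq_mul.1 h)
    have hxA : ∀ w : UModel.Pt (hermB 6 θ), w.1 ∈ U → (xl w : G) ∈ A := by
      intro w hw
      have hcA : ∀ a ∈ A, Commute (xl w : G) a := by
        intro a ha
        obtain ⟨l, hl, h⟩ := hword ⟨a, ha⟩
        have h1 : Commute (xl w : G) (l.map fun w => (xl w : G)).prod :=
          Commute.list_prod_right _ _ fun y hy => by
            obtain ⟨w', hw', rfl⟩ := List.mem_map.1 hy
            exact hcomm (hU _ hw _ (hl w' hw'))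
        rcases h with h | h <;> simp only at h <;> rw [h]
        · exact h1
        · exact h1.mul_right (hxl1 w).2.2.symm
      obtain ⟨g₁, hg₁, hg₂⟩ : ∃ g ∈ A', π g = mkH (xl w) := by
        refine ⟨UModel.tr hB w, ?_, (hxl2 w).symm⟩
        by_contra hnot
        let A'' : Subgroup (suG (hermB 6 θ)) := A' ⊔ Subgroup.zpowers (UModel.tr hB w)
        have hcom : ∀ g ∈ A', Commute g (UModel.tr hB w) := by
          intro g hg
          obtain ⟨l, hl, rfl⟩ := hgen g hg
          exact Commute.list_prod_left _ _ fun y hy => by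
            obtain ⟨w', hw', rfl⟩ := List.mem_map.1 hy
            exact (UModel.tr_commute_iff hB w' w).2 (hU _ (hl w' hw') _ hw)
        have hA'' : ∀ g ∈ A'', g * g = 1 := by
          let K : Subgroup (suG (hermB 6 θ)) :=
            { carrier := {g | ∃ x ∈ A', g = x ∨ g = x * UModel.tr hB w}
              one_mem' := ⟨1, one_mem _, Or.inl rfl⟩
              mul_mem' := by
                rintro g g' ⟨x, hx, hg | hg⟩ ⟨y, hy, hg' | hg'⟩ <;> rw [hg, hg']
                · exact ⟨x * y, mul_mem hx hy, Or.inl rfl⟩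
                · exact ⟨x * y, mul_mem hx hy, Or.inr (mul_assoc _ _ _).symm⟩
                · exact ⟨x * y, mul_mem hx hy, Or.inr (by rw [mul_assoc, ← (hcom y hy).eq, mul_assoc])⟩
                · refine ⟨x * y, mul_mem hx hy, Or.inl ?_⟩
                  rw [mul_assoc, ← mul_assoc (UModel.tr hB w), ← (hcom y hy).eq, mul_assoc y, UModel.tr_sq,
                    mul_one]
              inv_mem' := by
                rintro g ⟨x, hx, hg | hg⟩ <;> rw [hg]
                · exact ⟨x⁻¹, inv_mem hx, Or.inl rfl⟩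
                · refine ⟨x⁻¹, inv_mem hx, Or.inr ?_⟩
                  rw [mul_inv_rev, inv_eq_of_mul_eq_one_left (UModel.tr_sq hB w), (hcom _ (inv_mem hx)).eq] }
          have hle : A'' ≤ K := sup_le (fun x hx => ⟨x, hx, Or.inl rfl⟩)
            (Subgroup.zpowers_le.2 ⟨1, one_mem _, Or.inr (one_mul _).symm⟩)
          intro g hg
          obtain ⟨x, hx, hgx | hgx⟩ := hle hg <;> rw [hgx]
          · exact hx.1
          · rw [(hcom x hx).symm.mul_mul_mul_comm, hx.1, UModel.tr_sq, one_mul]
        have hlt : Nat.card A' < Nat.card A'' := by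
          by_contra hge
          push Not at hge
          have hEq := Subgroup.eq_of_le_of_card_ge (le_sup_left : A' ≤ A'') hge
          exact hnot (hEq ▸ Subgroup.mem_sup_right (Subgroup.mem_zpowers _))
        have := (UModel.elem_suG hB A'' hA'').1
        omega
      obtain ⟨a, ha⟩ := hg₁.2
      rw [hg₂] at ha
      have hz : (ι a)⁻¹ * xl w ∈ Subgroup.center H := QuotientGroup.eq.1 ha
      rcases hZH _ hz with h | h <;>
        rw [Subgroup.coe_mul, Subgroup.coe_inv] at h
      · rw [← inv_mul_eq_one.1 h]; exact a.2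
      · rw [inv_mul_eq_iff_eq_mul.1 h]; exact mul_mem a.2 hdA
    intro a ha
    obtain ⟨l, hl, h⟩ := hword ⟨a, ha⟩
    have hl' : (l.map fun w => (xl w : G)).prod ∈ Subgroup.closure {x | x ∈ D ∧ x ∈ A} :=
      list_prod_mem fun y hy => by
        obtain ⟨w, hw, rfl⟩ := List.mem_map.1 hy
        exact Subgroup.subset_closure ⟨(hxl1 w).1, hxA w (hl w hw)⟩
    rcases h with h | h <;> simp only at h <;> rw [h]
    · exact hl'
    · exact mul_mem hl' (Subgroup.subset_closure ⟨hd, hdA⟩)
  · obtain ⟨v, hv, hv512⟩ := UModel.exists_plane_group hB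
    set S : Set H := insert ⟨d, hdH⟩ (Set.range fun i => xl (v i)) with hS
    set K : Subgroup H := Subgroup.closure S with hK
    have hScomm : ∀ x ∈ S, ∀ y ∈ S, x * y = y * x := by
      rintro x (rfl | ⟨i, rfl⟩) y hy
      · exact (Subgroup.mem_center_iff.1 hdZ y).symm
      rcases hy with rfl | ⟨j, rfl⟩
      · exact Subgroup.mem_center_iff.1 hdZ _
      · exact Subtype.ext (hcomm (hv i j)).eq
    have hKcomm : IsMulCommutative K := Subgroup.isMulCommutative_closure hScomm
    have hKsq : ∀ x ∈ K, x * x = 1 := by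
      intro x hx
      induction hx using Subgroup.closure_induction with
      | mem x hx =>
        rcases hx with rfl | ⟨i, rfl⟩
        · exact Subtype.ext (mul_self hT hd)
        · exact Subtype.ext (mul_self hT (hxl1 _).1)
      | one => exact one_mul 1
      | mul a b ha hb iha ihb =>
        have hab : a * b = b * a := congrArg Subtype.val (hKcomm.is_comm.comm ⟨a, ha⟩ ⟨b, hb⟩)
        rw [Commute.mul_mul_mul_comm (hab.symm : Commute b a), iha, ihb, one_mul]
      | inv a ha iha => rw [← mul_inv_rev, iha, inv_one]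
    refine ⟨K.map H.subtype, ⟨⟨⟨fun a b => ?_⟩⟩, ?_⟩, ?_⟩
    · obtain ⟨a, a', ha, rfl⟩ := a
      obtain ⟨b, b', hb, rfl⟩ := b
      exact Subtype.ext (congrArg (fun z : K => ((z : H) : G)) (hKcomm.is_comm.comm ⟨a', ha⟩ ⟨b', hb⟩))
    · rintro _ ⟨x, hx, rfl⟩
      rw [sq, ← map_mul, hKsq x hx, map_one]
    rw [Subgroup.card_map_of_injective H.subtype_injective]
    set q : K →* H ⧸ Subgroup.center H := mkH.comp K.subtype
    have h1 : 512 ≤ Nat.card q.range := by
      refine hv512.trans ?_
      let P : Subgroup (suG (hermB 6 θ)) := Subgroup.closure (Set.range fun i => UModel.tr hB (v i))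
      have hP : P.map π ≤ q.range := by
        rw [MonoidHom.map_closure, Subgroup.closure_le]
        rintro _ ⟨_, ⟨i, rfl⟩, rfl⟩
        exact ⟨⟨xl (v i), Subgroup.subset_closure (Or.inr ⟨i, rfl⟩)⟩, hxl2 _⟩
      have hPsq : ∀ x ∈ P, x * x = 1 := by
        have hc : IsMulCommutative P := Subgroup.isMulCommutative_closure (by
          rintro _ ⟨i, rfl⟩ _ ⟨j, rfl⟩
          exact ((UModel.tr_commute_iff hB (v i) (v j)).2 (hv i j)).eq)
        intro x hx
        induction hx using Subgroup.closure_induction with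
        | mem x hx => obtain ⟨i, rfl⟩ := hx; exact UModel.tr_sq hB _
        | one => exact one_mul 1
        | mul a b ha hb iha ihb =>
          have hab : a * b = b * a := congrArg Subtype.val (hc.is_comm.comm ⟨a, ha⟩ ⟨b, hb⟩)
          rw [Commute.mul_mul_mul_comm (hab.symm : Commute b a), iha, ihb, one_mul]
        | inv a ha iha => rw [← mul_inv_rev, iha, inv_one]
      refine Nat.card_le_card_of_injective (fun x : P => (⟨π x.1, hP ⟨x.1, x.2, rfl⟩⟩ : q.range)) ?_
      intro x y h
      have h' : π x.1 = π y.1 := congrArg Subtype.val h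
      have h1 := (hker (x.1 * y.1) (by rw [map_mul, h', ← map_mul, hPsq _ y.2, map_one])).2
      rw [pow_succ, sq, hPsq _ (mul_mem x.2 y.2), one_mul] at h1
      exact Subtype.ext (by rw [mul_eq_one_iff_eq_inv] at h1; rw [h1, inv_eq_of_mul_eq_one_left (hPsq _ y.2)])
    have h2 : 2 ≤ Nat.card q.ker := by
      have : Nontrivial q.ker := ⟨⟨⟨⟨⟨d, hdH⟩, Subgroup.subset_closure (Or.inl rfl)⟩,
        MonoidHom.mem_ker.2 ((QuotientGroup.eq_one_iff _).2 hdZ)⟩, 1, fun h =>
          ne_one hT hd (congrArg (fun z : q.ker => ((z.1 : H) : G)) h)⟩⟩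
      exact Finite.one_lt_card
    rw [← q.ker.index_mul_card, Subgroup.index_ker]
    exact le_trans (by norm_num) (Nat.mul_le_mul h1 h2)

/-- An elementary abelian 2-subgroup has order at most `2 ^ 10`, and is generated by members when it
is that large. -/
theorem elem_M22 (hD : IsThreeTranspositionGroup D) (htrans : ∀ a ∈ D, ∀ b ∈ D, ∃ g : G, g * a * g⁻¹ = b)
    (h22 : IsOfTypeM22 G D)
    (A : Subgroup G) (hA : IsElementaryAbelian 2 A) :
    Nat.card A ≤ 1024 ∧ (Nat.card A = 1024 → A ≤ Subgroup.closure {x | x ∈ D ∧ x ∈ A}) := by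
  classical
  have hT := hD.1
  have hF := m22Full hD h22
  obtain ⟨d, hd, hbase, -⟩ := elem_base hD h22
  -- a centralised member
  have key : ∀ (A : Subgroup G), IsElementaryAbelian 2 A → ∀ c ∈ D, (∀ a ∈ A, Commute a c) →
      Nat.card A ≤ 1024 ∧ (Nat.card A = 1024 → A ≤ Subgroup.closure {x | x ∈ D ∧ x ∈ A}) := by
    intro A hA c hc hAc
    obtain ⟨g, hg⟩ := htrans c hc d hd
    set f := (MulAut.conj g).toMonoidHom with hf
    have hfi : Function.Injective f := (MulAut.conj g).injective
    obtain ⟨h1, h2⟩ := hbase (A.map f) ⟨⟨⟨fun a b => by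
        obtain ⟨_, a, ha, rfl⟩ := a
        obtain ⟨_, b, hb, rfl⟩ := b
        exact Subtype.ext (by
          show f a * f b = f b * f a
          rw [← map_mul, ← map_mul]
          exact congrArg f (congrArg Subtype.val (hA.1.is_comm.comm ⟨a, ha⟩ ⟨b, hb⟩)))⟩⟩,
      by rintro _ ⟨a, ha, rfl⟩; rw [← map_pow, hA.2 a ha, map_one]⟩
      (by rintro _ ⟨a, ha, rfl⟩; rw [← hg]; exact (commute_conj g a c).2 (hAc a ha))
    rw [Subgroup.card_map_of_injective hfi] at h1 h2
    refine ⟨h1, fun h a ha => ?_⟩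
    have h3 : A.map f ≤ (Subgroup.closure {x | x ∈ D ∧ x ∈ A}).map f := by
      refine (h2 h).trans ?_
      rw [Subgroup.closure_le]
      rintro x ⟨hx, y, hy, rfl⟩
      refine ⟨y, Subgroup.subset_closure ⟨?_, hy⟩, rfl⟩
      have := hD.2.1 g⁻¹ _ hx
      simpa [hf, mul_assoc] using this
    exact (Subgroup.map_le_map_iff_of_injective hfi).1 h3 ha
  have : Fact (Nat.Prime 2) := ⟨Nat.prime_two⟩
  -- a member with an orbit of length one or two
  obtain ⟨a, ha, hidx⟩ : ∃ a ∈ D, Nat.card A ≤ 2 * Nat.card (A ⊓ Subgroup.centralizer {a} : Subgroup G) := by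
    by_contra hcon
    push Not at hcon
    let act : MulAction A D :=
      { smul := fun x y => ⟨(x : G) * y * (x : G)⁻¹, hD.2.1 _ _ y.2⟩
        one_smul := fun y => Subtype.ext (by show (1 : G) * y * (1 : G)⁻¹ = y; simp)
        mul_smul := fun x z y => Subtype.ext (by
          show (x * z : G) * y * (x * z : G)⁻¹ = x * (z * y * (z : G)⁻¹) * (x : G)⁻¹
          group) }
    have h4 : ∀ y : D, 4 ∣ Nat.card (MulAction.orbit A y) := by
      intro y
      rw [Nat.card_congr (MulAction.orbitEquivQuotientStabilizer A y)]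
      set S := MulAction.stabilizer A y with hS
      have hp : IsPGroup 2 A := fun x => ⟨1, Subtype.ext (by simpa using hA.2 _ x.2)⟩
      obtain ⟨n, hn⟩ := hp.index S
      rw [← Subgroup.index_eq_card, hn]
      have hle : Nat.card S ≤ Nat.card (A ⊓ Subgroup.centralizer {(y : G)} : Subgroup G) := by
        refine Nat.card_le_card_of_injective (fun x => ⟨(x.1 : G), x.1.2,
          Subgroup.mem_centralizer_singleton_iff.2 (mul_inv_eq_iff_eq_mul.1
            (congrArg Subtype.val (MulAction.mem_stabilizer_iff.1 x.2)))⟩) ?_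
        intro x x' h
        exact Subtype.ext (Subtype.ext (congrArg Subtype.val h :))
      have hlt := hcon y y.2
      rw [← S.index_mul_card, hn] at hlt
      rcases n with _ | _ | n
      · simp only [pow_zero, one_mul] at hlt; omega
      · simp only [zero_add, pow_one] at hlt; omega
      · exact ⟨2 ^ n, by ring⟩
    have hdiv : 4 ∣ Nat.card D := by
      have := Fintype.ofFinite D
      have := Fintype.ofFinite (Quotient (MulAction.orbitRel A D))
      rw [Nat.card_congr (MulAction.selfEquivSigmaOrbits A D), Nat.card_sigma]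
      exact Finset.dvd_sum fun ω _ => h4 _
    have hc := counts hD h22
    rw [Nat.card_coe_set_eq, ncard_members hD h22.1 hF (arcs_of_M22 hD h22) (layer_counts_M22 hD h22)
      (fun x hx => (hc x hx).1) (fun x hx => (hc x hx).2.1) hd] at hdiv
    omega
  set A₀ := A ⊓ Subgroup.centralizer ({a} : Set G) with hA₀
  by_cases hfull : ∀ x ∈ A, Commute x a
  · exact key A hA a ha hfull
  push Not at hfull
  obtain ⟨x, hx, hxa⟩ := hfull
  have hcomA : ∀ {y z}, y ∈ A → z ∈ A → Commute y z := fun hy hz =>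
    congrArg Subtype.val (hA.1.is_comm.comm ⟨_, hy⟩ ⟨_, hz⟩)
  have hinv : ∀ {y}, y ∈ A → y * y = 1 := fun hy => by rw [← sq]; exact hA.2 _ hy
  have hxi : x⁻¹ = x := inv_eq_of_mul_eq_one_left (hinv hx)
  set b := x * a * x with hb
  have hbD : b ∈ D := by simpa [hb, hxi] using hD.2.1 x a ha
  have hxb : x * b * x = a := by
    rw [hb]
    calc x * (x * a * x) * x = x * x * a * (x * x) := by simp only [mul_assoc]
      _ = a := by rw [hinv hx, one_mul, mul_one]
  have hab : a ≠ b := fun h => hxa (by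
    show x * a = a * x
    conv_rhs => rw [h, hb, mul_assoc, hinv hx, mul_one])
  have hA₀a : ∀ y ∈ A₀, Commute y a := fun y hy => Subgroup.mem_centralizer_singleton_iff.1 hy.2
  have hA₀b : ∀ y ∈ A₀, Commute y b := fun y hy =>
    ((hcomA hy.1 hx).mul_right (hA₀a y hy)).mul_right (hcomA hy.1 hx)
  -- outside the stabiliser the elements are `x` times elements of it
  have hsplit : ∀ y ∈ A, y ∈ A₀ ∨ ∃ y₀ ∈ A₀, y = x * y₀ := by
    have hne : A₀ ≠ A := fun h => hxa (hA₀a x (h.symm ▸ hx))
    intro y hy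
    by_contra hcon
    push Not at hcon
    set i := A₀.relIndex A with hi
    have hle : A₀ ≤ A := inf_le_left
    have h1 : i * Nat.card A₀ = Nat.card A := by
      rw [hi, Subgroup.relIndex, ← Subgroup.index_mul_card (A₀.subgroupOf A)]
      congr 1
      exact (Nat.card_congr (Subgroup.subgroupOfEquivOfLe hle).toEquiv).symm
    have h2 : i ≠ 1 := fun h => hne (le_antisymm hle (Subgroup.relIndex_eq_one.1 h))
    have hpos : 0 < Nat.card A₀ := Nat.card_pos
    have h3 : i ≤ 2 := Nat.le_of_mul_le_mul_right (h1.trans_le hidx) hpos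
    have h0 : i ≠ 0 := fun h => by rw [h, zero_mul] at h1; exact (Nat.card_pos (α := A)).ne h1
    have h4 : (A₀.subgroupOf A).index = 2 := show i = 2 by omega
    have hxn : (⟨x, hx⟩ : A) ∉ A₀.subgroupOf A := fun h => hxa (hA₀a x (Subgroup.mem_subgroupOf.1 h))
    have hyn : (⟨y, hy⟩ : A) ∉ A₀.subgroupOf A := fun h => hcon.1 (Subgroup.mem_subgroupOf.1 h)
    have hxy := (Subgroup.mul_mem_iff_of_index_two h4).2 (iff_of_false hxn hyn)
    exact hcon.2 (x * y) (Subgroup.mem_subgroupOf.1 hxy) (by rw [← mul_assoc, hinv hx, one_mul])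
  have hfixA : ∀ c, Commute x c → (∀ y ∈ A₀, Commute y c) → ∀ y ∈ A, Commute y c := by
    intro c hcx hc0 y hy
    rcases hsplit y hy with h | ⟨y₀, h, rfl⟩
    exacts [hc0 y h, hcx.mul_left (hc0 y₀ h)]
  by_cases hcab : Commute a b
  swap
  · have hc3 : a * b * a = b * a * b := braid hT ha hbD hcab
    refine key A hA (a * b * a) (by simpa [inv_eq hT ha] using hD.2.1 a b hbD) (hfixA _ ?_ fun y hy =>
      ((hA₀a y hy).mul_right (hA₀b y hy)).mul_right (hA₀a y hy))
    show x * (a * b * a) = a * b * a * x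
    calc x * (a * b * a) = x * a * x * (x * b * x) * (x * a) := by
          simp only [mul_assoc]; simp only [← mul_assoc x x, hinv hx, one_mul]
      _ = b * a * (x * a) := by rw [hxb]
      _ = b * a * b * x := by rw [hb]; simp only [mul_assoc, hinv hx, mul_one]
      _ = a * b * a * x := by rw [hc3]
  -- adjoin `a` to the stabiliser
  let A₁ : Subgroup G :=
    { carrier := {g | ∃ y ∈ A₀, g = y ∨ g = y * a}
      one_mem' := ⟨1, one_mem _, Or.inl rfl⟩
      mul_mem' := by
        rintro g g' ⟨y, hy, hg | hg⟩ ⟨z, hz, hg' | hg'⟩ <;> rw [hg, hg']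
        · exact ⟨y * z, mul_mem hy hz, Or.inl rfl⟩
        · exact ⟨y * z, mul_mem hy hz, Or.inr (mul_assoc _ _ _).symm⟩
        · exact ⟨y * z, mul_mem hy hz, Or.inr (by rw [mul_assoc, ← (hA₀a z hz).eq, mul_assoc])⟩
        · refine ⟨y * z, mul_mem hy hz, Or.inl ?_⟩
          rw [mul_assoc, ← mul_assoc a, ← (hA₀a z hz).eq, mul_assoc z, mul_self hT ha, mul_one]
      inv_mem' := by
        rintro g ⟨y, hy, hg | hg⟩ <;> rw [hg]
        · exact ⟨y⁻¹, inv_mem hy, Or.inl rfl⟩
        · refine ⟨y⁻¹, inv_mem hy, Or.inr ?_⟩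
          rw [mul_inv_rev, inv_eq hT ha, (hA₀a _ (inv_mem hy)).eq] }
  have haA : a ∉ A := fun h => hxa (hcomA hx h)
  have hA₁ : IsElementaryAbelian 2 A₁ ∧ (∀ g ∈ A₁, Commute g a) := by
    refine ⟨⟨⟨⟨fun g g' => Subtype.ext ?_⟩⟩, ?_⟩, ?_⟩
    · obtain ⟨g, y, hy, hg | hg⟩ := g <;> obtain ⟨g', z, hz, hg' | hg'⟩ := g' <;>
        show g * g' = g' * g <;> rw [hg, hg']
      · exact (hcomA hy.1 hz.1).eq
      · exact ((hcomA hy.1 hz.1).mul_right (hA₀a _ hy)).eq
      · exact ((hcomA hy.1 hz.1).mul_left (hA₀a _ hz).symm).eq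
      · exact (((hcomA hy.1 hz.1).mul_right (hA₀a _ hy)).mul_left
          ((hA₀a _ hz).symm.mul_right (Commute.refl a))).eq
    · rintro g ⟨y, hy, hg | hg⟩ <;> rw [hg]
      · exact hA.2 _ hy.1
      · rw [(hA₀a y hy).mul_pow, hA.2 _ hy.1, sq, mul_self hT ha, one_mul]
    · rintro g ⟨y, hy, hg | hg⟩ <;> rw [hg]
      exacts [hA₀a y hy, (hA₀a y hy).mul_left (Commute.refl a)]
  have hcard : Nat.card A = Nat.card A₁ := by
    refine Nat.card_congr (Equiv.ofBijective (fun y : A => if h : y.1 ∈ A₀ then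
      (⟨y.1, y.1, h, Or.inl rfl⟩ : A₁) else ⟨x * y.1 * a, x * y.1, ?_, Or.inr rfl⟩) ⟨?_, ?_⟩)
    · obtain ⟨y₀, hy₀, hy⟩ := (hsplit y.1 y.2).resolve_left h
      rw [show x * y.1 = y₀ by rw [hy, ← mul_assoc, hinv hx, one_mul]]
      exact hy₀
    · intro y y' h
      simp only at h
      have hk : ∀ (y y' : A), x * y.1 * a = y'.1 → False := fun y y' h =>
        haA (by
          have : a = (x * y.1)⁻¹ * y'.1 := eq_inv_mul_iff_mul_eq.2 h
          rw [this]; exact mul_mem (inv_mem (mul_mem hx y.2)) y'.2)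
      split_ifs at h with h1 h2 h2 <;> simp only [Subtype.mk.injEq] at h
      · exact Subtype.ext h
      · exact (hk y' y h.symm).elim
      · exact (hk y y' h).elim
      · exact Subtype.ext (mul_left_cancel (mul_right_cancel h))
    · rintro ⟨g, y, hy, hg | hg⟩ <;> subst hg
      · exact ⟨⟨_, hy.1⟩, by simp [hy]⟩
      · refine ⟨⟨x * y, mul_mem hx hy.1⟩, ?_⟩
        have hn : x * y ∉ A₀ := fun h => hxa (hA₀a x (by simpa using mul_mem h (inv_mem hy)))
        simp only [dif_neg hn]
        exact Subtype.ext (congrArg (· * a) (show x * (x * y) = y by rw [← mul_assoc, hinv hx, one_mul]))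
  obtain ⟨h1, h2⟩ := key A₁ hA₁.1 a ha hA₁.2
  refine ⟨hcard ▸ h1, fun h => ?_⟩
  obtain ⟨e, heD, he1, hea, heb⟩ : ∃ e, e ∈ D ∧ e ∈ A₁ ∧ e ≠ a ∧ e ≠ b := by
    by_contra hcon
    push Not at hcon
    let S : Subgroup G :=
      { carrier := {g | g = 1 ∨ g = a ∨ g = b ∨ g = a * b}
        one_mem' := Or.inl rfl
        mul_mem' := by
          have e1 := mul_self hT ha
          have e2 := mul_self hT hbD
          have e3 := hcab.eq
          rintro g g' (hg | hg | hg | hg) (hg' | hg' | hg' | hg') <;> rw [hg, hg'] <;>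
            simp [e1, e2, ← e3, mul_assoc, mul_self_mul hT ha, mul_self_mul hT hbD,
              show b * (a * b) = a by rw [← mul_assoc, ← e3, mul_assoc, e2, mul_one]]
        inv_mem' := by
          rintro g (hg | hg | hg | hg) <;> rw [hg] <;> simp [inv_eq hT ha, inv_eq hT hbD, hcab.eq] }
    have hle : A₁ ≤ S := (h2 (hcard ▸ h)).trans ((Subgroup.closure_le _).2 fun g hg => by
      by_cases hga : g = a
      · exact Or.inr (Or.inl hga)
      · exact Or.inr (Or.inr (Or.inl (hcon g hg.1 hg.2 hga))))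
    have h4 : Nat.card S ≤ 4 := by
      have : (S : Set G) ⊆ {1, a, b, a * b} := fun g hg => by rcases hg with h | h | h | h <;> simp [h]
      calc Nat.card S = (S : Set G).ncard := Nat.card_coe_set_eq _
        _ ≤ ({1, a, b, a * b} : Set G).ncard := Set.ncard_le_ncard this
        _ ≤ 4 := by
          refine (Set.ncard_insert_le _ _).trans ?_
          refine Nat.succ_le_succ ((Set.ncard_insert_le _ _).trans ?_)
          exact Nat.succ_le_succ ((Set.ncard_insert_le _ _).trans (by rw [Set.ncard_singleton]))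
    have := Subgroup.card_le_of_le hle
    omega
  have hex : Commute x e := by
    obtain ⟨y, hy, hey | hey⟩ := id he1 <;> subst hey
    · exact hcomA hx hy.1
    exfalso
    set e' := y * b with he'
    have he'D : e' ∈ D := by
      have := hD.2.1 x _ heD
      rwa [hxi, show x * (y * a) * x = y * (x * a * x) by
        rw [← mul_assoc x y a, (hcomA hx hy.1).eq]; simp only [mul_assoc]] at this
    have hyy := hinv hy.1
    have hprod : y * a * e' = a * b := by
      rw [he', mul_assoc y a, ← mul_assoc a y b, ← (hA₀a y hy).eq, mul_assoc y a b, ← mul_assoc y,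
        hyy, one_mul]
    have hne : y * a ≠ e' := fun h => hab (mul_left_cancel h)
    have hce : Commute (y * a) e' := by
      show y * a * e' = e' * (y * a)
      rw [hprod, he', mul_assoc y b, ← mul_assoc b y a, ← (hA₀b y hy).eq, mul_assoc y b a, ← mul_assoc y,
        hyy, one_mul, hcab.eq]
    rcases pair_unique hT hF.data.noTwins ha hbD heD he'D hcab hab hce hne hprod.symm with h' | h'
    exacts [hea h', heb h']
  exact (key A hA e heD (hfixA e hex fun y hy => congrArg Subtype.val
    (hA₁.1.1.is_comm.comm ⟨y, y, hy, Or.inl rfl⟩ ⟨e, he1⟩))).2 h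

/-- In type M(22) the members in a Sylow 2-subgroup generate its Thompson subgroup. -/
theorem closure_eq_thompson (hD : IsThreeTranspositionGroup D) (hprim : IsPrimitiveUnderConj D)
    (h22 : IsOfTypeM22 G D) (T : Sylow 2 G) :
    Subgroup.closure {x : G | x ∈ D ∧ x ∈ (T : Subgroup G)} =
      Cfsg.thompsonSubgroupOf 2 (T : Subgroup G) := by
  have : Fact (Nat.Prime 2) := ⟨Nat.prime_two⟩
  have hT := hD.1
  obtain ⟨-, -, -, A₀, hA₀, hA₀c⟩ := elem_base hD h22
  have hA₀p : IsPGroup 2 A₀ := fun x => ⟨1, Subtype.ext (by simpa using hA₀.2 _ x.2)⟩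
  obtain ⟨Q, hQ⟩ := hA₀p.exists_le_sylow
  obtain ⟨g, hg⟩ := MulAction.exists_smul_eq G Q T
  set B₀ : Subgroup G := A₀.map (MulAut.conj g).toMonoidHom with hB₀
  have hB₀T : B₀ ≤ T := by
    rw [← hg, Sylow.coe_subgroup_smul]
    exact Subgroup.map_mono hQ
  have hB₀c : 1024 ≤ Nat.card B₀ := by
    rwa [hB₀, Subgroup.card_map_of_injective (MulAut.conj g).injective]
  set P : Subgroup G := (T : Subgroup G) with hP
  have toG : ∀ {B : Subgroup P}, IsElementaryAbelian 2 B → IsElementaryAbelian 2 (B.map P.subtype) :=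
    fun {B} hB => ⟨⟨⟨fun a b => by
      obtain ⟨_, a, ha, rfl⟩ := a
      obtain ⟨_, b, hb, rfl⟩ := b
      refine Subtype.ext ?_
      show P.subtype a * P.subtype b = P.subtype b * P.subtype a
      rw [← map_mul, ← map_mul]
      exact congrArg P.subtype (congrArg Subtype.val (hB.1.is_comm.comm ⟨a, ha⟩ ⟨b, hb⟩))⟩⟩,
      by rintro _ ⟨a, ha, rfl⟩; rw [← map_pow, hB.2 a ha, map_one]⟩
  have cardG : ∀ B : Subgroup P, Nat.card (B.map P.subtype) = Nat.card B := fun B =>
    Subgroup.card_map_of_injective P.subtype_injective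
  have hB₀P : IsElementaryAbelian 2 (B₀.subgroupOf P) := by
    refine ⟨⟨⟨fun a b => ?_⟩⟩, ?_⟩
    · obtain ⟨a₀, ha₀, ea⟩ := Subgroup.mem_subgroupOf.1 a.2
      obtain ⟨b₀, hb₀, eb⟩ := Subgroup.mem_subgroupOf.1 b.2
      refine Subtype.ext (Subtype.ext ?_)
      show (a.1 : G) * b.1 = b.1 * a.1
      rw [← ea, ← eb, ← map_mul, ← map_mul]
      exact congrArg _ (congrArg Subtype.val (hA₀.1.is_comm.comm ⟨a₀, ha₀⟩ ⟨b₀, hb₀⟩))
    · intro a ha
      obtain ⟨a₀, ha₀, ea⟩ := Subgroup.mem_subgroupOf.1 ha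
      refine Subtype.ext ?_
      rw [SubmonoidClass.coe_pow, ← ea, ← map_pow, hA₀.2 a₀ ha₀, map_one, OneMemClass.coe_one]
  have hB₀Pc : 1024 ≤ Nat.card (B₀.subgroupOf P) := by
    rwa [Nat.card_congr (Subgroup.subgroupOfEquivOfLe hB₀T).toEquiv]
  set S : Set G := {x : G | x ∈ D ∧ x ∈ P} with hS
  set K : Subgroup G := Subgroup.closure S with hK
  have hKP : K ≤ P := (Subgroup.closure_le _).2 fun x hx => hx.2
  have hScomm : ∀ x ∈ S, ∀ y ∈ S, x * y = y * x := by
    intro x hx y hy
    rcases hT.2 x hx.1 y hy.1 with h | h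
    · have e : x * y = (x * y)⁻¹ := (inv_eq_of_mul_eq_one_left (by rw [← sq]; exact h)).symm
      rw [mul_inv_rev, inv_eq hT hy.1, inv_eq hT hx.1] at e
      exact e
    · obtain ⟨k, hk⟩ := T.isPGroup' ⟨x * y, P.mul_mem hx.2 hy.2⟩
      have h2 : (x * y) ^ 2 ^ k = 1 := congrArg Subtype.val hk
      have h3 : orderOf (x * y) ∣ Nat.gcd 3 (2 ^ k) :=
        Nat.dvd_gcd (orderOf_dvd_of_pow_eq_one h) (orderOf_dvd_of_pow_eq_one h2)
      rw [Nat.Coprime.gcd_eq_one (Nat.Coprime.pow_right k (by norm_num)), Nat.dvd_one,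
        orderOf_eq_one_iff] at h3
      rw [show y = x by rw [mul_eq_one_iff_eq_inv, inv_eq hT hy.1] at h3; exact h3.symm]
  have hKe : IsElementaryAbelian 2 K := by
    have hc : IsMulCommutative K := Subgroup.isMulCommutative_closure hScomm
    refine ⟨hc, fun x hx => ?_⟩
    induction hx using Subgroup.closure_induction with
    | mem x hx => rw [sq]; exact mul_self hT hx.1
    | one => exact one_pow 2
    | mul a b ha hb iha ihb =>
      rw [Commute.mul_pow (congrArg Subtype.val (hc.is_comm.comm ⟨a, ha⟩ ⟨b, hb⟩)), iha, ihb, one_mul]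
    | inv a ha iha => rw [inv_pow, iha, inv_one]
  have hmax : ∀ B ∈ maxElementaryAbelianSubgroups 2 P,
      Nat.card B = 1024 ∧ B.map P.subtype ≤ K := by
    intro B hB
    obtain ⟨k1, k2⟩ := elem_M22 hD hprim.1 h22 _ (toG hB.1)
    rw [cardG] at k1 k2
    have h := le_antisymm k1 (hB₀Pc.trans (hB.2 _ hB₀P))
    refine ⟨h, (k2 h).trans (Subgroup.closure_mono ?_)⟩
    rintro x ⟨hx, y, -, rfl⟩
    exact ⟨hx, y.2⟩
  obtain ⟨B, hB⟩ : ∃ B, B ∈ maxElementaryAbelianSubgroups 2 P := by
    obtain ⟨B, hB, hmax⟩ := Set.exists_max_image {B : Subgroup P | IsElementaryAbelian 2 B}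
      (fun B => Nat.card B) (Set.toFinite _) ⟨_, hB₀P⟩
    exact ⟨B, hB, hmax⟩
  obtain ⟨hBc, hBK⟩ := hmax B hB
  have hKB : B.map P.subtype = K := Subgroup.eq_of_le_of_card_ge hBK (by
    rw [cardG, hBc]; exact (elem_M22 hD hprim.1 h22 K hKe).1)
  refine le_antisymm ?_ ?_
  · rw [← hKB]
    exact Subgroup.map_mono (le_sSup hB)
  · rw [Cfsg.thompsonSubgroupOf, Subgroup.map_le_iff_le_comap]
    exact sSup_le fun B hB => Subgroup.map_le_iff_le_comap.1 (hmax B hB).2

end Cfsg.Agent.ThreeTrans
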