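import Cfsg.Agent.ThreeTrans.CoverM22Squares
import Cfsg.Agent.ThreeTrans.CountD
import Cfsg.Agent.ThreeTrans.ElemM22

/-!
# The Thompson subgroup of a double cover of type M(22)

It is the preimage of the group generated by twenty-two commuting members, and an invariant set
without squares meets it in member lifts only.
-/

set_option autoImplicit false

open Cfsg Cfsg.Agent.Classical Cfsg.Agent.Classical.Herm Module

namespace Cfsg.Agent.ThreeTrans

variable {C X : Type*} [Group C] [Group X] [Finite C] [Finite X] {ξ : C →* X} {z : C} {E : Set X}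
  (hM : MCover ξ z E)

include hM

theorem MCover.pre_sq {K : Subgroup X} (hK : ∀ q ∈ K, q * q = 1) {c : C} (hc : ξ c ∈ K) : c * c = 1 := by
  obtain ⟨b, hb, hbe⟩ := lift_involution_M22 hM.cov hM.cls hM.m22 (hK _ hc)
  rw [Lift.sq_congr hM.cov (show ξ c = ξ b from hbe.symm), hb]

theorem MCover.card_pre (K : Subgroup X) : Nat.card (K.comap ξ) = 2 * Nat.card K := by
  classical
  choose L hL using hM.cov.surj
  rw [show 2 = Nat.card Bool by simp, ← Nat.card_prod]
  refine (Nat.card_congr (Equiv.ofBijective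
    (fun p : Bool × K => (⟨if p.1 then L p.2 * z else L p.2, ?_⟩ : K.comap ξ)) ⟨?_, ?_⟩)).symm
  · show ξ _ ∈ K
    split_ifs <;> simp [hL, hM.z_map]
  · rintro ⟨i, k⟩ ⟨j, l⟩ h
    have h' := congrArg Subtype.val h
    obtain rfl : k = l := Subtype.ext (by
      have := congrArg ξ h'
      cases i <;> cases j <;> simpa [hL, hM.z_map] using this)
    cases i <;> cases j <;> simp [hM.z_ne] at h' ⊢
  · rintro ⟨c, hc⟩
    obtain ⟨k, hk, ek⟩ := Lift.exists_ker hM.cov (show ξ c = ξ (L (ξ c)) by rw [hL])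
    rcases hM.kern k hk with rfl | rfl
    · exact ⟨(false, ⟨ξ c, hc⟩), Subtype.ext (by simpa using ek.symm)⟩
    · exact ⟨(true, ⟨ξ c, hc⟩), Subtype.ext (by simpa using ek.symm)⟩

theorem MCover.elem_bound {K : Subgroup C} (hK : ∀ c ∈ K, c * c = 1) :
    Nat.card K ≤ 2048 ∧ (Nat.card K = 2048 →
      K = (Subgroup.closure {m | m ∈ E ∧ m ∈ K.map ξ}).comap ξ ∧ Nat.card (K.map ξ) = 1024) := by
  have hsq : ∀ q ∈ K.map ξ, q * q = 1 := by
    rintro _ ⟨c, hc, rfl⟩
    rw [← map_mul, hK c hc, map_one]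
  have hcomm : IsMulCommutative (K.map ξ) := ⟨⟨fun a b => Subtype.ext (by
    have h := hsq _ (mul_mem a.2 b.2)
    have e := inv_eq_of_mul_eq_one_left h
    rw [mul_inv_rev, inv_eq_of_mul_eq_one_left (hsq _ a.2), inv_eq_of_mul_eq_one_left (hsq _ b.2)] at e
    exact e.symm)⟩⟩
  obtain ⟨h1, h2⟩ := elem_M22 hM.group (fun a ha b hb => class_isConj hM.cls ha hb) hM.m22 (K.map ξ)
    ⟨hcomm, fun q hq => by rw [pow_two]; exact hsq q hq⟩
  have hle : K ≤ (K.map ξ).comap ξ := Subgroup.le_comap_map ξ K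
  have hc := Subgroup.card_le_of_le hle
  rw [hM.card_pre] at hc
  refine ⟨hc.trans (by omega), fun hK' => ?_⟩
  have h3 : Nat.card (K.map ξ) = 1024 := by omega
  refine ⟨?_, h3⟩
  have e : K.map ξ = Subgroup.closure {m | m ∈ E ∧ m ∈ K.map ξ} :=
    le_antisymm (h2 h3) ((Subgroup.closure_le _).2 fun m hm => hm.2)
  rw [← e]
  exact Subgroup.eq_of_le_of_card_ge hle (by rw [hM.card_pre, h3, hK'])

/-- The members in the image of a 2-subgroup. -/
theorem MCover.members_elem {S : Subgroup C} (hS : IsPGroup 2 S) :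
    (∀ a ∈ {m | m ∈ E ∧ m ∈ S.map ξ}, ∀ b ∈ {m | m ∈ E ∧ m ∈ S.map ξ}, Commute a b) ∧
      ∀ q ∈ Subgroup.closure {m | m ∈ E ∧ m ∈ S.map ξ}, q * q = 1 := by
  have hT := hM.group.1
  set M := {m | m ∈ E ∧ m ∈ S.map ξ}
  have hcomm : ∀ a ∈ M, ∀ b ∈ M, Commute a b := by
    intro x hx y hy
    rcases hT.2 x hx.1 y hy.1 with h | h
    · have e : x * y = (x * y)⁻¹ := (inv_eq_of_mul_eq_one_left (by rw [← pow_two]; exact h)).symm
      rw [mul_inv_rev, inv_eq hT hy.1, inv_eq hT hx.1] at e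
      exact e
    · obtain ⟨k, hk⟩ := (hS.map ξ) ⟨x * y, mul_mem hx.2 hy.2⟩
      have h2 : (x * y) ^ 2 ^ k = 1 := congrArg Subtype.val hk
      have h3 : orderOf (x * y) ∣ Nat.gcd 3 (2 ^ k) :=
        Nat.dvd_gcd (orderOf_dvd_of_pow_eq_one h) (orderOf_dvd_of_pow_eq_one h2)
      rw [Nat.Coprime.gcd_eq_one (Nat.Coprime.pow_right k (by norm_num)), Nat.dvd_one,
        orderOf_eq_one_iff] at h3
      rw [show y = x by rw [mul_eq_one_iff_eq_inv, inv_eq hT hy.1] at h3; exact h3.symm]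
  refine ⟨hcomm, fun q hq => ?_⟩
  have hc : IsMulCommutative (Subgroup.closure M) := Subgroup.isMulCommutative_closure fun a ha b hb =>
    (hcomm a ha b hb).eq
  induction hq using Subgroup.closure_induction with
  | mem x hx => exact mul_self hT hx.1
  | one => exact one_mul 1
  | mul a b ha hb iha ihb =>
    have hab : Commute b a := (congrArg Subtype.val (hc.is_comm.comm ⟨a, ha⟩ ⟨b, hb⟩)).symm
    rw [hab.mul_mul_mul_comm, iha, ihb, one_mul]
  | inv a ha iha => rw [← mul_inv_rev, iha, inv_one]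

/-- A 2-subgroup contains at most one elementary abelian subgroup of order `2 ^ 11`. -/
theorem MCover.elem_unique {S : Subgroup C} (hS : IsPGroup 2 S) {K : Subgroup C} (hKS : K ≤ S)
    (hK : ∀ c ∈ K, c * c = 1) (hKc : Nat.card K = 2048) :
    K = (Subgroup.closure {m | m ∈ E ∧ m ∈ S.map ξ}).comap ξ ∧
      Nat.card (Subgroup.closure {m | m ∈ E ∧ m ∈ S.map ξ}) = 1024 := by
  obtain ⟨e, hc⟩ := (hM.elem_bound hK).2 hKc
  set T := Subgroup.closure {m | m ∈ E ∧ m ∈ S.map ξ}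
  have hle : Subgroup.closure {m | m ∈ E ∧ m ∈ K.map ξ} ≤ T :=
    Subgroup.closure_mono fun m hm => ⟨hm.1, Subgroup.map_mono hKS hm.2⟩
  obtain ⟨-, hsq⟩ := hM.members_elem hS
  have hTc : Nat.card T ≤ 1024 := by
    have h := (hM.elem_bound (K := T.comap ξ) fun c hc => hM.pre_sq hsq hc).1
    rw [hM.card_pre] at h
    omega
  have h2 : Nat.card (Subgroup.closure {m | m ∈ E ∧ m ∈ K.map ξ}) = 1024 := by
    have := hM.card_pre (Subgroup.closure {m | m ∈ E ∧ m ∈ K.map ξ})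
    rw [← e, hKc] at this
    omega
  have h3 : Subgroup.closure {m | m ∈ E ∧ m ∈ K.map ξ} = T :=
    Subgroup.eq_of_le_of_card_ge hle (by omega)
  exact ⟨by rw [← h3]; exact e, by rw [← h3]; exact h2⟩

/-- The Thompson subgroup. -/
theorem MCover.thompson (S : Sylow 2 C) : ∃ A : Subgroup C,
    Cfsg.thompsonSubgroupOf 2 (S : Subgroup C) = A ∧ (∀ c ∈ A, c * c = 1) ∧ Nat.card A = 2048 ∧
      (∀ c, ξ c ∈ A.map ξ → c ∈ A) ∧ {m | m ∈ E ∧ m ∈ A.map ξ}.ncard = 22 ∧
      ∀ K : Subgroup C, (∀ c ∈ K, c * c = 1) → Nat.card K = 2048 →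
        ∃ h : C, K.map (MulAut.conj h).toMonoidHom = A := by
  classical
  have : Fact (Nat.Prime 2) := ⟨Nat.prime_two⟩
  have hT := hM.group.1
  have hF := m22Full hM.group hM.m22
  set P : Subgroup C := (S : Subgroup C) with hP
  set M := {m | m ∈ E ∧ m ∈ P.map ξ} with hMdef
  obtain ⟨hMcomm, hMsq⟩ := hM.members_elem S.isPGroup'
  set A := (Subgroup.closure M).comap ξ with hAdef
  have hp : ∀ K : Subgroup C, (∀ c ∈ K, c * c = 1) → IsPGroup 2 K := fun K hK c =>
    ⟨1, Subtype.ext (by show (c : C) ^ 2 ^ 1 = 1; rw [pow_one, pow_two]; exact hK c c.2)⟩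
  have into : ∀ K : Subgroup C, (∀ c ∈ K, c * c = 1) →
      ∃ h : C, K.map (MulAut.conj h).toMonoidHom ≤ P := by
    intro K hK
    obtain ⟨Q, hQ⟩ := (hp K hK).exists_le_sylow
    obtain ⟨h, hh⟩ := MulAction.exists_smul_eq C Q S
    refine ⟨h, ?_⟩
    rw [hP, ← hh, Sylow.coe_subgroup_smul]
    exact Subgroup.map_mono hQ
  have hconjsq : ∀ (K : Subgroup C) (h : C), (∀ c ∈ K, c * c = 1) →
      ∀ c ∈ K.map (MulAut.conj h).toMonoidHom, c * c = 1 := by
    rintro K h hK _ ⟨c, hc, rfl⟩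
    rw [← map_mul, hK c hc, map_one]
  have huniq : ∀ K : Subgroup C, (∀ c ∈ K, c * c = 1) → Nat.card K = 2048 →
      (∃ h : C, K.map (MulAut.conj h).toMonoidHom = A) ∧ Nat.card (Subgroup.closure M) = 1024 ∧ A ≤ P := by
    intro K hK hKc
    obtain ⟨h, hh⟩ := into K hK
    obtain ⟨e1, e2⟩ := hM.elem_unique S.isPGroup' hh (hconjsq K h hK)
      (by rw [Subgroup.card_map_of_injective (f := (MulAut.conj h).toMonoidHom) (MulAut.conj h).injective, hKc])
    exact ⟨⟨h, e1⟩, e2, le_of_eq_of_le e1.symm hh⟩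
  -- one such subgroup
  obtain ⟨-, -, -, A₀, hA₀, hA₀c⟩ := elem_base hM.group hM.m22
  have hA₀sq : ∀ c ∈ A₀.comap ξ, c * c = 1 := fun c hc =>
    hM.pre_sq (fun q hq => by rw [← pow_two]; exact hA₀.2 q hq) hc
  have hA₀c' : Nat.card (A₀.comap ξ) = 2048 := by
    have := (hM.elem_bound hA₀sq).1
    rw [hM.card_pre] at this ⊢
    omega
  obtain ⟨-, hMc, hAP⟩ := huniq _ hA₀sq hA₀c'
  have hAsq : ∀ c ∈ A, c * c = 1 := fun c hc => hM.pre_sq hMsq hc
  have hAc : Nat.card A = 2048 := by rw [hAdef, hM.card_pre, hMc]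
  have hAmap : A.map ξ = Subgroup.closure M := Subgroup.map_comap_eq_self_of_surjective hM.cov.surj _
  refine ⟨A, ?_, hAsq, hAc, fun c hc => by rw [hAmap] at hc; exact hc, ?_, fun K hK hKc => (huniq K hK hKc).1⟩
  · have cardP : ∀ K : Subgroup P, Nat.card (K.map P.subtype) = Nat.card K := fun K =>
      Subgroup.card_map_of_injective P.subtype_injective
    have sqP : ∀ K : Subgroup P, IsElementaryAbelian 2 K → ∀ c ∈ K.map P.subtype, c * c = 1 := by
      rintro K hK _ ⟨y, hy, rfl⟩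
      have := hK.2 y hy
      rw [← map_mul, ← pow_two, this, map_one]
    have hA0 : IsElementaryAbelian 2 (A.subgroupOf P) := by
      refine ⟨⟨⟨fun a b => Subtype.ext (Subtype.ext ?_)⟩⟩, fun a ha => ?_⟩
      · have ha := Subgroup.mem_subgroupOf.1 a.2
        have hb := Subgroup.mem_subgroupOf.1 b.2
        have e := inv_eq_of_mul_eq_one_left (hAsq _ (mul_mem ha hb))
        rw [mul_inv_rev, inv_eq_of_mul_eq_one_left (hAsq _ ha), inv_eq_of_mul_eq_one_left (hAsq _ hb)] at e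
        exact e.symm
      · refine Subtype.ext ?_
        show (a : C) ^ 2 = 1
        rw [pow_two]
        exact hAsq _ (Subgroup.mem_subgroupOf.1 ha)
    have hA0c : Nat.card (A.subgroupOf P) = 2048 := by
      rw [Nat.card_congr (Subgroup.subgroupOfEquivOfLe hAP).toEquiv, hAc]
    have hle : ∀ K : Subgroup P, IsElementaryAbelian 2 K → Nat.card K ≤ 2048 := fun K hK =>
      cardP K ▸ (hM.elem_bound (sqP K hK)).1
    have hmax : maxElementaryAbelianSubgroups 2 P = {A.subgroupOf P} := by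
      ext K
      constructor
      · intro hK
        have hKc : Nat.card K = 2048 := le_antisymm (hle K hK.1) (hA0c ▸ hK.2 _ hA0)
        obtain ⟨e, -⟩ := hM.elem_unique S.isPGroup' (K := K.map P.subtype) (Subgroup.map_subtype_le K)
          (sqP K hK.1) (by rw [cardP, hKc])
        show K = A.subgroupOf P
        rw [hAdef, ← e, Subgroup.subgroupOf, Subgroup.comap_map_eq_self_of_injective P.subtype_injective]
      · intro hK
        rw [Set.mem_singleton_iff.1 hK]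
        exact ⟨hA0, fun K' hK' => hA0c ▸ hle K' hK'⟩
    show (Cfsg.thompsonSubgroup 2 P).map P.subtype = A
    rw [show Cfsg.thompsonSubgroup 2 P = A.subgroupOf P by
      show sSup (maxElementaryAbelianSubgroups 2 P) = _
      rw [hmax, sSup_singleton], Subgroup.map_subgroupOf_eq_of_le hAP]
  -- twenty-two members
  have hmem : {m | m ∈ E ∧ m ∈ A.map ξ} = M := by
    ext m
    exact ⟨fun h => ⟨h.1, Subgroup.map_mono hAP h.2⟩,
      fun h => ⟨h.1, hAmap ▸ Subgroup.subset_closure h⟩⟩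
  rw [hmem]
  obtain ⟨d, hd, -⟩ := id hM.m22.2
  have hc := counts hM.group hM.m22
  have hw : commutingWidth E = 22 := width_22 hM.group hM.m22.1 hF (arcs_of_M22 hM.group hM.m22)
    (layer_counts_M22 hM.group hM.m22) hd
  have hbdd : BddAbove {n : ℕ | ∃ F : Set X, F ⊆ E ∧ F.Finite ∧ (∀ a ∈ F, ∀ b ∈ F, Commute a b) ∧
      F.ncard = n} := ⟨E.ncard, fun n ⟨F, hFE, _, _, e⟩ => e ▸ Set.ncard_le_ncard hFE⟩
  refine le_antisymm (hw ▸ le_csSup hbdd ⟨M, fun m hm => hm.1, Set.toFinite _, hMcomm, rfl⟩) ?_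
  obtain ⟨F, hFE, -, hFc, hF22⟩ : 22 ∈ {n : ℕ | ∃ F : Set X, F ⊆ E ∧ F.Finite ∧
      (∀ a ∈ F, ∀ b ∈ F, Commute a b) ∧ F.ncard = n} := by
    rw [← hw]
    exact Nat.sSup_mem ⟨0, ∅, Set.empty_subset _, Set.finite_empty, by simp, Set.ncard_empty _⟩ hbdd
  have hFsq : ∀ q ∈ Subgroup.closure F, q * q = 1 := by
    have hc : IsMulCommutative (Subgroup.closure F) := Subgroup.isMulCommutative_closure fun a ha b hb =>
      (hFc a ha b hb).eq
    intro q hq
    induction hq using Subgroup.closure_induction with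
    | mem x hx => exact mul_self hT (hFE hx)
    | one => exact one_mul 1
    | mul a b ha hb iha ihb =>
      have hab : Commute b a := (congrArg Subtype.val (hc.is_comm.comm ⟨a, ha⟩ ⟨b, hb⟩)).symm
      rw [hab.mul_mul_mul_comm, iha, ihb, one_mul]
    | inv a ha iha => rw [← mul_inv_rev, iha, inv_one]
  obtain ⟨h, hh⟩ := into ((Subgroup.closure F).comap ξ) fun c hc => hM.pre_sq hFsq hc
  rw [← hF22, ← Set.ncard_image_of_injective F (MulAut.conj (ξ h)).injective]
  refine Set.ncard_le_ncard ?_ (Set.toFinite _)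
  rintro _ ⟨m, hm, rfl⟩
  refine ⟨hM.group.2.1 _ _ (hFE hm), ?_⟩
  obtain ⟨c, rfl⟩ := hM.cov.surj m
  exact ⟨_, hh ⟨c, Subgroup.subset_closure hm, rfl⟩, by simp⟩

variable (hperf : commutator C = ⊤) {P : C → Prop} (hPsq : ∀ u, ¬ P (u * u))

include hperf hPsq

/-- An element of an invariant set without squares lies over a member or the identity. -/
theorem MCover.over_member {c : C} (hc : P c) (hc2 : ξ c * ξ c = 1) : ξ c = 1 ∨ ξ c ∈ E := by
  refine or_iff_not_imp_left.2 fun h1 => ?_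
  obtain ⟨n, n1, n3, l, hn, hl, hmem, hco, hp⟩ := involution_M22 hM.group hM.m22 hc2 h1
  interval_cases n
  · obtain ⟨a, rfl⟩ := List.length_eq_one_iff.1 hl
    rw [← hp]
    simpa using hmem
  · obtain ⟨a, b, rfl⟩ := List.length_eq_two.1 hl
    simp only [List.nodup_cons, List.mem_cons, List.not_mem_nil, or_false, not_or] at hn
    obtain ⟨u, hu⟩ := hM.pair_square hperf (hmem a (by simp))
      ⟨hmem b (by simp), Ne.symm hn.1, hco a (by simp) b (by simp)⟩ (c := c) (by rw [← hp]; simp)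
    exact absurd (hu.symm ▸ hc) (hPsq u)
  · obtain ⟨a, b, e, rfl⟩ := List.length_eq_three.1 hl
    simp only [List.nodup_cons, List.mem_cons, List.not_mem_nil, or_false, not_or] at hn
    obtain ⟨u, hu⟩ := hM.triple_square hperf (hmem a (by simp))
      ⟨hmem b (by simp), Ne.symm hn.1.1, hco a (by simp) b (by simp)⟩
      ⟨⟨hmem e (by simp), Ne.symm hn.1.2, hco a (by simp) e (by simp)⟩, Ne.symm hn.2.1,
        hco b (by simp) e (by simp)⟩ (c := c) (by rw [← hp]; simp [mul_assoc])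
    exact absurd (hu.symm ▸ hc) (hPsq u)

/-- The number of elements of an invariant set in the Thompson subgroup. -/
theorem MCover.orbit_count (hP : ∀ h c, P c → P (h * c * h⁻¹)) (hPz : P z) {A : Subgroup C}
    (hAsq : ∀ c ∈ A, c * c = 1) (hfull : ∀ c, ξ c ∈ A.map ξ → c ∈ A)
    (h22 : {m | m ∈ E ∧ m ∈ A.map ξ}.ncard = 22) (hex : ∃ c, P c ∧ c ≠ z ∧ c * c = 1)
    (hone : ∀ c ∈ A, ξ c ∈ E → P c → ¬ P (c * z)) : {c | c ∈ A ∧ P c}.ncard = 23 := by
  set M := {m | m ∈ E ∧ m ∈ A.map ξ} with hMdef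
  have hP1 : ¬ P 1 := fun h => hPsq 1 (by rwa [one_mul])
  set T := {c | c ∈ A ∧ P c ∧ ξ c ∈ E} with hTdef
  have hset : {c | c ∈ A ∧ P c} = insert z T := by
    ext c
    constructor
    · rintro ⟨hcA, hcP⟩
      rcases hM.over_member hperf hPsq hcP (by rw [← map_mul, hAsq c hcA, map_one]) with h | h
      · rcases hM.kern c h with rfl | rfl
        · exact absurd hcP hP1
        · exact Set.mem_insert _ _
      · exact Set.mem_insert_of_mem _ ⟨hcA, hcP, h⟩
    · rintro (rfl | ⟨h1, h2, -⟩)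
      · exact ⟨hfull _ (by rw [hM.z_map]; exact one_mem _), hPz⟩
      · exact ⟨h1, h2⟩
  have hzT : z ∉ T := fun h => ne_one hM.group.1 h.2.2 hM.z_map
  rw [hset, Set.ncard_insert_of_notMem hzT (Set.toFinite _)]
  suffices T.ncard = 22 by omega
  rw [← h22]
  refine Set.ncard_congr (fun c _ => ξ c) (fun c hc => ⟨hc.2.2, c, hc.1, rfl⟩) ?_ ?_
  · intro c c' hc hc' h
    obtain ⟨k, hk, ek⟩ := Lift.exists_ker hM.cov h
    rcases hM.kern k hk with rfl | rfl
    · rw [ek, mul_one]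
    · exact absurd (ek ▸ hc.2.1) (hone c' hc'.1 hc'.2.2 hc'.2.1)
  · rintro m ⟨hm, hmA⟩
    obtain ⟨c₀, hc₀, hne, hsq⟩ := hex
    have hE₀ : ξ c₀ ∈ E := (hM.over_member hperf hPsq hc₀ (by rw [← map_mul, hsq, map_one])).resolve_left
      fun h => by
        rcases hM.kern c₀ h with rfl | rfl
        · exact hP1 hc₀
        · exact hne rfl
    obtain ⟨g, hg⟩ := class_isConj hM.cls hE₀ hm
    obtain ⟨h, rfl⟩ := hM.cov.surj g
    have hξ : ξ (h * c₀ * h⁻¹) = m := by rw [map_mul, map_mul, map_inv, hg]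
    exact ⟨h * c₀ * h⁻¹, ⟨hfull _ (hξ ▸ hmA), hP h c₀ hc₀, hξ ▸ hm⟩, hξ⟩

end Cfsg.Agent.ThreeTrans
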