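import Cfsg.Agent.Classical.OrthPOmega
import Cfsg.Agent.Layer.Components
import Cfsg.Agent.ThreeTrans.Primitive
import Cfsg.Agent.S5357
import Cfsg.Prelude.Def_FischerSpaces

/-!
# Reflection groups of fixed norm over the field with three elements
-/

set_option autoImplicit false

namespace Cfsg.Agent.ThreeTrans.OrthThree

open Module QuadraticMap Cfsg.Agent.Classical.Quad
open scoped commutatorElement

variable {V : Type*} [AddCommGroup V] [Module (ZMod 3) V] [Finite V] [FiniteDimensional (ZMod 3) V]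
  {Q : QuadraticForm (ZMod 3) V}

/-- Reflections of norm `c`. -/
def rClass (Q : QuadraticForm (ZMod 3) V) (c : ZMod 3) : Subgroup (oG Q) :=
  Subgroup.closure {g | ∃ (v : V) (hv : Q v ≠ 0), Q v = c ∧ g = rO hv}

variable (hQ : (polarBilin Q).Nondegenerate) (hn : 5 ≤ finrank (ZMod 3) V) {c : ZMod 3} (hc : c ≠ 0)
include hQ hn hc

theorem eo_le_rClass : eo Q ≤ rClass Q c := by
  have h2 : (2 : ZMod 3) ≠ 0 := by decide
  have hnormal : (rClass Q c).Normal := by
    refine ⟨fun x hx k => ?_⟩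
    suffices (rClass Q c).map (MulAut.conj k).toMonoidHom ≤ rClass Q c from this ⟨x, hx, rfl⟩
    rw [rClass, MonoidHom.map_closure, Subgroup.closure_le]
    rintro _ ⟨_, ⟨v, hv, hvc, rfl⟩, rfl⟩
    show k * rO hv * k⁻¹ ∈ _
    rw [conj_rO]
    exact Subgroup.subset_closure ⟨k.1 v, by rwa [k.2], by rw [k.2, hvc], rfl⟩
  have heoc : eo Q = commutator (oG Q) := eo_eq_commutator hQ (by omega) (Or.inr (by omega))
  have heon : (eo Q).Normal := heoc ▸ inferInstance
  have hperf : Group.IsPerfect (eo Q) :=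
    Subgroup.isPerfect_iff.2 (le_antisymm (Subgroup.commutator_le_self _) (eo_le_commutator_eo hQ hn))
  set N := (rClass Q c).subgroupOf (eo Q) with hN
  have hNn : N.Normal := hnormal.comap _
  by_cases htop : N = ⊤
  · exact Subgroup.subgroupOf_eq_top.1 htop
  exfalso
  have hNz : N ≤ Subgroup.center (eo Q) := by
    have hs := isSimpleGroup_eo_quot hQ hn
    rcases hs.eq_bot_or_eq_top_of_normal _ (hNn.map (QuotientGroup.mk' (Subgroup.center (eo Q)))
        (QuotientGroup.mk'_surjective _)) with h | h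
    · rwa [Subgroup.map_eq_bot_iff, QuotientGroup.ker_mk'] at h
    · have hsup : N ⊔ Subgroup.center (eo Q) = ⊤ := by
        rw [← QuotientGroup.ker_mk' (Subgroup.center (eo Q)), ← Subgroup.comap_map_eq, h, Subgroup.comap_top]
      refine absurd (top_unique ?_) htop
      calc (⊤ : Subgroup (eo Q)) = ⁅⊤, ⊤⁆ := hperf.commutator_eq_top.symm
        _ ≤ N := by
          refine Subgroup.commutator_le.2 fun x _ y _ => ?_
          have hx : x ∈ N ⊔ Subgroup.center (eo Q) := hsup ▸ Subgroup.mem_top x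
          rw [← SetLike.mem_coe, Subgroup.normal_mul] at hx
          obtain ⟨a, ha, z, hz, rfl⟩ := hx
          have hy : y ∈ N ⊔ Subgroup.center (eo Q) := hsup ▸ Subgroup.mem_top y
          rw [← SetLike.mem_coe, Subgroup.normal_mul] at hy
          obtain ⟨b, hb, w, hw, rfl⟩ := hy
          have hzz : ∀ u, Commute u z := fun u => Subgroup.mem_center_iff.1 hz u
          have hww : ∀ u, Commute u w := fun u => Subgroup.mem_center_iff.1 hw u
          have e : ⁅a * z, b * w⁆ = ⁅a, b⁆ := by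
            simp only [commutatorElement_def, mul_inv_rev]
            calc a * z * (b * w) * (z⁻¹ * a⁻¹) * (w⁻¹ * b⁻¹)
                = a * (z * (b * w)) * z⁻¹ * a⁻¹ * (w⁻¹ * b⁻¹) := by group
              _ = a * b * (w * a⁻¹) * w⁻¹ * b⁻¹ := by rw [← (hzz (b * w)).eq]; group
              _ = a * b * a⁻¹ * b⁻¹ := by rw [← (hww a⁻¹).eq]; group
          show ⁅a * z, b * w⁆ ∈ N
          rw [e, commutatorElement_def]
          exact mul_mem (mul_mem (mul_mem ha hb) (inv_mem ha)) (inv_mem hb)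
  obtain ⟨v, hv⟩ := exists_value hQ h2 (by omega) hc
  have hv' : Q v ≠ 0 := by rwa [hv]
  have hr : rO hv' ∈ rClass Q c := Subgroup.subset_closure ⟨v, hv', hv, rfl⟩
  have hmem : ∀ ω : eo Q, rO hv' * ω * (rO hv')⁻¹ * (ω : oG Q)⁻¹ ∈ eo Q := fun ω =>
    mul_mem (heon.conj_mem _ ω.2 _) (inv_mem ω.2)
  have hmem' : ∀ ω : eo Q, (⟨_, hmem ω⟩ : eo Q) ∈ Subgroup.center (eo Q) := fun ω => by
    refine hNz (Subgroup.mem_subgroupOf.2 ?_)
    show rO hv' * ω * (rO hv')⁻¹ * (ω : oG Q)⁻¹ ∈ rClass Q c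
    rw [mul_assoc, mul_assoc, ← mul_assoc (ω : oG Q)]
    exact mul_mem hr (hnormal.conj_mem _ (inv_mem hr) _)
  let f : eo Q →* Subgroup.center (eo Q) :=
    { toFun := fun ω => ⟨_, hmem' ω⟩
      map_one' := by ext; simp
      map_mul' := fun x y => by
        refine Subtype.ext (Subtype.ext ?_)
        have hcm : ∀ u : eo Q, (u : oG Q) * (rO hv' * y * (rO hv')⁻¹ * (y : oG Q)⁻¹) =
            rO hv' * y * (rO hv')⁻¹ * (y : oG Q)⁻¹ * u := fun u =>
          congrArg Subtype.val (Subgroup.mem_center_iff.1 (hmem' y) u)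
        show rO hv' * ((x : oG Q) * y) * (rO hv')⁻¹ * ((x : oG Q) * y)⁻¹ =
          (rO hv' * x * (rO hv')⁻¹ * (x : oG Q)⁻¹) * (rO hv' * y * (rO hv')⁻¹ * (y : oG Q)⁻¹)
        calc rO hv' * ((x : oG Q) * y) * (rO hv')⁻¹ * ((x : oG Q) * y)⁻¹
            = rO hv' * x * (rO hv')⁻¹ * (x : oG Q)⁻¹ *
              ((x : oG Q) * (rO hv' * y * (rO hv')⁻¹ * (y : oG Q)⁻¹)) * (x : oG Q)⁻¹ := by group
          _ = _ := by rw [hcm x]; group }
  have hf : ∀ ω, f ω = 1 := by
    intro ω
    have : IsMulCommutative (Subgroup.center (eo Q)) := inferInstance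
    have hle : commutator (eo Q) ≤ f.ker := by
      rw [commutator_def, Subgroup.commutator_le]
      intro a _ b _
      rw [MonoidHom.mem_ker, map_commutatorElement, commutatorElement_eq_one_iff_commute]
      exact mul_comm' _ _
    exact MonoidHom.mem_ker.1 (hle (show ω ∈ commutator (eo Q) by
      rw [hperf.commutator_eq_top]; trivial))
  -- so every element fixes the line of `v`
  obtain ⟨e, he0, he⟩ : ∃ e, e ≠ 0 ∧ Q e = 0 ∧ polar Q v e = 0 := by
    let W : Submodule (ZMod 3) V := LinearMap.ker (polarBilin Q v)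
    have hW : 3 ≤ finrank (ZMod 3) W := by
      have h1 := LinearMap.finrank_range_add_finrank_ker (polarBilin Q v)
      have h2' := Submodule.finrank_le (LinearMap.range (polarBilin Q v))
      rw [Module.finrank_self] at h2'
      change 3 ≤ finrank (ZMod 3) (LinearMap.ker (polarBilin Q v))
      omega
    obtain ⟨e, he0, he⟩ := exists_singular (Q.comp W.subtype) hW
    exact ⟨e, fun h => he0 (Subtype.ext h), he, e.2⟩
  obtain ⟨f', hf', hef⟩ := exists_hyp_pair hQ he0 he.1
  obtain ⟨w, hw0, hw, hvw⟩ : ∃ w, w ≠ 0 ∧ Q w = 0 ∧ polar Q v w ≠ 0 := by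
    by_cases h1 : polar Q v f' = 0
    · refine ⟨f' + v + (-c) • e, ?_, ?_, ?_⟩
      · intro h
        have h' := congrArg (fun u => polar Q v u) h
        simp only [polar_add_right, h1, polar_smul_right, he.2, polar_self', hv] at h'
        rw [show polar Q v (0 : V) = 0 by simp [polar]] at h'
        simp at h'
        rcases h' with h' | h'
        exacts [h2 h', hc h']
      · rw [map_add_smul, map_add', hf', hv, polar_add_left, polar_comm Q f' v, h1, polar_comm Q f' e, hef,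
          he.2, he.1]
        ring
      · simp only [polar_add_right, h1, polar_smul_right, he.2, polar_self', hv, smul_zero, zero_add, add_zero]
        exact mul_ne_zero h2 hc
    · exact ⟨f', fun h => h1 (by rw [h]; simp [polar]), hf', h1⟩
  obtain ⟨g, hg, t, ht, hge⟩ := exists_eo_point hQ (by omega) hw0 hw he0 he.1
  have hfix : g.1 (rO hv' |>.1 (w)) = (rO hv').1 (g.1 w) := by
    have h1 := congrArg (fun x : Subgroup.center (eo Q) => ((x : eo Q) : oG Q)) (hf ⟨g, hg⟩)
    have h1' : rO hv' * g * (rO hv')⁻¹ * g⁻¹ = 1 := h1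
    have h3 : rO hv' * g = g * rO hv' := by
      calc rO hv' * g = (rO hv' * g * (rO hv')⁻¹ * g⁻¹) * g * rO hv' := by group
        _ = g * rO hv' := by rw [h1', one_mul]
    exact (congrArg (fun k : oG Q => k.1 w) h3).symm
  rw [hge, rO_apply, rO_apply, polar_smul_left, polar_comm Q e v, he.2, smul_zero, zero_div, zero_smul, sub_zero,
    map_sub, map_smul, hge, sub_eq_self, smul_eq_zero, div_eq_zero_iff, polar_comm Q w v] at hfix
  rcases hfix with (h | h) | h
  · exact hvw h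
  · exact hv' h
  · have := congrArg Q h
    rw [g.2, map_zero] at this
    exact hv' this

/-- The character killing the reflections of norm `c`. -/
theorem rClass_eq_ker : ∃ χ : oG Q →* ℤˣ, Function.Surjective χ ∧ rClass Q c = χ.ker := by
  have h2 : (2 : ZMod 3) ≠ 0 := by decide
  have hex := hex_of_two h2 (finrank (ZMod 3) V)
  have heoc : eo Q = commutator (oG Q) := eo_eq_commutator hQ (by omega) (Or.inr (by omega))
  let χ : oG Q →* ℤˣ := if IsSquare c then dickson hQ hex * spin Q else spin Q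
  have hχr : ∀ (v : V) (hv : Q v ≠ 0), Q v = c → χ (rO hv) = 1 := fun v hv hvc => by
    by_cases hs : IsSquare c
    · simp only [χ, if_pos hs, MonoidHom.mul_apply, dickson_rO, spin_rO h2 hv, hvc, if_true]
      decide
    · simp only [χ, if_neg hs, spin_rO h2 hv, hvc, if_false]
  obtain ⟨v, hv⟩ := exists_value hQ h2 (by omega) hc
  have hv' : Q v ≠ 0 := by rwa [hv]
  refine ⟨χ, fun x => ?_, ?_⟩
  · obtain ⟨g, hg⟩ := surjective_chars hQ h2 (by omega) (1, x)
    rw [MonoidHom.prod_apply, Prod.mk.injEq] at hg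
    refine ⟨g, ?_⟩
    by_cases hs : IsSquare c
    · simp only [χ, if_pos hs, MonoidHom.mul_apply, hg.1, hg.2, one_mul]
    · simp only [χ, if_neg hs, hg.2]
  refine le_antisymm ((Subgroup.closure_le _).2 ?_) fun g hg => ?_
  · rintro _ ⟨u, hu, huc, rfl⟩
    exact MonoidHom.mem_ker.2 (hχr u hu huc)
  have key : ∀ g : oG Q, χ g = 1 → dickson hQ hex g = 1 → g ∈ rClass Q c := fun g h1 hd => by
    refine eo_le_rClass hQ hn hc ?_
    rw [heoc]
    refine (mem_commutator_iff hQ h2 (by omega) g).2 ⟨hd, ?_⟩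
    by_cases hs : IsSquare c
    · simpa [χ, if_pos hs, hd] using h1
    · simpa [χ, if_neg hs] using h1
  rw [MonoidHom.mem_ker] at hg
  rcases Int.units_eq_one_or (dickson hQ hex g) with hd | hd
  · exact key g hg hd
  · have h3 := key (g * rO hv') (by rw [map_mul, hg, hχr v hv' hv, one_mul])
      (by rw [map_mul, hd, dickson_rO]; decide)
    have := mul_mem h3 (inv_mem (Subgroup.subset_closure (k := {g | ∃ (v : V) (hv : Q v ≠ 0), Q v = c ∧ g = rO hv})
      ⟨v, hv', hv, rfl⟩ : rO hv' ∈ rClass Q c))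
    rwa [mul_inv_cancel_right] at this

theorem index_rClass : (rClass Q c).index = 2 := by
  obtain ⟨χ, hχ, e⟩ := rClass_eq_ker hQ hn hc
  rw [e, Subgroup.index_ker, MonoidHom.range_eq_top.2 hχ, Subgroup.card_top]
  simp

end Cfsg.Agent.ThreeTrans.OrthThree

namespace Cfsg.Agent.ThreeTrans.OrthThree

open Module QuadraticMap Cfsg.Agent.Classical.Quad

variable {n : ℕ} {Q : QuadraticForm (ZMod 3) (Fin n → ZMod 3)} (hn : 5 ≤ n)
  (hQ : (polarBilin Q).Nondegenerate) {c : ZMod 3} (hc : c ≠ 0)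

include hc in
theorem map_reflectionSubgroup :
    (Cfsg.reflectionSubgroup (⇑Q) c).map (oEquiv Q).toMonoidHom = rClass Q c := by
  rw [Cfsg.reflectionSubgroup, rClass, ← map_closure_matrix_reflections fun v => Q v = c]
  congr 2
  ext g
  exact ⟨fun ⟨v, hv, h⟩ => ⟨v, by rw [hv]; exact hc, hv, h⟩, fun ⟨v, _, hv, h⟩ => ⟨v, hv, h⟩⟩

include hn hQ hc

theorem index_reflectionSubgroup : (Cfsg.reflectionSubgroup (⇑Q) c).index = 2 := by
  rw [← Subgroup.index_map_of_bijective (f := (oEquiv Q).toMonoidHom) (oEquiv Q).bijective,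
    map_reflectionSubgroup hc]
  exact index_rClass hQ (by rwa [finrank_fin_fun]) hc

theorem omega_le : Cfsg.Omega (ZMod 3) ⇑Q ≤ Cfsg.reflectionSubgroup (⇑Q) c := by
  have h5 : 5 ≤ finrank (ZMod 3) (Fin n → ZMod 3) := by rwa [finrank_fin_fun]
  intro g hg
  have h1 : oEquiv Q g ∈ rClass Q c := eo_le_rClass hQ h5 hc (omega_map_eq hQ h5 ▸ ⟨g, hg, rfl⟩)
  rw [← map_reflectionSubgroup hc] at h1
  exact (Subgroup.mem_map_iff_mem (oEquiv Q).injective).1 h1

theorem structure_three :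
    Cfsg.IsQuasisimple (commutator ↥(Cfsg.reflectionSubgroup (⇑Q) c)) ∧
      (commutator ↥(Cfsg.reflectionSubgroup (⇑Q) c)).index ≤ 2 ∧
      Cfsg.generalizedFittingSubgroup ↥(Cfsg.reflectionSubgroup (⇑Q) c) =
        Subgroup.center ↥(Cfsg.reflectionSubgroup (⇑Q) c) ⊔ commutator ↥(Cfsg.reflectionSubgroup (⇑Q) c) ∧
      Cfsg.IsPrimitiveUnderConj {g : ↥(Cfsg.reflectionSubgroup (⇑Q) c) |
        (g : ↥(Cfsg.isometryGroup (ZMod 3) (⇑Q))) ∈ Cfsg.reflectionsOfNorm (⇑Q) c} := by
  have h5 : 5 ≤ finrank (ZMod 3) (Fin n → ZMod 3) := by rwa [finrank_fin_fun]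
  have hD := Cfsg.Agent.S5357.result n hn Q hQ c hc
  have hperf : Group.IsPerfect (eo Q) :=
    Subgroup.isPerfect_iff.2 (le_antisymm (Subgroup.commutator_le_self _) (eo_le_commutator_eo hQ h5))
  set R := Cfsg.reflectionSubgroup (⇑Q) c
  set L := (Cfsg.Omega (ZMod 3) ⇑Q).subgroupOf R with hLdef
  have : L.Normal := Subgroup.Normal.comap inferInstance _
  have hle := omega_le hn hQ hc
  have hL : Cfsg.IsQuasisimple L :=
    Layer.isQuasisimple_congr ((Subgroup.subgroupOfEquivOfLe hle).trans (omegaEquiv hQ h5)).symm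
      ⟨hperf, isSimpleGroup_eo_quot hQ h5⟩
  have hidx : L.index ≤ 2 := by
    have h1 := Subgroup.relIndex_mul_index hle
    rw [index_omega, index_commutator_odd hQ (by decide) (by omega), index_reflectionSubgroup hn hQ hc] at h1
    show (Cfsg.Omega (ZMod 3) ⇑Q).relIndex R ≤ 2
    have h1' : (Cfsg.Omega (ZMod 3) ⇑Q).relIndex R * 2 = 4 := h1
    omega
  have hne : ∃ a ∈ {g : ↥R | (g : ↥(Cfsg.isometryGroup (ZMod 3) (⇑Q))) ∈ Cfsg.reflectionsOfNorm (⇑Q) c},
      ∃ b ∈ {g : ↥R | (g : ↥(Cfsg.isometryGroup (ZMod 3) (⇑Q))) ∈ Cfsg.reflectionsOfNorm (⇑Q) c}, a ≠ b := by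
    by_contra hcon
    push Not at hcon
    have hgen := (ThreeTrans.class_toGroup hD).2.2
    have hcomm : IsMulCommutative ↥R := by
      refine ⟨⟨fun x y => ?_⟩⟩
      have hc' := Subgroup.isMulCommutative_closure (k := {g : ↥R | (g : ↥(Cfsg.isometryGroup (ZMod 3) (⇑Q))) ∈ Cfsg.reflectionsOfNorm (⇑Q) c})
        (fun a ha b hb => by rw [hcon a ha b hb])
      rw [hgen] at hc'
      exact congrArg Subtype.val (mul_comm' (⟨x, trivial⟩ : (⊤ : Subgroup ↥R)) ⟨y, trivial⟩)
    have := hL.1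
    have := Layer.qs_nontrivial hL
    exact Group.IsPerfect.not_isMulCommutative L inferInstance
  have hlayer : Cfsg.layer ↥R ≠ ⊥ := fun h =>
    Layer.layer_eq_bot_iff.1 h L ⟨Subgroup.Normal.isSubnormal inferInstance, hL⟩
  have h2 : Cfsg.pCore 2 ↥R ≤ Subgroup.center ↥R :=
    not_not.1 fun h => hlayer (ThreeTrans.layer_eq_bot_of_two hD hne h)
  have h3 : Cfsg.pCore 3 ↥R ≤ Subgroup.center ↥R :=
    not_not.1 fun h => hlayer (ThreeTrans.layer_eq_bot_of_three hD hne h)
  have hcomL : commutator ↥R = L := ThreeTrans.commutator_eq hL hidx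
  refine ⟨hcomL ▸ hL, hcomL ▸ hidx, ?_, ThreeTrans.primitive hD hne h2 h3 hL hidx⟩
  obtain ⟨K, -, -, hK, hF⟩ := ThreeTrans.exists_quasisimple hD hne h2 h3
  rw [hF, hcomL, ← ThreeTrans.layer_eq_of_quasisimple hD hne h2 h3 hL, hK, sup_comm]

end Cfsg.Agent.ThreeTrans.OrthThree
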