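import Cfsg.Agent.ThreeTrans.ParityM24

/-!
# Type M(24): the sign homomorphism

The stabiliser of an octad and a base through it has a subgroup of index twice an odd number without
members; the action on its cosets gives a homomorphism sending every member to -1.
-/

set_option autoImplicit false

open Cfsg Equiv

namespace Cfsg.Agent.ThreeTrans

universe u

/-- An involution of a group acts without fixed points on the cosets of a subgroup missing its
conjugates; so it is odd there, if the index is not divisible by four. -/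
theorem sign_coset_neg_one {G : Type*} [Group G] [Finite G] {H : Subgroup G} [DecidableEq (G ⧸ H)]
    [Fintype (G ⧸ H)] {d : G} (hd : d * d = 1) (hmiss : ∀ g : G, g⁻¹ * d * g ∉ H)
    (h4 : ¬ 4 ∣ H.index) :
    Perm.sign (MulAction.toPermHom G (G ⧸ H) d) = -1 ∧ 2 ∣ H.index := by
  have hidx : H.index = Fintype.card (G ⧸ H) := by rw [← Nat.card_eq_fintype_card]; rfl
  rw [hidx] at h4 ⊢
  refine sign_neg_one_of_free ?_ (fun x => ?_) h4
  · rw [← map_pow, pow_two, hd, map_one]
  · induction x using QuotientGroup.induction_on with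
    | H g =>
      intro h
      change (((d * g : G)) : G ⧸ H) = (g : G ⧸ H) at h
      have h' := QuotientGroup.eq.1 h.symm
      exact hmiss g (by rwa [mul_assoc])

variable {G : Type u} [Group G] [Finite G] {D : Set G} {X : Type u} [Group X] [Finite X] {E : Set X}
  (hD : IsThreeTranspositionGroup D) (hZ : Subgroup.center G = ⊥) (hB : M24Base D E)

include hD hB

omit hZ in
/-- An octad and two classes exist. -/
theorem exists_octFrame : ∃ O y z, OctFrame D O y z := by
  obtain ⟨-, ⟨a, ha, -⟩, -⟩ := id hB.cls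
  obtain ⟨h0, h1, -, -⟩ := layer_counts24 hB ha
  obtain ⟨b, hb⟩ : (dperp D a).Nonempty := Set.nonempty_of_ncard_ne_zero (by rw [h0]; norm_num)
  obtain ⟨c, hc⟩ : (dperp (dperp D a) b).Nonempty :=
    Set.nonempty_of_ncard_ne_zero (by rw [h1 b hb]; norm_num)
  have hS := layer693 hD hB ha hb hc
  obtain ⟨p, hp⟩ : (dperp (dperp (dperp D a) b) c).Nonempty :=
    Set.nonempty_of_ncard_ne_zero (by rw [hS.card]; norm_num)
  obtain ⟨q, hq⟩ : (dperp (dperp (dperp (dperp D a) b) c) p).Nonempty :=
    Set.nonempty_of_ncard_ne_zero (by rw [hS.card1 p hp]; norm_num)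
  obtain ⟨O, hO, -⟩ := exists_octad hD hB ha hb hc hp hq
  obtain ⟨z, hz⟩ := oPerp_nonempty hD hB hO
  obtain ⟨y, hy, hyz⟩ := oPerp_other hD hB hO hz
  exact ⟨O, y, z, hO, hy, hz, hyz⟩

omit hZ in
/-- An involution of the stabiliser with a given action on four members of an octad. -/
theorem exists_double_lift {O : Set G} {y z : G} (F : OctFrame D O y z) {w x u v : G}
    (hnd : [w, x, u, v].Nodup) (hmem : ∀ i ∈ [w, x, u, v], i ∈ O) :
    ∃ g ∈ setStab O ⊓ setStab (baseSet D O z), g * g = 1 ∧ g * w * g = x ∧ g * x * g = w ∧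
      g * u * g = v ∧ g * v * g = u ∧ ∀ o ∈ O, o ∉ [w, x, u, v] → g * o * g = o := by
  classical
  have hT := hD.1
  have hO := F.oct
  have h4 : (O \ (([w, x, u, v] : List G).toFinset : Set G)).ncard = 4 := by
    rw [Set.ncard_sdiff (fun i hi => hmem i (List.mem_toFinset.1 hi)) (Set.toFinite _), hO.card,
      Set.ncard_coe_finset, List.toFinset_card_of_nodup hnd]
    rfl
  obtain ⟨f₁, f₂, f₃, f₄, hfnd, hfe⟩ : ∃ f₁ f₂ f₃ f₄ : G, [f₁, f₂, f₃, f₄].Nodup ∧
      ∀ o, o ∈ [f₁, f₂, f₃, f₄] ↔ o ∈ O ∧ o ∉ [w, x, u, v] := by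
    obtain ⟨f₁, f₂, f₃, f₄, n1, n2, n3, n4, n5, n6, he⟩ := Set.ncard_eq_four.1 h4
    refine ⟨f₁, f₂, f₃, f₄, by simp [n1, n2, n3, n4, n5, n6], fun o => ?_⟩
    have := Set.ext_iff.1 he o
    simp only [Set.mem_sdiff, List.coe_toFinset, Set.mem_setOf_eq, Set.mem_insert_iff,
      Set.mem_singleton_iff] at this
    simp only [List.mem_cons, List.not_mem_nil, or_false] at this ⊢
    exact this.symm
  obtain ⟨s, hs, hsF, hsz, hsO⟩ :=
    exists_mover hD hB hO hfnd (fun o ho => ((hfe o).1 ho).1) F.hz
  have hout : ∀ i ∈ [w, x, u, v], ¬ Commute s i := fun i hi =>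
    hsO i (hmem i hi) fun h => ((hfe i).1 h).2 hi
  have hwO := hmem w (by simp)
  have hxO := hmem x (by simp)
  have hwD := hO.sub hwO
  have hxD := hO.sub hxO
  have hsw := hout w (by simp)
  have hsx := hout x (by simp)
  have hwx : Commute w x := hO.comm _ hwO _ hxO
  set c := s * w * s with hc
  have hcw : c = w * s * w := braid hT hs hwD hsw
  have hcD : c ∈ D := by rw [hc, conj_involution hT hs]; exact hD.2.1 s w hwD
  have hcx : ¬ Commute c x := fun h => hsx (by
    have e : s = w * c * w := by rw [hcw, conj_twice (mul_self hT hwD)]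
    rw [e]
    exact (hwx.mul_left h).mul_left hwx)
  set t := c * x * c with ht
  have htD : t ∈ D := by rw [ht, conj_involution hT hcD]; exact hD.2.1 c x hxD
  have hst : Commute s t := by
    have h1 : t = w * s * x * s * w := by
      rw [ht, hcw]
      calc w * s * w * x * (w * s * w) = w * s * (w * x * w) * s * w := by simp only [mul_assoc]
        _ = w * s * x * s * w := by rw [conj_self_of_commute hT hwD hwx]
    have h2 : s * t * s = t := by
      conv_rhs => rw [h1]
      rw [ht, hc]
      simp only [mul_assoc, mul_self hT hs, mul_one, mul_self_mul hT hs]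
    show s * t = t * s
    calc s * t = s * t * s * s := by rw [mul_mul_self hT hs]
      _ = t * s := by rw [h2]
  set g := s * t with hg
  have hgg : g * g = 1 := by
    rw [hg, hst.symm.mul_mul_mul_comm, mul_self hT hs, mul_self hT htD, one_mul]
  have hgw : g * w * g = x := by
    calc g * w * g = t * s * w * (s * t) := by rw [hg]; nth_rw 1 [hst.eq]
      _ = t * (s * w * s) * t := by simp only [mul_assoc]
      _ = c * x * c * c * (c * x * c) := by rw [← hc, ← ht]
      _ = c * (x * c * x) * c := by simp only [mul_assoc, mul_self_mul hT hcD]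
      _ = x := by rw [← braid hT hcD hxD hcx, conj_twice (mul_self hT hcD)]
  have hgx : g * x * g = w := by rw [← hgw]; exact conj_twice hgg
  have hne : s ≠ t := fun e => by
    have h1 : g = 1 := by rw [hg, ← e, mul_self hT hs]
    rw [h1, one_mul, mul_one] at hgw
    simp only [List.nodup_cons, List.mem_cons, List.not_mem_nil, or_false, not_or] at hnd
    exact hnd.1.1 hgw
  have hfix : ∀ {i}, Commute g i → g * i * g = i := fun {i} h => by
    rw [h.eq, mul_assoc, hgg, mul_one]
  have hgfix : ∀ {i}, Commute s i → Commute w i → Commute x i → Commute g i := fun {i} h1 h2 h3 =>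
    h1.mul_left ((((h1.mul_left h2).mul_left h1).mul_left h3).mul_left ((h1.mul_left h2).mul_left h1))
  have hgF : ∀ o ∈ [f₁, f₂, f₃, f₄], g * o * g = o := fun o ho =>
    hfix (hgfix (hsF o ho) (hO.comm _ hwO _ ((hfe o).1 ho).1) (hO.comm _ hxO _ ((hfe o).1 ho).1))
  have hgz : g * z * g = z :=
    hfix (hgfix hsz (F.hz.2.2 w hwO).symm (F.hz.2.2 x hxO).symm)
  have hgi : g⁻¹ = g := inv_eq_of_mul_eq_one_left hgg
  have hsub : ∀ o ∈ O, g * o * g ∈ O := by
    intro o ho
    have hnd5 : ∀ i ∈ [w, x, u, v], [f₁, f₂, f₃, f₄, i].Nodup := fun i hi => by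
      rw [show [f₁, f₂, f₃, f₄, i] = [f₁, f₂, f₃, f₄] ++ [i] from rfl, List.nodup_append]
      refine ⟨hfnd, List.nodup_singleton i, fun a ha b hb e => ?_⟩
      rw [List.mem_singleton] at hb
      exact ((hfe a).1 ha).2 (e ▸ hb ▸ hi)
    have hin : ∀ i ∈ O, ∀ a ∈ [f₁, f₂, f₃, f₄, i], a ∈ O := fun i hi a ha => by
      simp only [List.mem_cons, List.not_mem_nil, or_false] at ha
      rcases ha with rfl | rfl | rfl | rfl | rfl
      iterate 4 exact ((hfe _).1 (by simp)).1
      exact hi
    refine hO.mem_of_centralised hD hB (hnd5 x (by simp)) (hin x hxO)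
      (by have := hD.2.1 g o (hO.sub ho); rwa [hgi] at this) fun r hr hrO => ?_
    have h1 : Commute (g * r * g) o := by
      refine hO.closed (([f₁, f₂, f₃, f₄, w] : List G).toFinset : Set G)
        (fun a ha => hin w hwO a (List.mem_toFinset.1 ha))
        (by rw [Set.ncard_coe_finset, List.toFinset_card_of_nodup (hnd5 w (by simp))]; rfl)
        _ (by have := hD.2.1 g r hr; rwa [hgi] at this) (fun a ha => ?_) o ho
      have ha' := List.mem_toFinset.1 ha
      have : ∃ a' ∈ O, a = g * a' * g := by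
        simp only [List.mem_cons, List.not_mem_nil, or_false] at ha'
        rcases ha' with rfl | rfl | rfl | rfl | rfl
        iterate 4 exact ⟨_, ((hfe _).1 (by simp)).1, (hgF _ (by simp)).symm⟩
        exact ⟨x, hxO, hgx.symm⟩
      obtain ⟨a', ha'O, rfl⟩ := this
      have := (commute_conj g r a').2 (hrO a' ha'O)
      rwa [hgi] at this
    have := (commute_conj g _ _).2 h1
    rw [hgi, conj_twice hgg] at this
    exact this
  have hgu : ∀ {i i'}, i ∈ [u, v] → i' ∈ [u, v] → i ≠ i' → g * i * g = i' := by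
    intro i i' hi hi' hii
    have hi4 : i ∈ [w, x, u, v] := by simp only [List.mem_cons] at hi ⊢; tauto
    have hiO := hmem i hi4
    have h1 : g * i * g ≠ i := fun e => hout i hi4 (by
      have hc' : Commute i (s * t) := by
        show i * g = g * i
        calc i * g = g * i * g * g := by rw [e]
          _ = g * i := by rw [mul_assoc _ g g, hgg, mul_one]
      exact (((commute_pair_iff hT hs htD (hO.sub hiO) hst hne).1 hc').1).symm)
    have hinj : ∀ {a b : G}, g * a * g = g * b * g → a = b := fun h =>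
      mul_left_cancel (mul_right_cancel h)
    simp only [List.nodup_cons, List.mem_cons, List.not_mem_nil, or_false, not_or] at hnd
    obtain ⟨⟨nwx, nwu, nwv⟩, ⟨nxu, nxv⟩, nuv, -⟩ := hnd
    by_contra hcon
    have hgiO := hsub i hiO
    have hF : g * i * g ∉ [f₁, f₂, f₃, f₄] := fun h => by
      have e := hinj ((hgF _ h).trans rfl : g * (g * i * g) * g = g * i * g)
      exact ((hfe i).1 (e ▸ h)).2 hi4
    have h2 : g * i * g ∈ [w, x, u, v] := by
      by_contra hh
      exact hF ((hfe _).2 ⟨hgiO, hh⟩)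
    simp only [List.mem_cons, List.not_mem_nil, or_false] at h2 hi hi'
    rcases h2 with h2 | h2 | h2 | h2
    · have e := hinj (h2.trans hgx.symm)
      rcases hi with rfl | rfl
      exacts [nxu e.symm, nxv e.symm]
    · have e := hinj (h2.trans hgw.symm)
      rcases hi with rfl | rfl
      exacts [nwu e.symm, nwv e.symm]
    all_goals
      rcases hi with rfl | rfl <;> rcases hi' with rfl | rfl <;>
        first | exact hii rfl | exact hcon h2 | exact h1 h2
  have hnuv : u ≠ v := by
    simp only [List.nodup_cons, List.mem_cons, List.not_mem_nil, or_false, not_or] at hnd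
    exact hnd.2.2.1
  have hstO : g ∈ setStab O := mem_setStab.2 fun o ho => by rw [hgi]; exact hsub o ho
  refine ⟨g, ⟨hstO, mem_setStab.2 ?_⟩, hgg, hgw, hgx, hgu (by simp) (by simp) hnuv,
    hgu (by simp) (by simp) hnuv.symm, fun o ho ho' => hgF o ((hfe o).2 ⟨ho, ho'⟩)⟩
  rw [hgi]
  rintro i (hi | hi)
  · exact Or.inl (hsub i hi)
  refine Or.inr ⟨⟨?_, fun h => hi.1.2.1 ?_, fun o ho => ?_⟩, ?_⟩
  · have := hD.2.1 g i hi.1.1
    rwa [hgi] at this
  · have := hsub _ h
    rwa [conj_twice hgg] at this
  · have := (commute_conj g i _).2 (hi.1.2.2 _ (hsub o ho))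
    rwa [hgi, conj_twice hgg] at this
  · have := (commute_conj g i z).2 hi.2
    rwa [hgi, hgz] at this

include hZ

/-- A subgroup of index twice an odd number without members. -/
theorem exists_memberless : ∃ H : Subgroup G, (∀ d ∈ D, d ∉ H) ∧ 2 ^ 21 ∣ Nat.card H := by
  classical
  obtain ⟨O, y, z, F⟩ := exists_octFrame hD hB
  have hT := hD.1
  have hO := F.oct
  set U : Subgroup G := setStab O ⊓ setStab (baseSet D O z) with hU
  set A := evenCore D O y z
  have hfixA : ∀ g ∈ A, ∀ o ∈ O, Commute g o := by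
    intro g hg o ho
    obtain ⟨b, hb, v, hv, rfl⟩ := (mem_core_iff hD hB F).1 hg
    exact (pairSub_fixed hb fun c hc => (base_clique hD hB hO F.hz c hc).2 o (Or.inl ho)).mul_left
      (pairSub_fixed hv fun c hc => hc.1.2.2 o ho)
  have hAU : A ≤ U := by
    refine sup_le (fun g hg => ⟨mem_setStab.2 fun o ho => ?_, mem_setStab.2 fun o ho => ?_⟩)
      (part_le_stab hD hB F)
    · rw [(hfixA g (Subgroup.mem_sup_left hg) o ho).eq, mul_inv_cancel_right]; exact ho
    · rw [(pairSub_fixed hg fun c hc => (base_clique hD hB hO F.hz c hc).2 o ho).eq,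
        mul_inv_cancel_right]
      exact ho
  -- the action on the octad
  have : Fintype O := Fintype.ofFinite O
  let e : O ≃ Fin 8 := Fintype.equivFinOfCardEq (by
    rw [← Nat.card_eq_fintype_card, Nat.card_coe_set_eq, hO.card])
  have hmove : ∀ (g : U) (o : O), (g : G) * o * (g : G)⁻¹ ∈ O := fun g o =>
    mem_setStab.1 g.2.1 o o.2
  let act : U → Perm O := fun g =>
    { toFun := fun o => ⟨(g : G) * o * (g : G)⁻¹, hmove g o⟩
      invFun := fun o => ⟨(g⁻¹ : U).1 * o * ((g⁻¹ : U).1)⁻¹, hmove g⁻¹ o⟩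
      left_inv := fun o => Subtype.ext (by simp [mul_assoc])
      right_inv := fun o => Subtype.ext (by simp [mul_assoc]) }
  let π₀ : U →* Perm (Fin 8) := MonoidHom.mk' (fun g => e.permCongr (act g)) (fun g h => by
    ext i
    simp [act, Equiv.permCongr_apply, mul_assoc])
  have hπ₀ : ∀ (g : U) (o : O), π₀ g (e o) = e ⟨(g : G) * o * (g : G)⁻¹, hmove g o⟩ := fun g o => by
    simp [π₀, act, Equiv.permCongr_apply]
  have hker : ∀ g : U, π₀ g = 1 ↔ ∀ o ∈ O, Commute (g : G) o := by
    intro g
    constructor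
    · intro h o ho
      have h1 := hπ₀ g ⟨o, ho⟩
      rw [h, Perm.one_apply] at h1
      exact mul_inv_eq_iff_eq_mul.1 (congrArg Subtype.val (e.injective h1)).symm
    · intro h
      ext i
      obtain ⟨o, rfl⟩ := e.surjective i
      rw [hπ₀, Perm.one_apply]
      refine congrArg Fin.val (congrArg e (Subtype.ext ?_))
      show (g : G) * (o : G) * (g : G)⁻¹ = o
      rw [(h o o.2).eq, mul_inv_cancel_right]
  have hlift : ∀ i j k l : Fin 8, [i, j, k, l].Nodup →
      ∃ g : U, g * g = 1 ∧ π₀ g = swap i j * swap k l := by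
    intro i j k l hnd
    obtain ⟨g, hg, hgg, g1, g2, g3, g4, g5⟩ := exists_double_lift hD hB F
      (w := (e.symm i : G)) (x := (e.symm j : G)) (u := (e.symm k : G)) (v := (e.symm l : G))
      (hnd.map (f := fun i => (e.symm i : G)) (Subtype.val_injective.comp e.symm.injective))
      (fun a ha => by
        simp only [List.mem_cons, List.not_mem_nil, or_false] at ha
        rcases ha with rfl | rfl | rfl | rfl <;> exact Subtype.coe_prop _)
    refine ⟨⟨g, hg⟩, Subtype.ext hgg, ?_⟩
    have hgi : g⁻¹ = g := inv_eq_of_mul_eq_one_left hgg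
    simp only [List.nodup_cons, List.mem_cons, List.not_mem_nil, or_false, not_or] at hnd
    obtain ⟨⟨nij, nik, nil⟩, ⟨njk, njl⟩, nkl, -⟩ := hnd
    ext m
    congr 1
    obtain ⟨o, rfl⟩ := e.surjective m
    rw [hπ₀]
    rw [← e.symm.injective.eq_iff, Equiv.symm_apply_apply]
    apply Subtype.ext
    show g * (o : G) * g⁻¹ = _
    rw [hgi]
    by_cases hi : e o = i
    · subst hi
      rw [Perm.mul_apply, swap_apply_of_ne_of_ne nik nil, swap_apply_left, Equiv.symm_apply_apply] at *
      exact g1
    by_cases hj : e o = j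
    · subst hj
      rw [Perm.mul_apply, swap_apply_of_ne_of_ne njk njl, swap_apply_right]
      simpa using g2
    by_cases hk : e o = k
    · subst hk
      rw [Perm.mul_apply, swap_apply_left, swap_apply_of_ne_of_ne (Ne.symm nil) (Ne.symm njl)]
      simpa using g3
    by_cases hl : e o = l
    · subst hl
      rw [Perm.mul_apply, swap_apply_right, swap_apply_of_ne_of_ne (Ne.symm nik) (Ne.symm njk)]
      simpa using g4
    rw [Perm.mul_apply, swap_apply_of_ne_of_ne hk hl, swap_apply_of_ne_of_ne hi hj,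
      Equiv.symm_apply_apply]
    refine g5 o o.2 fun h => ?_
    simp only [List.mem_cons, List.not_mem_nil, or_false] at h
    rcases h with h | h | h | h <;> have h' := congrArg e (Subtype.val_injective h) <;>
      rw [Equiv.apply_symm_apply] at h'
    exacts [hi h', hj h', hk h', hl h']
  -- the kernel
  set K := π₀.ker
  have hAK : A.subgroupOf U ≤ K := fun g hg => (hker g).2 (hfixA g hg)
  set A' : Subgroup K := (A.subgroupOf U).subgroupOf K
  have hA'card : Nat.card A' = Nat.card A := by
    rw [Nat.card_congr (Subgroup.subgroupOfEquivOfLe hAK).toEquiv,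
      Nat.card_congr (Subgroup.subgroupOfEquivOfLe hAU).toEquiv]
  obtain ⟨n, hn⟩ : ∃ n, Nat.card A = 2 ^ n := by
    have : Fact (Nat.Prime 2) := ⟨Nat.prime_two⟩
    exact IsPGroup.iff_card.1 fun g => ⟨2, Subtype.ext (core_pow_four hD hB F g.2)⟩
  have hn15 : 15 ≤ n :=
    (Nat.pow_le_pow_iff_right (by norm_num)).1 (hn ▸ core_card hD hZ hB F)
  -- 64 divides the order of the image
  have h64 : 64 ∣ Nat.card π₀.range := by
    set P := π₀.range × Multiplicative (ZMod 2)
    have hP : DoubleSwap.Lifts (π₀.range.subtype.comp (MonoidHom.fst π₀.range (Multiplicative (ZMod 2))))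
        ((1, Multiplicative.ofAdd 1) : P) := by
      refine ⟨fun h => ?_, fun w => ?_, fun i j k l hnd => ?_⟩
      · exact absurd (show (Multiplicative.ofAdd 1 : Multiplicative (ZMod 2)) = 1 from congrArg Prod.snd h)
          (by decide)
      · obtain ⟨a, b⟩ := w
        constructor
        · intro h
          have ha : a = 1 := Subtype.ext h
          subst ha
          revert b
          intro b _
          rcases (by decide : ∀ b : Multiplicative (ZMod 2), b = 1 ∨ b = Multiplicative.ofAdd 1) b with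
            rfl | rfl
          exacts [Or.inl rfl, Or.inr rfl]
        · rintro (h | h) <;> rw [h] <;> rfl
      · obtain ⟨g, hg, hg'⟩ := hlift i j k l hnd
        exact ⟨(⟨π₀ g, g, rfl⟩, 1), Prod.ext (Subtype.ext (by
          show π₀ g * π₀ g = 1
          rw [← map_mul, hg, map_one])) (one_mul _), hg'⟩
    obtain ⟨H, hzH, hH⟩ := DoubleSwap.exists_sylow_lift hP
    have hinj : Function.Injective ((MonoidHom.fst π₀.range (Multiplicative (ZMod 2))).comp H.subtype) := by
      rw [injective_iff_map_eq_one]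
      rintro ⟨⟨a, b⟩, hab⟩ h
      have ha : a = 1 := h
      subst ha
      rcases (by decide : ∀ b : Multiplicative (ZMod 2), b = 1 ∨ b = Multiplicative.ofAdd 1) b with
        rfl | rfl
      · rfl
      · exact absurd hab hzH
    exact hH ▸ Subgroup.card_dvd_of_injective _ hinj
  obtain ⟨-, ⟨a, -, -⟩, -⟩ := id hB.cls
  have hcardG := card_M24 hD hZ hB
  have hKU : Nat.card K * Nat.card π₀.range = Nat.card U := by
    rw [← Subgroup.index_ker]; exact Subgroup.card_mul_index _
  have h23 : ¬ 2 ^ 23 ∣ Nat.card G := by rw [hcardG]; norm_num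
  have h4 : ¬ 4 ∣ A'.index := by
    intro h
    apply h23
    refine dvd_trans ?_ (Subgroup.card_subgroup_dvd_card U)
    rw [← hKU, ← Subgroup.card_mul_index A', hA'card, hn]
    rw [show (2 : ℕ) ^ 23 = 2 ^ 15 * 4 * 64 by norm_num]
    exact Nat.mul_dvd_mul (Nat.mul_dvd_mul (pow_dvd_pow 2 hn15) h) h64
  -- the member of the octad
  obtain ⟨o, ho⟩ : O.Nonempty := Set.nonempty_of_ncard_ne_zero (by rw [hO.card]; norm_num)
  have hoU : o ∈ U := by
    refine ⟨mem_setStab.2 fun i hi => ?_, mem_setStab.2 fun i hi => ?_⟩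
    · rw [(hO.comm _ ho _ hi).eq, mul_inv_cancel_right]; exact hi
    · rw [((base_clique hD hB hO F.hz o (Or.inl ho)).2 i hi).eq, mul_inv_cancel_right]; exact hi
  set oU : U := ⟨o, hoU⟩
  set oK : K := ⟨oU, (hker oU).2 fun i hi => hO.comm _ ho _ hi⟩
  have hocent : ∀ k : K, Commute oK k := fun k =>
    Subtype.ext (Subtype.ext ((hker k.1).1 k.2 o ho).symm.eq)
  have : Fintype (K ⧸ A') := Fintype.ofFinite _
  obtain ⟨hs, h2⟩ := sign_coset_neg_one (H := A') (d := oK)
    (Subtype.ext (Subtype.ext (mul_self hT (hO.sub ho)))) (fun g h => by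
      rw [mul_assoc, (hocent g).eq, inv_mul_cancel_left] at h
      exact oct_notMem_core hD hZ hB F ho h) h4
  set φ : K →* ℤˣ := Perm.sign.comp (MulAction.toPermHom K (K ⧸ A'))
  have hφo : φ oK = -1 := hs
  obtain ⟨m, hm⟩ := h2
  have hmodd : Odd m := by rw [Nat.odd_iff]; omega
  -- elements of the kernel of the sign
  have hAφ : ∀ a ∈ A', φ a = 1 := by
    intro a ha
    have h1 : a ^ 4 = 1 := Subtype.ext (Subtype.ext (core_pow_four hD hB F ha))
    obtain ⟨r, hr⟩ : ∃ r, orderOf a = 2 ^ r := by
      obtain ⟨r, -, hr⟩ := (Nat.dvd_prime_pow Nat.prime_two).1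
        (show orderOf a ∣ 2 ^ 2 from orderOf_dvd_of_pow_eq_one h1)
      exact ⟨r, hr⟩
    by_contra hne
    have hneg : φ a = -1 := (Int.units_eq_one_or _).resolve_left hne
    -- then `oK * a` would be in the kernel
    have hnorm : A'.Normal := ⟨fun b hb k => core_normalised hD hB F k.1.2.1 k.1.2.2 hb⟩
    have hfix : ∀ x : K ⧸ A', MulAction.toPermHom K (K ⧸ A') a x = x := by
      intro x
      induction x using QuotientGroup.induction_on with
      | H g =>
        show (((a * g : K)) : K ⧸ A') = g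
        refine (QuotientGroup.eq.2 ?_).symm
        rw [← mul_assoc]
        have := hnorm.conj_mem a ha g⁻¹
        rwa [inv_inv] at this
    rw [show φ a = Perm.sign (MulAction.toPermHom K (K ⧸ A') a) from rfl,
      show MulAction.toPermHom K (K ⧸ A') a = 1 from Perm.ext hfix, map_one] at hneg
    exact absurd hneg (by decide)
  have hkc : Nat.card φ.ker = Nat.card A * m := by
    have hrange : φ.range = ⊤ := by
      refine eq_top_iff.2 fun u _ => ?_
      rcases Int.units_eq_one_or u with rfl | rfl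
      exacts [one_mem _, ⟨oK, hφo⟩]
    have h := φ.ker.card_mul_index
    have h2c : Nat.card ℤˣ = 2 := by simp
    rw [Subgroup.index_ker, hrange, Subgroup.card_top, h2c,
      ← Subgroup.card_mul_index A', hA'card, hm] at h
    linarith
  have hpow : ∀ k : K, φ k = 1 ↔ k ^ m ∈ A' := by
    intro k
    constructor
    · intro hk
      set A'' := A'.subgroupOf φ.ker
      have hn' : A''.Normal := ⟨fun b hb g => core_normalised hD hB F g.1.1.2.1 g.1.1.2.2 hb⟩
      have hidx : A''.index = m := by
        have h := A''.card_mul_index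
        rw [Nat.card_congr (Subgroup.subgroupOfEquivOfLe (show A' ≤ φ.ker from hAφ)).toEquiv,
          hA'card, hkc] at h
        exact Nat.eq_of_mul_eq_mul_left Nat.card_pos h
      have := A''.pow_index_mem ⟨k, hk⟩
      rwa [hidx] at this
    · intro hk
      by_contra hne
      have hneg : φ k = -1 := (Int.units_eq_one_or _).resolve_left hne
      have := hAφ _ hk
      rw [map_pow, hneg, hmodd.neg_one_pow] at this
      exact absurd this (by decide)
  set M : Subgroup U := φ.ker.map K.subtype
  have hMnormal : M.Normal := by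
    refine ⟨?_⟩
    rintro - ⟨k, hk, rfl⟩ g
    refine ⟨⟨g * k.1 * g⁻¹, (MonoidHom.normal_ker π₀).conj_mem _ k.2 g⟩, ?_, rfl⟩
    show φ _ = 1
    rw [hpow]
    have h := core_normalised hD hB F g.2.1 g.2.2 ((hpow k).1 hk)
    show ((((⟨g * k.1 * g⁻¹, _⟩ : K) ^ m : K) : U) : G) ∈ A
    simp only [Subgroup.coe_pow, Subgroup.coe_mul, Subgroup.coe_inv, conj_pow]
    exact h
  have hMK : M ≤ K := by rintro - ⟨k, -, rfl⟩; exact k.2
  let π : U ⧸ M →* Perm (Fin 8) := QuotientGroup.lift M π₀ hMK
  set zb : U ⧸ M := QuotientGroup.mk oU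
  have hzM : oU ∉ M := by
    rintro ⟨k, hk, hk'⟩
    have : k = oK := Subtype.ext hk'
    rw [this, SetLike.mem_coe, MonoidHom.mem_ker, hφo] at hk
    exact absurd hk (by decide)
  have hL : DoubleSwap.Lifts π zb := by
    refine ⟨fun h => hzM ((QuotientGroup.eq_one_iff _).1 h), fun w => ?_, fun i j k l hnd => ?_⟩
    · induction w using QuotientGroup.induction_on with
      | H g =>
        show π₀ g = 1 ↔ _
        constructor
        · intro hg
          rcases Int.units_eq_one_or (φ ⟨g, hg⟩) with h | h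
          · exact Or.inl ((QuotientGroup.eq_one_iff g).2 ⟨⟨g, hg⟩, h, rfl⟩)
          · refine Or.inr (QuotientGroup.eq.2 ⟨⟨g, hg⟩⁻¹ * oK, ?_, rfl⟩)
            rw [SetLike.mem_coe, MonoidHom.mem_ker, map_mul, map_inv, h, hφo, inv_mul_cancel]
        · rintro (h | h)
          · exact hMK ((QuotientGroup.eq_one_iff g).1 h)
          · have h1 := hMK (QuotientGroup.eq.1 h)
            rw [MonoidHom.mem_ker, map_mul, map_inv, (show π₀ oU = 1 from oK.2), mul_one,
              inv_eq_one] at h1
            exact h1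
    · obtain ⟨g, hg, hg'⟩ := hlift i j k l hnd
      exact ⟨QuotientGroup.mk g, by rw [← QuotientGroup.mk_mul, hg, QuotientGroup.mk_one], hg'⟩
  obtain ⟨H, hzH, hH⟩ := DoubleSwap.exists_sylow_lift hL
  refine ⟨(H.comap (QuotientGroup.mk' M)).map U.subtype, ?_, ?_⟩
  · rintro x hx ⟨g, hg, rfl⟩
    simp only [Subgroup.coe_subtype] at hx
    -- a member in the stabiliser lies in the base and is congruent to `o`
    have hclq := base_clique hD hB hO F.hz
    have hgc : ∀ i ∈ baseSet D O z, Commute (g : G) i := by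
      intro i hi
      by_contra hnc
      have h1 := mem_setStab.1 g.2.2 i hi
      rw [← conj_involution hT hx] at h1
      exact commute_conj_mem hT (hclq i hi).1 hx (fun h => hnc h.symm) ((hclq i hi).2 _ h1)
    have hgB : (g : G) ∈ baseSet D O z := by
      by_cases h : (g : G) ∈ O
      · exact Or.inl h
      · exact Or.inr ⟨⟨hx, h, fun i hi => hgc i (Or.inl hi)⟩, hgc z (Or.inr ⟨F.hz, Commute.refl z⟩)⟩
    have hgo : (g : G) * o ∈ A := Subgroup.mem_sup_left (pair_mem_pairSub hgB (Or.inl ho))
    have hgz : (QuotientGroup.mk g : U ⧸ M) = zb := by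
      refine QuotientGroup.eq.2 ?_
      have hm' : g * oU ∈ M := ⟨⟨g * oU, hAK hgo⟩, hAφ _ hgo, rfl⟩
      rwa [show g⁻¹ = g from Subtype.ext (inv_eq hT hx)]
    exact hzH (hgz ▸ hg)
  · rw [Subgroup.card_map_of_injective U.subtype_injective]
    set P := H.comap (QuotientGroup.mk' M)
    have hMP : M ≤ P := fun g hg => by
      show (QuotientGroup.mk g : U ⧸ M) ∈ H
      rw [(QuotientGroup.eq_one_iff g).2 hg]
      exact one_mem _
    let f : P →* H := ((QuotientGroup.mk' M).comp P.subtype).codRestrict H fun g => g.2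
    have hfs : Function.Surjective f := by
      rintro ⟨q, hq⟩
      obtain ⟨g, rfl⟩ := QuotientGroup.mk'_surjective M q
      exact ⟨⟨g, hq⟩, rfl⟩
    have hfk : f.ker = M.subgroupOf P := by
      ext g
      rw [MonoidHom.mem_ker, Subgroup.mem_subgroupOf, ← QuotientGroup.eq_one_iff]
      exact Subtype.ext_iff
    rw [Subgroup.card_eq_card_quotient_mul_card_subgroup f.ker,
      Nat.card_congr (QuotientGroup.quotientKerEquivOfSurjective f hfs).toEquiv, hH, hfk,
      Nat.card_congr (Subgroup.subgroupOfEquivOfLe hMP).toEquiv,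
      Subgroup.card_map_of_injective K.subtype_injective, hkc, hn]
    rw [show (2 : ℕ) ^ 21 = 64 * 2 ^ 15 by norm_num]
    exact Nat.mul_dvd_mul_left 64 (dvd_mul_of_dvd_left (pow_dvd_pow 2 hn15) _)

/-- In type M(24) some homomorphism sends every member to -1. -/
theorem exists_sign24 : ∃ φ : G →* ℤˣ, ∀ d ∈ D, φ d = -1 := by
  classical
  obtain ⟨H, hH, hcard⟩ := exists_memberless hD hZ hB
  have : Fintype (G ⧸ H) := Fintype.ofFinite _
  refine ⟨Perm.sign.comp (MulAction.toPermHom G (G ⧸ H)), fun d hd => ?_⟩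
  refine (sign_coset_neg_one (H := H) (mul_self hD.1 hd) (fun g h => hH _ ?_ h) fun h4 => ?_).1
  · have := hD.2.1 g⁻¹ d hd
    rwa [inv_inv] at this
  · have := mul_dvd_mul hcard h4
    rw [Subgroup.card_mul_index, card_M24 hD hZ hB] at this
    norm_num at this

end Cfsg.Agent.ThreeTrans
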