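import Cfsg.Agent.ThreeTrans.CoverM24

/-!
# Type M(24): octads

Five pairwise commuting members lie in a set of eight, an octad, with product 1.  Hence no
product of an odd number of pairwise commuting members is 1.
-/

set_option autoImplicit false

open Cfsg

namespace Cfsg.Agent.ThreeTrans

universe u

/-- What is used about the common partners of three commuting members in type M(24). -/
structure Layer693 {G : Type*} [Group G] (S : Set G) : Prop where
  card : S.ncard = 693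
  card1 : ∀ p ∈ S, (dperp S p).ncard = 180
  lines : Lines S
  prod : LineProd S
  planes : Planes S
  counts : LayerCounts S

/-- A set of eight pairwise commuting members, any five of which have the same common partners. -/
structure IsOctad {G : Type*} [Group G] (D O : Set G) : Prop where
  sub : O ⊆ D
  card : O.ncard = 8
  comm : ∀ x ∈ O, ∀ y ∈ O, Commute x y
  closed : ∀ F ⊆ O, F.ncard = 5 → ∀ v ∈ D, (∀ y ∈ F, Commute v y) → ∀ y ∈ O, Commute v y

variable {G : Type u} [Group G] [Finite G] {D : Set G} {X : Type u} [Group X] [Finite X] {E : Set X}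
  (hD : IsThreeTranspositionGroup D) (hZ : Subgroup.center G = ⊥) (hB : M24Base D E)

include hD hB

omit hZ in
/-- The common partners of two commuting members and those of three. -/
theorem layers_pair24 {a b : G} (ha : a ∈ D) (hb : b ∈ dperp D a) :
    ∃ (Y : Type u) (_ : Group Y) (_ : Finite Y) (E₀ : Set Y) (φ : G → Y),
      IsThreeTranspositionGroup E₀ ∧ IsOfTypeM22 Y E₀ ∧ SetIso (dperp (dperp D a) b) E₀ φ ∧
      M22Layer (dperp (dperp D a) b) ∧
      ∀ c ∈ dperp (dperp D a) b, Layer693 (dperp (dperp (dperp D a) b) c) := by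
  obtain ⟨φ, hφ⟩ := hB.iso a ha
  obtain ⟨Y, _, _, E₀, hE₀, -, h22, hcov⟩ :=
    exists_cover23 hB.group (prim_M23 hB.group hB.m23) hB.m23
  obtain ⟨χ, ψ, -, -, -, hiso⟩ := (hcov _ (hφ.bij.mapsTo hb)).maps
  have hf := (hφ.restrict hb).trans hiso
  have hL := hf.m22Layer (m22Layer hE₀ h22)
  have hS := ((closedSet_of_group hD).dperp a).dperp b
  have hF := m22Full hE₀ h22
  refine ⟨Y, inferInstance, inferInstance, E₀, _, hE₀, h22, hf, hL, fun c hc => ?_⟩
  have hc' := hf.bij.mapsTo hc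
  exact ⟨hL.card1 c hc, fun p hp => hL.card2 c hc p hp, hL.lines c hc,
    (hf.restrict hc).lineProd (hS.dperp c) (hF.data.layerProd _ hc'),
    (hf.restrict hc).planes (hF.planes _ hc'),
    (hf.restrict hc).layerCounts (hS.dperp c) (layer_counts_M22 hE₀ h22 _ hc')⟩

omit hZ in
theorem layer693 {a b c : G} (ha : a ∈ D) (hb : b ∈ dperp D a) (hc : c ∈ dperp (dperp D a) b) :
    Layer693 (dperp (dperp (dperp D a) b) c) := by
  obtain ⟨Y, _, _, E₀, φ, -, -, -, -, h⟩ := layers_pair24 hD hB ha hb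
  exact h c hc

include hZ in
/-- An involution centralising three commuting members and their common partners is a product
of some of them. -/
theorem eq_sub_product {a b c g : G} (ha : a ∈ D) (hb : b ∈ dperp D a)
    (hc : c ∈ dperp (dperp D a) b) (hg : g * g = 1) (hga : Commute g a) (hgb : Commute g b)
    (hgc : Commute g c) (hgd : ∀ x ∈ dperp (dperp (dperp D a) b) c, Commute g x) :
    ∃ l : List G, l.Sublist [a, b, c] ∧ g = l.prod := by
  obtain ⟨χ, ψ, hχ, hker, hagree, hiso⟩ := (cover24 hD hZ hB ha).maps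
  obtain ⟨Y, _, _, E₀, hE₀, -, h22, hcov⟩ :=
    exists_cover23 hB.group (prim_M23 hB.group hB.m23) hB.m23
  have hbE := hiso.bij.mapsTo hb
  obtain ⟨χ', ψ', hχ', hker', hagree', hiso'⟩ := (hcov _ hbE).maps
  set gC : ↥(Subgroup.centralizer ({a} : Set G)) := ⟨g, Subgroup.mem_centralizer_singleton_iff.2 hga.eq⟩
  have key : ∀ {x : G}, x ∈ dperp D a → Commute g x → Commute (χ gC) (ψ x) := fun {x} hx h => by
    rw [hagree ⟨x, Subgroup.mem_centralizer_singleton_iff.2 hx.2.2.symm.eq⟩ hx]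
    exact (show Commute gC ⟨x, Subgroup.mem_centralizer_singleton_iff.2 hx.2.2.symm.eq⟩ from
      Subtype.ext h.eq).map χ
  set hC : ↥(Subgroup.centralizer ({ψ b} : Set X)) :=
    ⟨χ gC, Subgroup.mem_centralizer_singleton_iff.2 (key hb hgb).eq⟩
  have key' : ∀ {x : G}, x ∈ dperp (dperp D a) b → Commute g x → Commute (χ' hC) (ψ' (ψ x)) :=
    fun {x} hx h => by
    have hxE := (hiso.restrict hb).bij.mapsTo hx
    rw [hagree' ⟨ψ x, Subgroup.mem_centralizer_singleton_iff.2 hxE.2.2.symm.eq⟩]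
    exact (show Commute hC ⟨ψ x, Subgroup.mem_centralizer_singleton_iff.2 hxE.2.2.symm.eq⟩ from
      Subtype.ext (key hx.1 h).eq).map χ'
  have hf := (hiso.restrict hb).trans hiso'
  have hsq : χ' hC * χ' hC = 1 := by
    rw [← map_mul, show hC * hC = 1 from Subtype.ext (by
      show χ gC * χ gC = 1
      rw [← map_mul, show gC * gC = 1 from Subtype.ext hg, map_one]), map_one]
  set cC : ↥(Subgroup.centralizer ({a} : Set G)) :=
    ⟨c, Subgroup.mem_centralizer_singleton_iff.2 hc.1.2.2.symm.eq⟩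
  set bC : ↥(Subgroup.centralizer ({a} : Set G)) :=
    ⟨b, Subgroup.mem_centralizer_singleton_iff.2 hb.2.2.symm.eq⟩
  have hcE := (hiso.restrict hb).bij.mapsTo hc
  have hbb : ψ b = χ bC := hagree bC hb
  have hcc : ψ c = χ cC := hagree cC hc.1
  obtain ⟨e, he, h1⟩ : ∃ e : G, (e = 1 ∨ e = c) ∧ ∃ eC : ↥(Subgroup.centralizer ({a} : Set G)),
      (eC : G) = e ∧ (χ gC = χ eC ∨ χ gC = χ eC * ψ b) := by
    rcases eq_one_or_eq hE₀ h22.1 (m22Full hE₀ h22).data (hf.bij.mapsTo hc) hsq (key' hc hgc)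
      (fun y hy => by
        obtain ⟨x, hx, rfl⟩ := (hf.restrict hc).bij.surjOn hy
        exact key' hx.1 (hgd x hx)) with h | h
    · refine ⟨1, Or.inl rfl, 1, rfl, ?_⟩
      rcases (hker' hC).1 h with h' | h'
      · exact Or.inl (h'.trans (map_one χ).symm)
      · exact Or.inr (by rw [map_one, one_mul]; exact h')
    · refine ⟨c, Or.inr rfl, cC, rfl, ?_⟩
      set cE : ↥(Subgroup.centralizer ({ψ b} : Set X)) :=
        ⟨ψ c, Subgroup.mem_centralizer_singleton_iff.2 hcE.2.2.symm.eq⟩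
      have h2 : χ' (cE⁻¹ * hC) = 1 := by
        rw [map_mul, map_inv, h, ← hagree' cE]
        exact inv_mul_cancel _
      rcases (hker' _).1 h2 with h' | h' <;> rw [Subgroup.coe_mul, Subgroup.coe_inv] at h'
      · exact Or.inl (by rw [← hcc]; exact (inv_mul_eq_one.1 h').symm)
      · exact Or.inr (by rw [← hcc]; exact inv_mul_eq_iff_eq_mul.1 h')
  obtain ⟨eC, heC, h2⟩ := h1
  obtain ⟨f, hf', fC, hfC, h3⟩ : ∃ f : G, (f = 1 ∨ f = b) ∧
      ∃ fC : ↥(Subgroup.centralizer ({a} : Set G)), (fC : G) = f ∧ χ gC = χ (eC * fC) := by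
    rcases h2 with h2 | h2
    · exact ⟨1, Or.inl rfl, 1, rfl, by rw [mul_one]; exact h2⟩
    · exact ⟨b, Or.inr rfl, bC, rfl, by rw [map_mul, ← hbb]; exact h2⟩
  have h4 : χ ((eC * fC)⁻¹ * gC) = 1 := by rw [map_mul, map_inv, h3, inv_mul_cancel]
  have h5 : g = e * f ∨ g = e * f * a := by
    rcases (hker _).1 h4 with h' | h' <;>
      rw [Subgroup.coe_mul, Subgroup.coe_inv, Subgroup.coe_mul, heC, hfC] at h'
    · exact Or.inl (inv_mul_eq_one.1 h').symm
    · exact Or.inr (inv_mul_eq_iff_eq_mul.1 h')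
  have hab : Commute a b := hb.2.2
  have hac : Commute a c := hc.1.2.2
  have hbc : Commute b c := hc.2.2
  rcases he with rfl | rfl <;> rcases hf' with rfl | rfl <;> rcases h5 with rfl | rfl
  · exact ⟨[], by simp, by simp⟩
  · exact ⟨[a], by simp, by simp⟩
  · exact ⟨[f], by simp, by simp⟩
  · exact ⟨[a, f], by simp, by simp [hab.eq]⟩
  · exact ⟨[e], by simp, by simp⟩
  · exact ⟨[a, e], by simp, by simp [hac.eq]⟩
  · exact ⟨[f, e], by simp, by simp [hbc.eq]⟩
  · exact ⟨[a, f, e], by simp, by simp only [List.prod_cons, List.prod_nil, mul_one]; rw [hbc.eq,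
      (hac.mul_right hab).eq]⟩

omit hZ in
/-- Exchanging a member of an octad. -/
theorem octad_exchange {a b c p q r v : G} (ha : a ∈ D) (hb : b ∈ dperp D a)
    (hc : c ∈ dperp (dperp D a) b) (hp : p ∈ dperp (dperp (dperp D a) b) c)
    (hq : q ∈ dperp (dperp (dperp (dperp D a) b) c) p)
    (hr : r ∈ ln (dperp (dperp (dperp D a) b) c) p q) (hrp : r ≠ p) (hrq : r ≠ q)
    (hv : v ∈ D) (hva : Commute v a) (hvb : Commute v b) (hvp : Commute v p) (hvq : Commute v q)
    (hvr : Commute v r) : Commute v c := by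
  obtain ⟨Y, _, _, E₀, φ, -, -, -, hL, -⟩ := layers_pair24 hD hB ha hb
  set W := dperp (dperp D a) b
  rcases eq_or_ne v q with rfl | hvqn
  · exact hq.1.2.2.symm
  rcases eq_or_ne v a with rfl | hvan
  · exact hc.1.2.2
  rcases eq_or_ne v b with rfl | hvbn
  · exact hc.2.2
  have hqW : q ∈ W := hq.1.1
  have hcS : c ∈ dperp W q := dperp_symm hc hq.1
  have hpS : p ∈ dperp W q := ⟨hp.1, hq.2.1.symm, hq.2.2.symm⟩
  have hpc : p ∈ dperp (dperp W q) c := ⟨hpS, hp.2.1, hp.2.2⟩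
  have h := hL.swap c hc p hp q hq r hr hrp hrq
  obtain ⟨-, e⟩ := (hL.lines q hqW).pair c hcS p hpc p (mem_ln_right hpS) r h hrp.symm
  have hcl : c ∈ ln (dperp W q) p r := by rw [e]; exact mem_ln_left hcS
  exact hcl.2 v ⟨⟨⟨hv, hvan, hva.symm⟩, hvbn, hvb.symm⟩, hvqn, hvq.symm⟩ hvp hvr

omit hZ in
/-- The line of the five members is made of what their common partners centralise. -/
theorem mem_line_iff24 {a b c p q x : G} (ha : a ∈ D) (hb : b ∈ dperp D a)
    (hc : c ∈ dperp (dperp D a) b) (hp : p ∈ dperp (dperp (dperp D a) b) c)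
    (hq : q ∈ dperp (dperp (dperp (dperp D a) b) c) p) (hx : x ∈ D) :
    (∀ v ∈ D, (∀ y ∈ ({a, b, c, p, q} : Set G), Commute v y) → Commute v x) ↔
      x = a ∨ x = b ∨ x = c ∨ x ∈ ln (dperp (dperp (dperp D a) b) c) p q := by
  have hsub : ∀ y ∈ ({a, b, c, p, q} : Set G), y ∈ D ∧
      Commute y a ∧ Commute y b ∧ Commute y c ∧ Commute y p ∧ Commute y q := by
    rintro y (rfl | rfl | rfl | rfl | rfl)
    exacts [⟨ha, Commute.refl _, hb.2.2, hc.1.2.2, hp.1.1.2.2, hq.1.1.1.2.2⟩,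
      ⟨hb.1, hb.2.2.symm, Commute.refl _, hc.2.2, hp.1.2.2, hq.1.1.2.2⟩,
      ⟨hc.1.1, hc.1.2.2.symm, hc.2.2.symm, Commute.refl _, hp.2.2, hq.1.2.2⟩,
      ⟨hp.1.1.1, hp.1.1.2.2.symm, hp.1.2.2.symm, hp.2.2.symm, Commute.refl _, hq.2.2⟩,
      ⟨hq.1.1.1.1, hq.1.1.1.2.2.symm, hq.1.1.2.2.symm, hq.1.2.2.symm, hq.2.2.symm, Commute.refl _⟩]
  constructor
  · intro h
    have h5 : ∀ y ∈ ({a, b, c, p, q} : Set G), Commute y x := fun y hy => h y (hsub y hy).1
      fun z hz => by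
        obtain ⟨-, k1, k2, k3, k4, k5⟩ := hsub y hy
        rcases hz with rfl | rfl | rfl | rfl | rfl
        exacts [k1, k2, k3, k4, k5]
    refine or_iff_not_imp_left.2 fun na => or_iff_not_imp_left.2 fun nb =>
      or_iff_not_imp_left.2 fun nc => ?_
    refine ⟨⟨⟨⟨hx, na, h5 a (by simp)⟩, nb, h5 b (by simp)⟩, nc, h5 c (by simp)⟩, fun y hy k1 k2 =>
      h y hy.1.1.1 ?_⟩
    rintro z (rfl | rfl | rfl | rfl | rfl)
    exacts [hy.1.1.2.2.symm, hy.1.2.2.symm, hy.2.2.symm, k1, k2]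
  · intro h v hv hvF
    rcases h with rfl | rfl | rfl | h
    iterate 3 exact hvF _ (by simp)
    by_cases hva : v = a
    · subst hva; exact h.1.1.1.2.2
    by_cases hvb : v = b
    · subst hvb; exact h.1.1.2.2
    by_cases hvc : v = c
    · subst hvc; exact h.1.2.2
    exact h.2 v ⟨⟨⟨hv, hva, (hvF a (by simp)).symm⟩, hvb, (hvF b (by simp)).symm⟩, hvc,
      (hvF c (by simp)).symm⟩ (hvF p (by simp)) (hvF q (by simp))

omit hZ in
/-- Five pairwise commuting members lie in an octad. -/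
theorem exists_octad {a b c p q : G} (ha : a ∈ D) (hb : b ∈ dperp D a)
    (hc : c ∈ dperp (dperp D a) b) (hp : p ∈ dperp (dperp (dperp D a) b) c)
    (hq : q ∈ dperp (dperp (dperp (dperp D a) b) c) p) :
    ∃ O, IsOctad D O ∧ a ∈ O ∧ b ∈ O ∧ c ∈ O ∧ p ∈ O ∧ q ∈ O := by
  classical
  set S := dperp (dperp (dperp D a) b) c with hSdef
  have hS := layer693 hD hB ha hb hc
  set L := ln S p q
  have hL5 : L.ncard = 5 := hS.lines.five p hp q hq
  have hLc : ∀ x ∈ L, ∀ y ∈ L, Commute x y := fun x hx y hy => by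
    rcases eq_or_ne x y with rfl | hne
    · exact Commute.refl _
    · exact (hS.lines.pair p hp q hq x hx y hy hne).1.2.2
  set O : Set G := insert a (insert b (insert c L)) with hOdef
  have hOmem : ∀ {x}, x ∈ O ↔ x = a ∨ x = b ∨ x = c ∨ x ∈ L := Iff.rfl
  have hsub : O ⊆ D := fun x hx => by
    rcases hOmem.1 hx with rfl | rfl | rfl | h
    exacts [ha, hb.1, hc.1.1, h.1.1.1.1]
  have hcard : O.ncard = 8 := by
    have nc : c ∉ L := fun h => h.1.2.1 rfl
    have nb : b ∉ insert c L := by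
      rintro (rfl | h)
      · exact hc.2.1 rfl
      · exact h.1.1.2.1 rfl
    have na : a ∉ insert b (insert c L) := by
      rintro (rfl | rfl | h)
      · exact hb.2.1 rfl
      · exact hc.1.2.1 rfl
      · exact h.1.1.1.2.1 rfl
    rw [hOdef, Set.ncard_insert_of_notMem na, Set.ncard_insert_of_notMem nb,
      Set.ncard_insert_of_notMem nc, hL5]
  have hcomm : ∀ x ∈ O, ∀ y ∈ O, Commute x y := by
    have h1 : ∀ y ∈ O, Commute a y ∧ Commute b y ∧ Commute c y := fun y hy => by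
      rcases hOmem.1 hy with rfl | rfl | rfl | h
      exacts [⟨Commute.refl _, hb.2.2.symm, hc.1.2.2.symm⟩,
        ⟨hb.2.2, Commute.refl _, hc.2.2.symm⟩, ⟨hc.1.2.2, hc.2.2, Commute.refl _⟩,
        ⟨h.1.1.1.2.2, h.1.1.2.2, h.1.2.2⟩]
    intro x hx y hy
    rcases hOmem.1 hx with rfl | rfl | rfl | h
    exacts [(h1 y hy).1, (h1 y hy).2.1, (h1 y hy).2.2, (hOmem.1 hy).elim
      (fun e => e ▸ h.1.1.1.2.2.symm) fun hy => hy.elim (fun e => e ▸ h.1.1.2.2.symm) fun hy =>
        hy.elim (fun e => e ▸ h.1.2.2.symm) fun hy => hLc x h y hy]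
  have h0 : ∀ v ∈ D, (∀ y ∈ ({a, b, c, p, q} : Set G), Commute v y) → ∀ y ∈ O, Commute v y :=
    fun v hv hvF y hy => (mem_line_iff24 hD hB ha hb hc hp hq (hsub hy)).2 (hOmem.1 hy) v hv hvF
  have hF0 : ({a, b, c, p, q} : Set G) ⊆ O := by
    rintro x (rfl | rfl | rfl | rfl | rfl)
    exacts [hOmem.2 (Or.inl rfl), hOmem.2 (Or.inr (Or.inl rfl)), hOmem.2 (Or.inr (Or.inr (Or.inl rfl))),
      hOmem.2 (Or.inr (Or.inr (Or.inr (mem_ln_left hp)))),
      hOmem.2 (Or.inr (Or.inr (Or.inr (mem_ln_right hq.1))))]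
  have hF05 : ({a, b, c, p, q} : Set G).ncard = 5 := by
    have n1 : a ≠ b := hb.2.1.symm
    have n2 : a ≠ c := hc.1.2.1.symm
    have n3 : a ≠ p := hp.1.1.2.1.symm
    have n4 : a ≠ q := hq.1.1.1.2.1.symm
    have n5 : b ≠ c := hc.2.1.symm
    have n6 : b ≠ p := hp.1.2.1.symm
    have n7 : b ≠ q := hq.1.1.2.1.symm
    have n8 : c ≠ p := hp.2.1.symm
    have n9 : c ≠ q := hq.1.2.1.symm
    have n10 : p ≠ q := hq.2.1.symm
    rw [Set.ncard_insert_of_notMem, Set.ncard_insert_of_notMem, Set.ncard_insert_of_notMem,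
      Set.ncard_pair n10] <;>
      simp [n1, n2, n3, n4, n5, n6, n7, n8, n9]
  have main : ∀ n : ℕ, ∀ F ⊆ O, F.ncard = 5 → (F \ {a, b, c, p, q}).ncard = n →
      ∀ v ∈ D, (∀ y ∈ F, Commute v y) → ∀ y ∈ O, Commute v y := by
    intro n
    induction n using Nat.strong_induction_on with
    | _ n ih =>
    intro F hF h5 hn v hv hvF
    by_cases hsame : ({a, b, c, p, q} : Set G) ⊆ F
    · exact h0 v hv fun y hy => hvF y (hsame hy)
    obtain ⟨r, hr0, hrF⟩ := Set.not_subset.1 hsame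
    obtain ⟨o, hoF, ho0⟩ : ∃ o ∈ F, o ∉ ({a, b, c, p, q} : Set G) := by
      by_contra hcon
      push Not at hcon
      exact hrF ((Set.eq_of_subset_of_ncard_le hcon (by rw [hF05, h5]) (Set.toFinite _)) ▸ hr0)
    -- the set with `o` replaced by `r`
    set F' := insert r (F \ {o}) with hF'
    have hr' : r ∉ F \ {o} := fun h => hrF h.1
    have h4 : (F \ {o}).ncard = 4 := by
      have := Set.ncard_sdiff_singleton_add_one hoF (Set.toFinite F)
      omega
    have hF'5 : F'.ncard = 5 := by rw [hF', Set.ncard_insert_of_notMem hr', h4]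
    have hF'O : F' ⊆ O := Set.insert_subset (hF0 hr0) fun y hy => hF hy.1
    have hlt : (F' \ {a, b, c, p, q}).ncard < n := by
      refine hn ▸ Set.ncard_lt_ncard ⟨?_, fun h => ?_⟩ (Set.toFinite _)
      · rintro y ⟨rfl | hy, hy0⟩
        · exact absurd hr0 hy0
        · exact ⟨hy.1, hy0⟩
      · rcases (h ⟨hoF, ho0⟩).1 with e | e
        · exact hrF (e ▸ hoF)
        · exact e.2 rfl
    have hih := ih _ hlt F' hF'O hF'5 rfl
    -- four elements of the common part
    obtain ⟨p', hp'⟩ : (F \ {o}).Nonempty := Set.nonempty_of_ncard_ne_zero (by omega)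
    obtain ⟨q', a', b', n12, n13, n23, he⟩ := Set.ncard_eq_three.1
      (show ((F \ {o}) \ {p'}).ncard = 3 by
        have := Set.ncard_sdiff_singleton_add_one hp' (Set.toFinite _); omega)
    have hq' : q' ∈ (F \ {o}) \ {p'} := he ▸ by simp
    have ha' : a' ∈ (F \ {o}) \ {p'} := he ▸ by simp
    have hb' : b' ∈ (F \ {o}) \ {p'} := he ▸ by simp
    have hO : ∀ {y}, y ∈ F \ {o} → y ∈ O := fun hy => hF hy.1
    have hrn : ∀ {y}, y ∈ F \ {o} → y ≠ r := fun hy e => hrF (e ▸ hy.1)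
    have hon : ∀ {y}, y ∈ F \ {o} → y ≠ o := fun hy e => hy.2 e
    have hmk : ∀ {x y}, x ∈ O → y ∈ O → y ≠ x → y ∈ dperp D x := fun hx hy h =>
      ⟨hsub hy, h, hcomm _ hx _ hy⟩
    have hrO := hF0 hr0
    have hb'' : b' ∈ dperp D a' := hmk (hO ha'.1) (hO hb'.1) n23.symm
    have hc' : r ∈ dperp (dperp D a') b' :=
      ⟨hmk (hO ha'.1) hrO (hrn ha'.1).symm, (hrn hb'.1).symm, hcomm _ (hO hb'.1) _ hrO⟩
    have hmem3 : ∀ {y}, y ∈ O → y ≠ a' → y ≠ b' → y ≠ r → y ∈ dperp (dperp (dperp D a') b') r :=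
      fun hy e1 e2 e3 => ⟨⟨hmk (hO ha'.1) hy e1, e2, hcomm _ (hO hb'.1) _ hy⟩, e3,
        hcomm _ hrO _ hy⟩
    have hp'' : p' ∈ dperp (dperp (dperp D a') b') r :=
      hmem3 (hO hp') (Ne.symm ha'.2) (Ne.symm hb'.2) (hrn hp')
    have hq'' : q' ∈ dperp (dperp (dperp (dperp D a') b') r) p' :=
      ⟨hmem3 (hO hq'.1) n12 n13 (hrn hq'.1), hq'.2, hcomm _ (hO hp') _ (hO hq'.1)⟩
    have ho' : o ∈ ln (dperp (dperp (dperp D a') b') r) p' q' := by
      refine ⟨hmem3 (hF hoF) (hon ha'.1).symm (hon hb'.1).symm fun e => hrF (e ▸ hoF), ?_⟩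
      intro y hy k1 k2
      refine hih y hy.1.1.1 ?_ o (hF hoF)
      intro w hw
      rcases hw with rfl | hw
      · exact hy.2.2.symm
      · rcases eq_or_ne w p' with rfl | hwp
        · exact k1
        · have : w ∈ ({q', a', b'} : Set G) := he ▸ ⟨hw, hwp⟩
          rcases this with rfl | rfl | rfl
          exacts [k2, hy.1.1.2.2.symm, hy.1.2.2.symm]
    have hvr : Commute v r := octad_exchange hD hB (hsub (hO ha'.1)) hb'' hc' hp'' hq'' ho'
      (hon hp').symm (hon hq'.1).symm hv (hvF _ ha'.1.1) (hvF _ hb'.1.1) (hvF _ hp'.1)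
      (hvF _ hq'.1.1) (hvF _ hoF)
    refine hih v hv ?_
    rintro y (rfl | hy)
    exacts [hvr, hvF y hy.1]
  exact ⟨O, ⟨hsub, hcard, hcomm, fun F hF h5 => main _ F hF h5 rfl⟩, hF0 (by simp), hF0 (by simp),
    hF0 (by simp), hF0 (by simp), hF0 (by simp)⟩

omit hZ in
/-- A member centralised by the common partners of five members of an octad lies in it. -/
theorem IsOctad.mem_of_centralised {O : Set G} (hO : IsOctad D O) {a b c p q x : G}
    (hnd : [a, b, c, p, q].Nodup) (hmem : ∀ y ∈ [a, b, c, p, q], y ∈ O) (hx : x ∈ D)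
    (h : ∀ v ∈ D, (∀ y ∈ O, Commute v y) → Commute v x) : x ∈ O := by
  simp only [List.nodup_cons, List.mem_cons, List.not_mem_nil, or_false, not_or, List.nodup_nil,
    not_false_iff, and_true] at hnd
  obtain ⟨⟨nab, nac, nap, naq⟩, ⟨nbc, nbp, nbq⟩, ⟨ncp, ncq⟩, npq⟩ := hnd
  have hm : ∀ {y}, y ∈ [a, b, c, p, q] → y ∈ O := fun hy => hmem _ hy
  have ha : a ∈ O := hm (by simp)
  have hb : b ∈ O := hm (by simp)
  have hc : c ∈ O := hm (by simp)
  have hp : p ∈ O := hm (by simp)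
  have hq : q ∈ O := hm (by simp)
  have hb' : b ∈ dperp D a := ⟨hO.sub hb, Ne.symm nab, hO.comm _ ha _ hb⟩
  have hc' : c ∈ dperp (dperp D a) b :=
    ⟨⟨hO.sub hc, Ne.symm nac, hO.comm _ ha _ hc⟩, Ne.symm nbc, hO.comm _ hb _ hc⟩
  have h3 : ∀ {y}, y ∈ O → y ≠ a → y ≠ b → y ≠ c → y ∈ dperp (dperp (dperp D a) b) c :=
    fun hy e1 e2 e3 => ⟨⟨⟨hO.sub hy, e1, hO.comm _ ha _ hy⟩, e2, hO.comm _ hb _ hy⟩, e3,
      hO.comm _ hc _ hy⟩
  have hp' := h3 hp (Ne.symm nap) (Ne.symm nbp) (Ne.symm ncp)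
  have hq' : q ∈ dperp (dperp (dperp (dperp D a) b) c) p :=
    ⟨h3 hq (Ne.symm naq) (Ne.symm nbq) (Ne.symm ncq), Ne.symm npq, hO.comm _ hp _ hq⟩
  have hfive : ({a, b, c, p, q} : Set G).ncard = 5 := by
    rw [Set.ncard_insert_of_notMem, Set.ncard_insert_of_notMem, Set.ncard_insert_of_notMem,
      Set.ncard_pair npq] <;>
      simp [nab, nac, nap, naq, nbc, nbp, nbq, ncp, ncq]
  have hF : ({a, b, c, p, q} : Set G) ⊆ O := by
    rintro y (rfl | rfl | rfl | rfl | rfl) <;> assumption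
  have key : ∀ {y}, y ∈ D → (∀ v ∈ D, (∀ w ∈ O, Commute v w) → Commute v y) →
      y ∈ insert a (insert b (insert c (ln (dperp (dperp (dperp D a) b) c) p q))) := fun hy hh =>
    (mem_line_iff24 hD hB (hO.sub ha) hb' hc' hp' hq' hy).1 fun v hv hvF =>
      hh v hv fun w hw => hO.closed _ hF hfive v hv hvF w hw
  have e : O = insert a (insert b (insert c (ln (dperp (dperp (dperp D a) b) c) p q))) := by
    refine Set.eq_of_subset_of_ncard_le (fun y hy => key (hO.sub hy) fun v hv hvw => hvw y hy) ?_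
      (Set.toFinite _)
    rw [hO.card]
    refine (Set.ncard_insert_le _ _).trans ?_
    have h1 := Set.ncard_insert_le b (insert c (ln (dperp (dperp (dperp D a) b) c) p q))
    have h2 := Set.ncard_insert_le c (ln (dperp (dperp (dperp D a) b) c) p q)
    have h3 := (layer693 hD hB (hO.sub ha) hb' hc').lines.five p hp' q hq'
    omega
  rw [e]
  exact key hx h

end Cfsg.Agent.ThreeTrans
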