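import Cfsg.Agent.ThreeTrans.PairM23
import Cfsg.Agent.ThreeTrans.LayerM24
import Cfsg.Agent.ThreeTrans.PrimeLargeM24
import Cfsg.Agent.ThreeTrans.PairCentralizer
import Cfsg.Agent.Layer.FStar

/-!
# Type M(24): three commuting members and their centraliser in the derived group
-/

set_option autoImplicit false

open Cfsg
open scoped commutatorElement Pointwise

universe u

namespace Cfsg.Agent.ThreeTrans

/-- A normal quasisimple subgroup containing its centraliser is the generalized Fitting subgroup. -/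
theorem genFitting_eq_of_qs {H : Type*} [Group H] [Finite H] {K : Subgroup H} [K.Normal]
    (hK : IsQuasisimple K) (hc : Subgroup.centralizer (K : Set H) ≤ K) :
    generalizedFittingSubgroup H = K := by
  have hKc : IsComponent K := ⟨Subgroup.Normal.isSubnormal inferInstance, hK⟩
  have hlay : layer H = K := by
    refine le_antisymm (sSup_le fun L hL => ?_) (Layer.component_le_layer hKc)
    rcases eq_or_ne L K with rfl | hne
    · exact le_rfl
    · exact (Subgroup.commutator_eq_bot_iff_le_centralizer.1 (Layer.components_commute hL hKc hne)).trans hc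
  refine le_antisymm ?_ ((Layer.component_le_layer hKc).trans Layer.layer_le_generalizedFitting)
  refine sup_le hlay.le ?_
  exact (hlay ▸ Layer.fitting_le_centralizer_layer (G := H)).trans hc

/-- Every automorphism group of PSU(6, 2) has order six times the group. -/
theorem card_mulAut_psu_six {F : Type} [Field F] [Fintype F] (hF : Fintype.card F = 4) :
    Nat.card (MulAut (PSU 6 F 2)) = 6 * Nat.card (PSU 6 F 2) := by
  haveI : CharP F 2 := charP_of_card_eq_prime_pow (f := 2) (by rw [hF]; norm_num)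
  haveI : Fact (Nat.Prime 2) := ⟨Nat.prime_two⟩
  obtain ⟨σ, hu⟩ := AutPSU.exists_uctx (F := F) (q := 2) (by rw [hF]; norm_num)
  letI : Algebra (ZMod 2) F := ZMod.algebra F 2
  have hr : Module.finrank (ZMod 2) F = 2 := by
    have h := Module.card_eq_pow_finrank (K := ZMod 2) (V := F)
    rw [hF, ZMod.card] at h
    exact (Nat.pow_right_injective le_rfl (show 2 ^ 2 = 2 ^ _ from h)).symm
  rw [AutPSU.card_mulAut hu 2 (by norm_num) (by norm_num), RankOne.card_ringAut_eq_finrank, hr]
  norm_num

/-- The subgroup generated by two commuting members. -/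
theorem card_closure_pair_le {G : Type*} [Group G] [Finite G] {D : Set G}
    (hT : IsThreeTranspositionSet D) {d b : G} (hd : d ∈ D) (hb : b ∈ D) (hc : Commute d b) :
    Nat.card ↥(Subgroup.closure ({d, b} : Set G)) ≤ 4 := by
  set V := Subgroup.closure ({d, b} : Set G)
  have hVeq : V = Subgroup.zpowers d ⊔ Subgroup.zpowers b := by
    show Subgroup.closure ({d, b} : Set G) = _
    rw [← Set.singleton_union, Subgroup.closure_union, Subgroup.zpowers_eq_closure,
      Subgroup.zpowers_eq_closure]
  have hn : Subgroup.zpowers d ≤ Subgroup.normalizer ((Subgroup.zpowers b : Subgroup G) : Set G) := by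
    refine le_trans ?_ (Subgroup.centralizer_le_normalizer _)
    rw [Subgroup.zpowers_le, Subgroup.mem_centralizer_iff]
    intro z hz
    obtain ⟨m, rfl⟩ := Subgroup.mem_zpowers_iff.1 hz
    exact (hc.symm.zpow_left m).eq
  calc Nat.card V = Nat.card ↑((V : Subgroup G) : Set G) := rfl
    _ = Nat.card ↑((Subgroup.zpowers d : Set G) * (Subgroup.zpowers b : Set G)) := by
      rw [hVeq, Subgroup.coe_mul_of_left_le_normalizer_right _ _ hn]
    _ ≤ Nat.card (Subgroup.zpowers d) * Nat.card (Subgroup.zpowers b) := Set.natCard_mul_le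
    _ = 4 := by rw [Nat.card_zpowers, Nat.card_zpowers, hT.1 d hd, hT.1 b hb]

variable {G : Type u} [Group G] [Finite G] {D : Set G}
  {X : Type u} [Group X] [Finite X] {E : Set X}
  (hD : IsThreeTranspositionGroup D) (hZ : Subgroup.center G = ⊥) (hB : M24Base D E)

include hD hZ hB

omit hZ in
/-- A permutation-inducing element of the derived group exchanging two of three members. -/
theorem exists_swap_triple24 (hpart : ∀ a ∈ D, ∀ p ∈ dperp D a, ∀ q ∈ dperp D a, Commute p q → p ≠ q →
      ∃ w ∈ dperp D a, ¬ Commute w p ∧ ¬ Commute w q)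
    {a b c : G} (ha : a ∈ D) (hb : b ∈ dperp D a) (hc : c ∈ dperp (dperp D a) b) :
    ∃ g ∈ commutator G, g * a * g⁻¹ = b ∧ g * b * g⁻¹ = a ∧ g * c * g⁻¹ = c := by
  obtain ⟨w, hw, hwa, hwb⟩ := hpart c hc.1.1 a ⟨ha, hc.1.2.1.symm, hc.1.2.2.symm⟩ b
    ⟨hb.1, hc.2.1.symm, hc.2.2.symm⟩ hb.2.2 hb.2.1.symm
  have hT := hD.1
  have hwinv := inv_eq hT hw.1
  have hbra := braid hT hw.1 ha hwa
  have hbrb := braid hT hw.1 hb.1 hwb
  have hab : a * b = b * a := hb.2.2.eq
  have aa := fun x => mul_self_mul hT ha x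
  have bb := fun x => mul_self_mul hT hb.1 x
  have ww := fun x => mul_self_mul hT hw.1 x
  set g := w * (a * b) * w with hg
  have hginv : g⁻¹ = g := by
    rw [hg, mul_inv_rev, mul_inv_rev, mul_inv_rev, hwinv, inv_eq hT ha, inv_eq hT hb.1, hab]
    simp only [mul_assoc]
  have hswap1 : g * a * g⁻¹ = b := by
    calc g * a * g⁻¹ = g * a * g := by rw [hginv]
      _ = w * (a * b) * (w * a * w) * (a * b) * w := by simp only [hg, mul_assoc]
      _ = w * (a * b) * (a * w * a) * (a * b) * w := by rw [hbra]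
      _ = w * (b * a) * (a * w * a) * (a * b) * w := by rw [hab]
      _ = w * (b * w * b) * w := by simp only [mul_assoc, aa]
      _ = w * (w * b * w) * w := by rw [← hbrb]
      _ = b := by
        simp only [mul_assoc, ww]
        rw [mul_self hT hw.1, mul_one]
  have hswap2 : g * b * g⁻¹ = a := by
    rw [← hswap1, hginv]
    have : g * g = 1 := by nth_rewrite 2 [← hginv]; exact mul_inv_cancel g
    simp only [← mul_assoc, this, one_mul]
    simp only [mul_assoc, this, mul_one]
  refine ⟨g, ?_, hswap1, hswap2, ?_⟩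
  · rw [hg, show w * (a * b) * w = (w * a) * (b * w) by group]
    exact mul_mem (mul_mem_commutator hB.cls hw.1 ha) (mul_mem_commutator hB.cls hb.1 hw.1)
  · have : Commute g c :=
      (hw.2.2.symm.mul_left ((hc.1.2.2).mul_left hc.2.2)).mul_left hw.2.2.symm
    rw [this.eq, mul_inv_cancel_right]

/-- The joint centraliser of three commuting members inside the derived group is isomorphic to the
centraliser of a commuting pair in type M(23). -/
theorem triple_iso24 {a b c : G} (ha : a ∈ D) (hb : b ∈ dperp D a) (hc : c ∈ dperp (dperp D a) b) :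
    ∃ u v : X, u ∈ E ∧ v ∈ dperp E u ∧
      Nonempty (↥(commutator G ⊓ Subgroup.centralizer ({a, b, c} : Set G)) ≃* ↥(pairCen u v)) := by
  classical
  obtain ⟨hidx, hnot⟩ := commutator_index24 hD hZ hB
  obtain ⟨χ, ψ, hχ, hker, hagree, hiso⟩ := (cover24 hD hZ hB ha).maps
  set L := commutator G
  set K := L ⊓ Subgroup.centralizer ({a, b, c} : Set G)
  have hm : ∀ {u}, u ∈ dperp D a → u ∈ Subgroup.centralizer ({a} : Set G) := fun hu =>
    Subgroup.mem_centralizer_singleton_iff.2 hu.2.2.symm.eq
  have hKa : K ≤ Subgroup.centralizer ({a} : Set G) := fun g hg =>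
    Subgroup.mem_centralizer_singleton_iff.2 (Subgroup.mem_centralizer_iff.1 hg.2 a (by simp)).symm
  have hP : ∀ g : ↥(Subgroup.centralizer ({a} : Set G)), ∀ u, u ∈ dperp D a →
      (Commute (χ g) (ψ u) ↔ Commute (g : G) u) := by
    intro g u hu
    rw [show ψ u = χ ⟨u, hm hu⟩ from hagree ⟨u, hm hu⟩ hu]
    refine ⟨fun h => ?_, fun h => (show Commute g ⟨u, hm hu⟩ from Subtype.ext h.eq).map χ⟩
    have hga : (g : G) * a * (g : G)⁻¹ = a := by
      rw [Subgroup.mem_centralizer_singleton_iff.1 g.2, mul_inv_cancel_right]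
    have h1 : χ (g * ⟨u, hm hu⟩ * g⁻¹) = χ ⟨u, hm hu⟩ := by
      rw [map_mul, map_mul, map_inv, h.eq, mul_inv_cancel_right]
    have hgu : (g : G) * u * (g : G)⁻¹ ∈ dperp D a := by
      have h0 := dperp_conj hD.2.1 (g : G) hu
      rwa [hga] at h0
    rw [← hagree (g * ⟨u, hm hu⟩ * g⁻¹) hgu, ← hagree ⟨u, hm hu⟩ hu] at h1
    exact mul_inv_eq_iff_eq_mul.1 (hiso.bij.injOn hgu hu h1)
  let f : ↥K →* ↥(pairCen (ψ b) (ψ c)) := (χ.comp (Subgroup.inclusion hKa)).codRestrict _ fun g =>
    mem_pairCen.2 ⟨(hP _ b hb).2 (Subgroup.mem_centralizer_iff.1 g.2.2 b (by simp)).symm,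
      (hP _ c hc.1).2 (Subgroup.mem_centralizer_iff.1 g.2.2 c (by simp)).symm⟩
  have hf : Function.Bijective f := by
    refine ⟨(injective_iff_map_eq_one f).2 fun g hg => ?_, fun p => ?_⟩
    · rcases (hker _).1 (congrArg Subtype.val hg) with h | h
      · exact Subtype.ext h
      · refine absurd ?_ (hnot a ha)
        have h' : (g : G) = a := h
        exact h' ▸ g.2.1
    · obtain ⟨g, hg⟩ := hχ p
      have hmemK : ∀ y : ↥(Subgroup.centralizer ({a} : Set G)), χ y = p → (y : G) ∈ L → (y : G) ∈ K :=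
        fun y hy hyL => ⟨hyL, Subgroup.mem_centralizer_iff.2 (by
          intro z hz
          simp only [Set.mem_insert_iff, Set.mem_singleton_iff] at hz
          rcases hz with h | h | h <;> rw [h]
          · exact (Subgroup.mem_centralizer_singleton_iff.1 y.2).symm
          · exact ((hP y b hb).1 (hy ▸ (mem_pairCen.1 p.2).1)).eq.symm
          · exact ((hP y c hc.1).1 (hy ▸ (mem_pairCen.1 p.2).2)).eq.symm)⟩
      by_cases hgL : (g : G) ∈ L
      · exact ⟨⟨g, hmemK g hg hgL⟩, Subtype.ext hg⟩
      · set a' : ↥(Subgroup.centralizer ({a} : Set G)) := ⟨a, Subgroup.mem_centralizer_singleton_iff.2 rfl⟩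
        have ha1 : χ a' = 1 := (hker a').2 (Or.inr rfl)
        have hgaL : ((g * a' : ↥(Subgroup.centralizer ({a} : Set G))) : G) ∈ L := by
          rw [Subgroup.coe_mul, Subgroup.mul_mem_iff_of_index_two hidx]
          exact iff_of_false hgL (hnot a ha)
        have hga1 : χ (g * a') = p := by rw [map_mul, hg, ha1, mul_one]
        exact ⟨⟨_, hmemK _ hga1 hgaL⟩, Subtype.ext hga1⟩
  exact ⟨ψ b, ψ c, hiso.bij.mapsTo hb, (hiso.restrict hb).bij.mapsTo hc, ⟨MulEquiv.ofBijective f hf⟩⟩

end Cfsg.Agent.ThreeTrans
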