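import Cfsg.Agent.Invol.Pair
import Cfsg.Agent.Coprime.Basic
import Cfsg.Agent.Core.PCore
import Cfsg.Prelude.Def_Solvable
import Mathlib.GroupTheory.Sylow

/-!
A class of involutions with all products of `p`-power order, `p` odd, lies in `O_p(G) d`, given
the conclusion of the Z*-theorem.
-/

set_option autoImplicit false

open Cfsg Subgroup

namespace Cfsg.Agent.ThreeTrans

variable {G : Type*} [Group G] [Finite G] {p : ℕ} {d : G}

/-- An involution with products of `p`-power order with its conjugates is isolated in any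
2-subgroup containing it. -/
theorem eq_of_mem_two_of_primePow (hp : p.Prime) (hp2 : p ≠ 2)
    (hprod : ∀ a ∈ conjugatesOf d, ∀ b ∈ conjugatesOf d, ∃ k : ℕ, orderOf (a * b) = p ^ k)
    (hd : orderOf d = 2) {P : Subgroup G} (hP : IsPGroup 2 P) (hdP : d ∈ P) (g : G)
    (hg : g * d * g⁻¹ ∈ P) : g * d * g⁻¹ = d := by
  have : Fact (Nat.Prime 2) := ⟨Nat.prime_two⟩
  obtain ⟨k, hk⟩ := hprod (g * d * g⁻¹) ((isConj_iff.2 ⟨g, rfl⟩)) d
    mem_conjugatesOf_self
  obtain ⟨m, hm⟩ := hP.exists_orderOf_eq_pow ⟨_, mul_mem hg hdP⟩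
  rw [Subgroup.orderOf_mk, hk] at hm
  have hk0 : p ^ k = 1 :=
    Nat.eq_one_of_dvd_coprimes (((Nat.coprime_primes hp Nat.prime_two).2 hp2).pow k m) dvd_rfl
      (hm ▸ dvd_rfl)
  rw [hk0, orderOf_eq_one_iff, mul_eq_one_iff_eq_inv, Invol.inv_eq_self hd] at hk
  exact hk

theorem mul_mem_pCore_of_primePow (hp : p.Prime) (hp2 : p ≠ 2) (hd : orderOf d = 2)
    (hprod : ∀ a ∈ conjugatesOf d, ∀ b ∈ conjugatesOf d, ∃ k : ℕ, orderOf (a * b) = p ^ k)
    {N : Subgroup G} (hN : N.Normal) (hodd : Odd (Nat.card N))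
    (hc : ∀ g : G, d * g * d⁻¹ * g⁻¹ ∈ N) :
    ∀ a ∈ conjugatesOf d, ∀ b ∈ conjugatesOf d, a * b ∈ pCore p G := by
  have : Fact p.Prime := ⟨hp⟩
  set A := Subgroup.zpowers d
  have hAN : A ≤ normalizer (N : Set G) := by
    rw [normalizer_eq_top_iff.2 hN]; exact le_top
  have hA : Nat.card A = 2 := by rw [Nat.card_zpowers, hd]
  have hcop : (Nat.card A).Coprime (Nat.card N) := by
    rw [hA]; exact Nat.coprime_two_left.2 hodd
  have hsolv : Group.IsSolvable A ∨ Group.IsSolvable N := Or.inl inferInstance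
  have hdd := Invol.mul_self_eq_one hd
  have hdi := Invol.inv_eq_self hd
  have hmem : ∀ x ∈ N, (x * d * x⁻¹) ∈ conjugatesOf d := fun x _ =>
    (isConj_iff.2 ⟨x, rfl⟩)
  -- a conjugate of `d` is conjugate to it by an element of `N`
  have hclass : ∀ a ∈ conjugatesOf d, ∃ n ∈ N, a = n * d * n⁻¹ := by
    intro a ha
    obtain ⟨g, rfl⟩ := isConj_iff.1 (ha)
    have hy : orderOf (g * d * g⁻¹) = 2 := by rw [Invol.orderOf_conj, hd]
    obtain ⟨k, hk⟩ := hprod d mem_conjugatesOf_self _ ((isConj_iff.2 ⟨g, rfl⟩))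
    have ho : Odd (orderOf (d * (g * d * g⁻¹))) := by
      rw [hk]; exact (hp.odd_of_ne_two hp2).pow
    obtain ⟨c, hc', hcd⟩ := Invol.exists_conj_of_odd hd hy ho
    have hN' : d * (g * d * g⁻¹) ∈ N := by
      have := hc g
      rwa [hdi, show d * g * d * g⁻¹ = d * (g * d * g⁻¹) by group] at this
    obtain ⟨i, rfl | rfl⟩ := Invol.closure_mem hd hy hc'
    · exact ⟨_, zpow_mem hN' i, hcd.symm⟩
    · refine ⟨_, zpow_mem hN' (-i), hcd.symm.trans ?_⟩
      have h := Invol.zpow_mul_self hd hy (-i)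
      rw [neg_neg] at h
      rw [← h]
      generalize (d * (g * d * g⁻¹)) ^ (-i) = w
      rw [mul_inv_rev, hdi]
      simp only [mul_assoc, Invol.mul_mul_cancel_self hd]
  -- `d` centralises a Sylow subgroup of `N` for each other prime
  set C : Subgroup N := (Subgroup.centralizer ({d} : Set G)).subgroupOf N with hC
  have hq : ∀ q : ℕ, q.Prime → q ≠ p → ¬ q ∣ C.index := by
    intro q hq hqp
    have : Fact q.Prime := ⟨hq⟩
    obtain ⟨Q, hQ⟩ := Coprime.exists_invariant_sylow hAN hcop hsolv q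
    refine fun h => Q.not_dvd_index (h.trans (Subgroup.index_dvd_of_le ?_))
    intro x hx
    rw [hC, Subgroup.mem_subgroupOf, Subgroup.mem_centralizer_singleton_iff]
    set z : G := d * (x : G) * d * (x : G)⁻¹ with hz
    have hxQ : (x : G) ∈ (Q : Subgroup N).map N.subtype := ⟨x, hx, rfl⟩
    have hzQ : z ∈ (Q : Subgroup N).map N.subtype := by
      have h1 := (Subgroup.mem_normalizer_iff.1 (hQ (Subgroup.mem_zpowers d)) (x : G)).1 hxQ
      rw [hdi] at h1
      exact mul_mem h1 (inv_mem hxQ)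
    obtain ⟨m, hm⟩ := (Q.isPGroup'.map N.subtype).exists_orderOf_eq_pow ⟨z, hzQ⟩
    rw [Subgroup.orderOf_mk] at hm
    obtain ⟨k, hk⟩ := hprod d mem_conjugatesOf_self _ (hmem _ x.2)
    rw [show d * ((x : G) * d * (x : G)⁻¹) = z by rw [hz]; group, hm] at hk
    have h1 : q ^ m = 1 :=
      Nat.eq_one_of_dvd_coprimes (((Nat.coprime_primes hq hp).2 hqp).pow m k) dvd_rfl (hk ▸ dvd_rfl)
    rw [h1, orderOf_eq_one_iff, hz, mul_inv_eq_one] at hm
    calc (x : G) * d = d * (x : G) * d * d := by rw [hm]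
      _ = d * x := by rw [mul_assoc, hdd, mul_one]
  -- hence the class is one orbit of a Sylow `p`-subgroup
  obtain ⟨P, hP⟩ := Coprime.exists_invariant_sylow hAN hcop hsolv p
  have horb : ∀ n : N, ∃ x ∈ (P : Subgroup N), (n : G) * d * (n : G)⁻¹ = (x : G) * d * (x : G)⁻¹ := by
    have hdvd : C.index ∣ C.relIndex (P : Subgroup N) := by
      have h1 : C.index ∣ (C ⊓ (P : Subgroup N)).index := Subgroup.index_dvd_of_le inf_le_left
      rw [← Subgroup.relIndex_mul_index (inf_le_right : C ⊓ (P : Subgroup N) ≤ P),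
        Subgroup.inf_relIndex_right] at h1
      refine Nat.Coprime.dvd_of_dvd_mul_right (Nat.coprime_of_dvd fun q hqq hq1 hq2 => ?_) h1
      rcases eq_or_ne q p with rfl | hne
      · exact P.not_dvd_index hq2
      · exact hq q hqq hne hq1
    let f : (P : Subgroup N) ⧸ C.subgroupOf (P : Subgroup N) → N ⧸ C :=
      Quotient.map' (fun y => (y : N)) fun a b h => by
        rw [QuotientGroup.leftRel_apply, Subgroup.mem_subgroupOf] at h
        rw [QuotientGroup.leftRel_apply]
        simpa using h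
    have hf : Function.Injective f := by
      intro a b
      induction a, b using Quotient.inductionOn₂' with
      | h a b =>
        intro h
        have h' := QuotientGroup.eq.1 h
        refine QuotientGroup.eq.2 ?_
        rw [Subgroup.mem_subgroupOf]
        simpa using h'
    have hpos : 0 < C.relIndex (P : Subgroup N) := Nat.card_pos
    have hsurj := (hf.bijective_of_nat_card_le (Nat.le_of_dvd hpos hdvd)).2
    intro n
    obtain ⟨x, hx⟩ := hsurj (n : N ⧸ C)
    induction x using Quotient.inductionOn' with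
    | h x =>
      have h := QuotientGroup.eq.1 hx
      rw [hC, Subgroup.mem_subgroupOf, Subgroup.mem_centralizer_singleton_iff] at h
      simp only [Subgroup.coe_mul, Subgroup.coe_inv] at h
      refine ⟨(x : N), x.2, ?_⟩
      set c := ((x : N) : G)⁻¹ * (n : G) with hc'
      calc (n : G) * d * (n : G)⁻¹ = ((x : N) : G) * (c * d * c⁻¹) * ((x : N) : G)⁻¹ := by
            rw [hc']; group
        _ = _ := by rw [h, mul_inv_cancel_right]
  -- the products lie in the image of `P`, and they generate a normal subgroup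
  set R : Subgroup G := (P : Subgroup N).map N.subtype with hR
  have hsub : ∀ a ∈ conjugatesOf d, a * d ∈ R := by
    intro a ha
    obtain ⟨n, hn, rfl⟩ := hclass a ha
    obtain ⟨x, hx, hxe⟩ := horb ⟨n, hn⟩
    have hxR : ((x : N) : G) ∈ R := ⟨x, hx, rfl⟩
    have h1 := (Subgroup.mem_normalizer_iff.1 (hP (Subgroup.mem_zpowers d)) _).1 (inv_mem hxR)
    rw [hdi] at h1
    rw [show n * d * n⁻¹ * d = (x : G) * (d * (x : G)⁻¹ * d) by
      simp only [] at hxe
      rw [hxe]; simp only [mul_assoc]]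
    exact mul_mem hxR h1
  have hprodR : ∀ a ∈ conjugatesOf d, ∀ b ∈ conjugatesOf d, a * b ∈ R := by
    intro a ha b hb
    obtain ⟨g, hg⟩ := isConj_iff.1 (hb)
    have hbi : b⁻¹ = b := Invol.inv_eq_self (by rw [← hg, Invol.orderOf_conj, hd])
    rw [show a * b = a * d * (b * d)⁻¹ by
      rw [mul_inv_rev, hdi, hbi]; simp only [mul_assoc, Invol.mul_mul_cancel_self hd]]
    exact mul_mem (hsub a ha) (inv_mem (hsub b hb))
  set T : Set G := {x | ∃ a ∈ conjugatesOf d, ∃ b ∈ conjugatesOf d, a * b = x} with hT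
  have hle : Subgroup.normalClosure T ≤ R := by
    refine (Subgroup.closure_le _).2 ?_
    intro x hx
    obtain ⟨y, ⟨a, ha, b, hb, rfl⟩, hyx⟩ := Group.mem_conjugatesOfSet_iff.1 hx
    obtain ⟨g, rfl⟩ := isConj_iff.1 hyx
    rw [show g * (a * b) * g⁻¹ = g * a * g⁻¹ * (g * b * g⁻¹) by group]
    exact hprodR _ (((ha).trans (isConj_iff.2 ⟨g, rfl⟩)))
      _ (((hb).trans (isConj_iff.2 ⟨g, rfl⟩)))
  intro a ha b hb
  exact Core.le_pCore ((P.isPGroup'.map N.subtype).to_le hle)
    (Subgroup.subset_normalClosure ⟨a, ha, b, hb, rfl⟩)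

end Cfsg.Agent.ThreeTrans
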