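import Cfsg.Agent.ThreeTrans.WidthOne
import Cfsg.Agent.ThreeTrans.SmallPerm

/-!
# Finite groups without elements of order above three
-/

set_option autoImplicit false

open Cfsg

namespace Cfsg.Agent.ThreeTrans

theorem isSolvable_of_sq_or_cube {M : Type*} [Group M] [Finite M]
    (h : ∀ m : M, m ^ 2 = 1 ∨ m ^ 3 = 1) : Group.IsSolvable M := by
  classical
  have : Fact (Nat.Prime 3) := ⟨Nat.prime_three⟩
  have : Fact (Nat.Prime 2) := ⟨Nat.prime_two⟩
  set I : Set M := {m | m ≠ 1 ∧ m ^ 2 = 1} with hI
  have hTS : IsThreeTranspositionSet I :=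
    ⟨fun d hd => orderOf_eq_prime hd.2 hd.1, fun d _ e _ => h (d * e)⟩
  have hconj : ∀ g : M, ∀ d ∈ I, g * d * g⁻¹ ∈ I := fun g d hd =>
    ⟨fun hh => hd.1 (conj_eq_one_iff.1 hh), by rw [conj_pow, hd.2, mul_one, mul_inv_cancel]⟩
  -- an element commuting with a second one commutes with everything
  have key : ∀ u ∈ I, ∀ u' ∈ I, u ≠ u' → Commute u u' → ∀ v ∈ I, Commute u v := by
    intro u hu u' hu' hne hc v hv
    by_contra huv
    by_cases hu'v : Commute u' v
    · have hcz : Commute u' (u * v) := hc.symm.mul_right hu'v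
      rcases h (u' * (u * v)) with h2 | h3
      · rw [hcz.mul_pow, hu'.2, one_mul] at h2
        exact huv ((sq_eq_one_iff hTS hu hv).1 h2)
      · rw [hcz.mul_pow, cube_of_not_commute hTS hu hv huv, mul_one, pow_succ, hu'.2, one_mul] at h3
        exact hu'.1 h3
    · let φ := SmallPerm.hom (mul_self hTS hu) (mul_self hTS hv) (mul_self hTS hu')
        (braid hTS hv hu fun hh => huv hh.symm) hc.symm.eq (braid hTS hu' hv hu'v)
      have key : ∀ k ∈ ([2, 3] : List ℕ), ∃ g g' : Equiv.Perm (Fin 4),
          g * (SmallPerm.s4 0 * SmallPerm.s4 1 * SmallPerm.s4 2) ^ k * g⁻¹ *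
            (g' * (SmallPerm.s4 0 * SmallPerm.s4 1 * SmallPerm.s4 2) ^ k * g'⁻¹) =
            SmallPerm.s4 0 * SmallPerm.s4 2 := by decide +kernel
      have h0 : φ (SmallPerm.s4 0) = u := SmallPerm.hom_gen _ _ _ _ _ _ 0
      have h1 : φ (SmallPerm.s4 1) = v := SmallPerm.hom_gen _ _ _ _ _ _ 1
      have h2 : φ (SmallPerm.s4 2) = u' := SmallPerm.hom_gen _ _ _ _ _ _ 2
      have hbad : ∀ k ∈ ([2, 3] : List ℕ), (u * v * u') ^ k = 1 → False := by
        intro k hk hpow
        obtain ⟨g, g', hgg⟩ := key k hk
        have := congrArg φ hgg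
        simp only [map_mul, map_inv, map_pow, h0, h1, h2, hpow, mul_one, mul_inv_cancel, one_mul]
          at this
        exact hne ((eq_inv_of_mul_eq_one_left this.symm).trans (inv_eq hTS hu'))
      rcases h (u * v * u') with hh | hh
      · exact hbad 2 (by simp) hh
      · exact hbad 3 (by simp) hh
  by_cases hall : ∀ u ∈ I, ∀ v ∈ I, Commute u v
  · let T : Subgroup M :=
      { carrier := {m | m ^ 2 = 1}
        one_mem' := one_pow 2
        mul_mem' := by
          intro a b (ha : a ^ 2 = 1) (hb : b ^ 2 = 1)
          show (a * b) ^ 2 = 1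
          have hab : Commute a b := by
            by_cases ha1 : a = 1
            · rw [ha1]; exact Commute.one_left b
            by_cases hb1 : b = 1
            · rw [hb1]; exact Commute.one_right a
            exact hall a ⟨ha1, ha⟩ b ⟨hb1, hb⟩
          rw [hab.mul_pow, ha, hb, one_mul]
        inv_mem' := by
          intro a (ha : a ^ 2 = 1)
          show a⁻¹ ^ 2 = 1
          rw [inv_pow, ha, inv_one] }
    have hT : T.Normal := ⟨fun n hn g => by
      show (g * n * g⁻¹) ^ 2 = 1
      rw [conj_pow, show n ^ 2 = 1 from hn, mul_one, mul_inv_cancel]⟩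
    rw [Group.isSolvable_iff_subgroup_quotient T]
    constructor
    · have : IsPGroup 2 T := fun x => ⟨1, Subtype.ext (by rw [pow_one]; exact x.2)⟩
      have := this.isNilpotent
      infer_instance
    · have : IsPGroup 3 (M ⧸ T) := by
        intro q
        obtain ⟨m, rfl⟩ := QuotientGroup.mk'_surjective T q
        refine ⟨1, ?_⟩
        rw [pow_one]
        rcases h m with h2 | h3
        · rw [show QuotientGroup.mk' T m = 1 from (QuotientGroup.eq_one_iff m).2 h2, one_pow]
        · rw [← map_pow, h3, map_one]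
      have := this.isNilpotent
      infer_instance
  · push Not at hall
    obtain ⟨u₀, hu₀, v₀, hv₀, hnc⟩ := hall
    have hno : ∀ a ∈ I, ∀ b ∈ I, Commute a b → a = b := by
      intro a ha b hb hab
      by_contra hne
      have haall := key a ha b hb hne hab
      have hau : u₀ ≠ a := fun hh => hnc (by rw [hh]; exact haall v₀ hv₀)
      exact hnc (key u₀ hu₀ a ha hau (haall u₀ hu₀).symm v₀ hv₀)
    have hcube : IsCubeSet I :=
      { conj := hconj
        ord := hTS.1
        cube := fun a ha b hb => by
          rcases eq_or_ne a b with rfl | hne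
          · rw [mul_self hTS ha, one_pow]
          · exact cube_of_not_commute hTS ha hb fun hab => hne (hno a ha b hb hab) }
    set P := pCore 3 M with hP
    rw [Group.isSolvable_iff_subgroup_quotient P]
    have hPp : IsPGroup 3 P := Core.pCore_isPGroup
    refine ⟨have := hPp.isNilpotent; inferInstance, ?_⟩
    let π := QuotientGroup.mk' P
    have hI' : ∀ d ∈ I, π d = π u₀ := fun d hd => by
      apply QuotientGroup.eq.2
      rw [inv_eq hTS hd]
      exact hcube.mul_mem_pCore hd hu₀
    have hu1 : π u₀ ≠ 1 := fun hh => hu₀.1 (eq_one_of_mem_pGroup hPp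
      ((QuotientGroup.eq_one_iff u₀).1 hh) hu₀.2 (by norm_num))
    have hcen : ∀ m, Commute (π m) (π u₀) := by
      intro m
      have := hI' _ (hconj m u₀ hu₀)
      rw [map_mul, map_mul, map_inv, mul_inv_eq_iff_eq_mul] at this
      exact this
    have hexp : ∀ q : M ⧸ P, q ^ 2 = 1 := by
      intro q
      obtain ⟨m, rfl⟩ := QuotientGroup.mk'_surjective P q
      rcases h m with h2 | h3
      · rw [← map_pow, h2, map_one]
      · by_contra hne
        change (π m) ^ 2 ≠ 1 at hne
        have hm3 : π m ^ 3 = 1 := by rw [← map_pow, h3, map_one]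
        have hu2 : π u₀ ^ 2 = 1 := by rw [← map_pow, hu₀.2, map_one]
        rcases h (m * u₀) with hh | hh
        all_goals
          have := congrArg π hh
          rw [map_pow, map_mul, (hcen m).mul_pow, map_one] at this
        · rw [hu2, mul_one] at this
          exact hne this
        · rw [hm3, one_mul, pow_succ, hu2, one_mul] at this
          exact hu1 this
    have : IsPGroup 2 (M ⧸ P) := fun q => ⟨1, by simpa using hexp q⟩
    have := this.isNilpotent
    infer_instance

end Cfsg.Agent.ThreeTrans
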