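import Cfsg.Agent.ThreeTrans.Connected
import Cfsg.Agent.ThreeTrans.Exponent
import Cfsg.Agent.Layer.Subnormal

/-!
# The transpositions commuting with a given one form one class of the group they generate

`G` has a perfect derived group, containing no nontrivial solvable normal subgroup of `G`. Assume the noncommuting graph on
`dperp D d` is disconnected. Its largest component is unique and this partitions `D` into blocks; two
blocks commute totally or not at all, members of one block act alike on the blocks, and the products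
within a block would generate a normal subgroup with a nontrivial solvable radical.
-/

set_option autoImplicit false

open Cfsg
open scoped commutatorElement

namespace Cfsg.Agent.ThreeTrans

variable {G : Type*} [Group G] {D : Set G}

/-- The members commuting with `d`, other than `d`. -/
def dperp (D : Set G) (d : G) : Set G := {y | y ∈ D ∧ y ≠ d ∧ Commute d y}

/-- The noncommuting component of `y` in `dperp D d`. -/
def dcomp (D : Set G) (d y : G) : Set G :=
  {z | Relation.ReflTransGen (fun u v => (u ∈ dperp D d ∧ v ∈ dperp D d) ∧ ¬ Commute u v) y z}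

theorem dcomp_subset {d y : G} (hy : y ∈ dperp D d) : dcomp D d y ⊆ dperp D d := by
  intro z hz
  induction hz with
  | refl => exact hy
  | tail _ h _ => exact h.1.2

theorem dcomp_eq_of_mem {d y z : G} (h : z ∈ dcomp D d y) : dcomp D d z = dcomp D d y := by
  have hs : y ∈ dcomp D d z := by
    induction h with
    | refl => exact Relation.ReflTransGen.refl
    | tail _ h ih => exact ih.head ⟨⟨h.1.2, h.1.1⟩, fun hh => h.2 hh.symm⟩
  exact Set.ext fun w => ⟨fun hw => h.trans hw, fun hw => hs.trans hw⟩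

theorem commute_of_notMem_dcomp {d y z u : G} (hy : y ∈ dperp D d) (hz : z ∈ dperp D d)
    (hzy : z ∉ dcomp D d y) (hu : u ∈ dcomp D d y) : Commute u z := by
  by_contra h
  exact hzy (Relation.ReflTransGen.tail hu ⟨⟨dcomp_subset hy hu, hz⟩, h⟩)

theorem dperp_conj (hc : ∀ g : G, ∀ d ∈ D, g * d * g⁻¹ ∈ D) (g : G) {d y : G}
    (hy : y ∈ dperp D d) : g * y * g⁻¹ ∈ dperp D (g * d * g⁻¹) :=
  ⟨hc g y hy.1, fun h => hy.2.1 (mul_left_cancel (mul_right_cancel h)),
    (commute_conj g d y).2 hy.2.2⟩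

theorem image_dcomp (hc : ∀ g : G, ∀ d ∈ D, g * d * g⁻¹ ∈ D) (g d y : G) :
    (fun x => g * x * g⁻¹) '' dcomp D d y = dcomp D (g * d * g⁻¹) (g * y * g⁻¹) := by
  have one : ∀ (g d y z : G), z ∈ dcomp D d y →
      g * z * g⁻¹ ∈ dcomp D (g * d * g⁻¹) (g * y * g⁻¹) := by
    intro g d y z hz
    induction hz with
    | refl => exact Relation.ReflTransGen.refl
    | tail _ h ih =>
      exact ih.tail ⟨⟨dperp_conj hc g h.1.1, dperp_conj hc g h.1.2⟩,
        fun hh => h.2 ((commute_conj g _ _).1 hh)⟩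
  apply Set.ext
  intro w
  constructor
  · rintro ⟨z, hz, rfl⟩
    exact one g d y z hz
  · intro hw
    refine ⟨g⁻¹ * w * g, ?_, by group⟩
    have h1 := one g⁻¹ _ _ _ hw
    rw [show g⁻¹ * (g * d * g⁻¹) * g⁻¹⁻¹ = d by group,
      show g⁻¹ * (g * y * g⁻¹) * g⁻¹⁻¹ = y by group, inv_inv] at h1
    exact h1

/-- A component commuting with `z` lies in a component at `z`. -/
theorem dcomp_subset_dcomp {d y z : G} (hy : y ∈ dperp D d)
    (h : dcomp D d y ⊆ dperp D z) : dcomp D d y ⊆ dcomp D z y := by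
  intro w hw
  induction hw with
  | refl => exact Relation.ReflTransGen.refl
  | tail hpre hlast ih =>
    exact ih.tail ⟨⟨h hpre, h (hpre.tail hlast)⟩, hlast.2⟩

/-- `Δ` is a component of largest possible size at `d`. -/
def IsBigComp (D : Set G) (d : G) (Δ : Set G) : Prop :=
  (∃ y ∈ dperp D d, Δ = dcomp D d y) ∧
    ∀ d' ∈ D, ∀ y' ∈ dperp D d', (dcomp D d' y').ncard ≤ Δ.ncard

section Big

variable [Finite G] {d z : G} {Δ : Set G}

theorem IsBigComp.nonempty (h : IsBigComp D d Δ) : Δ.Nonempty := by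
  obtain ⟨⟨y, -, rfl⟩, -⟩ := h
  exact ⟨y, Relation.ReflTransGen.refl⟩

theorem IsBigComp.subset (h : IsBigComp D d Δ) : Δ ⊆ dperp D d := by
  obtain ⟨⟨y, hy, rfl⟩, -⟩ := h
  exact dcomp_subset hy

theorem IsBigComp.commute_rest (h : IsBigComp D d Δ) (hz : z ∈ dperp D d) (hzΔ : z ∉ Δ) {u : G}
    (hu : u ∈ Δ) : Commute u z := by
  obtain ⟨⟨y, hy, rfl⟩, -⟩ := h
  exact commute_of_notMem_dcomp hy hz hzΔ hu

/-- A member commuting with all of a largest component has it as a largest component. -/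
theorem IsBigComp.move (h : IsBigComp D d Δ) (hz : z ∈ D) (hzΔ : z ∉ Δ)
    (hc : ∀ u ∈ Δ, Commute u z) : IsBigComp D z Δ := by
  obtain ⟨⟨y, hy, rfl⟩, hmax⟩ := h
  have hsub : dcomp D d y ⊆ dperp D z := fun u hu =>
    ⟨(dcomp_subset hy hu).1, fun hh => hzΔ (hh ▸ hu), (hc u hu).symm⟩
  have hyz : y ∈ dperp D z := hsub Relation.ReflTransGen.refl
  refine ⟨⟨y, hyz, ?_⟩, hmax⟩
  exact Set.eq_of_subset_of_ncard_le (dcomp_subset_dcomp hy hsub) (hmax z hz y hyz) (Set.toFinite _)

theorem IsBigComp.conj (hconj : ∀ g : G, ∀ d ∈ D, g * d * g⁻¹ ∈ D) (h : IsBigComp D d Δ) (g : G) :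
    IsBigComp D (g * d * g⁻¹) ((fun x => g * x * g⁻¹) '' Δ) := by
  obtain ⟨⟨y, hy, rfl⟩, hmax⟩ := h
  refine ⟨⟨_, dperp_conj hconj g hy, image_dcomp hconj g d y⟩, fun d' hd' y' hy' => ?_⟩
  rw [Set.ncard_image_of_injective _ fun a b hh => mul_left_cancel (mul_right_cancel hh)]
  exact hmax d' hd' y' hy'

end Big

/-- A product of two members lies in the derived group. -/
theorem mul_mem_commutator (hD : IsThreeTranspositionClass D) {a b : G} (ha : a ∈ D) (hb : b ∈ D) :
    a * b ∈ commutator G := by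
  obtain ⟨g, rfl⟩ := class_isConj hD ha hb
  have h : a * (g * a * g⁻¹) = ⁅a, g⁆ := by
    rw [commutatorElement_def, inv_eq hD.1 ha]; simp only [mul_assoc]
  rw [h, commutator_def]
  exact Subgroup.commutator_mem_commutator (Subgroup.mem_top a) (Subgroup.mem_top g)

/-- Setting for the proof by contradiction: every `dperp` splits. -/
structure Split (D : Set G) : Prop where
  cls : IsThreeTranspositionClass D
  split : ∀ d ∈ D, ∀ y ∈ dperp D d, ∃ z ∈ dperp D d, z ∉ dcomp D d y
  perf : ⁅commutator G, commutator G⁆ = commutator G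
  sol : ∀ N : Subgroup G, N.Normal → N ≤ commutator G → Group.IsSolvable N → N = ⊥
  ne : ∀ d ∈ D, (dperp D d).Nonempty

namespace Split

variable [Finite G] (hS : Split D) {a b c d e f x y z : G}

include hS

theorem conjD : ∀ g : G, ∀ d ∈ D, g * d * g⁻¹ ∈ D := class_conj hS.cls

theorem exists_big (hd : d ∈ D) : ∃ Δ, IsBigComp D d Δ := by
  classical
  let P : Set (G × G) := {p | p.1 ∈ D ∧ p.2 ∈ dperp D p.1}
  obtain ⟨y, hy⟩ := hS.ne d hd
  obtain ⟨p, hp, hmax⟩ := Set.exists_max_image P (fun p => (dcomp D p.1 p.2).ncard) (Set.toFinite P)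
    ⟨(d, y), hd, hy⟩
  have hbig : IsBigComp D p.1 (dcomp D p.1 p.2) :=
    ⟨⟨p.2, hp.2, rfl⟩, fun d' hd' y' hy' => hmax (d', y') ⟨hd', hy'⟩⟩
  obtain ⟨g, rfl⟩ := class_isConj hS.cls hp.1 hd
  exact ⟨_, hbig.conj hS.conjD g⟩

/-- Some member outside a largest component commutes with a part of it only. -/
theorem exists_mixed {Δ : Set G} (h : IsBigComp D d Δ) (hd : d ∈ D) :
    ∃ δ ∈ Δ, ∃ w ∈ D, w ∉ Δ ∧ (∃ u ∈ Δ, ¬ Commute u w) ∧ Commute δ w := by
  by_contra hcon
  push Not at hcon
  set Z : Set G := {z | z ∈ D ∧ z ∉ Δ ∧ ∀ u ∈ Δ, Commute u z} with hZ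
  have hΔD : Δ ⊆ D := fun u hu => (h.subset hu).1
  have hall : Δ ∪ Z = D := by
    refine commute_closed_eq hS.cls hS.perf
      (Set.union_subset hΔD fun z hz => hz.1) ⟨d, Or.inr ⟨hd, ?_, ?_⟩⟩ ?_
    · exact fun hh => (h.subset hh).2.1 rfl
    · exact fun u hu => (h.subset hu).2.2.symm
    rintro s hs e he hse
    by_cases heΔ : e ∈ Δ
    · exact Or.inl heΔ
    refine Or.inr ⟨he, heΔ, fun u hu => ?_⟩
    rcases hs with hsΔ | hsZ
    · by_contra hue
      exact hcon s hsΔ e he heΔ ⟨u, hu, hue⟩ hse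
    · have hbs := h.move hsZ.1 hsZ.2.1 hsZ.2.2
      by_cases hes : e = s
      · rw [hes]; exact hsZ.2.2 u hu
      · exact hbs.commute_rest ⟨he, hes, hse⟩ heΔ hu
  have hΔ : Δ = D := by
    refine noncommute_closed_eq hS.cls hΔD h.nonempty ?_
    intro s hs e he hse
    have : e ∈ Δ ∪ Z := by rw [hall]; exact he
    rcases this with h1 | h1
    · exact h1
    · exact absurd (h1.2.2 s hs) hse
  have hdd : d ∈ Δ := by rw [hΔ]; exact hd
  exact (h.subset hdd).2.1 rfl

theorem big_unique {Δ Δ' : Set G} (hd : d ∈ D) (h : IsBigComp D d Δ) (h' : IsBigComp D d Δ') :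
    Δ = Δ' := by
  by_contra hne
  have hdisj : ∀ u ∈ Δ', u ∉ Δ := by
    intro u hu' hu
    obtain ⟨⟨y, -, rfl⟩, -⟩ := h
    obtain ⟨⟨y', -, rfl⟩, -⟩ := h'
    exact hne ((dcomp_eq_of_mem hu).symm.trans (dcomp_eq_of_mem hu'))
  have hcomm : ∀ u ∈ Δ, ∀ v ∈ Δ', Commute u v := fun u hu v hv =>
    h.commute_rest (h'.subset hv) (hdisj v hv) hu
  obtain ⟨δ, hδ, w, hw, hwΔ, ⟨u, hu, huw⟩, hδw⟩ := hS.exists_mixed h hd
  have noZ : ∀ z ∈ D, z ∉ Δ → (∀ u ∈ Δ, Commute u z) → ¬ Commute z w := by
    intro z hz hzΔ hzc hzw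
    rcases eq_or_ne w z with rfl | hne'
    · exact huw (hzc u hu)
    · exact huw ((h.move hz hzΔ hzc).commute_rest ⟨hw, hne', hzw⟩ hwΔ hu)
  obtain ⟨v, hv⟩ := h'.nonempty
  have hvw : ¬ Commute v w :=
    noZ v (h'.subset hv).1 (hdisj v hv) fun u hu => hcomm u hu v hv
  have hwΔ' : w ∉ Δ' := fun hh => huw (hcomm u hu w hh)
  have hδΔ' : δ ∉ Δ' := fun hh => hdisj δ hh hδ
  have hδbig := h'.move (h.subset hδ).1 hδΔ' fun v hv => (hcomm δ hδ v hv).symm
  by_cases hwδ : w = δ
  · exact hwΔ (hwδ ▸ hδ)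
  · exact hvw (hδbig.commute_rest ⟨hw, hwδ, hδw⟩ hwΔ' hv)

omit hS in
open Classical in
/-- The largest component at `d`. -/
noncomputable def big (D : Set G) (d : G) : Set G :=
  if h : ∃ Δ, IsBigComp D d Δ then h.choose else ∅

theorem big_spec (hd : d ∈ D) : IsBigComp D d (big D d) := by
  have h := hS.exists_big hd
  rw [big, dif_pos h]
  exact h.choose_spec

theorem big_eq {Δ : Set G} (hd : d ∈ D) (h : IsBigComp D d Δ) : big D d = Δ :=
  hS.big_unique hd (hS.big_spec hd) h

theorem big_conj (hd : d ∈ D) (g : G) :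
    big D (g * d * g⁻¹) = (fun x => g * x * g⁻¹) '' big D d :=
  hS.big_eq (hS.conjD g d hd) ((hS.big_spec hd).conj hS.conjD g)

omit hS in
/-- Same block. -/
def Same (D : Set G) (d e : G) : Prop := big D d = big D e

omit hS in
/-- Adjacent blocks. -/
def Adj (D : Set G) (d e : G) : Prop := e ∈ big D d

theorem same_conj (hd : d ∈ D) (he : e ∈ D) (g : G) (h : Same D d e) :
    Same D (g * d * g⁻¹) (g * e * g⁻¹) := by
  unfold Same at h ⊢
  rw [hS.big_conj hd, hS.big_conj he, h]

theorem adj_mem (hd : d ∈ D) (h : Adj D d e) : e ∈ dperp D d := (hS.big_spec hd).subset h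

theorem adj_symm (hd : d ∈ D) (h : Adj D d e) : Adj D e d := by
  have he := (hS.adj_mem hd h).1
  by_contra hde
  have hB := hS.big_spec he
  have hed : d ∈ dperp D e :=
    ⟨hd, (hS.adj_mem hd h).2.1.symm, (hS.adj_mem hd h).2.2.symm⟩
  have hall : ∀ u ∈ big D e, Commute u d := fun u hu => hB.commute_rest hed hde hu
  have hbd := hB.move hd hde hall
  have := hS.big_eq hd hbd
  exact (hB.subset (this ▸ h : e ∈ big D e)).2.1 rfl

theorem not_adj_of_same (hd : d ∈ D) (he : e ∈ D) (h : Same D d e) : ¬ Adj D d e := by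
  intro ha
  unfold Same at h
  unfold Adj at ha
  rw [h] at ha
  exact (hS.adj_mem he ha).2.1 rfl

theorem adj_congr (hd : d ∈ D) (he : e ∈ D) (hx : x ∈ D) (hde : Same D d e) :
    Adj D x d ↔ Adj D x e := by
  constructor <;> intro h
  · have := hS.adj_symm hx h
    unfold Adj at this
    rw [show big D d = big D e from hde] at this
    exact hS.adj_symm he this
  · have := hS.adj_symm hx h
    unfold Adj at this
    rw [← show big D d = big D e from hde] at this
    exact hS.adj_symm hd this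

theorem adj_of_commute (hd : d ∈ D) (he : e ∈ D) (h : Commute d e) (hns : ¬ Same D d e) :
    Adj D d e := by
  by_contra hna
  rcases eq_or_ne e d with rfl | hne
  · exact hns rfl
  have hB := hS.big_spec hd
  exact hns (hS.big_eq he (hB.move he hna fun u hu => hB.commute_rest ⟨he, hne, h⟩ hna hu)).symm

theorem same_fix (hd : d ∈ D) (hz : z ∈ D) (h : Same D d z) : Same D (d * z * d⁻¹) d := by
  have := hS.same_conj hd hz d h
  rw [mul_inv_cancel_right] at this
  exact this.symm

/-- Conjugating by members of the same block gives members of the same block. -/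
theorem same_move (hx : x ∈ D) (hy : y ∈ D) (hz : z ∈ D) (h : Same D x y) :
    Same D (x * z * x) (y * z * y) := by
  have hT := hS.cls.1
  rw [conj_involution hT hx, conj_involution hT hy]
  by_cases hs : Same D x z
  · exact (hS.same_fix hx hz hs).trans (h.trans (hS.same_fix hy hz (h.symm.trans hs)).symm)
  by_cases hc : Commute x z
  · have hadj := hS.adj_of_commute hx hz hc hs
    have hadj' : Adj D y z := by
      have := (hS.adj_congr hx hy hz h).1 (hS.adj_symm hx hadj)
      exact hS.adj_symm hz this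
    rw [← conj_involution hT hx, ← conj_involution hT hy, conj_self_of_commute hT hx hc,
      conj_self_of_commute hT hy (hS.adj_mem hy hadj').2.2]
    rfl
  have hcy : ¬ Commute y z := fun hh => hc (by
    have hadj := hS.adj_of_commute hy hz hh fun h2 => hs (h.trans h2)
    have := (hS.adj_congr hx hy hz h).2 (hS.adj_symm hy hadj)
    exact (hS.adj_mem hz this).2.2.symm)
  rw [← conj_involution hT hx, ← conj_involution hT hy, braid hT hx hz hc, braid hT hy hz hcy,
    conj_involution hT hz, conj_involution hT hz]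
  exact hS.same_conj hx hy z h

theorem same_move' (hx : x ∈ D) (hy : y ∈ D) (hz : z ∈ D) (h : Same D x y) :
    Same D (x * y * z * (x * y)⁻¹) z := by
  have hT := hS.cls.1
  have hc := hS.conjD
  have key := hS.same_move hx hy hz h
  have h2 := hS.same_conj (conj_mem hT hc hx hz) (conj_mem hT hc hy hz) x key
  rw [← conj_involution hT hx, ← conj_involution hT hx,
    show x * (x * z * x) * x = z by
      simp only [mul_assoc, mul_self_mul hT hx, mul_self hT hx, mul_one]] at h2
  rw [show x * y * z * (x * y)⁻¹ = x * (y * z * y) * x by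
    rw [mul_inv_rev, inv_eq hT hx, inv_eq hT hy]; simp only [mul_assoc]]
  exact h2.symm

omit hS in
/-- Products of two members of one block. -/
def blockGroup (D : Set G) (d : G) : Subgroup G :=
  Subgroup.closure {n | ∃ a ∈ D, ∃ b ∈ D, Same D d a ∧ Same D d b ∧ n = a * b}

omit hS in
/-- Products of two members in the same block, all blocks. -/
def kernGroup (D : Set G) : Subgroup G :=
  Subgroup.closure {n | ∃ a ∈ D, ∃ b ∈ D, Same D a b ∧ n = a * b}

omit hS in
theorem blockGroup_le (d : G) : blockGroup D d ≤ kernGroup D := by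
  refine Subgroup.closure_mono ?_
  rintro - ⟨a, ha, b, hb, h1, h2, rfl⟩
  exact ⟨a, ha, b, hb, h1.symm.trans h2, rfl⟩

omit hS in
theorem blockGroup_congr (h : Same D d e) : blockGroup D d = blockGroup D e := by
  unfold blockGroup
  congr 1
  apply Set.ext
  intro n
  constructor <;> rintro ⟨a, ha, b, hb, h1, h2, rfl⟩
  · exact ⟨a, ha, b, hb, h.symm.trans h1, h.symm.trans h2, rfl⟩
  · exact ⟨a, ha, b, hb, h.trans h1, h.trans h2, rfl⟩

theorem kernGroup_normal : (kernGroup D).Normal := by
  refine closure_normal ?_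
  rintro g - ⟨a, ha, b, hb, h, rfl⟩
  exact ⟨_, hS.conjD g a ha, _, hS.conjD g b hb, hS.same_conj ha hb g h, by group⟩

theorem blockGroup_conj (hd : d ∈ D) (g : G) {n : G} (hn : n ∈ blockGroup D d) :
    g * n * g⁻¹ ∈ blockGroup D (g * d * g⁻¹) := by
  induction hn using Subgroup.closure_induction with
  | mem n hn =>
    obtain ⟨a, ha, b, hb, h1, h2, rfl⟩ := hn
    exact Subgroup.subset_closure
      ⟨_, hS.conjD g a ha, _, hS.conjD g b hb, hS.same_conj hd ha g h1, hS.same_conj hd hb g h2,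
        by group⟩
  | one => simp
  | mul u v _ _ hu hv =>
    rw [show g * (u * v) * g⁻¹ = (g * u * g⁻¹) * (g * v * g⁻¹) by group]
    exact mul_mem hu hv
  | inv u _ hu =>
    rw [show g * u⁻¹ * g⁻¹ = (g * u * g⁻¹)⁻¹ by group]
    exact inv_mem hu

theorem kern_fix {n : G} (hn : n ∈ kernGroup D) (hc : c ∈ D) : Same D (n * c * n⁻¹) c := by
  induction hn using Subgroup.closure_induction generalizing c with
  | mem n hn =>
    obtain ⟨a, ha, b, hb, h, rfl⟩ := hn
    exact hS.same_move' ha hb hc h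
  | one => simp [Same]
  | mul u v _ _ hu hv =>
    have h1 := hS.same_conj (hS.conjD v c hc) hc u (hv hc)
    rw [show u * v * c * (u * v)⁻¹ = u * (v * c * v⁻¹) * u⁻¹ by group]
    exact h1.trans (hu hc)
  | inv u _ hu =>
    have h1 := hS.same_conj (hS.conjD u c hc) hc u⁻¹ (hu hc)
    rw [show u⁻¹ * (u * c * u⁻¹) * u⁻¹⁻¹ = c by group] at h1
    exact h1.symm

theorem blockGroup_invariant (hd : d ∈ D) {k n : G} (hk : k ∈ kernGroup D)
    (hn : n ∈ blockGroup D d) : k * n * k⁻¹ ∈ blockGroup D d := by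
  rw [← blockGroup_congr (hS.kern_fix hk hd)]
  exact hS.blockGroup_conj hd k hn

theorem kernGroup_le_commutator : kernGroup D ≤ commutator G := by
  rw [kernGroup, Subgroup.closure_le]
  rintro - ⟨a, ha, b, hb, -, rfl⟩
  exact mul_mem_commutator hS.cls ha hb

/-- A solvable subgroup of the kernel invariant under it is trivial. -/
theorem solvable_eq_bot {X : Subgroup G} (hX : X ≤ kernGroup D)
    (hinv : ∀ k ∈ kernGroup D, ∀ x ∈ X, k * x * k⁻¹ ∈ X) (hs : Group.IsSolvable X) : X = ⊥ := by
  have hN := hS.kernGroup_normal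
  have hsub : X.IsSubnormal := Subgroup.IsSubnormal.step X (kernGroup D) hX hN.isSubnormal
    ⟨fun n hn k => hinv k.1 k.2 n.1 hn⟩
  obtain ⟨N, hNn, hNs, hle⟩ := Layer.exists_normal_solvable_ge hsub hs
  have hle' : X ≤ N ⊓ commutator G := le_inf hle (hX.trans hS.kernGroup_le_commutator)
  rw [hS.sol (N ⊓ commutator G) inferInstance inf_le_right (Core.isSolvable_mono hNs inf_le_left)]
    at hle'
  exact le_bot_iff.1 hle'

theorem commute_member_adj (hd : d ∈ D) (hc : c ∈ D) (h : Adj D c d) {n : G}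
    (hn : n ∈ blockGroup D d) : Commute c n := by
  induction hn using Subgroup.closure_induction with
  | mem n hn =>
    obtain ⟨a, ha, b, hb, h1, h2, rfl⟩ := hn
    exact (hS.adj_mem hc ((hS.adj_congr hd ha hc h1).1 h)).2.2.mul_right
      (hS.adj_mem hc ((hS.adj_congr hd hb hc h2).1 h)).2.2
  | one => exact Commute.one_right c
  | mul u v _ _ hu hv => exact hu.mul_right hv
  | inv u _ hu => exact hu.inv_right

theorem commute_block_adj (hd : d ∈ D) (hc : c ∈ D) (h : Adj D c d) {m n : G}
    (hm : m ∈ blockGroup D c) (hn : n ∈ blockGroup D d) : Commute m n := by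
  induction hm using Subgroup.closure_induction with
  | mem m hm =>
    obtain ⟨a, ha, b, hb, h1, h2, rfl⟩ := hm
    have key : ∀ u ∈ D, Same D c u → Commute u n := fun u hu h' => by
      refine hS.commute_member_adj hd hu ?_ hn
      exact hS.adj_symm hd ((hS.adj_congr hc hu hd h').1 (hS.adj_symm hc h))
    exact (key a ha h1).mul_left (key b hb h2)
  | one => exact Commute.one_left n
  | mul u v _ _ hu hv => exact hu.mul_left hv
  | inv u _ hu => exact hu.inv_left

theorem block_central_eq_one (hd : d ∈ D) {g : G} (hg : g ∈ blockGroup D d)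
    (hcen : ∀ n ∈ blockGroup D d, Commute g n) : g = 1 := by
  set X := blockGroup D d ⊓ Subgroup.centralizer (blockGroup D d : Set G) with hX
  have hbot : X = ⊥ := by
    refine hS.solvable_eq_bot (inf_le_left.trans (blockGroup_le d)) ?_ ?_
    · intro k hk x hx
      refine ⟨hS.blockGroup_invariant hd hk hx.1, Subgroup.mem_centralizer_iff.2 fun n hn => ?_⟩
      have h1 := hS.blockGroup_invariant hd (inv_mem hk) hn
      rw [inv_inv] at h1
      have h2 : k⁻¹ * n * k * x = x * (k⁻¹ * n * k) := Subgroup.mem_centralizer_iff.1 hx.2 _ h1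
      calc n * (k * x * k⁻¹) = k * (k⁻¹ * n * k * x) * k⁻¹ := by group
        _ = k * x * k⁻¹ * n := by rw [h2]; group
    · exact Group.isSolvable_of_comm fun a b =>
        Subtype.ext (Subgroup.mem_centralizer_iff.1 b.2.2 a.1 a.2.1)
  have : g ∈ X := ⟨hg, Subgroup.mem_centralizer_iff.2 fun n hn => (hcen n hn).eq.symm⟩
  rwa [hbot, Subgroup.mem_bot] at this

theorem disjoint_adj (hd : d ∈ D) (hc : c ∈ D) (h : Adj D c d) {g : G}
    (h1 : g ∈ blockGroup D c) (h2 : g ∈ blockGroup D d) : g = 1 :=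
  hS.block_central_eq_one hd h2 fun _ hn => hS.commute_block_adj hd hc h h1 hn

omit [Finite G] in
theorem commutator_mem_both {N : Subgroup G} {m n : G} (hinv : ∀ k ∈ kernGroup D, ∀ x ∈ N, k * x * k⁻¹ ∈ N)
    (hm : m ∈ kernGroup D) (hn : n ∈ N) : m * n * m⁻¹ * n⁻¹ ∈ N :=
  mul_mem (hinv m hm n hn) (inv_mem hn)

/-- Two adjacent blocks both nonadjacent to a third. -/
theorem exists_config : ∃ d ∈ D, ∃ c ∈ D, ∃ e ∈ D, Adj D d c ∧
    (¬ Same D e d ∧ ¬ Adj D e d) ∧ (¬ Same D e c ∧ ¬ Adj D e c) := by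
  by_contra hcon
  push Not at hcon
  obtain ⟨d, hd, -⟩ := hS.cls.2.1
  set S : Set G := {z | z ∈ D ∧ (Same D d z ∨ (¬ Same D z d ∧ ¬ Adj D z d))} with hSdef
  have hall : S = D := by
    refine noncommute_closed_eq hS.cls (fun z hz => hz.1) ⟨d, hd, Or.inl rfl⟩ ?_
    rintro z ⟨hz, hzS⟩ f hf hzf
    refine ⟨hf, ?_⟩
    by_contra hfS
    push Not at hfS
    obtain ⟨hns, hadj⟩ := hfS
    have hadf : Adj D d f := hS.adj_symm hf (hadj fun hh => hns hh.symm)
    rcases hzS with h1 | ⟨h1, h2⟩
    · have hzf' : Adj D z f := by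
        unfold Adj at hadf ⊢
        rw [← show big D d = big D z from h1]; exact hadf
      exact hzf (hS.adj_mem hz hzf').2.2
    · refine hzf ?_
      by_cases h3 : Same D z f
      · exact absurd ((hS.adj_congr hz hf hd h3).2 hadf) fun hh => h2 (hS.adj_symm hd hh)
      · exact (hS.adj_mem hz (hcon d hd f hf z hz hadf ⟨h1, h2⟩ h3)).2.2
  obtain ⟨δ, hδ⟩ := (hS.big_spec hd).nonempty
  have hδD := (hS.adj_mem hd hδ).1
  have : δ ∈ S := by rw [hall]; exact hδD
  rcases this.2 with h1 | ⟨-, h2⟩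
  · exact hS.not_adj_of_same hd hδD h1 hδ
  · exact h2 (hS.adj_symm hd hδ)

/-- The contradiction. -/
theorem false : False := by
  classical
  have hT := hS.cls.1
  have hcj := hS.conjD
  obtain ⟨d, hd, c, hc, e, he, hdc, ⟨hsed, haed⟩, hsec, haec⟩ := hS.exists_config
  have hned : ¬ Commute d e := fun hh => haed (hS.adj_of_commute he hd hh.symm hsed)
  have hnec : ¬ Commute e c := fun hh => haec (hS.adj_of_commute he hc hh hsec)
  have hcdc : Commute d c := (hS.adj_mem hd hdc).2.2
  have hdd := mul_self hT hd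
  set d1 := d * e * d with hd1
  set c1 := c * e * c with hc1
  have hd1D : d1 ∈ D := conj_mem hT hcj hd he
  have hc1D : c1 ∈ D := conj_mem hT hcj hc he
  have hcomm1 : Commute d1 c1 := by
    let φ := SmallPerm.hom (mul_self hT hd) (mul_self hT he) (mul_self hT hc)
      (braid hT he hd fun h => hned h.symm) hcdc.symm.eq (braid hT hc he fun h => hnec h.symm)
    have h3 : (SmallPerm.s4 0 * SmallPerm.s4 1 * SmallPerm.s4 0) *
        (SmallPerm.s4 2 * SmallPerm.s4 1 * SmallPerm.s4 2) =
        (SmallPerm.s4 2 * SmallPerm.s4 1 * SmallPerm.s4 2) *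
        (SmallPerm.s4 0 * SmallPerm.s4 1 * SmallPerm.s4 0) := by decide +kernel
    have h4 := congrArg φ h3
    simp only [map_mul, φ, SmallPerm.hom_gen] at h4
    exact h4
  have hadj1 : Adj D d1 c1 := by
    refine hS.adj_of_commute hd1D hc1D hcomm1 fun hh => ?_
    rw [hd1, hc1, braid hT hd he hned, braid hT hc he fun h => hnec h.symm,
      conj_involution hT he, conj_involution hT he] at hh
    have h1 := hS.same_conj (hcj e d hd) (hcj e c hc) e⁻¹ hh
    simp only [inv_inv, mul_assoc, inv_mul_cancel_left, inv_mul_cancel, mul_one] at h1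
    exact hS.not_adj_of_same hd hc h1 hdc
  -- the triple intersection is trivial
  have hJ : ∀ g, g ∈ blockGroup D d → g ∈ blockGroup D e → g ∈ blockGroup D d1 → g = 1 := by
    intro g h1 h2 h3
    have hcg : Commute c g := hS.commute_member_adj hd hc (hS.adj_symm hd hdc) h1
    have h4 := hS.blockGroup_conj he c h2
    rw [hcg.eq, mul_inv_cancel_right, ← conj_involution hT hc] at h4
    exact hS.disjoint_adj hc1D hd1D hadj1 h3 h4
  have hconjd : ∀ n, n ∈ blockGroup D d → d * n * d ∈ blockGroup D d := fun n hn => by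
    have h := hS.blockGroup_conj hd d hn
    rwa [mul_inv_cancel_right, ← conj_involution hT hd] at h
  have hconje : ∀ n, n ∈ blockGroup D e → d * n * d ∈ blockGroup D d1 := fun n hn => by
    have h := hS.blockGroup_conj he d hn
    rwa [← conj_involution hT hd, ← conj_involution hT hd] at h
  set M : Subgroup G := blockGroup D d ⊓ blockGroup D e with hM
  have hkern : ∀ {g}, g ∈ blockGroup D d → g ∈ kernGroup D := fun h => blockGroup_le d h
  -- elements of `M` and of its conjugate under `d` commute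
  have hMM : ∀ m ∈ M, ∀ n ∈ M, Commute m (d * n * d) := by
    intro m hm n hn
    have hn1 := hconjd n hn.1
    have hn2 := hconje n hn.2
    have hone : m * (d * n * d) * m⁻¹ * (d * n * d)⁻¹ = 1 := by
      refine hJ _ (mul_mem (mul_mem (mul_mem hm.1 hn1) (inv_mem hm.1)) (inv_mem hn1)) ?_ ?_
      · rw [show m * (d * n * d) * m⁻¹ * (d * n * d)⁻¹
            = m * ((d * n * d) * m⁻¹ * (d * n * d)⁻¹) by group]
        exact mul_mem hm.2 (hS.blockGroup_invariant he (hkern hn1) (inv_mem hm.2))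
      · exact mul_mem (hS.blockGroup_invariant hd1D (hkern hm.1) hn2) (inv_mem hn2)
    exact mul_inv_eq_iff_eq_mul.1 (mul_inv_eq_one.1 hone)
  have hMbot : M = ⊥ := by
    refine hS.solvable_eq_bot (inf_le_left.trans (blockGroup_le d)) ?_
      (isSolvable_of_sq_or_cube fun l => ?_)
    · exact fun k hk x hx => ⟨hS.blockGroup_invariant hd hk hx.1, hS.blockGroup_invariant he hk hx.2⟩
    obtain ⟨l, hl⟩ := l
    have hcl : Commute l (d * l * d) := hMM l hl l hl
    have hlinv : l⁻¹ ∈ M := inv_mem hl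
    have heq : d * (l * d * l⁻¹) = (d * l * d) * l⁻¹ := by simp only [mul_assoc]
    have hcomm' : Commute (d * l * d) l⁻¹ := hcl.symm.inv_right
    have fin : ∀ k : ℕ, (d * (l * d * l⁻¹)) ^ k = 1 → l ^ k = 1 := by
      intro k hk
      rw [heq, hcomm'.mul_pow, inv_pow, mul_inv_eq_one] at hk
      have hlk : l ^ k ∈ M := pow_mem hl k
      have hd1k : l ^ k ∈ blockGroup D d1 := by
        rw [← hk]; exact pow_mem (hconje l hl.2) k
      exact hJ _ hlk.1 hlk.2 hd1k
    rcases hT.2 d hd _ (hcj l d hd) with h2 | h3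
    · exact Or.inl (Subtype.ext (fin 2 h2))
    · exact Or.inr (Subtype.ext (fin 3 h3))
  have hc2 : ∀ m ∈ blockGroup D d, ∀ n ∈ blockGroup D e, Commute m n := by
    intro m hm n hn
    have : m * n * m⁻¹ * n⁻¹ ∈ M := by
      refine Subgroup.mem_inf.2 ⟨?_, mul_mem (hS.blockGroup_invariant he (hkern hm) hn) (inv_mem hn)⟩
      rw [show m * n * m⁻¹ * n⁻¹ = m * (n * m⁻¹ * n⁻¹) by group]
      exact mul_mem hm (hS.blockGroup_invariant hd (blockGroup_le e hn) (inv_mem hm))
    rw [hMbot, Subgroup.mem_bot] at this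
    exact mul_inv_eq_iff_eq_mul.1 (mul_inv_eq_one.1 this)
  -- the conjugate pair `(e, d1)`
  have hc3 : ∀ m ∈ blockGroup D e, ∀ n ∈ blockGroup D d1, Commute m n := by
    intro m hm n hn
    have hee : e * e * e⁻¹ = e := mul_inv_cancel_right e e
    have hde' : e * d * e⁻¹ = d1 := by rw [hd1, ← conj_involution hT he, braid hT hd he hned]
    have h1 : e⁻¹ * m * e ∈ blockGroup D e := by
      have h := hS.blockGroup_conj he e⁻¹ hm
      rwa [inv_inv, show e⁻¹ * e * e = e by group] at h
    have h2 : e⁻¹ * n * e ∈ blockGroup D d := by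
      have h := hS.blockGroup_conj hd1D e⁻¹ hn
      rwa [inv_inv, show e⁻¹ * d1 * e = d by rw [← hde']; group] at h
    have h3 := (commute_conj e _ _).2 (hc2 _ h2 _ h1).symm
    rwa [show e * (e⁻¹ * m * e) * e⁻¹ = m by group,
      show e * (e⁻¹ * n * e) * e⁻¹ = n by group] at h3
  -- a second member of the block of `e`
  obtain ⟨u, hu⟩ := (hS.big_spec he).nonempty
  obtain ⟨⟨y0, hy0, hy0eq⟩, -⟩ := hS.big_spec he
  obtain ⟨y, hy, hyn⟩ := hS.split e he y0 hy0
  rw [← hy0eq] at hyn
  have hey : Same D e y :=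
    (hS.big_eq hy.1 ((hS.big_spec he).move hy.1 hyn fun v hv =>
      (hS.big_spec he).commute_rest hy hyn hv)).symm
  have hyy := mul_self hT hy.1
  have hee := mul_self hT he
  set d2 := y * d1 * y with hd2
  have hd2D : d2 ∈ D := conj_mem hT hcj hy.1 hd1D
  have hsame2 : Same D d d2 := by
    have h1 := hS.same_move he hy.1 hd1D hey
    rwa [show e * d1 * e = d by
      rw [hd1, braid hT hd he hned]
      simp only [mul_assoc, mul_self_mul hT he, mul_self hT he, mul_one]] at h1
  have hq : d * d2 ∈ blockGroup D d :=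
    Subgroup.subset_closure ⟨d, hd, d2, hd2D, rfl, hsame2, rfl⟩
  have hey' : e * y ∈ blockGroup D e :=
    Subgroup.subset_closure ⟨e, he, y, hy.1, rfl, hey, rfl⟩
  have hq' := hconje _ hey'
  have hprod : d * (e * y) * d * (d * d2) = e * y := by
    rw [hd2, hd1]
    simp only [mul_assoc, mul_self_mul hT hd]
    simp only [mul_assoc, mul_self_mul hT hy.1, mul_self_mul hT hd]
    rw [show d * (e * (d * (e * (d * y)))) = (d * e * d) * (e * d * y) by simp only [mul_assoc],
      braid hT hd he hned]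
    simp only [mul_assoc, mul_self_mul hT he, mul_self_mul hT hd]
  have h1 : e * y = 1 := by
    refine hS.block_central_eq_one he hey' fun n hn => ?_
    rw [← hprod]
    exact ((hc3 n hn _ hq').symm).mul_left (hc2 _ hq n hn)
  exact hy.2.1 (by rw [eq_inv_of_mul_eq_one_right h1, inv_eq hT he])

end Split

/-- For each member, the noncommuting graph on the members commuting with it is connected. -/
theorem dcomp_eq_dperp [Finite G]
    (hsol : ∀ N : Subgroup G, N.Normal → N ≤ commutator G → Group.IsSolvable N → N = ⊥)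
    (hperf : ⁅commutator G, commutator G⁆ = commutator G) (hD : IsThreeTranspositionClass D)
    {x y : G} (hx : x ∈ D) (hy : y ∈ dperp D x) : dcomp D x y = dperp D x := by
  have hc := class_conj hD
  refine Set.Subset.antisymm (dcomp_subset hy) ?_
  by_contra hne
  rw [Set.not_subset] at hne
  obtain ⟨z, hz, hzy⟩ := hne
  refine Split.false (D := D) ⟨hD, fun d hd y' hy' => ?_, hperf, hsol, fun d hd => ?_⟩
  · by_contra hcon
    push Not at hcon
    obtain ⟨g, rfl⟩ := class_isConj hD hx hd
    have hgy := hcon _ (dperp_conj hc g hy)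
    have hgz := hcon _ (dperp_conj hc g hz)
    have h2 : g * z * g⁻¹ ∈ dcomp D (g * x * g⁻¹) (g * y * g⁻¹) := by
      rw [dcomp_eq_of_mem hgy]; exact hgz
    rw [← image_dcomp hc] at h2
    obtain ⟨z', hz', hzz⟩ := h2
    exact hzy (by rwa [mul_left_cancel (mul_right_cancel hzz)] at hz')
  · obtain ⟨g, rfl⟩ := class_isConj hD hx hd
    exact ⟨_, dperp_conj hc g hy⟩

/-- Within a component, members are conjugate in the subgroup the component's ambient set generates. -/
theorem exists_conj_of_mem_dcomp (hD : IsThreeTranspositionSet D) {x y z : G} (hy : y ∈ dperp D x)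
    (h : z ∈ dcomp D x y) : ∃ g ∈ Subgroup.closure (dperp D x), g * y * g⁻¹ = z := by
  induction h with
  | refl => exact ⟨1, one_mem _, by group⟩
  | @tail u v _ h ih =>
    obtain ⟨g, hg, hgy⟩ := ih
    refine ⟨u * v * g, mul_mem (mul_mem (Subgroup.subset_closure h.1.1)
      (Subgroup.subset_closure h.1.2)) hg, ?_⟩
    rw [show u * v * g * y * (u * v * g)⁻¹ = u * v * (g * y * g⁻¹) * (u * v)⁻¹ by group, hgy,
      mul_inv_rev, inv_eq hD h.1.2.1, inv_eq hD h.1.1.1]
    rw [show u * v * u * (v * u) = (u * v * u) * v * u by simp only [mul_assoc],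
      braid hD h.1.1.1 h.1.2.1 h.2]
    simp only [mul_assoc, mul_self_mul hD h.1.2.1, mul_self hD h.1.1.1]
    rw [mul_one]

end Cfsg.Agent.ThreeTrans
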