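import Cfsg.Agent.ThreeTrans.Central

/-!
# The quasisimple normal subgroup when the 2-core and the 3-core are central
-/

set_option autoImplicit false

open Cfsg
open scoped commutatorElement

namespace Cfsg.Agent.ThreeTrans

variable {G : Type*} [Group G] {D : Set G} {a b d x y : G}

/-- A quasisimple group is not an abelian-by-exponent group with orders at most three. -/
theorem not_all_sq_or_cube_central {K : Type*} [Group K] [Finite K] (hK : IsQuasisimple K) :
    ∃ k : K, k ^ 2 ∉ Subgroup.center K ∧ k ^ 3 ∉ Subgroup.center K := by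
  by_contra hcon
  push Not at hcon
  apply Layer.qs_not_isSolvable hK
  rw [Group.isSolvable_iff_subgroup_quotient (Subgroup.center K)]
  refine ⟨Group.isSolvable_of_comm fun u v => mul_comm' u v, isSolvable_of_sq_or_cube fun q => ?_⟩
  obtain ⟨k, rfl⟩ := QuotientGroup.mk'_surjective (Subgroup.center K) q
  by_cases h : k ^ 2 ∈ Subgroup.center K
  · exact Or.inl (by rw [← map_pow]; exact (QuotientGroup.eq_one_iff _).2 h)
  · exact Or.inr (by rw [← map_pow]; exact (QuotientGroup.eq_one_iff _).2 (hcon k h))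

section Class

variable [Finite G] (hD : IsThreeTranspositionClass D) (hD2 : ∃ a ∈ D, ∃ b ∈ D, a ≠ b)
  (h2 : pCore 2 G ≤ Subgroup.center G) (h3 : pCore 3 G ≤ Subgroup.center G)

include hD hD2 h2 h3

omit hD2 h2 h3 in
/-- Every member normalises every component. -/
theorem conj_mem_component {K : Subgroup G} (hK : IsComponent K) {l : G} (hd : d ∈ D)
    (hl : l ∈ K) : d * l * d ∈ K := by
  have hT := hD.1
  by_contra hnot
  set K' := K.map (MulAut.conj d).toMonoidHom with hK'
  have hK'c : IsComponent K' := Layer.isComponent_map_conj hK d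
  have hmem : ∀ m ∈ K, d * m * d ∈ K' := fun m hm => ⟨m, hm, (conj_involution hT hd m).symm⟩
  have hne : K ≠ K' := fun h => hnot (h ▸ hmem l hl)
  have hcom : ∀ u ∈ K, ∀ v ∈ K', Commute u v := fun u hu v hv =>
    Layer.commute_of_commutator_eq_bot (Layer.components_commute hK hK'c hne) hu hv
  obtain ⟨k, hk2, hk3⟩ := not_all_sq_or_cube_central hK.2
  have hcl : Commute (k : G) (d * k * d) := hcom _ k.2 _ (hmem _ k.2)
  have heq : d * ((k : G) * d * (k : G)⁻¹) = (d * k * d) * (k : G)⁻¹ := by simp only [mul_assoc]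
  have fin : ∀ n : ℕ, (d * ((k : G) * d * (k : G)⁻¹)) ^ n = 1 → k ^ n ∈ Subgroup.center K := by
    intro n hn
    rw [heq, hcl.symm.inv_right.mul_pow, inv_pow, mul_inv_eq_one] at hn
    have h1 : ((k : G)) ^ n ∈ K' := by rw [← hn]; exact pow_mem (hmem _ k.2) n
    exact Subgroup.mem_center_iff.2 fun u => Subtype.ext (hcom u.1 u.2 _ h1).eq
  rcases hT.2 d hd _ (class_conj hD k d hd) with hh | hh
  · exact hk2 (fin 2 hh)
  · exact hk3 (fin 3 hh)

omit hD2 h2 h3 in
theorem component_normal {K : Subgroup G} (hK : IsComponent K) : K.Normal := by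
  constructor
  intro n hn g
  have hg : g ∈ Subgroup.closure D := by rw [hD.2.2]; trivial
  induction hg using Subgroup.closure_induction_left with
  | one => simpa using hn
  | mul_left s hs m _ ih =>
    rw [show s * m * n * (s * m)⁻¹ = s * (m * n * m⁻¹) * s⁻¹ by group, inv_eq hD.1 hs]
    exact conj_mem_component hD hK hs ih
  | inv_mul_cancel s hs m _ ih =>
    rw [inv_eq hD.1 hs, show s * m * n * (s * m)⁻¹ = s * (m * n * m⁻¹) * s⁻¹ by group,
      inv_eq hD.1 hs]
    exact conj_mem_component hD hK hs ih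

omit hD2 h2 h3 in
/-- No member centralises a normal quasisimple subgroup. -/
theorem exists_not_commute_component {K : Subgroup G} [K.Normal] (hK : IsQuasisimple K)
    (hd : d ∈ D) : ∃ l ∈ K, ¬ Commute d l := by
  by_contra hcon
  push Not at hcon
  apply Layer.qs_subgroup_not_abelian hK
  rw [Subgroup.commutator_eq_bot_iff_le_centralizer]
  intro u hu
  rw [Subgroup.mem_centralizer_iff]
  intro v _
  have hcen : u ∈ Subgroup.center G := by
    refine mem_center_of_commute hD.2.2 fun e he => ?_
    obtain ⟨g, rfl⟩ := class_isConj hD hd he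
    have h1 := hcon (g⁻¹ * u * g) (by simpa using ‹K.Normal›.conj_mem u hu g⁻¹)
    have h2 := (commute_conj g _ _).2 h1
    rw [show g * (g⁻¹ * u * g) * g⁻¹ = u by group] at h2
    exact h2.symm
  exact (Subgroup.mem_center_iff.1 hcen v)

omit hD2 h2 h3 in
/-- The product of a member with a conjugate by an element of a normal subgroup. -/
theorem pair_mem {K : Subgroup G} [hK : K.Normal] {l : G} (hd : d ∈ D) (hl : l ∈ K) :
    d * (l * d * l⁻¹) ∈ K := by
  rw [show d * (l * d * l⁻¹) = d * l * d⁻¹ * l⁻¹ by rw [inv_eq hD.1 hd]; simp only [mul_assoc]]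
  exact mul_mem (hK.conj_mem l hl d) (inv_mem hl)

/-- In a normal quasisimple subgroup a member produces both involutions and elements of order
three. -/
theorem exists_pair_orders {K : Subgroup G} [K.Normal] (hK : IsQuasisimple K) (hd : d ∈ D) :
    (∃ l ∈ K, (d * (l * d * l⁻¹)) ^ 2 = 1 ∧ d * (l * d * l⁻¹) ≠ 1) ∧
      ∃ l ∈ K, (d * (l * d * l⁻¹)) ^ 3 = 1 ∧ d * (l * d * l⁻¹) ≠ 1 := by
  have hT := hD.1
  have hc := class_conj hD
  set O : Set G := {w | ∃ l ∈ K, w = l * d * l⁻¹} with hO
  set X := Subgroup.closure O with hX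
  have hdX : d ∈ O := ⟨1, one_mem _, by group⟩
  have hsol : ∀ (hs : Group.IsSolvable X), False := by
    intro hs
    have hnorm : K ≤ Subgroup.normalizer (X ⊓ K : Subgroup G) := by
      intro k hk
      rw [Subgroup.mem_normalizer_iff]
      have hmove : ∀ k ∈ K, ∀ n ∈ X, k * n * k⁻¹ ∈ X := by
        intro k hk n hn
        induction hn using Subgroup.closure_induction with
        | mem n hn =>
          obtain ⟨l, hl, rfl⟩ := hn
          exact Subgroup.subset_closure ⟨k * l, mul_mem hk hl, by group⟩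
        | one => simp
        | mul u v _ _ hu hv =>
          rw [show k * (u * v) * k⁻¹ = (k * u * k⁻¹) * (k * v * k⁻¹) by group]
          exact mul_mem hu hv
        | inv u _ hu =>
          rw [show k * u⁻¹ * k⁻¹ = (k * u * k⁻¹)⁻¹ by group]
          exact inv_mem hu
      intro n
      refine ⟨fun hn => Subgroup.mem_inf.2 ⟨hmove k hk n hn.1, mul_mem (mul_mem hk hn.2) (inv_mem hk)⟩, fun hn => ?_⟩
      have h1 := hmove k⁻¹ (inv_mem hk) _ hn.1
      rw [show k⁻¹ * (k * n * k⁻¹) * k⁻¹⁻¹ = n by group] at h1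
      have h4 := mul_mem (mul_mem (inv_mem hk) hn.2) hk
      rw [show k⁻¹ * (k * n * k⁻¹) * k = n by group] at h4
      exact ⟨h1, h4⟩
    rcases Layer.qs_sub_normalized_cases hK inf_le_right hnorm with h | h
    · exact Layer.qs_not_isSolvable hK (Core.isSolvable_mono (K := X) hs (h ▸ inf_le_left))
    -- every product is then central
    obtain ⟨l, hl, hdl⟩ := exists_not_commute_component hD hK hd
    set t := d * (l * d * l⁻¹) with ht
    have htmem : t ∈ X ⊓ K :=
      ⟨mul_mem (Subgroup.subset_closure hdX) (Subgroup.subset_closure ⟨l, hl, rfl⟩),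
        pair_mem hD hd hl⟩
    -- the centre of a normal quasisimple subgroup is central here
    have hZK : (Subgroup.center K).map K.subtype ≤ Subgroup.center G := by
      refine le_trans ?_ (fitting_le_center hD h2 h3)
      have : (Subgroup.center K).map K.subtype = K ⊓ Subgroup.centralizer (K : Set G) :=
        Layer.map_center_eq_inf K
      rw [this]
      have : IsMulCommutative (K ⊓ Subgroup.centralizer (K : Set G) : Subgroup G) :=
        ⟨⟨fun u v => Subtype.ext (Subgroup.mem_centralizer_iff.1 v.2.2 u.1 u.2.1)⟩⟩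
      exact Core.le_fittingSubgroup_of_isMulCommutative
    have htZ : t ∈ Subgroup.center G := hZK ⟨⟨t, htmem.2⟩,
      Subgroup.mem_center_iff.2 fun u => Subtype.ext
        (Layer.commute_of_commutator_eq_bot h htmem u.2).symm, rfl⟩
    apply hdl
    have h5 := eq_of_mul_mem_center hD hD2 h2 hd (hc l d hd) htZ
    exact (eq_mul_inv_iff_mul_eq.1 h5)
  constructor
  · by_contra hcon
    push Not at hcon
    -- all products have order dividing three
    have hcube : ∀ l ∈ K, (d * (l * d * l⁻¹)) ^ 3 = 1 := fun l hl =>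
      (hT.2 d hd _ (hc l d hd)).elim (fun h => by rw [hcon l hl h, one_pow]) id
    let T : Set X := {w | (w : G) ∈ O}
    have hconjO : ∀ k ∈ X, ∀ w ∈ O, k * w * k⁻¹ ∈ O := by
      intro k hk
      have step : ∀ s ∈ O, ∀ w ∈ O, s * w * s⁻¹ ∈ O := by
        rintro - ⟨m, hm, rfl⟩ - ⟨l, hl, rfl⟩
        refine ⟨m * (d * (m⁻¹ * l) * d), mul_mem hm ?_, ?_⟩
        · have h1 := ‹K.Normal›.conj_mem _ (mul_mem (inv_mem hm) hl) d
          rwa [inv_eq hT hd] at h1
        · simp only [mul_inv_rev, inv_inv, inv_eq hT hd, mul_assoc, mul_self_mul hT hd]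
      induction hk using Subgroup.closure_induction_left with
      | one => intro w hw; simpa using hw
      | mul_left s hs m _ ih =>
        intro w hw
        rw [show s * m * w * (s * m)⁻¹ = s * (m * w * m⁻¹) * s⁻¹ by group]
        exact step s hs _ (ih w hw)
      | inv_mul_cancel s hs m _ ih =>
        intro w hw
        obtain ⟨l, hl, rfl⟩ := hs
        rw [inv_eq hT (hc l d hd)]
        rw [show l * d * l⁻¹ * m * w * (l * d * l⁻¹ * m)⁻¹ =
          l * d * l⁻¹ * (m * w * m⁻¹) * (l * d * l⁻¹)⁻¹ by group]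
        exact step _ ⟨l, hl, rfl⟩ _ (ih w hw)
    have hTc : IsCubeSet T :=
      { conj := fun k w hw => hconjO k.1 k.2 w.1 hw
        ord := by
          rintro w ⟨l, hl, hw⟩
          rw [← Subgroup.orderOf_coe, hw]
          exact hT.1 _ (hc l d hd)
        cube := by
          rintro u ⟨m, hm, hu⟩ w ⟨l, hl, hw⟩
          apply Subtype.ext
          show ((u : G) * w) ^ 3 = 1
          rw [hu, hw, show m * d * m⁻¹ * (l * d * l⁻¹) =
            m * (d * ((m⁻¹ * l) * d * (m⁻¹ * l)⁻¹)) * m⁻¹ by group, conj_pow,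
            hcube _ (mul_mem (inv_mem hm) hl), mul_one, mul_inv_cancel] }
    apply hsol
    have : Fact (Nat.Prime 3) := ⟨Nat.prime_three⟩
    rw [Group.isSolvable_iff_subgroup_quotient (pCore 3 X)]
    refine ⟨have := (Core.pCore_isPGroup (p := 3) (G := X)).isNilpotent; inferInstance, ?_⟩
    let d' : X := ⟨d, Subgroup.subset_closure hdX⟩
    let π := QuotientGroup.mk' (pCore 3 X)
    have hle : (⊤ : Subgroup (X ⧸ pCore 3 X)) ≤ Subgroup.zpowers (π d') := by
      rw [← Subgroup.map_top_of_surjective π (QuotientGroup.mk'_surjective _),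
        ← Subgroup.closure_closure_coe_preimage (k := O), MonoidHom.map_closure,
        Subgroup.closure_le]
      rintro - ⟨w, hw, rfl⟩
      have : π w = π d' := QuotientGroup.eq.2 (by
        rw [show w⁻¹ = w from Subtype.ext (by
          obtain ⟨l, hl, hw'⟩ := (hw : (w : G) ∈ O)
          rw [Subgroup.coe_inv, hw', inv_eq hT (hc l d hd)])]
        exact hTc.mul_mem_pCore hw (show d' ∈ T from hdX))
      rw [this]
      exact Subgroup.mem_zpowers _
    refine Group.isSolvable_of_comm fun u v => ?_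
    obtain ⟨i, hi⟩ := hle (Subgroup.mem_top u)
    obtain ⟨j, hj⟩ := hle (Subgroup.mem_top v)
    rw [← hi, ← hj]
    exact Commute.zpow_zpow_self _ i j
  · by_contra hcon
    push Not at hcon
    have hsq : ∀ l ∈ K, (d * (l * d * l⁻¹)) ^ 2 = 1 := fun l hl =>
      (hT.2 d hd _ (hc l d hd)).elim id (fun h => by rw [hcon l hl h, one_pow])
    apply hsol
    have : IsMulCommutative X := Subgroup.isMulCommutative_closure (by
      rintro - ⟨m, hm, rfl⟩ - ⟨l, hl, rfl⟩
      have h1 := (sq_eq_one_iff hT hd (hc _ d hd)).1 (hsq _ (mul_mem (inv_mem hm) hl))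
      have h2 := (commute_conj m _ _).2 h1
      rw [show m * (m⁻¹ * l * d * (m⁻¹ * l)⁻¹) * m⁻¹ = l * d * l⁻¹ by group] at h2
      exact h2.eq)
    exact Group.isSolvable_of_comm fun u v => mul_comm' u v

/-- There is exactly one component. -/
theorem exists_quasisimple : ∃ L : Subgroup G, L.Normal ∧ IsQuasisimple L ∧ layer G = L ∧
    generalizedFittingSubgroup G = L ⊔ Subgroup.center G := by
  have hT := hD.1
  obtain ⟨K, hK⟩ : ∃ K : Subgroup G, IsComponent K := by
    by_contra hcon
    push Not at hcon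
    exact layer_ne_bot hD hD2 h2 h3 (Layer.layer_eq_bot_iff.2 hcon)
  have hKn := component_normal hD hK
  have huniq : ∀ L : Subgroup G, IsComponent L → L = K := by
    intro L hL
    by_contra hne
    have hLn := component_normal hD hL
    have hD2' := hD2
    obtain ⟨d, hd, -⟩ := hD2'
    obtain ⟨l, hl, ht2, ht⟩ := (exists_pair_orders hD hD2 h2 h3 hK.2 hd).1
    obtain ⟨m, hm, hs3, hs⟩ := (exists_pair_orders hD hD2 h2 h3 hL.2 hd).2
    have hcom : ∀ u ∈ K, ∀ v ∈ L, Commute u v := fun u hu v hv =>
      Layer.commute_of_commutator_eq_bot (Layer.components_commute hK hL (Ne.symm hne)) hu hv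
    set t := d * (l * d * l⁻¹) with htdef
    set s := d * (m * d * m⁻¹) with hsdef
    have hts : Commute t s := hcom t (pair_mem hD hd hl) s (pair_mem hD hd hm)
    have hprod : d * (l * m * d * (l * m)⁻¹) = t * s := by
      calc d * (l * m * d * (l * m)⁻¹) = d * l * (m * d * m⁻¹) * l⁻¹ := by group
        _ = d * l * (d * s) * l⁻¹ := by rw [hsdef, mul_self_mul hT hd]
        _ = d * l * d * (s * l⁻¹) := by simp only [mul_assoc]
        _ = d * l * d * (l⁻¹ * s) := by rw [(hcom _ (inv_mem hl) s (pair_mem hD hd hm)).eq]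
        _ = t * s := by rw [htdef]; simp only [mul_assoc]
    rcases hT.2 d hd _ (class_conj hD (l * m) d hd) with hh | hh
    · rw [hprod, hts.mul_pow, ht2, one_mul] at hh
      exact hs (by
        rw [pow_succ, hh, one_mul] at hs3
        exact hs3)
    · rw [hprod, hts.mul_pow, hs3, mul_one, pow_succ, ht2, one_mul] at hh
      exact ht hh
  have hlayer : layer G = K :=
    le_antisymm (sSup_le fun L hL => (huniq L hL).le) (Layer.component_le_layer hK)
  refine ⟨K, hKn, hK.2, hlayer, ?_⟩
  rw [generalizedFittingSubgroup, hlayer]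
  refine le_antisymm (sup_le_sup_left (fitting_le_center hD h2 h3) _) (sup_le_sup_left ?_ _)
  exact Core.le_fittingSubgroup_of_isMulCommutative

theorem layer_eq_of_quasisimple {L : Subgroup G} [hL : L.Normal] (hqs : IsQuasisimple L) :
    layer G = L := by
  obtain ⟨K, -, hK, hlay, -⟩ := exists_quasisimple hD hD2 h2 h3
  have hLc : IsComponent L := ⟨Subgroup.Normal.isSubnormal hL, hqs⟩
  refine le_antisymm ?_ (Layer.component_le_layer hLc)
  have hKc : IsComponent K := by
    obtain ⟨K', hK'⟩ : ∃ K' : Subgroup G, IsComponent K' := ⟨L, hLc⟩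
    refine ⟨?_, hK⟩
    rw [← hlay]
    exact (inferInstance : (layer G).Normal).isSubnormal
  have : L ≤ K := hlay ▸ Layer.component_le_layer hLc
  rw [hlay, ← Layer.component_eq_of_le hLc hKc this]

/-- Commuting members are congruent modulo a normal quasisimple subgroup. -/
theorem mul_mem_of_commute {L : Subgroup G} [L.Normal] (hL : IsQuasisimple L) (ha : a ∈ D)
    (hb : b ∈ D) (hab : Commute a b) : a * b ∈ L := by
  have hT := hD.1
  have hc := class_conj hD
  by_contra hnot
  let π := QuotientGroup.mk' L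
  have hbc : ∀ l ∈ L, Commute b (l * a * l⁻¹) := by
    intro l hl
    by_contra hncm
    apply hnot
    have hπl : π l = 1 := (QuotientGroup.eq_one_iff l).2 hl
    have h1 := congrArg π (cube_of_not_commute hT hb (hc l a ha) hncm)
    have hπ2 : π (a * b) ^ 2 = 1 := by
      rw [← map_pow, (sq_eq_one_iff hT ha hb).2 hab, map_one]
    rw [map_pow, map_mul, map_mul, map_mul, map_inv, hπl, inv_one, mul_one, one_mul, map_one,
      ← map_mul, ← hab.eq, pow_succ, hπ2, one_mul] at h1
    exact (QuotientGroup.eq_one_iff _).1 h1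
  set Y := Subgroup.closure {n : G | ∃ l ∈ L, n = a * (l * a * l⁻¹)} with hY
  have hYL : Y ≤ L := by
    rw [hY, Subgroup.closure_le]; rintro - ⟨l, hl, rfl⟩; exact pair_mem hD ha hl
  have hYn : L ≤ Subgroup.normalizer (Y : Set G) := by
    have hmove : ∀ k ∈ L, ∀ n ∈ Y, k * n * k⁻¹ ∈ Y := by
      intro k hk n hn
      induction hn using Subgroup.closure_induction with
      | mem n hn =>
        obtain ⟨l, hl, rfl⟩ := hn
        have e : k * (a * (l * a * l⁻¹)) * k⁻¹ =
            (a * (k * a * k⁻¹))⁻¹ * (a * ((k * l) * a * (k * l)⁻¹)) := by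
          simp only [mul_inv_rev, inv_inv, inv_eq hT ha, mul_assoc, mul_self_mul hT ha, inv_mul_cancel_left]
        rw [e]
        exact mul_mem (inv_mem (Subgroup.subset_closure ⟨k, hk, rfl⟩))
          (Subgroup.subset_closure ⟨k * l, mul_mem hk hl, rfl⟩)
      | one => simp
      | mul u v _ _ hu hv =>
        rw [show k * (u * v) * k⁻¹ = (k * u * k⁻¹) * (k * v * k⁻¹) by group]
        exact mul_mem hu hv
      | inv u _ hu =>
        rw [show k * u⁻¹ * k⁻¹ = (k * u * k⁻¹)⁻¹ by group]
        exact inv_mem hu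
    intro k hk
    rw [Subgroup.mem_normalizer_iff]
    intro n
    refine ⟨hmove k hk n, fun hn => ?_⟩
    have h1 := hmove k⁻¹ (inv_mem hk) _ hn
    rwa [show k⁻¹ * (k * n * k⁻¹) * k⁻¹⁻¹ = n by group] at h1
  have hbY : ∀ n ∈ Y, Commute b n := by
    intro n hn
    induction hn using Subgroup.closure_induction with
    | mem n hn =>
      obtain ⟨l, hl, rfl⟩ := hn
      exact hab.symm.mul_right (hbc l hl)
    | one => exact Commute.one_right b
    | mul u v _ _ hu hv => exact hu.mul_right hv
    | inv u _ hu => exact hu.inv_right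
  rcases Layer.qs_sub_normalized_cases hL hYL hYn with h | h
  · obtain ⟨l, hl, hbl⟩ := exists_not_commute_component hD hL hb
    exact hbl (hbY l (h ▸ hl))
  · obtain ⟨l, hl, ht, htne⟩ := (exists_pair_orders hD hD2 h2 h3 hL ha).1
    set t := a * (l * a * l⁻¹) with htdef
    have htY : t ∈ Y := Subgroup.subset_closure ⟨l, hl, rfl⟩
    apply htne
    -- `t` centralises `L`, so is central in `G`
    have : IsMulCommutative (L ⊓ Subgroup.centralizer (L : Set G) : Subgroup G) :=
      ⟨⟨fun u v => Subtype.ext (Subgroup.mem_centralizer_iff.1 v.2.2 u.1 u.2.1)⟩⟩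
    have hmem : t ∈ L ⊓ Subgroup.centralizer (L : Set G) := by
      refine ⟨hYL htY, Subgroup.mem_centralizer_iff.2 fun u hu => ?_⟩
      exact (Layer.commute_of_commutator_eq_bot h htY hu).symm
    have htZ : t ∈ Subgroup.center G :=
      fitting_le_center hD h2 h3 (Core.le_fittingSubgroup_of_isMulCommutative hmem)
    have h5 := eq_of_mul_mem_center hD hD2 h2 ha (hc l a ha) htZ
    rw [htdef, ← h5, mul_self hT ha]

theorem mul_mem_of_commutator_mem {L : Subgroup G} [hLn : L.Normal] (hL : IsQuasisimple L)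
    (ha : a ∈ D) (hb : b ∈ D) (h : a * b * a⁻¹ * b⁻¹ ∈ L) : a⁻¹ * b ∈ L := by
  have hT := hD.1
  rw [inv_eq hT ha]
  by_cases hab : Commute a b
  · exact mul_mem_of_commute hD hD2 h2 h3 hL ha hb hab
  · rw [inv_eq hT ha, inv_eq hT hb] at h
    have h2' : (a * b) ^ 2 ∈ L := by rw [sq]; simpa only [mul_assoc] using h
    have h4 : a * b = (a * b) ^ 2 * (a * b) ^ 2 := by
      rw [← pow_add, show 2 + 2 = 3 + 1 from rfl, pow_succ, cube_of_not_commute hT ha hb hab, one_mul]
    rw [h4]; exact mul_mem h2' h2'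

end Class

end Cfsg.Agent.ThreeTrans
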