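import Cfsg.Agent.ThreeTrans.FourPoint

/-!
# Three points of a commutative idempotent distributive quasigroup

Three elements lie in a homomorphic image of the affine plane of order three.
-/

set_option autoImplicit false
set_option maxRecDepth 100000

namespace Cfsg.Agent.ThreeTrans

variable {α : Type*} {op : α → α → α}

theorem exists_plane (idem : ∀ x, op x x = x) (cm : ∀ x y, op x y = op y x)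
    (inv : ∀ x y, op x (op x y) = y) (dist : ∀ g x y, op g (op x y) = op (op g x) (op g y))
    (a b c : α) :
    ∃ f : (Fin 2 → ZMod 3) → α, f ![0, 0] = a ∧ f ![1, 0] = b ∧ f ![0, 1] = c ∧
      ∀ v w, op (f v) (f w) = f (-v - w) := by
  obtain ⟨e3, h4⟩ : ∃ e, op a b = e := ⟨_, rfl⟩
  obtain ⟨e4, h11⟩ : ∃ e, op a c = e := ⟨_, rfl⟩
  obtain ⟨e5, h18⟩ : ∃ e, op b c = e := ⟨_, rfl⟩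
  obtain ⟨e6, h25⟩ : ∃ e, op e3 c = e := ⟨_, rfl⟩
  obtain ⟨e7, h39⟩ : ∃ e, op e4 b = e := ⟨_, rfl⟩
  obtain ⟨e8, h70⟩ : ∃ e, op e5 a = e := ⟨_, rfl⟩
  have h0 : op a a = a := idem a
  have h1 : op b b = b := idem b
  have h2 : op c c = c := idem c
  have h3 : op e3 e3 = e3 := idem e3
  have h5 : op b a = e3 := FourPoint.p213 cm h4
  have h6 : op a e3 = b := FourPoint.p132 inv h4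
  have h7 : op e3 a = b := FourPoint.p213 cm (FourPoint.p132 inv h4)
  have h8 : op b e3 = a := FourPoint.p132 inv (FourPoint.p213 cm h4)
  have h9 : op e3 b = a := FourPoint.p321 cm inv h4
  have h10 : op e4 e4 = e4 := idem e4
  have h12 : op c a = e4 := FourPoint.p213 cm h11
  have h13 : op a e4 = c := FourPoint.p132 inv h11
  have h14 : op e4 a = c := FourPoint.p213 cm (FourPoint.p132 inv h11)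
  have h15 : op c e4 = a := FourPoint.p132 inv (FourPoint.p213 cm h11)
  have h16 : op e4 c = a := FourPoint.p321 cm inv h11
  have h17 : op e5 e5 = e5 := idem e5
  have h19 : op c b = e5 := FourPoint.p213 cm h18
  have h20 : op b e5 = c := FourPoint.p132 inv h18
  have h21 : op e5 b = c := FourPoint.p213 cm (FourPoint.p132 inv h18)
  have h22 : op c e5 = b := FourPoint.p132 inv (FourPoint.p213 cm h18)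
  have h23 : op e5 c = b := FourPoint.p321 cm inv h18
  have h24 : op e6 e6 = e6 := idem e6
  have h26 : op c e3 = e6 := FourPoint.p213 cm h25
  have h27 : op e3 e6 = c := FourPoint.p132 inv h25
  have h28 : op e6 e3 = c := FourPoint.p213 cm (FourPoint.p132 inv h25)
  have h29 : op c e6 = e3 := FourPoint.p132 inv (FourPoint.p213 cm h25)
  have h30 : op e6 c = e3 := FourPoint.p321 cm inv h25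
  have h31 : op e6 e4 = e5 := FourPoint.dist1 dist h7 h26 h12 h19
  have h32 : op e4 e6 = e5 := FourPoint.p213 cm h31
  have h33 : op e6 e5 = e4 := FourPoint.p132 inv h31
  have h34 : op e5 e6 = e4 := FourPoint.p213 cm (FourPoint.p132 inv h31)
  have h35 : op e4 e5 = e6 := FourPoint.p132 inv (FourPoint.p213 cm h31)
  have h36 : op e5 e4 = e6 := FourPoint.p321 cm inv h31
  have h38 : op e7 e7 = e7 := idem e7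
  have h40 : op b e4 = e7 := FourPoint.p213 cm h39
  have h41 : op e4 e7 = b := FourPoint.p132 inv h39
  have h42 : op e7 e4 = b := FourPoint.p213 cm (FourPoint.p132 inv h39)
  have h43 : op b e7 = e4 := FourPoint.p132 inv (FourPoint.p213 cm h39)
  have h44 : op e7 b = e4 := FourPoint.p321 cm inv h39
  have h45 : op a e7 = e6 := FourPoint.dist2 dist h39 h13 h4 h26
  have h46 : op e7 a = e6 := FourPoint.p213 cm h45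
  have h47 : op a e6 = e7 := FourPoint.p132 inv h45
  have h48 : op e6 a = e7 := FourPoint.p213 cm (FourPoint.p132 inv h45)
  have h49 : op e7 e6 = a := FourPoint.p132 inv (FourPoint.p213 cm h45)
  have h50 : op e6 e7 = a := FourPoint.p321 cm inv h45
  have h51 : op e5 e7 = e3 := FourPoint.dist2 dist h39 h36 h21 h30
  have h52 : op e7 e5 = e3 := FourPoint.p213 cm h51
  have h53 : op e5 e3 = e7 := FourPoint.p132 inv h51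
  have h54 : op e3 e5 = e7 := FourPoint.p213 cm (FourPoint.p132 inv h51)
  have h55 : op e7 e3 = e5 := FourPoint.p132 inv (FourPoint.p213 cm h51)
  have h56 : op e3 e7 = e5 := FourPoint.p321 cm inv h51
  have h69 : op e8 e8 = e8 := idem e8
  have h71 : op a e5 = e8 := FourPoint.p213 cm h70
  have h72 : op e5 e8 = a := FourPoint.p132 inv h70
  have h73 : op e8 e5 = a := FourPoint.p213 cm (FourPoint.p132 inv h70)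
  have h74 : op a e8 = e5 := FourPoint.p132 inv (FourPoint.p213 cm h70)
  have h75 : op e8 a = e5 := FourPoint.p321 cm inv h70
  have h76 : op b e8 = e6 := FourPoint.dist2 dist h70 h20 h5 h26
  have h77 : op e8 b = e6 := FourPoint.p213 cm h76
  have h78 : op b e6 = e8 := FourPoint.p132 inv h76
  have h79 : op e6 b = e8 := FourPoint.p213 cm (FourPoint.p132 inv h76)
  have h80 : op e8 e6 = b := FourPoint.p132 inv (FourPoint.p213 cm h76)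
  have h81 : op e6 e8 = b := FourPoint.p321 cm inv h76
  have h82 : op c e8 = e7 := FourPoint.dist2 dist h70 h22 h12 h40
  have h83 : op e8 c = e7 := FourPoint.p213 cm h82
  have h84 : op c e7 = e8 := FourPoint.p132 inv h82
  have h85 : op e7 c = e8 := FourPoint.p213 cm (FourPoint.p132 inv h82)
  have h86 : op e8 e7 = c := FourPoint.p132 inv (FourPoint.p213 cm h82)
  have h87 : op e7 e8 = c := FourPoint.p321 cm inv h82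
  have h88 : op e3 e8 = e4 := FourPoint.dist2 dist h70 h54 h7 h44
  have h89 : op e8 e3 = e4 := FourPoint.p213 cm h88
  have h90 : op e3 e4 = e8 := FourPoint.p132 inv h88
  have h91 : op e4 e3 = e8 := FourPoint.p213 cm (FourPoint.p132 inv h88)
  have h92 : op e8 e4 = e3 := FourPoint.p132 inv (FourPoint.p213 cm h88)
  have h93 : op e4 e8 = e3 := FourPoint.p321 cm inv h88
  have key : ∀ i j k l : Fin 3, op ((![![a, c, e4], ![b, e8, e6], ![e3, e7, e5]] : Fin 3 → Fin 3 → α) i j) ((![![a, c, e4], ![b, e8, e6], ![e3, e7, e5]] : Fin 3 → Fin 3 → α) k l) =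
        (![![a, c, e4], ![b, e8, e6], ![e3, e7, e5]] : Fin 3 → Fin 3 → α) ((![![0, 2, 1], ![2, 1, 0], ![1, 0, 2]] : Fin 3 → Fin 3 → Fin 3) i k) ((![![0, 2, 1], ![2, 1, 0], ![1, 0, 2]] : Fin 3 → Fin 3 → Fin 3) j l) := by
    intro i j k l
    match i, j, k, l with
    | ⟨0, _⟩, ⟨0, _⟩, ⟨0, _⟩, ⟨0, _⟩ => exact h0
    | ⟨0, _⟩, ⟨0, _⟩, ⟨1, _⟩, ⟨0, _⟩ => exact h4
    | ⟨0, _⟩, ⟨0, _⟩, ⟨0, _⟩, ⟨1, _⟩ => exact h11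
    | ⟨0, _⟩, ⟨0, _⟩, ⟨2, _⟩, ⟨0, _⟩ => exact h6
    | ⟨0, _⟩, ⟨0, _⟩, ⟨0, _⟩, ⟨2, _⟩ => exact h13
    | ⟨0, _⟩, ⟨0, _⟩, ⟨2, _⟩, ⟨2, _⟩ => exact h71
    | ⟨0, _⟩, ⟨0, _⟩, ⟨1, _⟩, ⟨2, _⟩ => exact h47
    | ⟨0, _⟩, ⟨0, _⟩, ⟨2, _⟩, ⟨1, _⟩ => exact h45
    | ⟨0, _⟩, ⟨0, _⟩, ⟨1, _⟩, ⟨1, _⟩ => exact h74
    | ⟨1, _⟩, ⟨0, _⟩, ⟨0, _⟩, ⟨0, _⟩ => exact h5
    | ⟨1, _⟩, ⟨0, _⟩, ⟨1, _⟩, ⟨0, _⟩ => exact h1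
    | ⟨1, _⟩, ⟨0, _⟩, ⟨0, _⟩, ⟨1, _⟩ => exact h18
    | ⟨1, _⟩, ⟨0, _⟩, ⟨2, _⟩, ⟨0, _⟩ => exact h8
    | ⟨1, _⟩, ⟨0, _⟩, ⟨0, _⟩, ⟨2, _⟩ => exact h40
    | ⟨1, _⟩, ⟨0, _⟩, ⟨2, _⟩, ⟨2, _⟩ => exact h20
    | ⟨1, _⟩, ⟨0, _⟩, ⟨1, _⟩, ⟨2, _⟩ => exact h78
    | ⟨1, _⟩, ⟨0, _⟩, ⟨2, _⟩, ⟨1, _⟩ => exact h43
    | ⟨1, _⟩, ⟨0, _⟩, ⟨1, _⟩, ⟨1, _⟩ => exact h76
    | ⟨0, _⟩, ⟨1, _⟩, ⟨0, _⟩, ⟨0, _⟩ => exact h12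
    | ⟨0, _⟩, ⟨1, _⟩, ⟨1, _⟩, ⟨0, _⟩ => exact h19
    | ⟨0, _⟩, ⟨1, _⟩, ⟨0, _⟩, ⟨1, _⟩ => exact h2
    | ⟨0, _⟩, ⟨1, _⟩, ⟨2, _⟩, ⟨0, _⟩ => exact h26
    | ⟨0, _⟩, ⟨1, _⟩, ⟨0, _⟩, ⟨2, _⟩ => exact h15
    | ⟨0, _⟩, ⟨1, _⟩, ⟨2, _⟩, ⟨2, _⟩ => exact h22
    | ⟨0, _⟩, ⟨1, _⟩, ⟨1, _⟩, ⟨2, _⟩ => exact h29
    | ⟨0, _⟩, ⟨1, _⟩, ⟨2, _⟩, ⟨1, _⟩ => exact h84
    | ⟨0, _⟩, ⟨1, _⟩, ⟨1, _⟩, ⟨1, _⟩ => exact h82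
    | ⟨2, _⟩, ⟨0, _⟩, ⟨0, _⟩, ⟨0, _⟩ => exact h7
    | ⟨2, _⟩, ⟨0, _⟩, ⟨1, _⟩, ⟨0, _⟩ => exact h9
    | ⟨2, _⟩, ⟨0, _⟩, ⟨0, _⟩, ⟨1, _⟩ => exact h25
    | ⟨2, _⟩, ⟨0, _⟩, ⟨2, _⟩, ⟨0, _⟩ => exact h3
    | ⟨2, _⟩, ⟨0, _⟩, ⟨0, _⟩, ⟨2, _⟩ => exact h90
    | ⟨2, _⟩, ⟨0, _⟩, ⟨2, _⟩, ⟨2, _⟩ => exact h54
    | ⟨2, _⟩, ⟨0, _⟩, ⟨1, _⟩, ⟨2, _⟩ => exact h27
    | ⟨2, _⟩, ⟨0, _⟩, ⟨2, _⟩, ⟨1, _⟩ => exact h56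
    | ⟨2, _⟩, ⟨0, _⟩, ⟨1, _⟩, ⟨1, _⟩ => exact h88
    | ⟨0, _⟩, ⟨2, _⟩, ⟨0, _⟩, ⟨0, _⟩ => exact h14
    | ⟨0, _⟩, ⟨2, _⟩, ⟨1, _⟩, ⟨0, _⟩ => exact h39
    | ⟨0, _⟩, ⟨2, _⟩, ⟨0, _⟩, ⟨1, _⟩ => exact h16
    | ⟨0, _⟩, ⟨2, _⟩, ⟨2, _⟩, ⟨0, _⟩ => exact h91
    | ⟨0, _⟩, ⟨2, _⟩, ⟨0, _⟩, ⟨2, _⟩ => exact h10
    | ⟨0, _⟩, ⟨2, _⟩, ⟨2, _⟩, ⟨2, _⟩ => exact h35
    | ⟨0, _⟩, ⟨2, _⟩, ⟨1, _⟩, ⟨2, _⟩ => exact h32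
    | ⟨0, _⟩, ⟨2, _⟩, ⟨2, _⟩, ⟨1, _⟩ => exact h41
    | ⟨0, _⟩, ⟨2, _⟩, ⟨1, _⟩, ⟨1, _⟩ => exact h93
    | ⟨2, _⟩, ⟨2, _⟩, ⟨0, _⟩, ⟨0, _⟩ => exact h70
    | ⟨2, _⟩, ⟨2, _⟩, ⟨1, _⟩, ⟨0, _⟩ => exact h21
    | ⟨2, _⟩, ⟨2, _⟩, ⟨0, _⟩, ⟨1, _⟩ => exact h23
    | ⟨2, _⟩, ⟨2, _⟩, ⟨2, _⟩, ⟨0, _⟩ => exact h53
    | ⟨2, _⟩, ⟨2, _⟩, ⟨0, _⟩, ⟨2, _⟩ => exact h36
    | ⟨2, _⟩, ⟨2, _⟩, ⟨2, _⟩, ⟨2, _⟩ => exact h17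
    | ⟨2, _⟩, ⟨2, _⟩, ⟨1, _⟩, ⟨2, _⟩ => exact h34
    | ⟨2, _⟩, ⟨2, _⟩, ⟨2, _⟩, ⟨1, _⟩ => exact h51
    | ⟨2, _⟩, ⟨2, _⟩, ⟨1, _⟩, ⟨1, _⟩ => exact h72
    | ⟨1, _⟩, ⟨2, _⟩, ⟨0, _⟩, ⟨0, _⟩ => exact h48
    | ⟨1, _⟩, ⟨2, _⟩, ⟨1, _⟩, ⟨0, _⟩ => exact h79
    | ⟨1, _⟩, ⟨2, _⟩, ⟨0, _⟩, ⟨1, _⟩ => exact h30
    | ⟨1, _⟩, ⟨2, _⟩, ⟨2, _⟩, ⟨0, _⟩ => exact h28
    | ⟨1, _⟩, ⟨2, _⟩, ⟨0, _⟩, ⟨2, _⟩ => exact h31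
    | ⟨1, _⟩, ⟨2, _⟩, ⟨2, _⟩, ⟨2, _⟩ => exact h33
    | ⟨1, _⟩, ⟨2, _⟩, ⟨1, _⟩, ⟨2, _⟩ => exact h24
    | ⟨1, _⟩, ⟨2, _⟩, ⟨2, _⟩, ⟨1, _⟩ => exact h50
    | ⟨1, _⟩, ⟨2, _⟩, ⟨1, _⟩, ⟨1, _⟩ => exact h81
    | ⟨2, _⟩, ⟨1, _⟩, ⟨0, _⟩, ⟨0, _⟩ => exact h46
    | ⟨2, _⟩, ⟨1, _⟩, ⟨1, _⟩, ⟨0, _⟩ => exact h44
    | ⟨2, _⟩, ⟨1, _⟩, ⟨0, _⟩, ⟨1, _⟩ => exact h85
    | ⟨2, _⟩, ⟨1, _⟩, ⟨2, _⟩, ⟨0, _⟩ => exact h55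
    | ⟨2, _⟩, ⟨1, _⟩, ⟨0, _⟩, ⟨2, _⟩ => exact h42
    | ⟨2, _⟩, ⟨1, _⟩, ⟨2, _⟩, ⟨2, _⟩ => exact h52
    | ⟨2, _⟩, ⟨1, _⟩, ⟨1, _⟩, ⟨2, _⟩ => exact h49
    | ⟨2, _⟩, ⟨1, _⟩, ⟨2, _⟩, ⟨1, _⟩ => exact h38
    | ⟨2, _⟩, ⟨1, _⟩, ⟨1, _⟩, ⟨1, _⟩ => exact h87
    | ⟨1, _⟩, ⟨1, _⟩, ⟨0, _⟩, ⟨0, _⟩ => exact h75
    | ⟨1, _⟩, ⟨1, _⟩, ⟨1, _⟩, ⟨0, _⟩ => exact h77
    | ⟨1, _⟩, ⟨1, _⟩, ⟨0, _⟩, ⟨1, _⟩ => exact h83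
    | ⟨1, _⟩, ⟨1, _⟩, ⟨2, _⟩, ⟨0, _⟩ => exact h89
    | ⟨1, _⟩, ⟨1, _⟩, ⟨0, _⟩, ⟨2, _⟩ => exact h92
    | ⟨1, _⟩, ⟨1, _⟩, ⟨2, _⟩, ⟨2, _⟩ => exact h73
    | ⟨1, _⟩, ⟨1, _⟩, ⟨1, _⟩, ⟨2, _⟩ => exact h80
    | ⟨1, _⟩, ⟨1, _⟩, ⟨2, _⟩, ⟨1, _⟩ => exact h86
    | ⟨1, _⟩, ⟨1, _⟩, ⟨1, _⟩, ⟨1, _⟩ => exact h69
    | ⟨n + 3, h⟩, _, _, _ => omega
    | _, ⟨n + 3, h⟩, _, _ => omega
    | _, _, ⟨n + 3, h⟩, _ => omega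
    | _, _, _, ⟨n + 3, h⟩ => omega
  have hth : ∀ i k : Fin 3, (![![0, 2, 1], ![2, 1, 0], ![1, 0, 2]] : Fin 3 → Fin 3 → Fin 3) i k = -i - k := by decide
  refine ⟨fun v => (![![a, c, e4], ![b, e8, e6], ![e3, e7, e5]] : Fin 3 → Fin 3 → α) (v 0) (v 1), rfl, rfl, rfl, fun v w => ?_⟩
  refine (key (v 0) (v 1) (w 0) (w 1)).trans ?_
  show _ = _
  exact congrArg₂ _ (hth (v 0) (w 0)) (hth (v 1) (w 1))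

end Cfsg.Agent.ThreeTrans
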