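import Cfsg.Agent.ThreeTrans.Relations
import Cfsg.Agent.ThreeTrans.ThreePoint
import Cfsg.Agent.ThreeTrans.SmallPerm
import Cfsg.Agent.S0436

/-!
# Commuting members have the same partners
-/

set_option autoImplicit false

open Cfsg

namespace Cfsg.Agent.ThreeTrans

variable {G : Type*} [Group G] {D : Set G}

/-- If the members commuting with one member are its class, this holds for every member. -/
theorem commute_imp_tau (hD : IsThreeTranspositionClass D) {d : G} (hd : d ∈ D)
    (hV : {y : G | y ∈ D ∧ Commute d y} = {v : G | v ∈ D ∧ ∀ e ∈ D, Commute v e ↔ Commute d e}) :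
    ∀ e ∈ D, ∀ f ∈ D, Commute e f → Tau D e f := by
  intro e he f hf hef
  obtain ⟨g, rfl⟩ := class_isConj hD hd he
  obtain ⟨f', hf', rfl⟩ := conj_partner (class_conj hD) g hf
  refine tau_conj (class_conj hD) g ?_
  have : f' ∈ {v : G | v ∈ D ∧ ∀ e ∈ D, Commute v e ↔ Commute d e} := by
    rw [← hV]; exact ⟨hf', (commute_conj g d f').1 hef⟩
  exact fun k hk => (this.2 k hk).symm

section Perp

variable [Finite G] (hD : IsThreeTranspositionClass D) (hD2 : ∃ a ∈ D, ∃ b ∈ D, a ≠ b)
  (hperp : ∀ e ∈ D, ∀ f ∈ D, Commute e f → Tau D e f)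

include hD hperp

theorem map_eq_of_commute {e f : G} (he : e ∈ D) (hf : f ∈ D) (h : Commute e f) :
    QuotientGroup.mk' (pCore 2 G) e = QuotientGroup.mk' (pCore 2 G) f :=
  QuotientGroup.eq.2 ((tau_iff (class_toGroup hD) he hf).1 (hperp e he f hf h))

theorem commute_of_map_eq {e f : G} (he : e ∈ D) (hf : f ∈ D)
    (h : QuotientGroup.mk' (pCore 2 G) e = QuotientGroup.mk' (pCore 2 G) f) : Commute e f :=
  commute_of_tau he ((tau_iff (class_toGroup hD) he hf).2 (QuotientGroup.eq.1 h))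

include hD2

theorem image_cubeSet : IsCubeSet (QuotientGroup.mk' (pCore 2 G) '' D) := by
  set π := QuotientGroup.mk' (pCore 2 G)
  have hT := hD.1
  constructor
  · intro q
    obtain ⟨g, rfl⟩ := QuotientGroup.mk'_surjective (pCore 2 G) q
    rintro - ⟨e, he, rfl⟩
    exact ⟨g * e * g⁻¹, class_conj hD g e he, by simp [π]⟩
  · rintro - ⟨e, he, rfl⟩
    refine orderOf_eq_prime (by rw [sq, ← map_mul, mul_self hT he, map_one]) fun h => ?_
    have hmem : e ∈ pCore 2 G := (QuotientGroup.eq_one_iff e).1 h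
    obtain ⟨f, hf, hef⟩ := exists_not_commute hD hD2 he
    obtain ⟨g, hg⟩ := class_isConj hD he hf
    refine hef (commute_of_mem_two hT Core.pCore_isPGroup he hf hmem ?_)
    rw [← hg]
    exact (Core.pCore_normal (p := 2) (G := G)).conj_mem e hmem g
  · rintro - ⟨e, he, rfl⟩ - ⟨f, hf, rfl⟩
    by_cases h : Commute e f
    · rw [show π e = π f from map_eq_of_commute hD hperp he hf h, ← map_mul, mul_self hT hf, map_one,
        one_pow]
    · rw [← map_mul, ← map_pow, cube_of_not_commute hT he hf h, map_one]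

omit hperp hD hD2 in
theorem zpowers_isPGroup_three {u : G} (hu : u ^ 3 = 1) : IsPGroup 3 (Subgroup.zpowers u) := by
  intro w
  obtain ⟨i, hi⟩ := Subgroup.mem_zpowers_iff.1 w.2
  refine ⟨1, Subtype.ext ?_⟩
  rw [pow_one, SubmonoidClass.coe_pow, OneMemClass.coe_one, ← hi, ← zpow_natCast, ← zpow_mul,
    mul_comm, zpow_mul, zpow_natCast, hu, one_zpow]

/-- A member normalises a Sylow 3-subgroup. -/
theorem exists_sylow_three {d : G} (hd : d ∈ D) :
    ∃ P : Sylow 3 G, d ∈ Subgroup.normalizer (P : Set G) := by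
  have : Fact (Nat.Prime 3) := ⟨Nat.prime_three⟩
  have hT := hD.1
  have hc := class_conj hD
  obtain ⟨e, he, hde⟩ := exists_not_commute hD hD2 hd
  set u := d * e with hu
  set S : Set (Subgroup G) :=
    {P | IsPGroup 3 P ∧ u ∈ P ∧ ∀ x ∈ P, d * x * d ∈ P} with hS
  have hne : Subgroup.zpowers u ∈ S := by
    refine ⟨zpowers_isPGroup_three (cube_of_not_commute hT hd he hde), Subgroup.mem_zpowers u, ?_⟩
    intro x hx
    obtain ⟨i, rfl⟩ := Subgroup.mem_zpowers_iff.1 hx
    refine ⟨-i, ?_⟩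
    have h : d * u * d⁻¹ = u⁻¹ := by
      rw [hu, mul_inv_rev, inv_eq hT hd, inv_eq hT he, mul_self_mul hT hd]
    show u ^ (-i) = d * u ^ i * d
    calc u ^ (-i) = (d * u * d⁻¹) ^ i := by rw [h, inv_zpow, zpow_neg]
      _ = d * u ^ i * d⁻¹ := conj_zpow
      _ = d * u ^ i * d := by rw [inv_eq hT hd]
  obtain ⟨P, ⟨hP, huP, hPd⟩, hmax⟩ := (Set.toFinite S).exists_maximal ⟨_, hne⟩
  obtain ⟨Q, hPQ⟩ := hP.exists_le_sylow
  have hdN : d ∈ Subgroup.normalizer (P : Set G) := by
    rw [Subgroup.mem_normalizer_iff]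
    intro y
    rw [inv_eq hT hd]
    refine ⟨hPd y, fun hy => ?_⟩
    have h := hPd _ hy
    rwa [show d * (d * y * d) * d = y by
      simp only [mul_assoc, mul_self hT hd, mul_one]
      exact mul_self_mul hT hd y] at h
  by_cases hPe : P = Q
  · subst hPe
    exact ⟨Q, hdN⟩
  exfalso
  obtain ⟨n, hnQ, hnN, hnP⟩ :
      ∃ n ∈ (Q : Subgroup G), n ∈ Subgroup.normalizer (P : Set G) ∧ n ∉ P := by
    have hnil := Q.isPGroup'.isNilpotent
    have hlt' : P.subgroupOf (Q : Subgroup G) < ⊤ := by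
      rw [lt_top_iff_ne_top, ne_eq, Subgroup.subgroupOf_eq_top]
      exact fun h => hPe (le_antisymm hPQ h)
    have h1 := Group.normalizerCondition_of_isNilpotent (G := (Q : Subgroup G)) _ hlt'
    obtain ⟨n, hn, hn'⟩ := SetLike.exists_of_lt h1
    refine ⟨n, n.2, ?_, fun h => hn' h⟩
    rw [Subgroup.mem_normalizer_iff]
    intro y
    constructor
    · intro hy
      exact (Subgroup.mem_normalizer_iff.1 hn ⟨y, hPQ hy⟩).1 hy
    · intro hy
      have hyQ : y ∈ (Q : Subgroup G) := by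
        have h2 := (Q : Subgroup G).mul_mem
          ((Q : Subgroup G).mul_mem ((Q : Subgroup G).inv_mem n.2) (hPQ hy)) n.2
        simpa [mul_assoc] using h2
      exact (Subgroup.mem_normalizer_iff.1 hn ⟨y, hyQ⟩).2 hy
  have key : ∀ m : G, m ∈ Subgroup.normalizer (P : Set G) → IsPGroup 3 (Subgroup.zpowers m) →
      d * m * d ∈ P ⊔ Subgroup.zpowers m → m ∈ P := by
    intro m hmN hm3 hma
    have h3 : IsPGroup 3 (P ⊔ Subgroup.zpowers m : Subgroup G) :=
      hP.to_sup_of_normal_left' hm3 (by rwa [Subgroup.zpowers_le])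
    have hinv : ∀ x ∈ P ⊔ Subgroup.zpowers m, d * x * d ∈ P ⊔ Subgroup.zpowers m := by
      have hsub : P ⊔ Subgroup.zpowers m ≤
          (P ⊔ Subgroup.zpowers m).comap (MulAut.conj d).toMonoidHom := by
        refine sup_le (fun x hx => ?_) ?_
        · rw [Subgroup.mem_comap, MulEquiv.coe_toMonoidHom, MulAut.conj_apply, inv_eq hT hd]
          exact le_sup_left (a := P) (hPd x hx)
        · rw [Subgroup.zpowers_le, Subgroup.mem_comap, MulEquiv.coe_toMonoidHom, MulAut.conj_apply,
            inv_eq hT hd]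
          exact hma
      intro x hx
      have h := hsub hx
      rwa [Subgroup.mem_comap, MulEquiv.coe_toMonoidHom, MulAut.conj_apply, inv_eq hT hd] at h
    exact hmax ⟨h3, le_sup_left (a := P) huP, hinv⟩ le_sup_left
      (le_sup_right (a := P) (Subgroup.mem_zpowers m))
  set d' := n * d * n⁻¹ with hd'
  have hd'D : d' ∈ D := hc n d hd
  set q := d * d' with hq
  have hqN : q ∈ Subgroup.normalizer (P : Set G) :=
    mul_mem hdN (mul_mem (mul_mem hnN hdN) (inv_mem hnN))
  have hdn : d * n * d = q * n := by rw [hq, hd']; group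
  have hcyc : IsPGroup 3 (Subgroup.zpowers n) :=
    Q.isPGroup'.to_le (by rwa [Subgroup.zpowers_le])
  by_cases hdd' : Commute d d'
  · -- then `n` centralises `d`
    have hqO : q ∈ pCore 2 G :=
      tau_mem_pCore hT hc hd hd'D (hperp d hd d' hd'D hdd')
    have hqu : q * u * q⁻¹ * u⁻¹ = 1 := by
      have h1 : q * u * q⁻¹ * u⁻¹ ∈ P :=
        mul_mem ((Subgroup.mem_normalizer_iff.1 hqN u).1 huP) (inv_mem huP)
      have h2 : q * u * q⁻¹ * u⁻¹ ∈ pCore 2 G := by
        rw [show q * u * q⁻¹ * u⁻¹ = q * (u * q⁻¹ * u⁻¹) by group]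
        exact mul_mem hqO ((Core.pCore_normal (p := 2) (G := G)).conj_mem _ (inv_mem hqO) u)
      obtain ⟨k, hk⟩ := hP ⟨_, h1⟩
      exact eq_one_of_mem_pGroup Core.pCore_isPGroup h2
        (n := 3 ^ k) (by simpa using congrArg Subtype.val hk)
        (Nat.Coprime.pow_left k (by norm_num : Nat.Coprime 3 2))
    have hqeq : d' = d := by
      by_contra hne
      exact hde ((S0436.result hT hd hd'D he (Ne.symm hne) hdd').1 (by
        show e * q = q * e
        have h4 : q * u = u * q := by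
          rw [mul_inv_eq_one, mul_inv_eq_iff_eq_mul] at hqu
          exact hqu
        have hqd : q * d = d * q := by
          rw [hq, mul_assoc, ← hdd'.eq, ← mul_assoc]
        have : q * e = e * q := by
          calc q * e = q * (d * u) := by rw [hu, mul_self_mul hT hd]
            _ = (q * d) * u := (mul_assoc _ _ _).symm
            _ = d * (q * u) := by rw [hqd, mul_assoc]
            _ = d * (u * q) := by rw [h4]
            _ = e * q := by rw [← mul_assoc, hu, mul_self_mul hT hd]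
        exact this.symm)).1.symm
    refine hnP (key n hnN hcyc ?_)
    rw [hdn, hq, hqeq, mul_self hT hd, one_mul]
    exact le_sup_right (a := P) (Subgroup.mem_zpowers n)
  · by_cases hqP : q ∈ P
    · refine hnP (key n hnN hcyc ?_)
      rw [hdn]
      exact mul_mem (le_sup_left (a := P) hqP) (le_sup_right (a := P) (Subgroup.mem_zpowers n))
    · refine hqP (key q hqN (zpowers_isPGroup_three (cube_of_not_commute hT hd hd'D hdd')) ?_)
      rw [show d * q * d = q⁻¹ by
        rw [hq, mul_inv_rev, inv_eq hT hd, inv_eq hT hd'D, mul_self_mul hT hd]]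
      exact inv_mem (le_sup_right (a := P) (Subgroup.mem_zpowers q))

theorem eq_top_of_sylow_three {d : G} (hd : d ∈ D) (P : Sylow 3 G) :
    Subgroup.zpowers d ⊔ (P : Subgroup G) ⊔ pCore 2 G = ⊤ := by
  have : Fact (Nat.Prime 3) := ⟨Nat.prime_three⟩
  have hT := hD.1
  set π := QuotientGroup.mk' (pCore 2 G)
  set H := Subgroup.zpowers d ⊔ (P : Subgroup G) ⊔ pCore 2 G
  rw [eq_top_iff, ← hD.2.2, Subgroup.closure_le]
  intro e he
  have h1 : π d * π e ∈ ((P : Subgroup G).map π) :=
    Core.pCore_le_sylow (P.mapSurjective (QuotientGroup.mk'_surjective _))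
      ((image_cubeSet hD hD2 hperp).mul_mem_pCore ⟨d, hd, rfl⟩ ⟨e, he, rfl⟩)
  obtain ⟨p, hp, hpe⟩ := h1
  rw [← map_mul] at hpe
  have hmem : p⁻¹ * (d * e) ∈ pCore 2 G := QuotientGroup.eq.1 hpe
  have hdH : d ∈ H := le_sup_left (b := pCore 2 G)
    (le_sup_left (b := (P : Subgroup G)) (Subgroup.mem_zpowers d))
  have hpH : p ∈ H := le_sup_left (b := pCore 2 G) (le_sup_right (a := Subgroup.zpowers d) hp)
  rw [SetLike.mem_coe, show e = d * (p * (p⁻¹ * (d * e))) by
    rw [mul_inv_cancel_left, mul_self_mul hT hd]]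
  exact mul_mem hdH (mul_mem hpH (le_sup_right (a := Subgroup.zpowers d ⊔ (P : Subgroup G)) hmem))

/-- With classes of two members the group is symmetric of degree four. -/
theorem symmetric_four {d : G} (hd : d ∈ D) (hm : {y : G | y ∈ D ∧ Commute d y}.ncard = 2) :
    Nonempty (G ≃* Equiv.Perm (Fin 4)) := by
  classical
  have hT := hD.1
  have hc := class_conj hD
  have hpart : ∀ e ∈ D, ∃ v ∈ D, v ≠ e ∧ Commute e v ∧
      ∀ f ∈ D, Commute e f → f = e ∨ f = v := by
    intro e he
    obtain ⟨g, rfl⟩ := class_isConj hD hd he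
    obtain ⟨p, q, hpq, hset⟩ := Set.ncard_eq_two.1 hm
    have hd' : d ∈ ({p, q} : Set G) := hset ▸ (⟨hd, Commute.refl d⟩ : d ∈ {y : G | y ∈ D ∧ Commute d y})
    obtain ⟨v, hvd, hpair⟩ : ∃ v, v ≠ d ∧ {y : G | y ∈ D ∧ Commute d y} = {d, v} := by
      rcases hd' with rfl | rfl
      · exact ⟨q, hpq.symm, hset⟩
      · exact ⟨p, hpq, by rw [hset, Set.pair_comm]⟩
    have hv : v ∈ {y : G | y ∈ D ∧ Commute d y} := by rw [hpair]; exact Or.inr rfl
    refine ⟨g * v * g⁻¹, hc g v hv.1, fun h => hvd (mul_left_cancel (mul_right_cancel h)),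
      (commute_conj g d v).2 hv.2, fun f hf hcf => ?_⟩
    obtain ⟨f', hf', rfl⟩ := conj_partner hc g hf
    have : f' ∈ ({d, v} : Set G) := hpair ▸ (⟨hf', (commute_conj g d f').1 hcf⟩ :
      f' ∈ {y : G | y ∈ D ∧ Commute d y})
    rcases this with rfl | rfl
    · exact Or.inl rfl
    · exact Or.inr rfl
  choose! v hvD hvne hvc hvu using hpart
  let Z : G → G := fun e => e * v e
  have hZconst : ∀ e ∈ D, ∀ f ∈ D, Commute e f → Z e = Z f := by
    intro e he f hf hef
    rcases hvu e he f hf hef with rfl | rfl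
    · rfl
    · have hv2 : v (v e) = e :=
        ((hvu _ (hvD e he) e he (hvc e he).symm).resolve_left fun h => hvne e he h.symm).symm
      show e * v e = v e * v (v e)
      rw [hv2]; exact (hvc e he).eq
  obtain ⟨b₀, hb₀, hdb⟩ := exists_not_commute hD hD2 hd
  have hnc : ∀ p ∈ D, ∀ q ∈ D, ¬ Commute p q → ¬ Commute (v p) q := fun p hp q hq h hh =>
    h ((hperp p hp _ (hvD p hp) (hvc p hp) q hq).2 hh)
  have hhom : ∀ p ∈ D, ∀ q ∈ D, ¬ Commute p q → ∃ φ : Equiv.Perm (Fin 4) →* G,
      φ (SmallPerm.s4 0) = p ∧ φ (SmallPerm.s4 1) = q ∧ φ (SmallPerm.s4 2) = v p :=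
    fun p hp q hq h =>
      ⟨SmallPerm.hom (mul_self hT hp) (mul_self hT hq) (mul_self hT (hvD p hp))
        (braid hT hq hp fun hh => h hh.symm) (hvc p hp).symm.eq (braid hT (hvD p hp) hq (hnc p hp q hq h)),
        SmallPerm.hom_gen _ _ _ _ _ _ 0, SmallPerm.hom_gen _ _ _ _ _ _ 1,
        SmallPerm.hom_gen _ _ _ _ _ _ 2⟩
  have hinj : ∀ φ : Equiv.Perm (Fin 4) →* G,
      φ (SmallPerm.s4 0 * SmallPerm.s4 2) ≠ 1 → Function.Injective φ := by
    intro φ hφ
    rw [injective_iff_map_eq_one]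
    intro σ hσ
    by_contra hne
    have key : ∀ σ : Equiv.Perm (Fin 4), σ ≠ 1 → ∃ g h : Equiv.Perm (Fin 4),
        g * σ * g⁻¹ * (h * σ * h⁻¹) = SmallPerm.s4 0 * SmallPerm.s4 2 := by decide +kernel
    obtain ⟨g, h, hgh⟩ := key σ hne
    apply hφ
    rw [← hgh]
    simp only [map_mul, map_inv, hσ, mul_one, mul_inv_cancel]
  -- the products of partners along a line
  have hline : ∀ p ∈ D, ∀ q ∈ D, ¬ Commute p q → Z (q * p * q) = Z p * Z q := by
    intro p hp q hq h
    obtain ⟨φ, h0, h1, h2⟩ := hhom p hp q hq h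
    have hφ : Function.Injective φ := hinj φ (by
      rw [map_mul, h0, h2]
      intro h'
      exact hvne p hp (by rw [eq_inv_of_mul_eq_one_right h', inv_eq hT hp]))
    let s03 : Equiv.Perm (Fin 4) := Equiv.swap 0 3
    let s13 : Equiv.Perm (Fin 4) := Equiv.swap 1 3
    have hex : ∀ σ ∈ ([s03, s13] : List (Equiv.Perm (Fin 4))), ∃ g : Equiv.Perm (Fin 4),
        σ = g * SmallPerm.s4 0 * g⁻¹ := by decide +kernel
    have hmem : ∀ σ ∈ ([s03, s13] : List (Equiv.Perm (Fin 4))), φ σ ∈ D := by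
      intro σ hσ
      obtain ⟨g, rfl⟩ := hex σ hσ
      rw [map_mul, map_mul, map_inv, h0]
      exact hc _ _ hp
    have hvq : v q = φ s03 := by
      refine ((hvu q hq _ (hmem _ (by simp [s03])) ?_).resolve_left ?_).symm
      · rw [← h1]
        exact (show Commute (SmallPerm.s4 1) s03 from (show _ * _ = _ * _ by decide +kernel)).map φ
      · rw [← h1]
        intro hh
        exact absurd (hφ hh) (by decide +kernel)
    have hr : q * p * q = φ (SmallPerm.s4 1 * SmallPerm.s4 0 * SmallPerm.s4 1) := by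
      simp [map_mul, h0, h1]
    have hvr : v (q * p * q) = φ s13 := by
      refine ((hvu _ (conj_mem hT hc hq hp) _ (hmem _ (by simp [s13])) ?_).resolve_left ?_).symm
      · rw [hr]
        exact (show Commute (SmallPerm.s4 1 * SmallPerm.s4 0 * SmallPerm.s4 1) s13 from
          (show _ * _ = _ * _ by decide +kernel)).map φ
      · rw [hr]
        intro hh
        exact absurd (hφ hh) (by decide +kernel)
    show q * p * q * v (q * p * q) = p * v p * (q * v q)
    rw [hvr, hvq, hr, show v p = φ (SmallPerm.s4 2) from h2.symm, ← h0, ← h1, ← map_mul, ← map_mul, ← map_mul, ← map_mul]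
    congr 1
    decide +kernel
  -- three classes
  set π := QuotientGroup.mk' (pCore 2 G)
  set a₁ := b₀ * d * b₀ with ha₁
  have ha₁D : a₁ ∈ D := conj_mem hT hc hb₀ hd
  have hall : ∀ f ∈ D, Commute f d ∨ Commute f b₀ ∨ Commute f a₁ := by
    intro f hf
    by_contra hcon
    push Not at hcon
    obtain ⟨hfd, hfb, hfa⟩ := hcon
    have hcube := image_cubeSet hD hD2 hperp
    let op : ↥(π '' D) → ↥(π '' D) → ↥(π '' D) :=
      fun s t => ⟨s.1 * t.1 * s.1, hcube.triple_mem s.2 t.2⟩
    obtain ⟨F, F0, F1, F2, hF⟩ := exists_plane (op := op)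
      (fun s => Subtype.ext (by simp [op, hcube.mul_self s.2]))
      (fun s t => Subtype.ext (hcube.braid s.2 t.2))
      (fun s t => Subtype.ext (by
        simp only [op, mul_assoc, hcube.self_mul s.2, hcube.mul_self s.2, mul_one]))
      (fun g s t => Subtype.ext (by simp only [op, mul_assoc, hcube.self_mul g.2]))
      ⟨π d, d, hd, rfl⟩ ⟨π b₀, b₀, hb₀, rfl⟩ ⟨π f, f, hf, rfl⟩
    choose rep hrepD hrep using fun p => (F p).2
    have hop : ∀ p q, π (rep (-p - q)) = π (rep q * rep p * rep q) := by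
      intro p q
      rw [map_mul, map_mul, hrep, hrep, hrep]
      have := congrArg Subtype.val (hF q p)
      simp only [op] at this
      rw [this, show -q - p = -p - q by abel]
    have hcls : ∀ p q, F p = F q → Commute (rep p) (rep q) := fun p q h =>
      commute_of_map_eq hD hperp (hrepD p) (hrepD q) (by rw [hrep, hrep, h])
    have base : π (rep ![0, 0]) = π d ∧ π (rep ![1, 0]) = π b₀ ∧ π (rep ![0, 1]) = π f :=
      ⟨by rw [hrep, F0], by rw [hrep, F1], by rw [hrep, F2]⟩
    obtain ⟨hd0, hb1, hf2⟩ := base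
    have h20 : π (rep ![2, 0]) = π a₁ := by
      rw [show (![2, 0] : Fin 2 → ZMod 3) = -![0, 0] - ![1, 0] by decide +kernel, hop, map_mul,
        map_mul, hd0, hb1, ha₁, map_mul, map_mul]
    have hper : ∀ p q, F p = F q → ∀ w, F (w + (p - q)) = F w := by
      intro p q h w
      rw [show w + (p - q) = -(-w - p) - q by abel, ← hF, ← h, hF,
        show -(-w - p) - p = w by abel]
    have hinjF : ∀ p q, F p = F q → p = q := by
      intro p q hpq
      by_contra hne
      have hδ : ∀ δ : Fin 2 → ZMod 3, δ ≠ 0 → δ = ![1, 0] ∨ δ = ![2, 0] ∨ δ = ![0, 1] ∨ δ = ![0, 2] ∨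
          δ = ![1, 1] ∨ δ = ![2, 2] ∨ δ = ![1, 2] ∨ δ = ![2, 1] := by decide +kernel
      have hv' : ∀ u w, w = u + (p - q) → π (rep u) = π (rep w) := fun u w e => by
        rw [hrep, hrep, e, hper p q hpq u]
      have bad : ∀ s t, s ∈ D → t ∈ D → π s = π t → Commute s t := fun s t => commute_of_map_eq hD hperp
      rcases hδ (p - q) (sub_ne_zero.2 hne) with e | e | e | e | e | e | e | e <;> rw [e] at hv'
      · exact hdb (bad d b₀ hd hb₀ (by rw [← hd0, ← hb1]; exact hv' _ _ (by decide +kernel)))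
      · exact hdb (bad d b₀ hd hb₀ (by rw [← hd0, ← hb1]; exact (hv' _ _ (by decide +kernel)).symm))
      · exact hfd (bad f d hf hd (by rw [← hd0, ← hf2]; exact (hv' _ _ (by decide +kernel)).symm))
      · exact hfd (bad f d hf hd (by rw [← hd0, ← hf2]; exact hv' _ _ (by decide +kernel)))
      · exact hfa (bad f a₁ hf ha₁D (by rw [← h20, ← hf2]; exact (hv' _ _ (by decide +kernel)).symm))
      · exact hfa (bad f a₁ hf ha₁D (by rw [← h20, ← hf2]; exact hv' _ _ (by decide +kernel)))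
      · exact hfb (bad f b₀ hf hb₀ (by rw [← hb1, ← hf2]; exact hv' _ _ (by decide +kernel)))
      · exact hfb (bad f b₀ hf hb₀ (by rw [← hb1, ← hf2]; exact (hv' _ _ (by decide +kernel)).symm))
    -- the partner products add up to zero on every line
    set ζ : (Fin 2 → ZMod 3) → G := fun p => Z (rep p)
    have hζ : ∀ p q, p ≠ q → ζ (-p - q) = ζ p * ζ q := by
      intro p q hne
      have h1 : ¬ Commute (rep p) (rep q) := fun h =>
        hne (hinjF p q (Subtype.ext (by
          rw [← hrep p, ← hrep q]; exact map_eq_of_commute hD hperp (hrepD p) (hrepD q) h)))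
      show Z _ = Z _ * Z _
      rw [← hline _ (hrepD p) _ (hrepD q) h1]
      exact hZconst _ (hrepD _) _ (conj_mem hT hc (hrepD q) (hrepD p))
        (commute_of_map_eq hD hperp (hrepD _) (conj_mem hT hc (hrepD q) (hrepD p)) (hop p q))
    have hsq : ∀ p, ζ p * ζ p = 1 := fun p => by
      show rep p * v (rep p) * (rep p * v (rep p)) = 1
      rw [← sq, (sq_eq_one_iff hT (hrepD p) (hvD _ (hrepD p))).2 (hvc _ (hrepD p))]
    have hcm : ∀ p q, Commute (ζ p) (ζ q) := fun p q => by
      rcases eq_or_ne p q with rfl | hne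
      · exact Commute.refl _
      · show ζ p * ζ q = ζ q * ζ p
        rw [← hζ p q hne, ← hζ q p hne.symm]
        congr 1; abel
    have hline3 : ∀ p q r, p ≠ q → r = -p - q → ζ p * ζ q * ζ r = 1 := by
      rintro p q _ hne rfl
      rw [hζ p q hne, ← hsq p]
      have h := hcm p q
      calc ζ p * ζ q * (ζ p * ζ q) = ζ p * ζ p * (ζ q * ζ q) := by
            rw [mul_assoc, ← mul_assoc (ζ q), ← h.eq]; simp only [mul_assoc]
        _ = ζ p * ζ p := by rw [hsq q, mul_one]
    -- the four lines through the origin and two further lines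
    have e1 := hζ ![1, 0] ![2, 0] (by decide +kernel)
    have e2 := hζ ![0, 1] ![0, 2] (by decide +kernel)
    have e3 := hζ ![1, 1] ![2, 2] (by decide +kernel)
    have e4 := hζ ![1, 2] ![2, 1] (by decide +kernel)
    rw [show -(![1, 0] : Fin 2 → ZMod 3) - ![2, 0] = ![0, 0] by decide +kernel] at e1
    rw [show -(![0, 1] : Fin 2 → ZMod 3) - ![0, 2] = ![0, 0] by decide +kernel] at e2
    rw [show -(![1, 1] : Fin 2 → ZMod 3) - ![2, 2] = ![0, 0] by decide +kernel] at e3
    rw [show -(![1, 2] : Fin 2 → ZMod 3) - ![2, 1] = ![0, 0] by decide +kernel] at e4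
    have c1 := hline3 ![1, 0] ![1, 1] ![1, 2] (by decide +kernel) (by decide +kernel)
    have c2 := hline3 ![2, 0] ![2, 2] ![2, 1] (by decide +kernel) (by decide +kernel)
    have h2 : ∀ a b c d : (Fin 2 → ZMod 3), ζ a * ζ b * (ζ c * ζ d) = ζ a * ζ c * (ζ b * ζ d) := by
      intro a b c d
      rw [mul_assoc, ← mul_assoc (ζ b), (hcm b c).eq]; simp only [mul_assoc]
    have h1 : ζ ![0, 0] = 1 := by
      have hprod : ζ ![0, 0] * ζ ![0, 0] * ζ ![0, 0] =
          ζ ![1, 0] * ζ ![1, 1] * ζ ![1, 2] * (ζ ![2, 0] * ζ ![2, 2] * ζ ![2, 1]) := by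
        conv_lhs => rw [show ζ ![0, 0] * ζ ![0, 0] * ζ ![0, 0] =
          (ζ ![1, 0] * ζ ![2, 0]) * (ζ ![1, 1] * ζ ![2, 2]) * (ζ ![1, 2] * ζ ![2, 1]) by
            rw [← e1, ← e3, ← e4]]
        rw [h2]
        have hcx : Commute (ζ ![2, 0] * ζ ![2, 2]) (ζ ![1, 2]) := (hcm _ _).mul_left (hcm _ _)
        rw [mul_assoc, ← mul_assoc (ζ ![2, 0] * ζ ![2, 2]), hcx.eq]
        simp only [mul_assoc]
      rw [c1, c2, one_mul, hsq, one_mul] at hprod
      exact hprod
    have hz : Z d = 1 := by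
      rw [← h1]
      exact hZconst d hd _ (hrepD _) (commute_of_map_eq hD hperp hd (hrepD _) hd0.symm)
    exact hvne d hd (by rw [eq_inv_of_mul_eq_one_right hz, inv_eq hT hd])
  obtain ⟨φ, h0, h1, h2⟩ := hhom d hd b₀ hb₀ hdb
  have hφ : Function.Injective φ := hinj φ (by
    rw [map_mul, h0, h2]
    intro h'
    exact hvne d hd (by rw [eq_inv_of_mul_eq_one_right h', inv_eq hT hd]))
  have hsurj : Function.Surjective φ := by
    rw [← MonoidHom.range_eq_top, eq_top_iff, ← hD.2.2, Subgroup.closure_le]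
    intro f hf
    -- each class is inside the image
    have hb : b₀ ∈ φ.range := ⟨_, h1⟩
    have ha : a₁ ∈ φ.range := by rw [ha₁, ← h0]; exact mul_mem (mul_mem hb ⟨_, rfl⟩) hb
    have mem : ∀ (σ τ : Equiv.Perm (Fin 4)), φ σ ∈ D → φ τ ∈ D → Commute σ τ → σ ≠ τ →
        Commute f (φ σ) → f ∈ φ.range := by
      intro σ τ hs ht hst hne hfs
      rcases hvu _ hs f hf hfs.symm with rfl | rfl
      · exact ⟨σ, rfl⟩
      · refine ⟨τ, ((hvu _ hs _ ht (hst.map φ)).resolve_left fun hh => hne (hφ hh).symm)⟩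
    have hmem : ∀ τ : Equiv.Perm (Fin 4), (∃ g, τ = g * SmallPerm.s4 0 * g⁻¹) → φ τ ∈ D := by
      rintro τ ⟨g, rfl⟩
      rw [map_mul, map_mul, map_inv, h0]
      exact hc _ _ hd
    rcases hall f hf with h | h | h
    · exact mem _ (SmallPerm.s4 2) (hmem _ ⟨1, by simp⟩) (hmem _ (by decide +kernel))
        (show _ * _ = _ * _ by decide +kernel) (by decide +kernel) (h0 ▸ h)
    · exact mem _ (Equiv.swap 0 3) (hmem (SmallPerm.s4 1) (by decide +kernel)) (hmem _ (by decide +kernel))
        (show _ * _ = _ * _ by decide +kernel) (by decide +kernel) (h1 ▸ h)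
    · exact mem (SmallPerm.s4 1 * SmallPerm.s4 0 * SmallPerm.s4 1) (Equiv.swap 1 3)
        (hmem _ ⟨SmallPerm.s4 1, by decide +kernel⟩) (hmem _ (by decide +kernel))
        (show _ * _ = _ * _ by decide +kernel) (by decide +kernel) (by rwa [map_mul, map_mul, h0, h1])
  exact ⟨(MulEquiv.ofBijective φ ⟨hφ, hsurj⟩).symm⟩

end Perp

end Cfsg.Agent.ThreeTrans
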