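import Cfsg.Agent.ThreeTrans.Relations
import Cfsg.Agent.ThreeTrans.Fischer
import Cfsg.Agent.Core.PCore
import Cfsg.Agent.S2530

/-!
# Three-transpositions with local subgroup the symmetric group of degree three
-/

set_option autoImplicit false

namespace Cfsg.Agent.ThreeTrans.LocalSym

open Cfsg

variable {G : Type*} [Group G] {D : Set G} {d e a b c x y z : G}

set_option synthInstance.maxSize 5000 in
theorem s3_commute : ∀ s t : Equiv.Perm (Fin 3), s * s = 1 → t * t = 1 → s ≠ 1 → t ≠ 1 → s * t = t * s → s = t := by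
  decide +kernel

set_option synthInstance.maxSize 5000 in
theorem s3_four : ∀ s t u v : Equiv.Perm (Fin 3), s * s = 1 ∧ s ≠ 1 → t * t = 1 ∧ t ≠ 1 → u * u = 1 ∧ u ≠ 1 →
    v * v = 1 ∧ v ≠ 1 → s ≠ t → u ≠ s → u ≠ t → v = s ∨ v = t ∨ v = u := by decide +kernel

/-- The local hypothesis at all members. -/
structure Hyp (D : Set G) : Prop where
  set : IsThreeTranspositionSet D
  conj : ∀ g : G, ∀ d ∈ D, g * d * g⁻¹ ∈ D
  iso : ∀ d ∈ D, Nonempty (↥(Subgroup.closure (dperp D d)) ≃* Equiv.Perm (Fin 3))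
  core : ∀ d ∈ D, Nat.card (Cfsg.pCore 3 ↥(Subgroup.centralizer ({d} : Set G))) = 3

namespace Hyp

variable (H : Hyp D)
include H

theorem perp_symm (hd : d ∈ D) (hy : y ∈ dperp D d) : d ∈ dperp D y := ⟨hd, Ne.symm hy.2.1, hy.2.2.symm⟩

theorem cmem (g : G) (hd : d ∈ D) : g * d * g ∈ D ∨ g * g ≠ 1 := by
  by_cases hg : g * g = 1
  · left
    have := H.conj g d hd
    rwa [inv_eq_of_mul_eq_one_right hg] at this
  · exact Or.inr hg

theorem conjD (hg : e ∈ D) (hd : d ∈ D) : e * d * e ∈ D :=
  (H.cmem e hd).resolve_right (not_not.2 (mul_self H.set hg))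

theorem aba_mem (hd : d ∈ D) (ha : a ∈ dperp D d) (hb : b ∈ dperp D d) : a * b * a ∈ dperp D d := by
  refine ⟨H.conjD ha.1 hb.1, fun h => hb.2.1 ?_, ((ha.2.2.mul_right hb.2.2).mul_right ha.2.2)⟩
  calc b = a * a * b * (a * a) := by rw [mul_self H.set ha.1, one_mul, mul_one]
    _ = a * (a * b * a) * a := by group
    _ = a * d * a := by rw [h]
    _ = d := by rw [← ha.2.2.eq, mul_mul_self H.set ha.1]

theorem perp_nc (hd : d ∈ D) (ha : a ∈ dperp D d) (hb : b ∈ dperp D d) (hne : a ≠ b) : ¬ Commute a b := by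
  obtain ⟨φ⟩ := H.iso d hd
  intro hab
  let a' : ↥(Subgroup.closure (dperp D d)) := ⟨a, Subgroup.subset_closure ha⟩
  let b' : ↥(Subgroup.closure (dperp D d)) := ⟨b, Subgroup.subset_closure hb⟩
  have key := s3_commute
  have hsq : ∀ u : ↥(Subgroup.closure (dperp D d)), (u : G) * u = 1 → φ u * φ u = 1 := fun u hu => by
    rw [← map_mul, show u * u = 1 from Subtype.ext hu, map_one]
  have := key (φ a') (φ b') (hsq a' (mul_self H.set ha.1)) (hsq b' (mul_self H.set hb.1))
    (fun h => ne_one H.set ha.1 (congrArg Subtype.val (φ.injective (h.trans φ.map_one.symm))))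
    (fun h => ne_one H.set hb.1 (congrArg Subtype.val (φ.injective (h.trans φ.map_one.symm))))
    (by rw [← map_mul, ← map_mul, show a' * b' = b' * a' from Subtype.ext hab.eq])
  exact hne (congrArg Subtype.val (φ.injective this))

theorem perp_pair (hd : d ∈ D) : ∃ a b, a ∈ dperp D d ∧ b ∈ dperp D d ∧ a ≠ b := by
  by_contra hcon
  push Not at hcon
  obtain ⟨φ⟩ := H.iso d hd
  have hcomm : IsMulCommutative ↥(Subgroup.closure (dperp D d)) :=
    Subgroup.isMulCommutative_closure fun u hu v hv => by rw [hcon u v hu hv]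
  have key : Equiv.swap (0 : Fin 3) 1 * Equiv.swap 1 2 ≠ Equiv.swap 1 2 * Equiv.swap 0 1 := by decide +kernel
  obtain ⟨u, hu⟩ := φ.surjective (Equiv.swap (0 : Fin 3) 1)
  obtain ⟨v, hv⟩ := φ.surjective (Equiv.swap (1 : Fin 3) 2)
  exact key (by rw [← hu, ← hv, ← map_mul, ← map_mul, mul_comm' u v])

theorem perp_sub (hd : d ∈ D) (ha : a ∈ dperp D d) (hb : b ∈ dperp D d) (hne : a ≠ b) :
    dperp D d = {a, b, a * b * a} := by
  refine Set.eq_of_subset_of_subset (fun y hy => ?_) ?_
  · obtain ⟨φ⟩ := H.iso d hd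
    let q : ∀ u, u ∈ dperp D d → Equiv.Perm (Fin 3) := fun u hu => φ ⟨u, Subgroup.subset_closure hu⟩
    have hinj : ∀ u v hu hv, q u hu = q v hv → u = v := fun u v hu hv h => congrArg Subtype.val (φ.injective h)
    have hinv : ∀ u hu, q u hu * q u hu = 1 ∧ q u hu ≠ 1 := fun u hu => by
      refine ⟨?_, fun h => ne_one H.set hu.1 (congrArg Subtype.val (φ.injective (h.trans φ.map_one.symm)))⟩
      rw [← map_mul, ← φ.map_one]
      exact congrArg φ (Subtype.ext (mul_self H.set hu.1))
    have hc := H.aba_mem hd ha hb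
    have hca : a * b * a ≠ a := fun h => hne <| by
      have h1 : b * a = 1 := mul_left_cancel (a := a) (by rw [← mul_assoc, h, mul_one])
      exact (eq_inv_of_mul_eq_one_right h1).trans (inv_eq H.set hb.1)
    have hcb : a * b * a ≠ b := fun h => H.perp_nc hd ha hb hne <| by
      show a * b = b * a
      conv_rhs => rw [← h, mul_mul_self H.set ha.1]
    have key := s3_four
    rcases key (q a ha) (q b hb) (q _ hc) (q y hy) (hinv a ha) (hinv b hb) (hinv _ hc) (hinv y hy)
      (fun h => hne (hinj a b ha hb h)) (fun h => hca (hinj _ a hc ha h)) (fun h => hcb (hinj _ b hc hb h)) with h | h | h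
    · exact Or.inl (hinj y a hy ha h)
    · exact Or.inr (Or.inl (hinj y b hy hb h))
    · exact Or.inr (Or.inr (hinj y _ hy hc h))
  · rintro y (rfl | rfl | rfl)
    exacts [ha, hb, H.aba_mem hd ha hb]

theorem perp_eq_of_two (hd : d ∈ D) (hx : x ∈ D) (hab : a ≠ b) (ha : a ∈ dperp D d) (hb : b ∈ dperp D d)
    (ha' : a ∈ dperp D x) (hb' : b ∈ dperp D x) : dperp D d = dperp D x := by
  rw [H.perp_sub hd ha hb hab, H.perp_sub hx ha' hb' hab]

theorem perp_finite_card (hd : d ∈ D) : (dperp D d).Finite ∧ (dperp D d).ncard ≤ 3 := by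
  obtain ⟨a, b, ha, hb, hne⟩ := H.perp_pair hd
  rw [H.perp_sub hd ha hb hne]
  refine ⟨Set.toFinite _, (Set.ncard_insert_le _ _).trans ?_⟩
  have := Set.ncard_insert_le b ({a * b * a} : Set G)
  rw [Set.ncard_singleton] at this
  omega

theorem conj_perp (hz : z ∈ D) (hd : d ∈ D) (ha : a ∈ dperp D d) (hzd : ¬ Commute z d) (hza : ¬ Commute z a) :
    Commute (d * z * d) (a * z * a) := by
  show d * z * d * (a * z * a) = a * z * a * (d * z * d)
  rw [← braid H.set hz hd hzd, ← braid H.set hz ha.1 hza]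
  calc z * d * z * (z * a * z) = z * d * (z * z) * a * z := by group
    _ = z * (d * a) * z := by rw [mul_self H.set hz]; group
    _ = z * (a * d) * z := by rw [ha.2.2.eq]
    _ = z * a * (z * z) * d * z := by rw [mul_self H.set hz]; group
    _ = _ := by group

section Finite

variable [Finite G]

theorem card_core_le (hd : d ∈ D) :
    Nat.card ↥(Cfsg.pCore 3 G ⊓ Subgroup.centralizer ({d} : Set G) : Subgroup G) ≤ 3 := by
  have : Fact (Nat.Prime 3) := ⟨Nat.prime_three⟩
  set C := Subgroup.centralizer ({d} : Set G)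
  have hn : ((Cfsg.pCore 3 G).subgroupOf C).Normal := by
    have : (Cfsg.pCore 3 G).Normal := inferInstance
    exact this.comap _
  have hle : (Cfsg.pCore 3 G).subgroupOf C ≤ Cfsg.pCore 3 C :=
    Core.le_pCore (hN := hn) ((Core.pCore_isPGroup (p := 3) (G := G)).comap_of_injective C.subtype
      Subtype.val_injective)
  refine le_trans ?_ (H.core d hd).le
  refine le_trans ?_ (Subgroup.card_le_of_le hle)
  rw [inf_comm]
  exact (Nat.card_congr
    (show ↥(C ⊓ Cfsg.pCore 3 G : Subgroup G) ≃ ↥((Cfsg.pCore 3 G).subgroupOf C) from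
      { toFun := fun u => ⟨⟨u.1, u.2.1⟩, u.2.2⟩
        invFun := fun u => ⟨u.1.1, u.1.2, u.2⟩
        left_inv := fun u => rfl
        right_inv := fun u => rfl })).le

/-- In the case of a common second neighbour all members lie in the two triangles. -/
theorem eq_union (hd : d ∈ D) (ha : a ∈ dperp D d) (hb : b ∈ dperp D d) (hne : a ≠ b) (hx : x ∈ dperp D a)
    (hx' : x ∈ dperp D b) (hxd : x ≠ d) : D = dperp D d ∪ dperp D a := by
  have : Fact (Nat.Prime 3) := ⟨Nat.prime_three⟩
  have hA : ∀ u ∈ dperp D d, dperp D u = dperp D a := by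
    have hab : dperp D a = dperp D b :=
      H.perp_eq_of_two ha.1 hb.1 (Ne.symm hxd) (H.perp_symm hd ha) hx (H.perp_symm hd hb) hx'
    have hxA : dperp D x = dperp D d :=
      H.perp_eq_of_two hx.1 hd hne (H.perp_symm ha.1 hx) (H.perp_symm hb.1 hx') ha hb
    intro u hu
    refine H.perp_eq_of_two hu.1 ha.1 (Ne.symm hxd) (H.perp_symm hd hu) ?_ (H.perp_symm hd ha) hx
    exact H.perp_symm hx.1 (hxA ▸ hu)
  have hX : ∀ u ∈ dperp D a, dperp D u = dperp D d := by
    intro u hu
    refine H.perp_eq_of_two hu.1 hd hne (H.perp_symm ha.1 hu) ?_ ha hb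
    exact H.perp_symm hb.1 ((hA b hb).symm ▸ hu)
  refine Set.eq_of_subset_of_subset (fun z hz => ?_) (by
    rintro u (hu | hu) <;> exact hu.1)
  by_contra hzK
  rw [Set.mem_union, not_or] at hzK
  have hzd : ¬ Commute z d := fun h => by
    by_cases e : z = d
    · exact hzK.2 (e ▸ H.perp_symm hd ha)
    · exact hzK.1 ⟨hz, e, h.symm⟩
  have hza : ¬ Commute z a := fun h => by
    by_cases e : z = a
    · exact hzK.1 (e ▸ ha)
    · exact hzK.2 ⟨hz, e, h.symm⟩
  -- the element `a * b`
  set N := Cfsg.pCore 3 G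
  have hNn : N.Normal := inferInstance
  have hN3 : IsPGroup 3 N := Core.pCore_isPGroup
  have hTheta : Theta D a b := fun u hu => by
    constructor
    · rintro ⟨h1, h2⟩
      have : u ∈ dperp D b := (hA b hb).symm ▸ (⟨hu, h1, h2⟩ : u ∈ dperp D a)
      exact ⟨this.2.1, this.2.2⟩
    · rintro ⟨h1, h2⟩
      have : u ∈ dperp D a := hA b hb ▸ (⟨hu, h1, h2⟩ : u ∈ dperp D b)
      exact ⟨this.2.1, this.2.2⟩
  have hg : a * b ∈ N := theta_mem_pCore H.set H.conj ha.1 hb.1 hTheta
  have hgd : Commute d (a * b) := ha.2.2.mul_right hb.2.2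
  have hg3 : (a * b) ^ 3 = 1 := cube_of_not_commute H.set ha.1 hb.1 (H.perp_nc hd ha hb hne)
  have hg1 : a * b ≠ 1 := fun h => hne (by
    calc a = a * b * b := (mul_mul_self H.set hb.1 a).symm
      _ = b := by rw [h, one_mul])
  have hpow : ∀ f ∈ N, Commute d f → f ∈ Subgroup.zpowers (a * b) := by
    intro f hf hdf
    have hle : Subgroup.zpowers (a * b) ≤ N ⊓ Subgroup.centralizer ({d} : Set G) :=
      Subgroup.zpowers_le.2 ⟨hg, Subgroup.mem_centralizer_singleton_iff.2 hgd.eq.symm⟩
    have heq := Subgroup.eq_of_le_of_card_ge hle (by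
      rw [Nat.card_zpowers, orderOf_eq_prime hg3 hg1]
      exact H.card_core_le hd)
    rw [heq]
    exact ⟨hf, Subgroup.mem_centralizer_singleton_iff.2 hdf.eq.symm⟩
  have hinv : ∀ w ∈ dperp D d, w * (a * b) * w = (a * b)⁻¹ := by
    intro w hw
    rw [mul_inv_rev, inv_eq H.set ha.1, inv_eq H.set hb.1]
    rw [H.perp_sub hd ha hb hne] at hw
    rcases hw with rfl | rfl | rfl
    · rw [mul_self_mul H.set ha.1]
    · rw [← mul_assoc, mul_mul_self H.set hb.1]
    · calc a * b * a * (a * b) * (a * b * a) = a * (b * ((a * a) * b)) * (a * b * a) := by group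
        _ = b * a := by rw [mul_self H.set ha.1, one_mul, mul_self H.set hb.1, mul_one, mul_assoc a b a,
            mul_self_mul H.set ha.1]
  have hodd : ∀ f ∈ N, ∀ k, f ^ (2 ^ k) = 1 → f = 1 := fun f hf k hk =>
    eq_one_of_mem_pGroup hN3 hf hk (Nat.Coprime.pow_left k (by norm_num))
  set s := d * a with hs
  have hss : s * s = 1 := by
    rw [hs]
    calc d * a * (d * a) = d * (a * d) * a := by group
      _ = d * d * (a * a) := by rw [← ha.2.2.eq]; group
      _ = 1 := by rw [mul_self H.set hd, mul_self H.set ha.1, one_mul]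
  have hs1 : s ≠ 1 := fun h => ha.2.1 (by
    calc a = d * (d * a) := (mul_self_mul H.set hd a).symm
      _ = d := by rw [← hs, h, mul_one])
  have hds : Commute d s := (Commute.refl d).mul_right ha.2.2
  -- nothing in the core commutes with `s`
  have hF : ∀ f ∈ N, Commute s f → f = 1 := by
    intro f hf hsf
    set F := N ⊓ Subgroup.centralizer ({s} : Set G) with hFdef
    have hmemF : ∀ u, u ∈ F ↔ u ∈ N ∧ Commute s u := fun u => by
      rw [hFdef, Subgroup.mem_inf, Subgroup.mem_centralizer_singleton_iff]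
      exact and_congr_right fun _ => ⟨fun h => h.symm, fun h => h.symm⟩
    have hdF : ∀ u ∈ F, d * u * d ∈ F := fun u hu => by
      rw [hmemF] at hu ⊢
      refine ⟨?_, (hds.symm.mul_right hu.2).mul_right hds.symm⟩
      have := hNn.conj_mem u hu.1 d
      rwa [inv_eq H.set hd] at this
    let φ : F →* F :=
      { toFun := fun u => ⟨_, hdF u.1 u.2⟩
        map_one' := Subtype.ext (by simp [mul_self H.set hd])
        map_mul' := fun u v => Subtype.ext (by
          show d * (u.1 * v.1) * d = d * u.1 * d * (d * v.1 * d)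
          calc d * (u.1 * v.1) * d = d * u.1 * (d * d) * v.1 * d := by rw [mul_self H.set hd, mul_one]; group
            _ = _ := by group) }
    have hfp : MonoidHom.FixedPointFree φ := by
      intro u hu
      have h1 : d * u.1 * d = u.1 := congrArg Subtype.val hu
      have hu' := (hmemF _).1 u.2
      have hdu : Commute d u.1 := by
        show d * u.1 = u.1 * d
        calc d * u.1 = d * u.1 * d * d := (mul_mul_self H.set hd _).symm
          _ = u.1 * d := by rw [h1]
      have hau : Commute a u.1 := by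
        have := hdu.mul_left hu'.2
        rwa [hs, mul_self_mul H.set hd] at this
      obtain ⟨i, hi⟩ := Subgroup.mem_zpowers_iff.1 (hpow _ hu'.1 hdu)
      have h2 : a * u.1 * a⁻¹ = (u.1)⁻¹ := by
        rw [← hi, ← conj_zpow, inv_eq H.set ha.1, hinv a ha, inv_zpow]
      rw [hau.eq, mul_inv_cancel_right] at h2
      refine Subtype.ext (hodd _ hu'.1 1 ?_)
      rw [pow_one, pow_two]
      nth_rewrite 1 [h2]
      exact inv_mul_cancel _
    have hinvol : Function.Involutive φ := fun u => Subtype.ext (by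
      show d * (d * u.1 * d) * d = u.1
      calc d * (d * u.1 * d) * d = d * d * u.1 * (d * d) := by group
        _ = u.1 := by rw [mul_self H.set hd, one_mul, mul_one])
    have hdf : d * f * d = f⁻¹ :=
      congrArg Subtype.val (congrFun (hfp.coe_eq_inv_of_involutive hinvol) ⟨f, (hmemF f).2 ⟨hf, hsf⟩⟩)
    have hdf2 : d * f ^ 2 = (f ^ 2)⁻¹ * d := by
      rw [← inv_pow, ← hdf, pow_two, pow_two]
      calc d * (f * f) = d * f * (d * d) * f * (d * d) := by rw [mul_self H.set hd]; group
        _ = d * f * d * (d * f * d) * d := by group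
    have haf : a * f⁻¹ = f * a := by
      have e1 : a = d * s := (mul_self_mul H.set hd a).symm
      calc a * f⁻¹ = d * (s * f⁻¹) := by rw [e1, mul_assoc]
        _ = d * f⁻¹ * s := by rw [(hsf.inv_right).eq, mul_assoc]
        _ = d * (d * f * d) * s := by rw [hdf]
        _ = (d * d) * f * (d * s) := by group
        _ = f * a := by rw [mul_self H.set hd, one_mul, ← e1]
    have hmem : f ^ 2 * a ∈ D := by
      have h := H.conj f a ha.1
      rwa [mul_assoc, haf, ← mul_assoc, ← pow_two] at h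
    have hde : d * (f ^ 2 * a) = (f ^ 2)⁻¹ * s := by rw [← mul_assoc, hdf2, hs, mul_assoc]
    have hcm : Commute (f ^ 2)⁻¹ s := (hsf.symm.pow_left 2).inv_left
    rcases H.set.2 d hd _ hmem with h | h
    · rw [hde, hcm.mul_pow, pow_two s, hss, mul_one, inv_pow, inv_eq_one, ← pow_mul] at h
      exact hodd f hf 2 (by norm_num; exact h)
    · rw [hde, hcm.mul_pow, pow_succ s 2, pow_two s, hss, one_mul] at h
      exact absurd (hodd s (by
        rw [eq_inv_of_mul_eq_one_right h]
        exact inv_mem (pow_mem (inv_mem (pow_mem hf 2)) 3)) 1 (by rw [pow_one, pow_two, hss])) hs1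
  -- so `s` inverts the core
  have hsN : ∀ f ∈ N, s * f * s = f⁻¹ := by
    intro f hf
    have hsF : ∀ u ∈ N, s * u * s ∈ N := fun u hu => by
      have := hNn.conj_mem u hu s
      rwa [inv_eq_of_mul_eq_one_right hss] at this
    let ψ : N →* N :=
      { toFun := fun u => ⟨_, hsF u.1 u.2⟩
        map_one' := Subtype.ext (by simp [hss])
        map_mul' := fun u v => Subtype.ext (by
          show s * (u.1 * v.1) * s = s * u.1 * s * (s * v.1 * s)
          calc s * (u.1 * v.1) * s = s * u.1 * (s * s) * v.1 * s := by rw [hss, mul_one]; group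
            _ = _ := by group) }
    have hfp : MonoidHom.FixedPointFree ψ := fun u hu => Subtype.ext (hF _ u.2 (by
      have h1 : s * u.1 * s = u.1 := congrArg Subtype.val hu
      show s * u.1 = u.1 * s
      calc s * u.1 = s * u.1 * (s * s) := by rw [hss, mul_one]
        _ = s * u.1 * s * s := by group
        _ = u.1 * s := by rw [h1]))
    have hinvol : Function.Involutive ψ := fun u => Subtype.ext (by
      show s * (s * u.1 * s) * s = u.1
      calc s * (s * u.1 * s) * s = (s * s) * u.1 * (s * s) := by group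
        _ = u.1 := by rw [hss, one_mul, mul_one])
    exact congrArg Subtype.val (congrFun (hfp.coe_eq_inv_of_involutive hinvol) ⟨f, hf⟩)
  -- move to `z`
  set g₀ := d * z with hg0
  set g₁ := g₀ * (a * b) * g₀⁻¹ with hg1def
  have hg₁N : g₁ ∈ N := hNn.conj_mem _ hg g₀
  have hzeq : z = g₀ * d * g₀⁻¹ := by
    rw [hg0, mul_inv_rev, inv_eq H.set hd, inv_eq H.set hz]
    calc z = d * d * z * (d * d) := by rw [mul_self H.set hd, one_mul, mul_one]
      _ = d * (d * z * d) * d := by group
      _ = d * (z * d * z) * d := by rw [← braid H.set hz hd hzd]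
      _ = d * z * d * (z * d) := by group
  have hcomm1 : Commute z g₁ := by rw [hzeq]; exact (commute_conj g₀ _ _).2 hgd
  set w := s * z * s with hw
  have hsinv : s⁻¹ = s := inv_eq_of_mul_eq_one_right hss
  have hwD : w ∈ D := by
    have := H.conj s z hz
    rwa [hsinv] at this
  have hw_eq : w = d * (a * z * a) * d := by
    rw [hw]
    have : s = a * d := ha.2.2.eq
    calc s * z * s = d * a * z * s := by rw [hs]
      _ = d * a * z * (a * d) := by rw [this]
      _ = _ := by group
  have hzw : Commute z w := by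
    have h1 := (commute_conj d _ _).2 (H.conj_perp hz hd ha hzd hza)
    rwa [inv_eq H.set hd, ← hw_eq, show d * (d * z * d) * d = (d * d) * z * (d * d) by group,
      mul_self H.set hd, one_mul, mul_one] at h1
  have hwz : w ≠ z := fun h => by
    have h1 : d * z * d = a * z * a := by
      have h2 : d * (d * (a * z * a) * d) * d = d * z * d := by rw [← hw_eq, h]
      rw [show d * (d * (a * z * a) * d) * d = (d * d) * (a * z * a) * (d * d) by group,
        mul_self H.set hd, one_mul, mul_one] at h2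
      exact h2.symm
    rw [← braid H.set hz hd hzd, ← braid H.set hz ha.1 hza] at h1
    exact ha.2.1 (mul_left_cancel (mul_right_cancel h1)).symm
  have hwperp : g₀⁻¹ * w * g₀ ∈ dperp D d := by
    have h1 := dperp_conj H.conj g₀⁻¹ (⟨hwD, hwz, hzw⟩ : w ∈ dperp D z)
    rw [inv_inv] at h1
    have h2 : g₀⁻¹ * z * g₀ = d := by rw [hzeq]; group
    rwa [h2] at h1
  have hwg : w * g₁ * w = g₁⁻¹ := by
    have h1 := congrArg (fun u => g₀ * u * g₀⁻¹) (hinv _ hwperp)
    calc w * g₁ * w = g₀ * (g₀⁻¹ * w * g₀ * (a * b) * (g₀⁻¹ * w * g₀)) * g₀⁻¹ := by rw [hg1def]; group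
      _ = g₀ * (a * b)⁻¹ * g₀⁻¹ := h1
      _ = g₁⁻¹ := by rw [hg1def]; group
  have hcomm2 : Commute w g₁⁻¹ := by
    have h1 := (commute_conj s _ _).2 hcomm1
    rwa [hsinv, ← hw, hsN g₁ hg₁N] at h1
  have hwc : Commute w g₁ := by simpa using hcomm2.inv_right
  rw [hwc.eq, mul_mul_self H.set hwD] at hwg
  have hsq : g₁ ^ 2 ^ 1 = 1 := by
    rw [pow_one, pow_two]
    nth_rewrite 1 [hwg]
    exact inv_mul_cancel _
  have h1 := hodd _ hg₁N 1 hsq
  rw [hg1def, conj_eq_one_iff] at h1
  exact hg1 h1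

theorem nonempty_prod (hd : d ∈ D) (ha : a ∈ dperp D d) (hb : b ∈ dperp D d) (hne : a ≠ b) (hx : x ∈ dperp D a)
    (hx' : x ∈ dperp D b) (hxd : x ≠ d) :
    Nonempty (↥(Subgroup.closure D) ≃* Equiv.Perm (Fin 3) × Equiv.Perm (Fin 3)) := by
  have hD := H.eq_union hd ha hb hne hx hx' hxd
  obtain ⟨φ⟩ := H.iso d hd
  obtain ⟨ψ⟩ := H.iso a ha.1
  have hA : dperp D d ⊆ dperp D x := by
    rw [H.perp_sub hd ha hb hne, H.perp_sub hx.1 (H.perp_symm ha.1 hx) (H.perp_symm hb.1 hx') hne]
  have hgen : ∀ u ∈ dperp D a, ∀ v ∈ dperp D d, Commute u v := by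
    intro u hu v hv
    have hv' := hA hv
    have hva : dperp D v = dperp D a :=
      H.perp_eq_of_two hv.1 ha.1 (Ne.symm hxd) (H.perp_symm hd hv) (H.perp_symm hx.1 hv') (H.perp_symm hd ha) hx
    exact (hva.symm ▸ hu : u ∈ dperp D v).2.2.symm
  set A := Subgroup.closure (dperp D d)
  set B := Subgroup.closure (dperp D a)
  have hAB : A ≤ Subgroup.centralizer (B : Set G) := by
    rw [Subgroup.closure_le]
    intro v hv
    rw [SetLike.mem_coe, Subgroup.centralizer_closure, Subgroup.mem_centralizer_iff]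
    exact fun u hu => (hgen u hu v hv).eq
  have hcomm : ∀ (m : A) (n : B), Commute (A.subtype m) (B.subtype n) := fun m n =>
    ((Subgroup.mem_centralizer_iff.1 (hAB m.2)) n.1 n.2).symm
  let f : A × B →* G := MonoidHom.noncommCoprod A.subtype B.subtype hcomm
  have hinj : Function.Injective f := by
    rw [injective_iff_map_eq_one]
    rintro ⟨m, n⟩ h
    have h' : m.1 * n.1 = 1 := h
    have hmz : m ∈ Subgroup.center A := Subgroup.mem_center_iff.2 fun k => Subtype.ext (by
      have hm : m.1 ∈ B := eq_inv_of_mul_eq_one_left h' ▸ inv_mem n.2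
      exact (Subgroup.mem_centralizer_iff.1 (hAB k.2) m.1 hm).symm)
    have hm1 : φ m = 1 := (by decide +kernel : ∀ σ : Equiv.Perm (Fin 3), (∀ τ, τ * σ = σ * τ) → σ = 1) _ fun τ => by
      obtain ⟨k, rfl⟩ := φ.surjective τ
      rw [← map_mul, ← map_mul, Subgroup.mem_center_iff.1 hmz k]
    have hm : m = 1 := φ.injective (hm1.trans φ.map_one.symm)
    subst hm
    have : n = 1 := Subtype.ext (by simpa using h')
    subst this
    rfl
  have hrange : f.range = Subgroup.closure D := by
    apply le_antisymm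
    · rintro _ ⟨⟨m, n⟩, rfl⟩
      exact mul_mem (Subgroup.closure_mono (fun u hu => hu.1) m.2) (Subgroup.closure_mono (fun u hu => hu.1) n.2)
    · rw [Subgroup.closure_le]
      intro u hu
      rw [hD] at hu
      rcases hu with hu | hu
      · exact ⟨(⟨u, Subgroup.subset_closure hu⟩, 1), by simp [f]⟩
      · exact ⟨(1, ⟨u, Subgroup.subset_closure hu⟩), by simp [f]⟩
  exact ⟨(((φ.symm.prodCongr ψ.symm).trans (MonoidHom.ofInjective hinj)).trans
    (MulEquiv.subgroupCongr hrange)).symm⟩

end Finite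

/-! ### Unique common neighbours -/

theorem no_plane (huniq : ∀ d ∈ D, ∀ a ∈ dperp D d, ∀ b ∈ dperp D d, a ≠ b → ∀ x ∈ dperp D a, x ∈ dperp D b → x = d)
    (hd : d ∈ D) (ha : a ∈ dperp D d) (hb : b ∈ dperp D d) (hne : a ≠ b) (hz : z ∈ D) (hzd : ¬ Commute z d)
    (hza : ¬ Commute z a) (hzb : ¬ Commute z b) : Commute (a * z * a) b := by
  by_contra hub
  have hzz := mul_self H.set hz
  have hza' : z ≠ a := fun h => hza (h ▸ Commute.refl _)
  have hzb' : z ≠ b := fun h => hzb (h ▸ Commute.refl _)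
  have rep : ∀ p ∈ D, ¬ Commute z p → z = p * z * p * (p * z)⁻¹ := fun p hp hzp => by
    rw [mul_inv_rev, inv_eq H.set hz, inv_eq H.set hp]
    calc z = p * p * z * (p * p) := by rw [mul_self H.set hp, one_mul, mul_one]
      _ = p * (p * z * p) * p := by group
      _ = p * (z * p * z) * p := by rw [← braid H.set hz hp hzp]
      _ = p * z * p * (z * p) := by group
  set wa := a * z * d * (a * z)⁻¹ with hwa
  set wb := b * z * d * (b * z)⁻¹ with hwb
  set z' := a * z * b * (a * z)⁻¹ with hz'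
  set z'' := b * z * a * (b * z)⁻¹ with hz''
  have hwaD : wa ∈ D := H.conj _ d hd
  have hwbD : wb ∈ D := H.conj _ d hd
  have c1 : Commute z wa := by
    have := (commute_conj (a * z) _ _).2 ha.2.2.symm
    rwa [← hwa, ← rep a ha.1 hza] at this
  have c1' : Commute z' wa := (commute_conj (a * z) _ _).2 hb.2.2.symm
  have c2 : Commute z wb := by
    have := (commute_conj (b * z) _ _).2 hb.2.2.symm
    rwa [← hwb, ← rep b hb.1 hzb] at this
  have c2' : Commute z'' wb := (commute_conj (b * z) _ _).2 ha.2.2.symm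
  have hthird : z * z' * z = z'' := by
    rw [hz', hz'', mul_inv_rev, mul_inv_rev, inv_eq H.set hz, inv_eq H.set ha.1, inv_eq H.set hb.1]
    calc z * (a * z * b * (z * a)) * z = z * a * z * b * (z * a * z) := by group
      _ = a * z * a * b * (a * z * a) := by rw [braid H.set hz ha.1 hza]
      _ = b * (a * z * a) * b := by rw [braid H.set (H.conjD ha.1 hz) hb.1 hub]
      _ = b * (z * a * z) * b := by rw [← braid H.set hz ha.1 hza]
      _ = b * z * a * (z * b) := by group
  have c1'' : Commute z'' wa := hthird ▸ (c1.mul_left c1').mul_left c1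
  have hz''D : z'' ∈ D := H.conj _ a ha.1
  have hzne : z ≠ z'' := fun h => hne <| by
    rw [rep b hb.1 hzb, hz''] at h
    exact (mul_left_cancel (mul_right_cancel h)).symm
  have n1 : wa ≠ z := fun h => by
    rw [rep a ha.1 hza, hwa] at h
    exact ha.2.1 (mul_left_cancel (mul_right_cancel h)).symm
  have n2 : wb ≠ z := fun h => by
    rw [rep b hb.1 hzb, hwb] at h
    exact hb.2.1 (mul_left_cancel (mul_right_cancel h)).symm
  have n3 : wb ≠ z'' := fun h => by
    rw [hwb, hz''] at h
    exact ha.2.1 (mul_left_cancel (mul_right_cancel h)).symm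
  have n4 : wa ≠ z'' := fun h => by
    have e1 : z' = z * z'' * z := by
      rw [← hthird]
      calc z' = (z * z) * z' * (z * z) := by rw [hzz, one_mul, mul_one]
        _ = _ := by group
    rw [← h, c1.eq, mul_mul_self H.set hz, hz', hwa] at e1
    exact hb.2.1 (mul_left_cancel (mul_right_cancel e1))
  have heq := huniq wa hwaD z ⟨hz, Ne.symm n1, c1.symm⟩ z'' ⟨hz''D, Ne.symm n4, c1''.symm⟩ hzne
    wb ⟨hwbD, n2, c2⟩ ⟨hwbD, n3, c2'⟩
  rw [hwa, hwb, mul_inv_rev, mul_inv_rev, inv_eq H.set hz, inv_eq H.set ha.1, inv_eq H.set hb.1,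
    show b * z * d * (z * b) = b * (z * d * z) * b by group,
    show a * z * d * (z * a) = a * (z * d * z) * a by group] at heq
  -- conjugation of `y` by `a` and by `b` differ
  have hy : z * d * z ∈ D := H.conjD hz hd
  have hya : ¬ Commute (z * d * z) a := fun h => hza <| by
    rw [braid H.set hz hd hzd] at h
    have := (commute_conj d _ _).2 h
    rwa [inv_eq H.set hd, show d * (d * z * d) * d = (d * d) * z * (d * d) by group, mul_self H.set hd, one_mul,
      mul_one, ha.2.2.eq, mul_mul_self H.set hd] at this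
  have hyb : ¬ Commute (z * d * z) b := fun h => hzb <| by
    rw [braid H.set hz hd hzd] at h
    have := (commute_conj d _ _).2 h
    rwa [inv_eq H.set hd, show d * (d * z * d) * d = (d * d) * z * (d * d) by group, mul_self H.set hd, one_mul,
      mul_one, hb.2.2.eq, mul_mul_self H.set hd] at this
  rw [← braid H.set hy ha.1 hya, ← braid H.set hy hb.1 hyb] at heq
  exact hne (mul_left_cancel (mul_right_cancel heq)).symm

theorem exists_perp_commute
    (huniq : ∀ d ∈ D, ∀ a ∈ dperp D d, ∀ b ∈ dperp D d, a ≠ b → ∀ x ∈ dperp D a, x ∈ dperp D b → x = d)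
    (hd : d ∈ D) (hz : z ∈ D) (hzd : ¬ Commute z d) : ∃ a ∈ dperp D d, Commute a z := by
  by_contra hcon
  push Not at hcon
  have hnc : ∀ u ∈ dperp D d, ¬ Commute z u := fun u hu h => hcon u hu h.symm
  obtain ⟨a, b, ha, hb, hne⟩ := H.perp_pair hd
  have hc := H.aba_mem hd ha hb
  have hca : a ≠ a * b * a := fun h => hne <| by
    have h1 : b * a = 1 := mul_left_cancel (a := a) (by rw [← mul_assoc, ← h, mul_one])
    exact (eq_inv_of_mul_eq_one_right h1).trans (inv_eq H.set hb.1)
  have hcb : b ≠ a * b * a := fun h => H.perp_nc hd ha hb hne <| by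
    show a * b = b * a
    conv_rhs => rw [h, mul_mul_self H.set ha.1]
  have h1 := H.no_plane huniq hd ha hb hne hz hzd (hnc _ ha) (hnc _ hb)
  have h2 := H.no_plane huniq hd ha hc hca hz hzd (hnc _ ha) (hnc _ hc)
  have conjinv : ∀ u, a * (a * u * a) * a = u := fun u => by
    calc a * (a * u * a) * a = (a * a) * u * (a * a) := by group
      _ = u := by rw [mul_self H.set ha.1, one_mul, mul_one]
  have hne1 : a * z * a ≠ b := fun h => hnc _ hc (by rw [← h, conjinv]) 
  have hne2 : a * z * a ≠ a * b * a := fun h => hnc _ hb (mul_left_cancel (mul_right_cancel h) ▸ Commute.refl _)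
  have := huniq d hd b hb _ hc hcb (a * z * a) ⟨H.conjD ha.1 hz, hne1, h1.symm⟩
    ⟨H.conjD ha.1 hz, hne2, h2.symm⟩
  apply hzd
  rw [← conjinv z, this, ← ha.2.2.eq, mul_mul_self H.set ha.1]

theorem ncard_le
    (huniq : ∀ d ∈ D, ∀ a ∈ dperp D d, ∀ b ∈ dperp D d, a ≠ b → ∀ x ∈ dperp D a, x ∈ dperp D b → x = d)
    (hd : d ∈ D) : D.ncard ≤ 10 := by
  obtain ⟨hfin, hcard⟩ := H.perp_finite_card hd
  have hsub : D ⊆ insert d (dperp D d ∪ ⋃ a ∈ hfin.toFinset, (dperp D a \ {d})) := by
    intro z hz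
    by_cases hzd : z = d
    · exact Or.inl hzd
    by_cases hc : Commute z d
    · exact Or.inr (Or.inl ⟨hz, hzd, hc.symm⟩)
    obtain ⟨a, ha, haz⟩ := H.exists_perp_commute huniq hd hz hc
    refine Or.inr (Or.inr (Set.mem_biUnion (hfin.mem_toFinset.2 ha) ⟨⟨hz, fun e => ?_, haz⟩, hzd⟩))
    exact hc (e ▸ ha.2.2.symm)
  have hper : ∀ a ∈ hfin.toFinset, (dperp D a \ {d}).ncard ≤ 2 := by
    intro a ha
    have ha' := hfin.mem_toFinset.1 ha
    obtain ⟨hf, hc⟩ := H.perp_finite_card ha'.1
    rw [Set.ncard_sdiff_singleton_of_mem (H.perp_symm hd ha')]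
    omega
  have hUfin : (⋃ a ∈ hfin.toFinset, (dperp D a \ {d})).Finite :=
    Set.Finite.biUnion (Finset.finite_toSet _) fun a ha =>
      ((H.perp_finite_card (hfin.mem_toFinset.1 ha).1).1).sdiff
  refine (Set.ncard_le_ncard hsub ((hfin.union hUfin).insert d)).trans ?_
  refine (Set.ncard_insert_le _ _).trans ?_
  have h1 := Set.ncard_union_le (dperp D d) (⋃ a ∈ hfin.toFinset, (dperp D a \ {d}))
  have h2 := Finset.set_ncard_biUnion_le hfin.toFinset fun a => dperp D a \ {d}
  have h3 := Finset.sum_le_sum hper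
  rw [Finset.sum_const, smul_eq_mul, ← Set.ncard_eq_toFinset_card _ hfin] at h3
  omega

theorem nonempty_five [Finite G]
    (huniq : ∀ d ∈ D, ∀ a ∈ dperp D d, ∀ b ∈ dperp D d, a ≠ b → ∀ x ∈ dperp D a, x ∈ dperp D b → x = d)
    (hd : d ∈ D) : Nonempty (↥(Subgroup.closure D) ≃* Equiv.Perm (Fin 5)) := by
  classical
  obtain ⟨c, a, hc, ha, hca⟩ := H.perp_pair hd
  obtain ⟨z, hz, hzd⟩ : ∃ z ∈ dperp D c, z ≠ d := by
    obtain ⟨u, v, hu, hv, huv⟩ := H.perp_pair hc.1
    by_cases h : u = d
    · exact ⟨v, hv, fun e => huv (h.trans e.symm)⟩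
    · exact ⟨u, hu, h⟩
  have ndz : ¬ Commute d z := H.perp_nc hc.1 (H.perp_symm hd hc) hz (Ne.symm hzd)
  have nac : ¬ Commute a c := H.perp_nc hd ha hc (Ne.symm hca)
  have nza : ¬ Commute z a := fun h => by
    have hne : z ≠ a := fun e => nac (e ▸ hz.2.2).symm
    exact hzd (huniq d hd c hc a ha hca z hz ⟨hz.1, hne, h.symm⟩)
  obtain ⟨cs, hcs⟩ := Cfsg.Agent.S2530.result 4
  let f : Fin 4 → G := ![d, z, a, c]
  have hf : ∀ i, f i ∈ D := fun i => by fin_cases i; exacts [hd, hz.1, ha.1, hc.1]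
  have hlift : CoxeterMatrix.IsLiftable (CoxeterMatrix.A 4) f := by
    have q2 : ∀ u v, u ∈ D → v ∈ D → Commute u v → (u * v) ^ 2 = 1 := fun u v hu hv h =>
      (sq_eq_one_iff H.set hu hv).2 h
    have q3 : ∀ u v, u ∈ D → v ∈ D → ¬ Commute u v → (u * v) ^ 3 = 1 := fun u v hu hv h =>
      cube_of_not_commute H.set hu hv h
    intro i j
    fin_cases i <;> fin_cases j
    · exact (pow_one _).trans (mul_self H.set hd)
    · exact q3 _ _ hd hz.1 ndz
    · exact q2 _ _ hd ha.1 ha.2.2
    · exact q2 _ _ hd hc.1 hc.2.2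
    · exact q3 _ _ hz.1 hd fun h => ndz h.symm
    · exact (pow_one _).trans (mul_self H.set hz.1)
    · exact q3 _ _ hz.1 ha.1 nza
    · exact q2 _ _ hz.1 hc.1 hz.2.2.symm
    · exact q2 _ _ ha.1 hd ha.2.2.symm
    · exact q3 _ _ ha.1 hz.1 fun h => nza h.symm
    · exact (pow_one _).trans (mul_self H.set ha.1)
    · exact q3 _ _ ha.1 hc.1 nac
    · exact q2 _ _ hc.1 hd hc.2.2.symm
    · exact q2 _ _ hc.1 hz.1 hz.2.2
    · exact q3 _ _ hc.1 ha.1 fun h => nac h.symm
    · exact (pow_one _).trans (mul_self H.set hc.1)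
  let φ : Equiv.Perm (Fin 5) →* G := cs.lift ⟨f, hlift⟩
  have hφ : ∀ i : Fin 4, φ (Equiv.swap i.castSucc i.succ) = f i := fun i => by
    rw [← hcs]; exact cs.lift_apply_simple hlift i
  -- injectivity
  have hinj : Function.Injective φ := by
    rw [← MonoidHom.ker_eq_bot_iff, Subgroup.eq_bot_iff_forall]
    have hA5 := alternatingGroup.isSimpleGroup (α := Fin 5) (by rw [Nat.card_fin])
    rcases hA5.eq_bot_or_eq_top_of_normal _
        (Subgroup.Normal.subgroupOf (inferInstance : φ.ker.Normal) (alternatingGroup (Fin 5))) with h | h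
    · intro k hk
      have hz' : ∀ g, g * k = k * g := fun g => by
        have hmem : k * g * k⁻¹ * g⁻¹ ∈ φ.ker := by
          rw [mul_assoc, mul_assoc, ← mul_assoc g]
          exact mul_mem hk ((inferInstance : φ.ker.Normal).conj_mem _ (inv_mem hk) g)
        have halt : k * g * k⁻¹ * g⁻¹ ∈ alternatingGroup (Fin 5) := by
          rw [Equiv.Perm.mem_alternatingGroup]
          simp only [map_mul, map_inv]
          rw [mul_comm (Equiv.Perm.sign k), mul_inv_cancel_right, mul_inv_cancel]
        have h1 : (⟨_, halt⟩ : alternatingGroup (Fin 5)) ∈ φ.ker.subgroupOf (alternatingGroup (Fin 5)) := hmem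
        rw [h, Subgroup.mem_bot] at h1
        have h2 : k * g * k⁻¹ * g⁻¹ = 1 := congrArg Subtype.val h1
        calc g * k = (k * g * k⁻¹ * g⁻¹) * g * k := by rw [h2, one_mul]
          _ = k * g := by group
      exact (by decide +kernel : ∀ k : Equiv.Perm (Fin 5), (∀ i : Fin 4,
        Equiv.swap i.castSucc i.succ * k = k * Equiv.swap i.castSucc i.succ) → k = 1) k fun i => hz' _
    · exfalso
      have hmem : Equiv.swap (0 : Fin 4).castSucc (0 : Fin 4).succ * Equiv.swap (2 : Fin 4).castSucc (2 : Fin 4).succ ∈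
          alternatingGroup (Fin 5) := by
        rw [Equiv.Perm.mem_alternatingGroup]; decide +kernel
      have h1 : (⟨_, hmem⟩ : alternatingGroup (Fin 5)) ∈ φ.ker.subgroupOf (alternatingGroup (Fin 5)) :=
        h ▸ Subgroup.mem_top _
      rw [Subgroup.mem_subgroupOf, MonoidHom.mem_ker, map_mul, hφ, hφ] at h1
      exact ha.2.1 (by
        calc a = d * (d * a) := (mul_self_mul H.set hd a).symm
          _ = d := by rw [show d * a = 1 from h1, mul_one])
  have hrange : φ.range = Subgroup.closure D := by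
    apply le_antisymm
    · rw [MonoidHom.range_eq_map, ← cs.subgroup_closure_range_simple, MonoidHom.map_closure, Subgroup.closure_le]
      rintro _ ⟨_, ⟨i, rfl⟩, rfl⟩
      exact Subgroup.subset_closure ((cs.lift_apply_simple hlift i).symm ▸ hf i)
    · rw [Subgroup.closure_le]
      let S := Finset.univ.filter fun σ : Equiv.Perm (Fin 5) => σ.support.card = 2
      have hS : S.card = 10 := by decide +kernel
      have hSD : ∀ σ ∈ S, φ σ ∈ D := by
        intro σ hσ
        obtain ⟨x, y, hxy, rfl⟩ := Equiv.Perm.card_support_eq_two.1 (Finset.mem_filter.1 hσ).2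
        obtain ⟨g, hg⟩ := isConj_iff.1 (Equiv.Perm.isConj_swap
          ((by decide : ∀ i : Fin 4, i.castSucc ≠ i.succ) 0) hxy)
        rw [← hg, map_mul, map_mul, map_inv, hφ]
        exact H.conj _ _ hd
      have heq : ((S.image φ : Finset G) : Set G) = D := by
        refine Set.eq_of_subset_of_ncard_le (fun u hu => ?_) ?_ (Set.toFinite _)
        · obtain ⟨σ, hσ, rfl⟩ := Finset.mem_image.1 hu
          exact hSD σ hσ
        · rw [Set.ncard_coe_finset, Finset.card_image_of_injective _ hinj, hS]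
          exact H.ncard_le huniq hd
      intro u hu
      rw [← heq] at hu
      obtain ⟨σ, -, rfl⟩ := Finset.mem_image.1 hu
      exact ⟨σ, rfl⟩
  exact ⟨((MonoidHom.ofInjective hinj).trans (MulEquiv.subgroupCongr hrange)).symm⟩

theorem dichotomy [Finite G] (hne : D.Nonempty) :
    Nonempty (↥(Subgroup.closure D) ≃* Equiv.Perm (Fin 5)) ∨
      Nonempty (↥(Subgroup.closure D) ≃* Equiv.Perm (Fin 3) × Equiv.Perm (Fin 3)) := by
  obtain ⟨d₀, hd₀⟩ := hne
  by_cases h : ∀ d ∈ D, ∀ a ∈ dperp D d, ∀ b ∈ dperp D d, a ≠ b → ∀ x ∈ dperp D a, x ∈ dperp D b → x = d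
  · exact Or.inl (H.nonempty_five h hd₀)
  · push Not at h
    obtain ⟨d, hd, a, ha, b, hb, hne, x, hx, hx', hxd⟩ := h
    exact Or.inr (H.nonempty_prod hd ha hb hne hx hx' hxd)

end Hyp

end Cfsg.Agent.ThreeTrans.LocalSym
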