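import Cfsg.Agent.ThreeTrans.Basic
import Cfsg.Agent.ThreeTrans.ThreePoint
import Cfsg.Agent.ThreeTrans.SmallPerm
import Cfsg.Agent.ThreeTrans.WidthOne

/-!
# The planes of the line system of a set of 3-transpositions
-/

set_option autoImplicit false

open Cfsg

namespace Cfsg.Agent.ThreeTrans

variable {G : Type*} [Group G] {D : Set G} {a b x y z : G}

/-- Two generators of exponent three with product and quotient of order three generate a 3-group. -/
theorem isPGroup_two_gen {u v : G} (hu : u ^ 3 = 1) (hv : v ^ 3 = 1) (huv : (u * v) ^ 3 = 1)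
    (hc : (u * v⁻¹) ^ 3 = 1) : IsPGroup 3 (Subgroup.closure ({u, v} : Set G)) := by
  set c := u * v⁻¹ with hcdef
  set d := v⁻¹ * u with hddef
  have hd : d ^ 3 = 1 := by
    have h : d = u⁻¹ * c * u⁻¹⁻¹ := by rw [hcdef, hddef]; group
    rw [h, conj_pow, hc, mul_one, mul_inv_cancel]
  have hu' : u⁻¹ = u * u := inv_eq_of_mul_eq_one_left (by rw [← hu, pow_succ, sq])
  have hv' : v⁻¹ = v * v := inv_eq_of_mul_eq_one_left (by rw [← hv, pow_succ, sq])
  have hvi : v⁻¹ * v⁻¹ = v := by
    rw [← mul_inv_rev, ← hv', inv_inv]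
  have hkey : u * v * u = v⁻¹ * u⁻¹ * v⁻¹ := by
    have h : (u * v * u) * (v * u * v) = 1 := by
      rw [← huv, pow_succ, sq]; simp only [mul_assoc]
    rw [eq_inv_of_mul_eq_one_left h, mul_inv_rev, mul_inv_rev]; simp only [mul_assoc]
  have hcd : c * d = u * v * u := by
    rw [hcdef, hddef]
    calc u * v⁻¹ * (v⁻¹ * u) = u * (v⁻¹ * v⁻¹) * u := by simp only [mul_assoc]
      _ = u * v * u := by rw [hvi]
  have hdc : d * c = u * v * u := by
    rw [hkey, hcdef, hddef, hu']
    simp only [mul_assoc]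
  have hucu : u * c * u⁻¹ = (c * d)⁻¹ := by
    rw [hcd, hcdef]
    simp only [mul_inv_rev, hu', hv', mul_assoc]
  have hudu : u * d * u⁻¹ = c := by rw [hcdef, hddef]; group
  have hcomm : Commute c d := hcd.trans hdc.symm
  set A := Subgroup.closure ({c, d} : Set G) with hA
  have hA3 : IsPGroup 3 A := by
    have key : ∀ m ∈ A, m ^ 3 = 1 ∧ Commute m c ∧ Commute m d := by
      intro m hm
      induction hm using Subgroup.closure_induction with
      | mem w hw =>
        rcases hw with rfl | rfl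
        · exact ⟨hc, Commute.refl _, hcomm⟩
        · exact ⟨hd, hcomm.symm, Commute.refl _⟩
      | one => exact ⟨one_pow 3, Commute.one_left c, Commute.one_left d⟩
      | mul p q _ hq hp hq' =>
        have hle : A ≤ Subgroup.centralizer ({p} : Set G) := by
          rw [hA, Subgroup.closure_le]
          rintro w (rfl | rfl)
          · exact Subgroup.mem_centralizer_singleton_iff.2 hp.2.1.symm.eq
          · exact Subgroup.mem_centralizer_singleton_iff.2 hp.2.2.symm.eq
        have hpq : Commute p q := (Subgroup.mem_centralizer_singleton_iff.1 (hle hq)).symm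
        exact ⟨by rw [hpq.mul_pow, hp.1, hq'.1, one_mul], hp.2.1.mul_left hq'.2.1,
          hp.2.2.mul_left hq'.2.2⟩
      | inv p _ hp => exact ⟨by rw [inv_pow, hp.1, inv_one], hp.2.1.inv_left, hp.2.2.inv_left⟩
    exact fun m => ⟨1, Subtype.ext (by simpa using (key m.1 m.2).1)⟩
  have hnorm : Subgroup.zpowers u ≤ Subgroup.normalizer (A : Set G) := by
    rw [Subgroup.zpowers_le]
    have step : ∀ m ∈ A, u * m * u⁻¹ ∈ A := by
      intro m hm
      induction hm using Subgroup.closure_induction with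
      | mem w hw =>
        rcases hw with rfl | rfl
        · rw [hucu]
          exact inv_mem (mul_mem (Subgroup.subset_closure (Set.mem_insert _ _))
            (Subgroup.subset_closure (Set.mem_insert_of_mem _ rfl)))
        · rw [hudu]; exact Subgroup.subset_closure (Set.mem_insert _ _)
      | one => simp
      | mul p q _ _ hp hq =>
        rw [show u * (p * q) * u⁻¹ = (u * p * u⁻¹) * (u * q * u⁻¹) by group]
        exact mul_mem hp hq
      | inv p _ hp =>
        rw [show u * p⁻¹ * u⁻¹ = (u * p * u⁻¹)⁻¹ by group]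
        exact inv_mem hp
    rw [Subgroup.mem_normalizer_iff]
    intro m
    refine ⟨step m, fun hm => ?_⟩
    have h := step _ (step _ hm)
    rwa [show u * (u * (u * m * u⁻¹) * u⁻¹) * u⁻¹ = (u ^ 3) * m * (u ^ 3)⁻¹ by
      rw [pow_succ, sq]; group, hu, inv_one, one_mul, mul_one] at h
  have huz : IsPGroup 3 (Subgroup.zpowers u) := by
    intro w
    obtain ⟨i, hi⟩ := Subgroup.mem_zpowers_iff.1 w.2
    refine ⟨1, Subtype.ext ?_⟩
    rw [pow_one, SubmonoidClass.coe_pow, OneMemClass.coe_one, ← hi, ← zpow_natCast, ← zpow_mul,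
      mul_comm, zpow_mul, zpow_natCast, hu, one_zpow]
  refine (hA3.to_sup_of_normal_left' huz hnorm).to_le ?_
  rw [Subgroup.closure_le]
  rintro w (rfl | rfl)
  · exact le_sup_right (a := A) (Subgroup.mem_zpowers w)
  · rw [show w = c⁻¹ * u by rw [hcdef]; group]
    exact mul_mem (inv_mem (le_sup_left (b := Subgroup.zpowers u)
      (Subgroup.subset_closure (Set.mem_insert _ _)))) (le_sup_right (a := A) (Subgroup.mem_zpowers u))

variable (hD : IsThreeTranspositionSet D) (hc : ∀ g : G, ∀ d ∈ D, g * d * g⁻¹ ∈ D)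

include hD hc

/-- A triangle with noncommuting third points generates an affine plane of order three. -/
theorem exists_affine_plane (hx : x ∈ D) (ha : a ∈ D) (hb : b ∈ D) (hxa : ¬ Commute x a)
    (hxb : ¬ Commute x b) (hab : ¬ Commute a b) (hab' : ¬ Commute (x * a * x) b) :
    ∃ f : (Fin 2 → ZMod 3) → G, f ![0, 0] = x ∧ f ![1, 0] = a ∧ f ![0, 1] = b ∧
      (∀ v, f v ∈ D) ∧ (∀ v w, f w * f v * f w = f (-v - w)) ∧
      ∀ v w, f v ≠ f w → ¬ Commute (f v) (f w) := by
  set u := x * a with hu
  set v := x * b with hv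
  have hu3 : u ^ 3 = 1 := cube_of_not_commute hD hx ha hxa
  have hv3 : v ^ 3 = 1 := cube_of_not_commute hD hx hb hxb
  have huv3 : (u * v) ^ 3 = 1 := by
    rw [hu, hv, show x * a * (x * b) = (x * a * x) * b by simp only [mul_assoc]]
    exact cube_of_not_commute hD (conj_mem hD hc hx ha) hb hab'
  have hc3 : (u * v⁻¹) ^ 3 = 1 := by
    rw [hu, hv, mul_inv_rev, inv_eq hD hx, inv_eq hD hb,
      show x * a * (b * x) = x * (a * b) * x⁻¹ by rw [inv_eq hD hx]; simp only [mul_assoc],
      conj_pow, cube_of_not_commute hD ha hb hab, mul_one, mul_inv_cancel]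
  set N := Subgroup.closure ({u, v} : Set G) with hN
  have hN3 : IsPGroup 3 N := isPGroup_two_gen hu3 hv3 huv3 hc3
  have hflip : ∀ m ∈ N, x * m * x ∈ N := by
    intro m hm
    induction hm using Subgroup.closure_induction with
    | mem w hw =>
      rcases hw with rfl | rfl
      · rw [show x * u * x = u⁻¹ by rw [hu, mul_inv_rev, inv_eq hD hx, inv_eq hD ha, mul_self_mul hD hx]]
        exact inv_mem (Subgroup.subset_closure (Set.mem_insert _ _))
      · rw [show x * v * x = v⁻¹ by rw [hv, mul_inv_rev, inv_eq hD hx, inv_eq hD hb, mul_self_mul hD hx]]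
        exact inv_mem (Subgroup.subset_closure (Set.mem_insert_of_mem _ rfl))
    | one => simp [mul_self hD hx]
    | mul p q _ _ hp hq =>
      rw [show x * (p * q) * x = (x * p * x) * (x * q * x) by
        simp only [mul_assoc, mul_self_mul hD hx]]
      exact mul_mem hp hq
    | inv p _ hp =>
      rw [show x * p⁻¹ * x = (x * p * x)⁻¹ by
        rw [mul_inv_rev, mul_inv_rev, inv_eq hD hx, mul_assoc]]
      exact inv_mem hp
  -- the group and the class of `x`
  set K := Subgroup.closure ({x, a, b} : Set G) with hK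
  have hcos : ∀ k ∈ K, k ∈ N ∨ x * k ∈ N := by
    have step : ∀ s ∈ ({x, a, b} : Set G), ∀ k, (k ∈ N ∨ x * k ∈ N) → (s * k ∈ N ∨ x * (s * k) ∈ N) := by
      have huN : u ∈ N := Subgroup.subset_closure (Set.mem_insert _ _)
      have hvN : v ∈ N := Subgroup.subset_closure (Set.mem_insert_of_mem _ rfl)
      have base : ∀ s, x * s ∈ N → ∀ k, (k ∈ N ∨ x * k ∈ N) → (s * k ∈ N ∨ x * (s * k) ∈ N) := by
        intro s hs k hk
        rcases hk with hk | hk
        · exact Or.inr (by rw [← mul_assoc]; exact mul_mem hs hk)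
        · left
          have h1 := mul_mem (hflip _ hs) hk
          simp only [mul_assoc, mul_self_mul hD hx] at h1
          exact h1
      rintro s (rfl | rfl | rfl)
      · exact base s (by rw [mul_self hD hx]; exact one_mem N)
      · exact base s huN
      · exact base s hvN
    intro k hk
    induction hk using Subgroup.closure_induction_left with
    | one => exact Or.inl (one_mem N)
    | mul_left s hs m _ ih => exact step s hs m ih
    | inv_mul_cancel s hs m _ ih =>
      have hsD : s ∈ D := by rcases hs with rfl | rfl | rfl <;> assumption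
      rw [inv_eq hD hsD]; exact step s hs m ih
  set T : Set G := {w | ∃ k ∈ K, w = k * x * k⁻¹} with hT
  have hTD : ∀ w ∈ T, w ∈ D := by rintro - ⟨k, -, rfl⟩; exact hc k x hx
  have hTN : ∀ w ∈ T, x * w ∈ N := by
    rintro - ⟨k, hk, rfl⟩
    rcases hcos k hk with h | h
    · rw [show x * (k * x * k⁻¹) = (x * k * x) * k⁻¹ by simp only [mul_assoc]]
      exact mul_mem (hflip k h) (inv_mem h)
    · have h1 := mul_mem h (inv_mem (hflip _ h))
      simp only [mul_inv_rev, inv_eq hD hx, mul_assoc, mul_self_mul hD hx] at h1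
      simpa only [mul_assoc] using h1
  have hTT : ∀ s ∈ T, ∀ t ∈ T, Commute s t → s = t := by
    intro s hs t ht hst
    have h1 : s * t ∈ N := by
      have := mul_mem (inv_mem (hTN s hs)) (hTN t ht)
      rwa [mul_inv_rev, inv_eq hD hx, inv_eq hD (hTD s hs), mul_assoc, mul_self_mul hD hx] at this
    have h2 := eq_one_of_mem_pGroup hN3 h1 ((sq_eq_one_iff hD (hTD s hs) (hTD t ht)).2 hst) (by norm_num)
    rw [mul_eq_one_iff_eq_inv.1 h2, inv_eq hD (hTD t ht)]
  have hTcl : ∀ s ∈ T, ∀ t ∈ T, s * t * s ∈ T := by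
    rintro - ⟨k, hk, rfl⟩ - ⟨m, hm, rfl⟩
    have hxK : x ∈ K := Subgroup.subset_closure (Set.mem_insert _ _)
    refine ⟨k * x * k⁻¹ * m, mul_mem (mul_mem (mul_mem hk hxK) (inv_mem hk)) hm, ?_⟩
    nth_rw 2 [← inv_eq hD (hc k x hx)]
    group
  have hbr : ∀ s ∈ T, ∀ t ∈ T, s * t * s = t * s * t := by
    intro s hs t ht
    by_cases h : Commute s t
    · rw [hTT s hs t ht h]
    · exact braid hD (hTD s hs) (hTD t ht) h
  have hxT : x ∈ T := ⟨1, one_mem _, by group⟩
  have hmemT : ∀ s ∈ ({a, b} : Set G), ¬ Commute x s → s ∈ D → s ∈ T := by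
    intro s hs hns hsD
    have hsK : s ∈ K := Subgroup.subset_closure (Set.mem_insert_of_mem _ hs)
    refine ⟨x * s, mul_mem (Subgroup.subset_closure (Set.mem_insert _ _)) hsK, ?_⟩
    rw [mul_inv_rev, inv_eq hD hx, inv_eq hD hsD]
    rw [braid hD hx hsD hns]
    simp only [mul_assoc, mul_self_mul hD hsD, mul_self_mul hD hx, mul_self hD hx, mul_one]
  let op : T → T → T := fun s t => ⟨s.1 * t.1 * s.1, hTcl _ s.2 _ t.2⟩
  obtain ⟨f, f0, f1, f2, hf⟩ := exists_plane (op := op)
    (fun s => Subtype.ext (by simp [op, mul_self hD (hTD _ s.2)]))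
    (fun s t => Subtype.ext (hbr _ s.2 _ t.2))
    (fun s t => Subtype.ext (by
      simp only [op, mul_assoc, mul_self_mul hD (hTD _ s.2), mul_self hD (hTD _ s.2), mul_one]))
    (fun g s t => Subtype.ext (by simp only [op, mul_assoc, mul_self_mul hD (hTD _ g.2)]))
    ⟨x, hxT⟩ ⟨a, hmemT a (Set.mem_insert _ _) hxa ha⟩
    ⟨b, hmemT b (Set.mem_insert_of_mem _ rfl) hxb hb⟩
  refine ⟨fun v => (f v).1, by simp [f0], by simp [f1], by simp [f2], fun v => hTD _ (f v).2,
    fun v w => ?_, fun v w hne h => hne (hTT _ (f v).2 _ (f w).2 h)⟩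
  have := congrArg Subtype.val (hf w v)
  simp only [op] at this
  rw [this, show -w - v = -v - w by abel]

end Cfsg.Agent.ThreeTrans
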