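import Cfsg.Agent.ThreeTrans.Trace

/-!
# The two factorisations of a product of three transpositions in type M(22)
-/

set_option autoImplicit false

open Cfsg

namespace Cfsg.Agent.ThreeTrans

/-- What is used about a set of 3-transpositions of type M(22). -/
structure M22Data {G : Type*} [Group G] (D : Set G) : Prop where
  noTwins : NoTwins D
  nice : Nice D
  layerNice : ∀ t ∈ D, Nice (dperp D t)
  layerLines : ∀ t ∈ D, Lines (dperp D t)
  layerProd : ∀ t ∈ D, LineProd (dperp D t)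
  layerTrace : ∀ t ∈ D, Trace (dperp D t)

theorem m22Data_diff {X : Type*} [Group X] [Finite X] {D₀ : Set X}
    (hD : IsThreeTranspositionGroup (D₀ \ {1})) (h : IsOfTypeM22 X D₀) : M22Data (D₀ \ {1}) := by
  obtain ⟨⟨hcls, -, hN⟩, -, -⟩ := layerData_of_M22 hD h
  have hnice := (nice_of_M22 hD h).1
  obtain ⟨-, d, hd0, c, -, hdc, ⟨F, hFld, hFt, hF, ⟨e⟩⟩, -, -, -⟩ := h
  have hd : d ∈ D₀ \ {1} := ⟨hd0, fun hh => hdc (by rw [hh]; exact Commute.one_left c)⟩
  set H := Subgroup.closure {y : X | y ∈ D₀ ∧ y ≠ d ∧ Commute d y}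
  have hH : H = Subgroup.closure (dperp (D₀ \ {1}) d) := closure_congr_one (dperp_diff_iff d)
  have hcard : 2 ^ 15 ∣ Nat.card (H ⧸ Subgroup.center H) := by
    rw [Nat.card_congr e.toEquiv]
    exact two_pow_dvd_psu hF
  have : IsSimpleGroup (H ⧸ Subgroup.center H) :=
    (MulEquiv.isSimpleGroup_congr e).2 (Cfsg.Agent.S0283.result
      (by rw [hF]; norm_num : Fintype.card F = 2 ^ 2) 6 (by norm_num) (by norm_num))
  have hgrp := lowImage_group hD hH
  have hG := good_of_simple (not_isMulCommutative_of_two_pow_dvd hgrp hcard) hgrp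
  obtain ⟨q, hq, -⟩ := hG.2.1
  obtain ⟨θ, tp, hB, hM⟩ := psu_model hF e hgrp ⟨q, hq⟩
  have hF4 : Nat.card F = 4 := by rw [Nat.card_eq_fintype_card, hF]
  have hS := closedSet_of_group hD
  have hlayer : ∀ t ∈ D₀ \ {1}, Nice (dperp (D₀ \ {1}) t) ∧ Lines (dperp (D₀ \ {1}) t) ∧
      LineProd (dperp (D₀ \ {1}) t) ∧ Trace (dperp (D₀ \ {1}) t) := fun t ht => by
    obtain ⟨φ, hφ⟩ := exists_layer_iso hD hd hH hcls hG hN ht
    exact ⟨hφ.nice (hS.dperp t) (UModel.nice hB hM), hφ.lines (UModel.lines hB hM hF4),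
      hφ.lineProd (hS.dperp t) (UModel.line_prod hB hM hF4), hφ.trace (UModel.trace hB hM)⟩
  exact ⟨hN, hnice, fun t ht => (hlayer t ht).1, fun t ht => (hlayer t ht).2.1,
    fun t ht => (hlayer t ht).2.2.1, fun t ht => (hlayer t ht).2.2.2⟩

variable {G : Type*} [Group G] {D : Set G}

theorem m22Data [Finite G] (hD : IsThreeTranspositionGroup D) (h : IsOfTypeM22 G D) : M22Data D := by
  have e : D \ {1} = D := Set.sdiff_singleton_eq_self fun h1 => ne_one hD.1 h1 rfl
  have := m22Data_diff (D₀ := D) (by rwa [e]) h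
  rwa [e] at this

theorem M22Data.trace (hM : M22Data D) : Trace D := trace_of_layers hM.nice.diam hM.layerTrace

/-- An involution fixing a member with its partners is trivial or that member. -/
theorem eq_one_or_eq_of_nice (hD : IsThreeTranspositionGroup D) (hZ : Subgroup.center G = ⊥)
    (hN : Nice D) (hTr : Trace D) {a z : G} (ha : a ∈ D) (hz : z * z = 1) (hza : Commute z a)
    (hzd : ∀ x ∈ dperp D a, Commute z x) : z = 1 ∨ z = a := by
  have hinv : z⁻¹ = z := inv_eq_of_mul_eq_one_left hz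
  have hfix : ∀ {x : G}, Commute z x → z * x * z = x := fun {x} hx => by
    rw [hx.eq, mul_assoc, hz, mul_one]
  have hsym : Sym D fun x => z * x * z := by
    refine ⟨fun x hx => ?_, fun x _ => conj_twice hz, fun x _ y _ h => ?_, fun x _ y _ => ?_⟩
    · have := hD.2.1 z x hx; rwa [hinv] at this
    · have := (commute_conj z x y).2 h; rwa [hinv] at this
    · calc z * (x * y * x) * z = z * x * (z * z) * y * (z * z) * x * z := by
            rw [hz]; simp only [mul_one, mul_assoc]
        _ = z * x * z * (z * y * z) * (z * x * z) := by simp only [mul_assoc]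
  have hfixA : z * a * z = a := hfix hza
  have hstar : Star D fun x => z * x * z := by
    intro c hc hcc hne
    exfalso
    have hca : ¬ Commute a c := fun h => hne (hfix (by
      rcases eq_or_ne c a with rfl | hca
      · exact hza
      · exact hzd c ⟨hc, hca, h⟩))
    have hca' : ¬ Commute a (z * c * z) := fun h => hca (by
      have := hsym.comm a ha _ (hsym.mem c hc) h
      rwa [hfixA, show z * (z * c * z) * z = c from hsym.inv c hc] at this)
    obtain ⟨u, hu, hu1, hu2⟩ := hTr a ha c hc _ (hsym.mem c hc) hca hca' (Ne.symm hne) hcc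
    refine hu2 ?_
    have := hsym.comm u hu.1 c hc hu1
    rwa [show z * u * z = u from hfix (hzd u hu)] at this
  have key : ∀ u : G, (∀ x ∈ D, Commute u x) → u = 1 := fun u hu => by
    have := mem_center_of_commute hD.2.2 hu
    rwa [hZ, Subgroup.mem_bot] at this
  rcases hN.rigid _ hsym hstar with h | ⟨s, hs, h⟩
  · refine Or.inl (key z fun x hx => ?_)
    show z * x = x * z
    calc z * x = z * x * z * z := by rw [mul_assoc (z * x), hz, mul_one]
      _ = x * z := by rw [show z * x * z = x from h x hx]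
  · have h1 := key (s * z) fun x hx => by
      show s * z * x = x * (s * z)
      calc s * z * x = s * (z * x * z) * z := by simp only [mul_assoc, hz, mul_one]
        _ = s * (s * x * s) * z := by rw [show z * x * z = s * x * s from h x hx]
        _ = x * (s * z) := by simp only [mul_assoc, mul_self_mul hD.1 hs]
    have hzs : z = s := by rw [← inv_eq hD.1 hs]; exact eq_inv_of_mul_eq_one_right h1
    subst hzs
    refine Or.inr ?_
    by_contra hne
    obtain ⟨x, hx, hxs⟩ := hN.sep a ha z ⟨hs, hne, hza.symm⟩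
    exact hxs (hzd x hx).symm

theorem eq_one_or_eq (hD : IsThreeTranspositionGroup D) (hZ : Subgroup.center G = ⊥)
    (hM : M22Data D) {a z : G} (ha : a ∈ D) (hz : z * z = 1) (hza : Commute z a)
    (hzd : ∀ x ∈ dperp D a, Commute z x) : z = 1 ∨ z = a :=
  eq_one_or_eq_of_nice hD hZ hM.nice hM.trace ha hz hza hzd

/-- The three further members of the line of `b` and `c` in the layer of `a` have the same
product. -/
theorem exists_second_triple (hD : IsThreeTranspositionGroup D) (hZ : Subgroup.center G = ⊥)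
    (hM : M22Data D) {a b c : G} (ha : a ∈ D) (hb : b ∈ dperp D a)
    (hc : c ∈ dperp (dperp D a) b) :
    ∃ x₁ x₂ x₃ : G, ln (dperp D a) b c = {b, c, x₁, x₂, x₃} ∧ [b, c, x₁, x₂, x₃].Nodup ∧
      (∀ p ∈ [b, c, x₁, x₂, x₃], ∀ q ∈ [b, c, x₁, x₂, x₃], Commute p q) ∧
      x₁ * x₂ * x₃ = a * b * c := by
  classical
  obtain ⟨x₁, x₂, x₃, hl, hprod⟩ := hM.layerProd a ha b hb c hc
  have hlen := (hM.layerLines a ha).five b hb c hc
  have hmem : ∀ {p}, p ∈ [b, c, x₁, x₂, x₃] ↔ p ∈ ln (dperp D a) b c := fun {p} => by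
    rw [hl]; simp
  have hnd : [b, c, x₁, x₂, x₃].Nodup := by
    rw [← List.dedup_eq_self]
    refine (List.dedup_sublist _).eq_of_length ?_
    rw [← List.card_toFinset, ← Set.ncard_coe_finset, List.coe_toFinset]
    exact (congrArg Set.ncard (Set.ext fun p => hmem)).trans hlen
  have hcomm : ∀ p ∈ [b, c, x₁, x₂, x₃], ∀ q ∈ [b, c, x₁, x₂, x₃], Commute p q := by
    intro p hp q hq
    rcases eq_or_ne p q with rfl | hne
    · exact Commute.refl p
    · exact ((hM.layerLines a ha).pair b hb c hc p (hmem.1 hp) q (hmem.1 hq) hne).1.2.2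
  refine ⟨x₁, x₂, x₃, hl, hnd, hcomm, ?_⟩
  have hT := hD.1
  have hS : ∀ {p}, p ∈ [b, c, x₁, x₂, x₃] → p ∈ dperp D a := fun hp => (hmem.1 hp).1
  have hx₁ := hS (p := x₁) (by simp)
  have hx₂ := hS (p := x₂) (by simp)
  have hx₃ := hS (p := x₃) (by simp)
  set z := b * c * x₁ * x₂ * x₃ with hz
  have hone : z * (x₃ * x₂ * x₁ * c * b) = 1 := by
    simp only [hz, mul_assoc, mul_self_mul hT hx₃.1, mul_self_mul hT hx₂.1, mul_self_mul hT hx₁.1,
      mul_self_mul hT hc.1.1, mul_self hT hb.1]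
  have hone' : x₃ * x₂ * x₁ * c * b * z = 1 := by
    simp only [hz, mul_assoc, mul_self_mul hT hb.1, mul_self_mul hT hc.1.1, mul_self_mul hT hx₁.1,
      mul_self_mul hT hx₂.1, mul_self hT hx₃.1]
  have hrev : x₃ * x₂ * x₁ * c * b = z := by
    have h := List.Perm.prod_eq' (List.reverse_perm [b, c, x₁, x₂, x₃])
      (List.pairwise_of_forall_mem_list fun p hp q hq =>
        hcomm p (by simpa using List.mem_reverse.1 hp) q (by simpa using List.mem_reverse.1 hq))
    simpa [hz, mul_assoc] using h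
  have hzz : z * z = 1 := by rw [hrev] at hone; exact hone
  have hzd : ∀ w ∈ dperp D a, Commute z w := by
    intro w hw
    have h := hprod w hw
    show z * w = w * z
    calc z * w = z * w * (x₃ * x₂ * x₁ * c * b) * z := by
          rw [mul_assoc (z * w), hone', mul_one]
      _ = b * (c * (x₁ * (x₂ * (x₃ * w * x₃) * x₂) * x₁) * c) * b * z := by
          simp only [hz, mul_assoc]
      _ = w * z := by rw [h]
  have hza : Commute z a :=
    (((((hb.2.2.mul_right hc.1.2.2).mul_right hx₁.2.2).mul_right hx₂.2.2).mul_right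
      hx₃.2.2)).symm
  have hz1 : z ≠ 1 := by
    intro h1
    have n23 : x₂ ≠ x₃ := by simp at hnd; tauto
    have nb3 : b ≠ x₃ := by simp at hnd; tauto
    have nb2 : b ≠ x₂ := by simp at hnd; tauto
    have h32 : x₃ ∈ dperp D x₂ := ⟨hx₃.1, n23.symm, hcomm _ (by simp) _ (by simp)⟩
    obtain ⟨d, hd, hdb⟩ := (hM.layerNice x₂ hx₂.1).sep x₃ h32 b
      ⟨⟨hb.1, nb2, hcomm _ (by simp) _ (by simp)⟩, nb3, hcomm _ (by simp) _ (by simp)⟩
    refine hdb ((commute_triple_iff hT hb.1 hc.1.1 hx₁.1 hd.1.1 hc.2.2 (hcomm _ (by simp) _ (by simp))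
      (hcomm _ (by simp) _ (by simp)) hc.2.1.symm (by simp at hnd; tauto) (by simp at hnd; tauto)).1
      ?_).1
    have e : b * c * x₁ = x₃ * x₂ := by
      calc b * c * x₁ = z * x₃ * x₂ := by
            simp only [hz, mul_assoc, mul_self_mul hT hx₃.1, mul_self hT hx₂.1, mul_one]
        _ = x₃ * x₂ := by rw [h1, one_mul]
    rw [e]
    exact hd.2.2.symm.mul_right hd.1.2.2.symm
  have hzeq : z = a := (eq_one_or_eq hD hZ hM ha hzz hza hzd).resolve_left hz1
  have hbc : Commute b c := hc.2.2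
  calc x₁ * x₂ * x₃ = c * b * z := by
        simp only [hz, mul_assoc, mul_self_mul hT hb.1, mul_self_mul hT hc.1.1]
    _ = a * b * c := by
        rw [hzeq, ← hbc.eq, ← (hb.2.2.mul_right hc.1.2.2).eq, mul_assoc]

/-- Distinct pairwise commuting members with product `j`. -/
def Factor (D : Set G) (n : ℕ) (j : G) (l : List G) : Prop :=
  l.Nodup ∧ l.length = n ∧ (∀ a ∈ l, a ∈ D) ∧ (∀ a ∈ l, ∀ b ∈ l, Commute a b) ∧ l.prod = j

theorem Factor.erase [DecidableEq G] (hT : IsThreeTranspositionSet D) {n : ℕ} {j s : G} {l : List G}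
    (h : Factor D (n + 1) j l) (hs : s ∈ l) : Factor D n (s * j) (l.erase s) := by
  obtain ⟨hn, hlen, hD, hc, hp⟩ := h
  have hsub : ∀ {x}, x ∈ l.erase s → x ∈ l := fun hx => List.mem_of_mem_erase hx
  refine ⟨hn.erase s, by rw [List.length_erase_of_mem hs, hlen]; rfl, fun x hx => hD x (hsub hx),
    fun x hx y hy => hc x (hsub hx) y (hsub hy), ?_⟩
  have h := List.Perm.prod_eq' (List.perm_cons_erase hs) (List.pairwise_of_forall_mem_list hc)
  rw [List.prod_cons, hp] at h
  rw [h, mul_self_mul hT (hD s hs)]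

theorem Factor.pair (hT : IsThreeTranspositionSet D) (hN : NoTwins D) {j : G} {l l' : List G}
    (h : Factor D 2 j l) (h' : Factor D 2 j l') (x : G) : x ∈ l ↔ x ∈ l' := by
  suffices ∀ {l l' : List G}, Factor D 2 j l → Factor D 2 j l' → ∀ x ∈ l, x ∈ l' from
    ⟨this h h' x, this h' h x⟩
  intro l l' h h' x hx
  obtain ⟨hn, hlen, hD, hc, hp⟩ := h
  obtain ⟨hn', hlen', hD', hc', hp'⟩ := h'
  obtain ⟨a, b, rfl⟩ := List.length_eq_two.1 hlen
  obtain ⟨c, e, rfl⟩ := List.length_eq_two.1 hlen'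
  simp only [List.nodup_cons, List.mem_singleton] at hn hn'
  simp only [List.prod_cons, List.prod_nil, mul_one] at hp hp'
  have hce : Commute c e := hc' c (by simp) e (by simp)
  have hab : Commute a b := hc a (by simp) b (by simp)
  rcases List.mem_pair.1 (by simpa using hx) with rfl | rfl
  · simpa using pair_unique hT hN (hD' c (by simp)) (hD' e (by simp)) (hD x (by simp)) (hD b (by simp))
      hce hn'.1 hab hn.1 (hp'.trans hp.symm)
  · simpa using pair_unique hT hN (hD' c (by simp)) (hD' e (by simp)) (hD x (by simp)) (hD a (by simp))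
      hce hn'.1 hab.symm (Ne.symm hn.1) ((hp'.trans hp.symm).trans hab.eq)

theorem Factor.of_shared (hT : IsThreeTranspositionSet D) (hN : NoTwins D) {j s : G}
    {l l' : List G} (h : Factor D 3 j l) (h' : Factor D 3 j l') (hs : s ∈ l) (hs' : s ∈ l') (x : G) :
    x ∈ l ↔ x ∈ l' := by
  classical
  rw [(List.perm_cons_erase hs).mem_iff, (List.perm_cons_erase hs').mem_iff, List.mem_cons,
    List.mem_cons, (h.erase hT hs).pair hT hN (h'.erase hT hs') x]

/-- A product of three commuting members has exactly two factorisations. -/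
theorem two_factorisations (hD : IsThreeTranspositionGroup D) (hZ : Subgroup.center G = ⊥)
    (hM : M22Data D) {j : G} {l₀ : List G} (h₀ : Factor D 3 j l₀) :
    ∃ l₂, Factor D 3 j l₂ ∧ ¬ (∀ x, x ∈ l₀ ↔ x ∈ l₂) ∧
      ∀ l, Factor D 3 j l → (∀ x, x ∈ l ↔ x ∈ l₀) ∨ (∀ x, x ∈ l ↔ x ∈ l₂) := by
  classical
  have hT := hD.1
  obtain ⟨hn, hlen, hmem, hcomm, hp⟩ := id h₀
  obtain ⟨a, b, c, rfl⟩ := List.length_eq_three.1 hlen
  simp only [List.nodup_cons, List.mem_cons, List.not_mem_nil, or_false, not_or] at hn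
  simp only [List.prod_cons, List.prod_nil, mul_one, ← mul_assoc] at hp
  obtain ⟨⟨nab, nac⟩, nbc, -⟩ := hn
  have ha := hmem a (by simp)
  have hb : b ∈ dperp D a := ⟨hmem b (by simp), Ne.symm nab, hcomm a (by simp) b (by simp)⟩
  have hc : c ∈ dperp (dperp D a) b := ⟨⟨hmem c (by simp), Ne.symm nac, hcomm a (by simp) c (by simp)⟩,
    Ne.symm nbc, hcomm b (by simp) c (by simp)⟩
  obtain ⟨x₁, x₂, x₃, hl, hnd, hco, hprod⟩ := exists_second_triple hD hZ hM ha hb hc
  have hsub : ∀ {p}, p ∈ [x₁, x₂, x₃] → p ∈ [b, c, x₁, x₂, x₃] := fun hp => by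
    simp only [List.mem_cons] at hp ⊢; tauto
  have hS : ∀ {p}, p ∈ [x₁, x₂, x₃] → p ∈ dperp D a := fun {p} hp => by
    have : p ∈ ln (dperp D a) b c := by rw [hl]; simpa using hsub hp
    exact this.1
  have h₂ : Factor D 3 j [x₁, x₂, x₃] := by
    refine ⟨(List.nodup_cons.1 (List.nodup_cons.1 hnd).2).2, rfl, fun p hp => (hS hp).1,
      fun p hp q hq => hco p (hsub hp) q (hsub hq), ?_⟩
    rw [List.prod_cons, List.prod_cons, List.prod_cons, List.prod_nil, mul_one, ← mul_assoc, hprod, hp]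
  refine ⟨_, h₂, fun h => (hS ((h a).1 (by simp))).2.1 rfl, fun l hl' => ?_⟩
  by_cases hs : ∃ s ∈ l, s ∈ [a, b, c]
  · obtain ⟨s, hs, hs'⟩ := hs
    exact Or.inl (hl'.of_shared hT hM.noTwins h₀ hs hs')
  push Not at hs
  obtain ⟨hn', hlen', hmem', hcomm', hp'⟩ := id hl'
  obtain ⟨x, y, w, rfl⟩ := List.length_eq_three.1 hlen'
  simp only [List.nodup_cons, List.mem_cons, List.not_mem_nil, or_false, not_or] at hn'
  simp only [List.prod_cons, List.prod_nil, mul_one, ← mul_assoc] at hp'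
  obtain ⟨⟨nxy, nxw⟩, nyw, -⟩ := hn'
  have hJ : ∀ d ∈ D, Commute d a ∧ Commute d b ∧ Commute d c ↔
      Commute d x ∧ Commute d y ∧ Commute d w := fun d hd => by
    rw [← commute_triple_iff hT ha hb.1 hc.1.1 hd hb.2.2 hc.1.2.2 hc.2.2 nab nac nbc, hp, ← hp',
      commute_triple_iff hT (hmem' x (by simp)) (hmem' y (by simp)) (hmem' w (by simp)) hd
        (hcomm' x (by simp) y (by simp)) (hcomm' x (by simp) w (by simp))
        (hcomm' y (by simp) w (by simp)) nxy nxw nyw]
  obtain ⟨hxa, hxb, hxc⟩ := (hJ x (hmem' x (by simp))).2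
    ⟨Commute.refl x, hcomm' x (by simp) y (by simp), hcomm' x (by simp) w (by simp)⟩
  have hxs := hs x (by simp)
  simp only [List.mem_cons, List.not_mem_nil, or_false, not_or] at hxs
  have hxl : x ∈ ln (dperp D a) b c :=
    ⟨⟨hmem' x (by simp), hxs.1, hxa.symm⟩, fun q hq hqb hqc =>
      ((hJ q hq.1).1 ⟨hq.2.2.symm, hqb, hqc⟩).1⟩
  rw [hl] at hxl
  simp only [Set.mem_insert_iff, Set.mem_singleton_iff] at hxl
  refine Or.inr (hl'.of_shared hT hM.noTwins h₂ (s := x) (by simp) ?_)
  simp only [List.mem_cons, List.not_mem_nil, or_false]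
  tauto

end Cfsg.Agent.ThreeTrans
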