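import Cfsg.Agent.ThreeTrans.Layers
import Cfsg.Agent.S0280
import Cfsg.Agent.S0283

/-!
# Groups of type M(22), M(23), M(24): absence of twins in the layers
-/

set_option autoImplicit false

open Cfsg

namespace Cfsg.Agent.ThreeTrans

theorem two_pow_dvd_psu {F : Type*} [Field F] [Fintype F] (hF : Fintype.card F = 4) :
    2 ^ 15 ∣ Nat.card (PSU 6 F 2) := by
  have h := Cfsg.Agent.S0280.result (q := 2) (by rw [hF]; norm_num : Fintype.card F = 2 ^ 2) 6
    (by norm_num)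
  norm_num [Finset.prod_range_succ, Nat.even_iff] at h
  norm_num
  omega

theorem not_two_pow_dvd_refl {X : Type*} [Group X] {n : ℕ} (hn : n ≤ 7) {μ c : ZMod 3}
    (h : IsProjReflectionGroupModThree X n μ c) : ¬ 2 ^ 15 ∣ Nat.card X := by
  obtain ⟨Q, -, -, ⟨e⟩⟩ := h
  intro hdvd
  rw [Nat.card_congr e.toEquiv] at hdvd
  have h1 : 2 ^ 15 ∣ Nat.card (GL (Fin n) (ZMod 3)) :=
    ((hdvd.trans (Subgroup.card_quotient_dvd_card _)).trans (Subgroup.card_subgroup_dvd_card _)).trans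
      (Subgroup.card_subgroup_dvd_card _)
  rw [Matrix.card_GL_field, ZMod.card] at h1
  interval_cases n <;> norm_num [Fin.prod_univ_succ] at h1

variable {X : Type*} [Group X] [Finite X] {D₀ : Set X}

/-- What a layer passes to the layer above it. -/
def LayerData (D : Set X) : Prop :=
  GoodClass D ∧ (∀ q ∈ D, NoTwins (dperp D q)) ∧ 2 ^ 15 ∣ Nat.card X

theorem dperp_diff_iff (d u : X) (hu : u ≠ 1) : u ∈ dperp D₀ d ↔ u ∈ dperp (D₀ \ {1}) d := by
  simp only [dperp, Set.mem_inter_iff, Set.mem_ofPred_eq, Set.mem_sdiff, Set.mem_singleton_iff]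
  tauto

theorem inter_dperp_diff_iff (d c u : X) (hu : u ≠ 1) :
    u ∈ dperp D₀ d ∩ dperp D₀ c ↔ u ∈ dperp (D₀ \ {1}) d ∩ dperp (D₀ \ {1}) c := by
  simp only [dperp, Set.mem_inter_iff, Set.mem_ofPred_eq, Set.mem_sdiff, Set.mem_singleton_iff]
  tauto

theorem not_isMulCommutative_of_two_pow_dvd {Y : Type*} [Group Y] [Finite Y] [IsSimpleGroup Y]
    {D : Set Y} (hD : IsThreeTranspositionGroup D) (h : 2 ^ 15 ∣ Nat.card Y) :
    ¬ IsMulCommutative Y := by
  intro hcomm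
  obtain ⟨a, ha⟩ : D.Nonempty := by
    by_contra hne
    rw [Set.not_nonempty_iff_eq_empty] at hne
    have h1 := hD.2.2
    rw [hne, Subgroup.closure_empty] at h1
    have := Subgroup.card_top (G := Y)
    rw [← h1, Subgroup.card_bot] at this
    rw [← this] at h
    norm_num at h
  have hn : (Subgroup.zpowers a).Normal :=
    ⟨fun u hu g => by rwa [mul_comm' g u, mul_inv_cancel_right]⟩
  rcases IsSimpleGroup.eq_bot_or_eq_top_of_normal _ hn with h1 | h1
  · exact ne_one hD.1 ha (by simpa [h1] using Subgroup.mem_zpowers a)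
  · have h2 : Nat.card Y = 2 := by
      rw [← Subgroup.card_top (G := Y), ← h1, Nat.card_zpowers, hD.1.1 a ha]
    rw [h2] at h
    norm_num at h

theorem layerData_of_M22 (hD : IsThreeTranspositionGroup (D₀ \ {1})) (h : IsOfTypeM22 X D₀) :
    LayerData (D₀ \ {1}) := by
  obtain ⟨hZ, d, hd0, c, hc0, hdc, ⟨F, hFld, hFt, hF, ⟨e⟩⟩, c₃, -, hR⟩ := h
  have hd : d ∈ D₀ \ {1} := ⟨hd0, fun hh => hdc (by rw [hh]; exact Commute.one_left c)⟩
  have hc : c ∈ D₀ \ {1} := ⟨hc0, fun hh => hdc (by rw [hh]; exact Commute.one_right d)⟩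
  set H := Subgroup.closure {y : X | y ∈ D₀ ∧ y ≠ d ∧ Commute d y}
  have hH : H = Subgroup.closure (dperp (D₀ \ {1}) d) := closure_congr_one (dperp_diff_iff d)
  have hcard : 2 ^ 15 ∣ Nat.card (H ⧸ Subgroup.center H) := by
    rw [Nat.card_congr e.toEquiv]
    exact two_pow_dvd_psu hF
  have : IsSimpleGroup (H ⧸ Subgroup.center H) :=
    (MulEquiv.isSimpleGroup_congr e).2 (Cfsg.Agent.S0283.result
      (by rw [hF]; norm_num : Fintype.card F = 2 ^ 2) 6 (by norm_num) (by norm_num))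
  have hgrp := lowImage_group hD hH
  have hG := good_of_simple (not_isMulCommutative_of_two_pow_dvd hgrp hcard) hgrp
  have hL := closure_congr_one (inter_dperp_diff_iff (D₀ := D₀) d c)
  have hiso : IsEmpty (↥(Subgroup.closure (dperp D₀ d ∩ dperp D₀ c)) ⧸
      Subgroup.center ↥(Subgroup.closure (dperp D₀ d ∩ dperp D₀ c)) ≃*
      H ⧸ Subgroup.center H) := by
    refine ⟨fun f => not_two_pow_dvd_refl (by norm_num) hR ?_⟩
    exact hcard.trans (Nat.card_congr f.toEquiv).symm.dvd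
  have hcls := class_of_local hD hd hH hZ hc hdc hG hL hiso
  have hN := noTwins_of_local hD hd hH hcls hG
  exact ⟨⟨hcls, ⟨d, hd, c, hc, fun hh => hdc (hh ▸ Commute.refl d)⟩, hN⟩,
    fun q hq => noTwins_dperp hD hd hH hcls hG hN hq,
    (hcard.trans (Subgroup.card_quotient_dvd_card _)).trans (Subgroup.card_subgroup_dvd_card _)⟩

theorem layerData_of_M23 (hD : IsThreeTranspositionGroup (D₀ \ {1})) (h : IsOfTypeM23 X D₀) :
    LayerData (D₀ \ {1}) := by
  obtain ⟨hZ, d, hd0, c, hc0, hdc, h22, c₃, -, hR⟩ := h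
  have hd : d ∈ D₀ \ {1} := ⟨hd0, fun hh => hdc (by rw [hh]; exact Commute.one_left c)⟩
  have hc : c ∈ D₀ \ {1} := ⟨hc0, fun hh => hdc (by rw [hh]; exact Commute.one_right d)⟩
  set H := Subgroup.closure {y : X | y ∈ D₀ ∧ y ≠ d ∧ Commute d y}
  have hH : H = Subgroup.closure (dperp (D₀ \ {1}) d) := closure_congr_one (dperp_diff_iff d)
  have hset : lowImage H (dperp D₀ d) \ {1} = lowImage H (dperp (D₀ \ {1}) d) \ {1} :=
    lowImage_congr H (dperp_diff_iff d)
  have hlow := layerData_of_M22 (D₀ := lowImage H (dperp D₀ d))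
    (by rw [hset]; exact lowImage_group hD hH) h22
  rw [hset] at hlow
  obtain ⟨hG, -, hcard⟩ := hlow
  have hL := closure_congr_one (inter_dperp_diff_iff (D₀ := D₀) d c)
  have hiso : IsEmpty (↥(Subgroup.closure (dperp D₀ d ∩ dperp D₀ c)) ⧸
      Subgroup.center ↥(Subgroup.closure (dperp D₀ d ∩ dperp D₀ c)) ≃*
      H ⧸ Subgroup.center H) := by
    refine ⟨fun f => not_two_pow_dvd_refl le_rfl hR ?_⟩
    exact hcard.trans (Nat.card_congr f.toEquiv).symm.dvd
  have hcls := class_of_local hD hd hH hZ hc hdc hG hL hiso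
  have hN := noTwins_of_local hD hd hH hcls hG
  exact ⟨⟨hcls, ⟨d, hd, c, hc, fun hh => hdc (hh ▸ Commute.refl d)⟩, hN⟩,
    fun q hq => noTwins_dperp hD hd hH hcls hG hN hq,
    (hcard.trans (Subgroup.card_quotient_dvd_card _)).trans (Subgroup.card_subgroup_dvd_card _)⟩

variable {G : Type*} [Group G] [Finite G] {D : Set G}

/-- What is used about a group of type M(23) or M(24) with primitive action on the class. -/
theorem top_data (hD : IsThreeTranspositionGroup D) (hprim : IsPrimitiveUnderConj D)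
    (h : IsOfTypeM23 G D ∨ IsOfTypeM24 G D) :
    NoTwins D ∧ (∀ a ∈ D, ∀ b ∈ dperp D a, NoTwins (dperp (dperp D a) b)) ∧
      ∀ a ∈ D, ∀ p ∈ dperp D a, ∀ q ∈ dperp D a, Commute p q → p ≠ q →
        ∃ w ∈ dperp D a, ¬ Commute w p ∧ ¬ Commute w q := by
  obtain ⟨d, hd, c, hc, hdc, hX⟩ : ∃ d ∈ D, ∃ c ∈ D, ¬ Commute d c ∧
      LayerData (lowImage (Subgroup.closure (dperp D d)) (dperp D d) \ {1}) := by
    rcases h with ⟨-, d, hd, c, hc, hdc, h22, -⟩ | ⟨-, d, hd, c, hc, hdc, h23, -⟩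
    · exact ⟨d, hd, c, hc, hdc, layerData_of_M22 (lowImage_group hD rfl) h22⟩
    · exact ⟨d, hd, c, hc, hdc, layerData_of_M23 (lowImage_group hD rfl) h23⟩
  have hN : NoTwins D := noTwins_of_primitive hD.2.1 hprim ⟨d, hd, c, hc, hdc⟩
  have hcls : IsThreeTranspositionClass D := by
    refine ⟨hD.1, ⟨d, hd, Set.Subset.antisymm (fun f hf => isConj_iff.2 (hprim.1 d hd f hf)) ?_⟩,
      hD.2.2⟩
    intro f hf
    obtain ⟨g, rfl⟩ := isConj_iff.1 hf
    exact hD.2.1 g d hd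
  obtain ⟨hG, hdeep, -⟩ := hX
  exact ⟨hN, fun a ha b hb => noTwins_dperp_dperp hD hd rfl hcls hG hN hdeep ha hb,
    fun a ha p hp q hq hpq hne => exists_partner_dperp hD hd rfl hcls hG hN ha hp hq hpq hne⟩

end Cfsg.Agent.ThreeTrans
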