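import Cfsg.Agent.ThreeTrans.TypeM23

/-!
# The centraliser of a product of two commuting members in type M(23)
-/

set_option autoImplicit false

open Cfsg
open scoped commutatorElement

namespace Cfsg.Agent.ThreeTrans

variable {G : Type*} [Group G] {D : Set G}

theorem center_psu_six {F : Type} [Field F] [Fintype F] (hF : Fintype.card F = 4) :
    Subgroup.center (PSU 6 F 2) = ⊥ := by
  have : IsSimpleGroup (PSU 6 F 2) := Cfsg.Agent.S0283.result
    (by rw [hF]; norm_num : Fintype.card F = 2 ^ 2) 6 (by norm_num) (by norm_num)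
  refine (Subgroup.Normal.eq_bot_or_eq_top inferInstance).resolve_right fun h => ?_
  letI : CommGroup (PSU 6 F 2) := Group.commGroupOfCenterEqTop h
  have hp := IsSimpleGroup.prime_card (α := PSU 6 F 2)
  rw [card_psu_six hF] at hp
  norm_num at hp

/-- In type M(22) the centraliser of a member maps onto PSU(6, 2) with that member as kernel. -/
theorem m22_quotient {X : Type*} [Group X] [Finite X] {D₀ : Set X}
    (hD : IsThreeTranspositionGroup (D₀ \ {1})) (h : IsOfTypeM22 X D₀) :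
    ∃ (F : Type) (_ : Field F) (_ : Fintype F), Fintype.card F = 4 ∧ ∀ b ∈ D₀ \ {1},
      ∃ χ : ↥(Subgroup.centralizer ({b} : Set X)) →* PSU 6 F 2, Function.Surjective χ ∧
        ∀ x, χ x = 1 ↔ ((x : X) = 1 ∨ (x : X) = b) := by
  have hfull := m22Full_diff hD h h.1
  obtain ⟨⟨hcls, -, -⟩, -, -⟩ := layerData_of_M22 hD h
  obtain ⟨hZ, d, hd0, c, -, hdc, ⟨F, hFld, hFt, hF, ⟨e⟩⟩, -⟩ := h
  have hd : d ∈ D₀ \ {1} := ⟨hd0, fun hh => hdc (by rw [hh]; exact Commute.one_left c)⟩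
  set H := Subgroup.closure {y : X | y ∈ D₀ ∧ y ≠ d ∧ Commute d y}
  have hH : H = Subgroup.closure (dperp (D₀ \ {1}) d) := closure_congr_one (dperp_diff_iff d)
  have hcen : Subgroup.centralizer ({d} : Set X) = H :=
    hH ▸ centralizer_eq_closure hD hfull hZ hd
  have hker : ∀ y : H, y ∈ Subgroup.center H ↔ ((y : X) = 1 ∨ (y : X) = d) := by
    intro y
    constructor
    · intro hy
      exact eq_one_or_eq_of_centralises hD hZ hfull.data hfull.links hd
        (commute_of_mem_H hH y.2).symm fun x hx =>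
          (congrArg Subtype.val (Subgroup.mem_center_iff.1 hy ⟨x, mem_H hH hx⟩)).symm
    · rintro (hy | hy) <;> refine Subgroup.mem_center_iff.2 fun g => Subtype.ext ?_ <;>
        rw [Subgroup.coe_mul, Subgroup.coe_mul, hy]
      · rw [one_mul, mul_one]
      · exact (commute_of_mem_H hH g.2).eq.symm
  refine ⟨F, hFld, hFt, hF, fun b hb => ?_⟩
  obtain ⟨g, hg⟩ := class_isConj hcls hd hb
  subst hg
  have hmem : ∀ {x : X}, x ∈ Subgroup.centralizer ({g * d * g⁻¹} : Set X) ↔ g⁻¹ * x * g ∈ H := by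
    intro x
    rw [← hcen, Subgroup.mem_centralizer_singleton_iff, Subgroup.mem_centralizer_singleton_iff]
    refine Iff.trans ?_ (commute_conj g (g⁻¹ * x * g) d)
    rw [show g * (g⁻¹ * x * g) * g⁻¹ = x by group]
    exact Iff.rfl
  let ε : ↥(Subgroup.centralizer ({g * d * g⁻¹} : Set X)) →* H :=
    MonoidHom.mk' (fun x => ⟨g⁻¹ * x * g, hmem.1 x.2⟩) fun x y => Subtype.ext
      (show g⁻¹ * ((x : X) * y) * g = g⁻¹ * (x : X) * g * (g⁻¹ * (y : X) * g) by group)
  have hε : Function.Surjective ε := fun y => ⟨⟨g * y * g⁻¹, hmem.2 (by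
    rw [show g⁻¹ * (g * (y : X) * g⁻¹) * g = y by group]; exact y.2)⟩,
      Subtype.ext (show g⁻¹ * (g * (y : X) * g⁻¹) * g = y by group)⟩
  refine ⟨e.toMonoidHom.comp ((QuotientGroup.mk' _).comp ε),
    e.surjective.comp ((QuotientGroup.mk'_surjective _).comp hε), fun x => ?_⟩
  rw [MonoidHom.comp_apply, MulEquiv.coe_toMonoidHom, EmbeddingLike.map_eq_one_iff,
    MonoidHom.comp_apply, QuotientGroup.mk'_apply, QuotientGroup.eq_one_iff, hker]
  change g⁻¹ * (x : X) * g = 1 ∨ g⁻¹ * (x : X) * g = d ↔ _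
  constructor
  · rintro (h1 | h1) <;>
      rw [show (x : X) = g * (g⁻¹ * (x : X) * g) * g⁻¹ by group, h1]
    · exact Or.inl (by group)
    · exact Or.inr rfl
  · rintro (h1 | h1) <;> rw [h1]
    · exact Or.inl (by group)
    · exact Or.inr (by group)

/-- The joint centraliser of a commuting pair at the base of type M(23). -/
theorem pair_base [Finite G] (hD : IsThreeTranspositionGroup D)
    (hprim : IsPrimitiveUnderConj D) (h : IsOfTypeM23 G D) :
    ∃ d ∈ D, ∃ (F : Type) (_ : Field F) (_ : Fintype F), Fintype.card F = 4 ∧ ∀ b ∈ dperp D d,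
      ⁅pairCen d b, pairCen d b⁆ = pairCen d b ∧
        ∃ φ : ↥(pairCen d b) →* PSU 6 F 2, Function.Surjective φ ∧
          ∀ g, φ g = 1 ↔ (g : G) ∈ Subgroup.closure ({d, b} : Set G) := by
  classical
  have hF := m23Data hD hprim h
  have hcls := class_of_primitive hD hprim
  have hT := hD.1
  have hc := hD.2.1
  obtain ⟨hZ, d, hd, c₀, -, -, h22, -⟩ := h
  set H := Subgroup.closure {y : G | y ∈ D ∧ y ≠ d ∧ Commute d y}
  have hH : H = Subgroup.closure (dperp D d) := rfl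
  have hgrp := lowImage_group hD hH
  obtain ⟨hG, -, -⟩ := layerData_of_M22 (D₀ := lowImage H (dperp D d)) hgrp h22
  have hfull := layer_M22 hD hH h22
  obtain ⟨F, hFld, hFt, hFc, hquot⟩ := m22_quotient hgrp h22
  set T := lowImage H (dperp D d) \ {1} with hTdef
  have hN := hF.noTwins
  refine ⟨d, hd, F, hFld, hFt, hFc, fun b hb => ?_⟩
  set bH : H := ⟨b, mem_H hH hb⟩ with hbH
  have hBT : (bH : H ⧸ Subgroup.center H) ∈ T :=
    ⟨⟨bH, hb, rfl⟩, mk_ne_one hD hd hH hcls hG hN (u := bH) hb⟩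
  set B : H ⧸ Subgroup.center H := (bH : H ⧸ Subgroup.center H)
  set A := dperp (dperp D d) b with hA
  set K₀ := Subgroup.closure A
  have hcen : ∀ z : H, (z : H ⧸ Subgroup.center H) = 1 → (z : G) = 1 ∨ (z : G) = d := fun z hz =>
    eq_one_or_eq_of_centralises' hD hZ hF.nice hF.trace hF.hyp hd (commute_of_mem_H hH z.2).symm
      ((mk_eq_one_iff hH).1 hz)
  -- lifts of the partners of the point
  have hlift : ∀ q ∈ dperp T B, ∃ u : H, (u : G) ∈ A ∧ (u : H ⧸ Subgroup.center H) = q := by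
    rintro - ⟨⟨⟨u, hu, rfl⟩, -⟩, hne, hBu⟩
    exact ⟨u, ⟨hu, fun e => hne (congrArg _ (Subtype.ext e : u = bH)),
      reflect hD hH (u := bH) hb hu hBu⟩, rfl⟩
  have hinj : ∀ u v : H, (u : G) ∈ A → (v : G) ∈ A →
      (u : H ⧸ Subgroup.center H) = v → u = v := fun u v hu hv h =>
    eq_of_mk_eq hD hH hu.1 hv.1 (mk_ne_one hD hd hH hcls hG hN hu.1) h
  -- `d` is a product of six partners of the pair
  obtain ⟨W, P, R, X₁, X₂, X₃, hmemA, hprod⟩ : ∃ W P R X₁ X₂ X₃ : G,
      (∀ x ∈ [W, P, R, X₁, X₂, X₃], x ∈ A) ∧ d = R * P * W * (X₁ * X₂ * X₃) := by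
    obtain ⟨w, hw⟩ := hfull.data.nice.rich B hBT
    have hBw : B ∈ dperp T w := dperp_symm hBT hw
    obtain ⟨p, hp⟩ := (hfull.data.layerNice w hw.1).rich B hBw
    obtain ⟨r, hr, hrB, hrp, hrl⟩ := (hfull.planes w hw.1).ext B hBw p hp
    have hrp' : r ∈ dperp (dperp T w) p :=
      ⟨hr, fun e => hrl (by rw [e]; exact mem_ln_right hp.1), hrp.symm⟩
    obtain ⟨x₁, x₂, x₃, hX, hXl, hXnd, hXS⟩ :=
      factor_second hgrp h22.1 hfull.data hw.1 hp.1 hrp'
    have hXline : ∀ x ∈ [x₁, x₂, x₃], x ∈ ln (dperp T w) p r := by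
      intro x hx
      rw [hXl]
      simp only [List.mem_cons, List.not_mem_nil, or_false] at hx
      simp only [Set.mem_insert_iff, Set.mem_singleton_iff]
      tauto
    have hall : ∀ x ∈ [w, p, r, x₁, x₂, x₃], x ∈ dperp T B := by
      simp only [List.mem_cons, List.not_mem_nil, or_false]
      intro x hx
      have hline : x ∈ ln (dperp T w) p r → x ∈ dperp T B := fun hl => by
        refine ⟨hl.1.1, fun e => ?_, hl.2 B hBw hp.2.2 hrB.symm⟩
        rw [e] at hl
        have hpair := ((hfull.data.layerLines w hw.1).pair p hp.1 r hrp' B hl p (mem_ln_left hp.1)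
          hp.2.1.symm).2
        exact hrl (hpair ▸ mem_ln_right hrp'.1)
      rcases hx with rfl | rfl | rfl | rfl | rfl | rfl
      exacts [hw, hline (mem_ln_left hp.1), hline (mem_ln_right hrp'.1),
        hline (hXline _ (by simp)), hline (hXline _ (by simp)), hline (hXline _ (by simp))]
    obtain ⟨W, hWA, hW⟩ := hlift w (hall w (by simp))
    obtain ⟨P, hPA, hP⟩ := hlift p (hall p (by simp))
    obtain ⟨R, hRA, hR⟩ := hlift r (hall r (by simp))
    obtain ⟨X₁, h1A, h1⟩ := hlift x₁ (hall x₁ (by simp))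
    obtain ⟨X₂, h2A, h2⟩ := hlift x₂ (hall x₂ (by simp))
    obtain ⟨X₃, h3A, h3⟩ := hlift x₃ (hall x₃ (by simp))
    have hu : (((W * P * R)⁻¹ * (X₁ * X₂ * X₃) : H) : H ⧸ Subgroup.center H) = 1 := by
      simp only [QuotientGroup.mk_mul, QuotientGroup.mk_inv, hW, hP, hR, h1, h2, h3]
      have := hX.2.2.2.2
      simp only [List.prod_cons, List.prod_nil, mul_one, ← mul_assoc] at this
      rw [this, inv_mul_cancel]
    refine ⟨W, P, R, X₁, X₂, X₃, ?_, ?_⟩
    · simp only [List.mem_cons, List.not_mem_nil, or_false]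
      rintro x (rfl | rfl | rfl | rfl | rfl | rfl)
      exacts [hWA, hPA, hRA, h1A, h2A, h3A]
    have he : (((W * P * R)⁻¹ * (X₁ * X₂ * X₃) : H) : G) =
        (R : G) * P * W * ((X₁ : G) * X₂ * X₃) := by
      simp only [Subgroup.coe_mul, Subgroup.coe_inv, mul_inv_rev, inv_eq hT hRA.1.1,
        inv_eq hT hPA.1.1, inv_eq hT hWA.1.1, mul_assoc]
    rcases hcen _ hu with h | h
    · exfalso
      have hne : ∀ {u v : H}, (u : H ⧸ Subgroup.center H) ≠ v → (u : G) ≠ v := fun h e =>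
        h (congrArg _ (Subtype.ext e))
      have hcm : ∀ {u v : H}, (u : G) ∈ A → (v : G) ∈ A →
          Commute (u : H ⧸ Subgroup.center H) v → Commute (u : G) v := fun hu hv =>
        reflect hD hH hu.1 hv.1
      have hnd := hXnd
      simp only [List.nodup_cons, List.mem_cons, List.not_mem_nil, or_false, not_or,
        List.nodup_nil, and_true] at hnd
      obtain ⟨⟨-, npx1, -, -⟩, ⟨nrx1, -, -⟩, ⟨n12, n13⟩, n23, -⟩ := hnd
      have hco := hX.2.2.2.1
      have hu' : (W : G) * P * R = X₁ * X₂ * X₃ :=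
        congrArg Subtype.val (inv_mul_eq_one.1 (Subtype.ext h : (W * P * R)⁻¹ * (X₁ * X₂ * X₃) = 1))
      rcases triple_unique hT hN hF.noTwins2 hWA.1.1 hPA.1.1 hRA.1.1 h1A.1.1 h2A.1.1 h3A.1.1
        (hcm hWA hPA (by rw [hW, hP]; exact hp.1.2.2))
        (hcm hWA hRA (by rw [hW, hR]; exact hr.2.2))
        (hcm hPA hRA (by rw [hP, hR]; exact hrp.symm))
        (hne (by rw [hW, hP]; exact hp.1.2.1.symm)) (hne (by rw [hW, hR]; exact hr.2.1.symm))
        (hne (by rw [hP, hR]; exact hrp'.2.1.symm))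
        (hcm h1A h2A (by rw [h1, h2]; exact hco _ (by simp) _ (by simp)))
        (hcm h1A h3A (by rw [h1, h3]; exact hco _ (by simp) _ (by simp)))
        (hcm h2A h3A (by rw [h2, h3]; exact hco _ (by simp) _ (by simp)))
        (hne (by rw [h1, h2]; exact n12)) (hne (by rw [h1, h3]; exact n13))
        (hne (by rw [h2, h3]; exact n23)) hu' with e | e | e
      · exact (hXS x₁ (by simp)).2.1 (by rw [← h1, ← hW, Subtype.ext e])
      · exact npx1 (by rw [← h1, ← hP, Subtype.ext e])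
      · exact nrx1 (by rw [← h1, ← hR, Subtype.ext e])
    · exact h.symm.trans he
  have hK₀le : K₀ ≤ pairCen d b := by
    rw [Subgroup.closure_le]
    exact fun x hx => mem_pairCen.2 ⟨hx.1.2.2.symm, hx.2.2.symm⟩
  have hA₀ : ∀ {x}, x ∈ A → x ∈ K₀ := fun hx => Subgroup.subset_closure hx
  have hdK₀ : d ∈ K₀ := by
    rw [hprod]
    exact mul_mem (mul_mem (mul_mem (hA₀ (hmemA R (by simp))) (hA₀ (hmemA P (by simp))))
      (hA₀ (hmemA W (by simp)))) (mul_mem (mul_mem (hA₀ (hmemA X₁ (by simp)))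
        (hA₀ (hmemA X₂ (by simp)))) (hA₀ (hmemA X₃ (by simp))))
  have hdH : d ∈ H := hH ▸ (Subgroup.closure_mono fun x hx => hx.1) hdK₀
  have hKH : ∀ g : ↥(pairCen d b), (g : G) ∈ H := by
    intro g
    have := hF.transport.mem_memGroup_of_commute hD hd (mem_pairCen.1 g.2).1
    refine (?_ : memGroup D d ≤ H) this
    rw [memGroup, Subgroup.closure_le]
    rintro e ⟨he, hde⟩
    rcases eq_or_ne e d with rfl | hne
    · exact hdH
    · exact mem_H hH ⟨he, hne, hde⟩
  let κ : ↥(pairCen d b) →* ↥(Subgroup.centralizer ({B} : Set (H ⧸ Subgroup.center H))) :=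
    ((QuotientGroup.mk' _).comp ((pairCen d b).subtype.codRestrict H hKH)).codRestrict _ fun g =>
      Subgroup.mem_centralizer_singleton_iff.2
        ((show Commute (⟨g, hKH g⟩ : H) bH from Subtype.ext (mem_pairCen.1 g.2).2.eq).map
          (QuotientGroup.mk' _)).eq
  have hκ : ∀ g, (κ g : H ⧸ Subgroup.center H) = ((⟨g, hKH g⟩ : H) : H ⧸ Subgroup.center H) :=
    fun g => rfl
  -- everything is generated by the partners
  have hgen : ∀ q : H ⧸ Subgroup.center H, Commute q B → ∃ y : H, (y : G) ∈ K₀ ∧ (y : H ⧸ _) = q := by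
    intro q hq
    have hmem : q ∈ Subgroup.closure (dperp T B) := by
      rw [← centralizer_eq_closure hgrp hfull h22.1 hBT, Subgroup.mem_centralizer_singleton_iff]
      exact hq.eq
    have hle : Subgroup.closure (dperp T B) ≤ (K₀.subgroupOf H).map (QuotientGroup.mk' _) := by
      refine (Subgroup.closure_le _).2 fun q hq => ?_
      obtain ⟨u, hu, rfl⟩ := hlift q hq
      exact ⟨u, hA₀ hu, rfl⟩
    obtain ⟨y, hy, rfl⟩ := hle hmem
    exact ⟨y, hy, rfl⟩
  have hK : pairCen d b = K₀ := by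
    refine le_antisymm (fun g hg => ?_) hK₀le
    obtain ⟨y, hy, hyg⟩ := hgen ((⟨g, hKH ⟨g, hg⟩⟩ : H) : H ⧸ Subgroup.center H)
      ((show Commute (⟨g, hKH ⟨g, hg⟩⟩ : H) bH from Subtype.ext (mem_pairCen.1 hg).2.eq).map
        (QuotientGroup.mk' _))
    have hz : ((y⁻¹ * ⟨g, hKH ⟨g, hg⟩⟩ : H) : H ⧸ Subgroup.center H) = 1 := by
      rw [QuotientGroup.mk_mul, QuotientGroup.mk_inv, hyg, inv_mul_cancel]
    rcases hcen _ hz with h | h <;> simp only [Subgroup.coe_mul, Subgroup.coe_inv] at h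
    · rwa [← inv_mul_eq_one.1 h]
    · rw [show g = (y : G) * ((y : G)⁻¹ * g) by group, h]
      exact mul_mem hy hdK₀
  -- the products of two partners are commutators
  set K' := ⁅pairCen d b, pairCen d b⁆ with hK'
  have hpairK' : ∀ {u v : G}, u ∈ A → v ∈ A → u * v ∈ K' := by
    intro u v hu hv
    set uH : H := ⟨u, mem_H hH hu.1⟩
    set vH : H := ⟨v, mem_H hH hv.1⟩
    have himg : ∀ (x : H), (x : G) ∈ A → (x : H ⧸ Subgroup.center H) ∈ dperp T B := fun x hx =>
      ⟨⟨⟨x, hx.1, rfl⟩, mk_ne_one hD hd hH hcls hG hN hx.1⟩,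
        fun e => hx.2.1 (congrArg Subtype.val
          (eq_of_mk_eq hD hH (v := bH) hx.1 hb (mk_ne_one hD hd hH hcls hG hN hx.1) e)),
        (show Commute bH x from Subtype.ext hx.2.2.eq).map (QuotientGroup.mk' _)⟩
    obtain ⟨k, hk, hkuv⟩ := exists_mv hgrp hfull hBT (himg uH hu) (himg vH hv)
    obtain ⟨y, hy, hyk⟩ := hgen k (by
      have := centralizer_eq_closure hgrp hfull h22.1 hBT
      rw [← this, Subgroup.mem_centralizer_singleton_iff] at hk
      exact hk)
    have hyK := hK₀le hy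
    have hconj : (y : G) * u * (y : G)⁻¹ ∈ A := by
      obtain ⟨h1, h2⟩ := mem_pairCen.1 hyK
      have e1 := dperp_conj hc (y : G) hu.1
      rw [h1.eq, mul_inv_cancel_right] at e1
      have e2 := (commute_conj (y : G) b u).2 hu.2.2
      rw [h2.eq, mul_inv_cancel_right] at e2
      refine ⟨e1, fun e => hu.2.1 ?_, e2⟩
      have e3 : (y : G) * u * (y : G)⁻¹ = (y : G) * b * (y : G)⁻¹ := by
        rw [e, h2.eq, mul_inv_cancel_right]
      exact mul_left_cancel (mul_right_cancel e3)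
    have heq : y * uH * y⁻¹ = vH := hinj _ _ hconj hv (by
      rw [QuotientGroup.mk_mul, QuotientGroup.mk_mul, QuotientGroup.mk_inv, hyk]; exact hkuv)
    have : ⁅u, (y : G)⁆ ∈ K' :=
      Subgroup.commutator_mem_commutator (hK₀le (hA₀ hu)) hyK
    rw [show ⁅u, (y : G)⁆ = u * ((y : G) * u * (y : G)⁻¹) by
      rw [commutatorElement_def, inv_eq hT hu.1.1]; simp only [mul_assoc]] at this
    rwa [show (y : G) * u * (y : G)⁻¹ = v from congrArg Subtype.val heq] at this
  have hdK' : d ∈ K' := by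
    rw [hprod, show R * P * W * (X₁ * X₂ * X₃) = R * P * (W * X₁) * (X₂ * X₃) by
      simp only [mul_assoc]]
    exact mul_mem (mul_mem (hpairK' (hmemA R (by simp)) (hmemA P (by simp)))
      (hpairK' (hmemA W (by simp)) (hmemA X₁ (by simp))))
      (hpairK' (hmemA X₂ (by simp)) (hmemA X₃ (by simp)))
  -- the swap
  have hbK' : b ∈ K' := by
    obtain ⟨a', ha'⟩ := (hF.transport.layerNice d hd).rich b hb
    obtain ⟨z, hz, hzd, hzb⟩ := hF.transport.move a' ha'.1.1 d (dperp_symm hd ha'.1) b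
      ⟨⟨hb.1, ha'.2.1.symm, ha'.2.2.symm⟩, hb.2.1, hb.2.2⟩
    set t := z * b * z * (z * d * z) with ht
    have htd : t * d * t⁻¹ = b := (twist_eq hT hd hb.1 hz.1 d).symm.trans
      (twist_left hT hd hb.1 hz.1 hzd hzb)
    have htb : t * b * t⁻¹ = d := (twist_eq hT hd hb.1 hz.1 b).symm.trans
      (twist_right hT hd hb.1 hz.1 hb.2.2 hzd hzb)
    have hmap : (pairCen d b).map (MulAut.conj t).toMonoidHom ≤ pairCen d b := by
      rintro - ⟨x, hx, rfl⟩
      obtain ⟨h1, h2⟩ := mem_pairCen.1 hx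
      exact mem_pairCen.2 ⟨htb ▸ (commute_conj t x b).2 h2, htd ▸ (commute_conj t x d).2 h1⟩
    have hle : K'.map (MulAut.conj t).toMonoidHom ≤ K' := by
      rw [hK', Subgroup.map_commutator]
      exact Subgroup.commutator_mono hmap hmap
    exact htd ▸ hle ⟨d, hdK', rfl⟩
  have hperf : K' = pairCen d b := by
    refine le_antisymm (Subgroup.commutator_le_self _) ?_
    conv_lhs => rw [hK]
    rw [Subgroup.closure_le]
    intro u hu
    -- `b` is a product of five partners up to `d`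
    obtain ⟨y₀, hy₀⟩ := hfull.data.nice.rich B hBT
    obtain ⟨c₁, hc₁⟩ := (hfull.data.layerNice B hBT).rich y₀ hy₀
    obtain ⟨x₁, x₂, x₃, hX, -, -, hXS⟩ := factor_second hgrp h22.1 hfull.data hBT hy₀ hc₁
    obtain ⟨Y, hY, hY'⟩ := hlift y₀ hy₀
    obtain ⟨C, hC, hC'⟩ := hlift c₁ hc₁.1
    obtain ⟨Z₁, hZ₁, hZ₁'⟩ := hlift x₁ (hXS x₁ (by simp))
    obtain ⟨Z₂, hZ₂, hZ₂'⟩ := hlift x₂ (hXS x₂ (by simp))
    obtain ⟨Z₃, hZ₃, hZ₃'⟩ := hlift x₃ (hXS x₃ (by simp))
    have hz : ((bH⁻¹ * (Z₁ * Z₂ * Z₃ * C * Y) : H) : H ⧸ Subgroup.center H) = 1 := by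
      simp only [QuotientGroup.mk_mul, QuotientGroup.mk_inv, hY', hC', hZ₁', hZ₂', hZ₃']
      have := hX.2.2.2.2
      simp only [List.prod_cons, List.prod_nil, mul_one, ← mul_assoc] at this
      rw [this]
      simp only [mul_assoc, mul_self_mul hgrp.1 hc₁.1.1, mul_self hgrp.1 hy₀.1, mul_one]
      exact inv_mul_cancel _
    have h5 : (Z₁ : G) * Z₂ * Z₃ * C * Y ∈ K' := by
      rcases hcen _ hz with h | h <;> simp only [Subgroup.coe_mul, Subgroup.coe_inv] at h
      · rwa [← inv_mul_eq_one.1 h]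
      · rw [show (Z₁ : G) * Z₂ * Z₃ * C * Y = b * (b⁻¹ * ((Z₁ : G) * Z₂ * Z₃ * C * Y)) by group]
        exact mul_mem hbK' (h.symm ▸ hdK')
    have hY1 : (Y : G) ∈ K' := by
      have h1 := mul_mem (inv_mem (mul_mem (hpairK' hZ₁ hZ₂) (hpairK' hZ₃ hC))) h5
      rwa [show ((Z₁ : G) * Z₂ * ((Z₃ : G) * C))⁻¹ * ((Z₁ : G) * Z₂ * Z₃ * C * Y) = Y by group] at h1
    have h1 := mul_mem (hpairK' hu hY) hY1
    rwa [mul_assoc, mul_self hT hY.1.1, mul_one] at h1
  refine ⟨hperf, ?_⟩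
  obtain ⟨χ, hχ, hχ1⟩ := hquot B hBT
  have hκs : Function.Surjective κ := by
    rintro ⟨q, hq⟩
    obtain ⟨y, hy, hyq⟩ := hgen q (Subgroup.mem_centralizer_singleton_iff.1 hq)
    exact ⟨⟨y, hK₀le hy⟩, Subtype.ext hyq⟩
  refine ⟨χ.comp κ, hχ.comp hκs, fun g => ?_⟩
  have hdmem : d ∈ Subgroup.closure ({d, b} : Set G) := Subgroup.subset_closure (Or.inl rfl)
  have hbmem : b ∈ Subgroup.closure ({d, b} : Set G) := Subgroup.subset_closure (Or.inr rfl)
  rw [MonoidHom.comp_apply, hχ1, hκ]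
  constructor
  · rintro (h | h)
    · rcases hcen _ h with e | e <;> change (g : G) = _ at e <;> rw [e]
      exacts [one_mem _, hdmem]
    · have hz : ((bH⁻¹ * ⟨g, hKH g⟩ : H) : H ⧸ Subgroup.center H) = 1 := by
        rw [QuotientGroup.mk_mul, QuotientGroup.mk_inv, h]; exact inv_mul_cancel _
      rcases hcen _ hz with e | e <;> simp only [Subgroup.coe_mul, Subgroup.coe_inv] at e
      · rwa [← inv_mul_eq_one.1 e]
      · rw [show (g : G) = b * (b⁻¹ * g) by group]
        exact mul_mem hbmem (e.symm ▸ hdmem)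
  · intro hg
    have hBB : B * B = 1 := mul_self hgrp.1 hBT
    let S : Subgroup (H ⧸ Subgroup.center H) := Subgroup.zpowers B
    have hS : ∀ q ∈ S, q = 1 ∨ q = B := by
      intro q hq
      obtain ⟨n, rfl⟩ := Subgroup.mem_zpowers_iff.1 hq
      rcases Int.even_or_odd n with ⟨m, rfl⟩ | ⟨m, rfl⟩
      · exact Or.inl (by rw [zpow_add, ← (Commute.refl B).mul_zpow, hBB, one_zpow])
      · exact Or.inr (by rw [zpow_add, zpow_one, zpow_mul, zpow_ofNat, sq, hBB, one_zpow, one_mul])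
    refine hS _ ?_
    have hle : Subgroup.closure ({d, b} : Set G) ≤
        ((S.comap (QuotientGroup.mk' _)).map H.subtype) := by
      rw [Subgroup.closure_le]
      rintro x (rfl | rfl)
      · refine ⟨⟨x, hdH⟩, ?_, rfl⟩
        show ((⟨x, hdH⟩ : H) : H ⧸ Subgroup.center H) ∈ S
        rw [(mk_eq_one_iff hH).2 fun e he => he.2.2]
        exact one_mem _
      · exact ⟨bH, Subgroup.mem_zpowers B, rfl⟩
    obtain ⟨x, hx, hxg⟩ := hle hg
    rw [show (⟨g, hKH g⟩ : H) = x from Subtype.ext hxg.symm]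
    exact hx

/-- The centraliser of the product of a commuting pair in type M(23). -/
theorem pair_centralizer23 [Finite G] (hD : IsThreeTranspositionGroup D)
    (hprim : IsPrimitiveUnderConj D) (h : IsOfTypeM23 G D) {a b : G} (ha : a ∈ D)
    (hb : b ∈ dperp D a)
    [((Subgroup.closure ({a, b} : Set G)).subgroupOf (Subgroup.centralizer ({a * b} : Set G))).Normal] :
    let C := Subgroup.centralizer ({a * b} : Set G)
    let V := Subgroup.closure ({a, b} : Set G)
    pairCen a b ≤ C ∧ ((pairCen a b).subgroupOf C).index = 2 ∧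
      (Subgroup.center ↥(pairCen a b)).map (pairCen a b).subtype = V ∧
      IsQuasisimple ↥(pairCen a b) ∧
      (∃ (F : Type) (_ : Field F) (_ : Fintype F), Fintype.card F = 4 ∧
        Nonempty (↥(pairCen a b) ⧸ Subgroup.center ↥(pairCen a b) ≃* PSU 6 F 2)) ∧
      Subgroup.center (↥C ⧸ V.subgroupOf C) = ⊥ := by
  intro C V
  classical
  have hT := hD.1
  have hc := hD.2.1
  have hcls := class_of_primitive hD hprim
  have hF := m23Data hD hprim h
  obtain ⟨d, hd, F, hFld, hFt, hFc, hbase⟩ := pair_base hD hprim h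
  obtain ⟨g, hg⟩ := class_isConj hcls ha hd
  set b₀ := g * b * g⁻¹
  obtain ⟨hperf₀, φ, hφ, hφ1⟩ := hbase b₀ (hg ▸ dperp_conj hc g hb)
  have hmem : ∀ {x}, x ∈ pairCen a b ↔ g * x * g⁻¹ ∈ pairCen d b₀ := fun {x} => by
    rw [mem_pairCen, mem_pairCen, ← hg, commute_conj, commute_conj]
  have hmap : (pairCen a b).map (MulAut.conj g).toMonoidHom = pairCen d b₀ := by
    apply le_antisymm
    · rintro - ⟨x, hx, rfl⟩; exact hmem.1 hx
    · intro y hy
      exact ⟨g⁻¹ * y * g, hmem.2 (by rwa [show g * (g⁻¹ * y * g) * g⁻¹ = y by group]),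
        show g * (g⁻¹ * y * g) * g⁻¹ = y by group⟩
  have hperf : ⁅pairCen a b, pairCen a b⁆ = pairCen a b := by
    refine Subgroup.map_injective (f := (MulAut.conj g).toMonoidHom) (MulAut.conj g).injective ?_
    rw [Subgroup.map_commutator, hmap, hperf₀]
  let ε : ↥(pairCen a b) →* ↥(pairCen d b₀) :=
    MonoidHom.mk' (fun x => ⟨g * x * g⁻¹, hmem.1 x.2⟩) fun x y => Subtype.ext
      (show g * ((x : G) * y) * g⁻¹ = g * (x : G) * g⁻¹ * (g * (y : G) * g⁻¹) by group)
  have hε : Function.Surjective ε := fun y =>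
    ⟨⟨g⁻¹ * y * g, hmem.2 (by rw [show g * (g⁻¹ * (y : G) * g) * g⁻¹ = y by group]; exact y.2)⟩,
      Subtype.ext (show g * (g⁻¹ * (y : G) * g) * g⁻¹ = y by group)⟩
  set ψ := φ.comp ε
  have hψ : Function.Surjective ψ := hφ.comp hε
  have hVmap : V.map (MulAut.conj g).toMonoidHom = Subgroup.closure ({d, b₀} : Set G) := by
    rw [MonoidHom.map_closure, Set.image_pair, ← hg]
    rfl
  have hψ1 : ∀ x, ψ x = 1 ↔ (x : G) ∈ V := fun x => by
    rw [show ψ x = φ (ε x) from rfl, hφ1, ← hVmap,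
      show (ε x : G) = (MulAut.conj g).toMonoidHom x from rfl,
      Subgroup.mem_map_iff_mem (MulAut.conj g).injective]
  have hKC : pairCen a b ≤ C := fun x hx => Subgroup.mem_centralizer_singleton_iff.2
    ((mem_pairCen.1 hx).1.mul_right (mem_pairCen.1 hx).2).eq
  have haK : a ∈ pairCen a b := mem_pairCen.2 ⟨Commute.refl a, hb.2.2⟩
  have hbK : b ∈ pairCen a b := mem_pairCen.2 ⟨hb.2.2.symm, Commute.refl b⟩
  have hVK : V ≤ pairCen a b := (Subgroup.closure_le _).2 (by
    rintro x (rfl | rfl)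
    exacts [haK, hbK])
  have hVc : ∀ {v}, v ∈ V → ∀ x ∈ pairCen a b, Commute v x := by
    intro v hv x hx
    have : V ≤ Subgroup.centralizer ({x} : Set G) := (Subgroup.closure_le _).2 (by
      rintro y (rfl | rfl)
      exacts [Subgroup.mem_centralizer_singleton_iff.2 (mem_pairCen.1 hx).1.eq.symm,
        Subgroup.mem_centralizer_singleton_iff.2 (mem_pairCen.1 hx).2.eq.symm])
    exact Subgroup.mem_centralizer_singleton_iff.1 (this hv)
  have hsimple : IsSimpleGroup (PSU 6 F 2) := Cfsg.Agent.S0283.result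
    (by rw [hFc]; norm_num : Fintype.card F = 2 ^ 2) 6 (by norm_num) (by norm_num)
  have hcenter : Subgroup.center ↥(pairCen a b) = ψ.ker := by
    apply le_antisymm
    · intro x hx
      have : ψ x ∈ Subgroup.center (PSU 6 F 2) := Subgroup.mem_center_iff.2 fun p => by
        obtain ⟨k, rfl⟩ := hψ p
        rw [← map_mul, ← map_mul, Subgroup.mem_center_iff.1 hx k]
      rwa [center_psu_six hFc, Subgroup.mem_bot] at this
    · intro x hx
      exact Subgroup.mem_center_iff.2 fun k =>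
        Subtype.ext (hVc ((hψ1 x).1 hx) k k.2).eq.symm
  let e6 : ↥(pairCen a b) ⧸ Subgroup.center ↥(pairCen a b) ≃* PSU 6 F 2 :=
    (QuotientGroup.quotientMulEquivOfEq hcenter).trans
      (QuotientGroup.quotientKerEquivOfSurjective ψ hψ)
  -- members moving both
  obtain ⟨a', ha'⟩ := (hF.transport.layerNice a ha).rich b hb
  obtain ⟨z, hz, hza, hzb⟩ := hF.transport.move a' ha'.1.1 a (dperp_symm ha ha'.1) b
    ⟨⟨hb.1, ha'.2.1.symm, ha'.2.2.symm⟩, hb.2.1, hb.2.2⟩
  set t := z * b * z * (z * a * z) with ht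
  have hta : t * a * t⁻¹ = b := (twist_eq hT ha hb.1 hz.1 a).symm.trans
    (twist_left hT ha hb.1 hz.1 hza hzb)
  have htb : t * b * t⁻¹ = a := (twist_eq hT ha hb.1 hz.1 b).symm.trans
    (twist_right hT ha hb.1 hz.1 hb.2.2 hza hzb)
  have hmemC : ∀ {x}, x ∈ C ↔ Commute x (a * b) := fun {x} => by
    rw [Subgroup.mem_centralizer_singleton_iff]; exact Iff.rfl
  have htC : t ∈ C := by
    refine hmemC.2 (mul_inv_eq_iff_eq_mul.1 ?_)
    calc t * (a * b) * t⁻¹ = t * a * t⁻¹ * (t * b * t⁻¹) := by group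
      _ = a * b := by rw [hta, htb, hb.2.2.eq]
  have hswap : ∀ x ∈ C, x ∉ pairCen a b → x * a * x⁻¹ = b ∧ x * b * x⁻¹ = a := by
    intro x hx hxK
    have hprod : x * a * x⁻¹ * (x * b * x⁻¹) = a * b := by
      calc x * a * x⁻¹ * (x * b * x⁻¹) = x * (a * b) * x⁻¹ := by group
        _ = a * b := by rw [(hmemC.1 hx).eq, mul_inv_cancel_right]
    rcases pair_unique hT hF.noTwins ha hb.1 (hc x a ha) (hc x b hb.1) hb.2.2 hb.2.1.symm
      ((commute_conj x a b).2 hb.2.2) (fun e => hb.2.1.symm (mul_left_cancel (mul_right_cancel e)))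
      hprod.symm with e | e
    · refine absurd (mem_pairCen.2 ⟨mul_inv_eq_iff_eq_mul.1 e, mul_inv_eq_iff_eq_mul.1 ?_⟩) hxK
      rw [e] at hprod
      exact mul_left_cancel hprod
    · refine ⟨e, ?_⟩
      rw [e] at hprod
      exact mul_left_cancel (hprod.trans hb.2.2.eq)
  have htK : t ∉ pairCen a b := fun h' => hb.2.1
    (hta.symm.trans (mul_inv_eq_iff_eq_mul.2 (mem_pairCen.1 h').1.eq))
  refine ⟨hKC, ?_, ?_, ⟨Subgroup.isPerfect_iff.2 hperf, ?_⟩, ⟨F, hFld, hFt, hFc, ⟨e6⟩⟩, ?_⟩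
  · rw [Subgroup.index_eq_two_iff]
    refine ⟨⟨t, htC⟩, fun x => ?_⟩
    simp only [Subgroup.mem_subgroupOf, Subgroup.coe_mul]
    by_cases hx : (x : G) ∈ pairCen a b
    · refine Or.inr ⟨hx, fun h' => htK ?_⟩
      have := mul_mem (inv_mem hx) h'
      rwa [inv_mul_cancel_left] at this
    · obtain ⟨h1, h2⟩ := hswap _ x.2 hx
      refine Or.inl ⟨mem_pairCen.2 ⟨mul_inv_eq_iff_eq_mul.1 ?_, mul_inv_eq_iff_eq_mul.1 ?_⟩, hx⟩
      · calc (x : G) * t * a * ((x : G) * t)⁻¹ = (x : G) * (t * a * t⁻¹) * (x : G)⁻¹ := by group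
          _ = a := by rw [hta, h2]
      · calc (x : G) * t * b * ((x : G) * t)⁻¹ = (x : G) * (t * b * t⁻¹) * (x : G)⁻¹ := by group
          _ = b := by rw [htb, h1]
  · rw [hcenter]
    refine le_antisymm ?_ fun v hv => ⟨⟨v, hVK hv⟩, (hψ1 _).2 hv, rfl⟩
    rintro - ⟨x, hx, rfl⟩
    exact (hψ1 x).1 hx
  · exact (MulEquiv.isSimpleGroup_congr e6).2 hsimple
  · rw [eq_bot_iff]
    intro q hq
    obtain ⟨x, rfl⟩ := QuotientGroup.mk_surjective q
    rw [Subgroup.mem_bot, QuotientGroup.eq_one_iff, Subgroup.mem_subgroupOf]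
    have hcomm : ∀ k (hk : k ∈ C), (x : G) * k * (x : G)⁻¹ * k⁻¹ ∈ V := by
      intro k hk
      have h1 : ((⟨k, hk⟩ * x : C) : ↥C ⧸ V.subgroupOf C) = ((x * ⟨k, hk⟩ : C) : ↥C ⧸ _) := by
        rw [QuotientGroup.mk_mul, QuotientGroup.mk_mul]
        exact Subgroup.mem_center_iff.1 hq _
      have hn := (inferInstance : (V.subgroupOf C).Normal).conj_mem _ (QuotientGroup.eq.1 h1)
        (⟨k, hk⟩ * x)
      rw [Subgroup.mem_subgroupOf] at hn
      simp only [Subgroup.coe_mul, Subgroup.coe_inv] at hn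
      rw [show k * (x : G) * ((k * (x : G))⁻¹ * ((x : G) * k)) * (k * (x : G))⁻¹ =
        (x : G) * k * (x : G)⁻¹ * k⁻¹ by group] at hn
      exact hn
    by_cases hxK : (x : G) ∈ pairCen a b
    · refine (hψ1 ⟨x, hxK⟩).1 ?_
      have : ψ ⟨x, hxK⟩ ∈ Subgroup.center (PSU 6 F 2) := Subgroup.mem_center_iff.2 fun p => by
        obtain ⟨k, rfl⟩ := hψ p
        have h1 := (hψ1 (⟨x, hxK⟩ * k * (⟨x, hxK⟩ : ↥(pairCen a b))⁻¹ * k⁻¹)).2
          (hcomm k (hKC k.2))
        rw [map_mul, map_mul, map_mul, map_inv, map_inv, mul_inv_eq_one,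
          mul_inv_eq_iff_eq_mul] at h1
        exact h1.symm
      rwa [center_psu_six hFc, Subgroup.mem_bot] at this
    exfalso
    have hle : ⁅pairCen a b, pairCen a b⁆ ≤ Subgroup.centralizer ({(x : G)} : Set G) := by
      rw [Subgroup.commutator_le]
      intro u hu v hv
      rw [Subgroup.mem_centralizer_singleton_iff]
      have hu' := hcomm u (hKC hu)
      have hv' := hcomm v (hKC hv)
      set p := (x : G) * u * (x : G)⁻¹ * u⁻¹ with hp
      set q := (x : G) * v * (x : G)⁻¹ * v⁻¹ with hq'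
      have hxu : (x : G) * u * (x : G)⁻¹ = p * u := by rw [hp]; group
      have hxv : (x : G) * v * (x : G)⁻¹ = q * v := by rw [hq']; group
      have hfix : (x : G) * ⁅u, v⁆ * (x : G)⁻¹ = ⁅u, v⁆ := by
        have h1 : Commute p (u * (q * v) * u⁻¹) :=
          hVc hu' _ (mul_mem (mul_mem hu (mul_mem (hVK hv') hv)) (inv_mem hu))
        have h2 : Commute q (u * v * u⁻¹ * v⁻¹) :=
          hVc hv' _ (mul_mem (mul_mem (mul_mem hu hv) (inv_mem hu)) (inv_mem hv))
        have h3 : Commute u q := (hVc hv' u hu).symm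
        calc (x : G) * ⁅u, v⁆ * (x : G)⁻¹
            = ((x : G) * u * (x : G)⁻¹) * ((x : G) * v * (x : G)⁻¹) *
                ((x : G) * u * (x : G)⁻¹)⁻¹ * ((x : G) * v * (x : G)⁻¹)⁻¹ := by
              rw [commutatorElement_def]; group
          _ = p * (u * (q * v) * u⁻¹) * p⁻¹ * (q * v)⁻¹ := by rw [hxu, hxv]; group
          _ = u * (q * v) * u⁻¹ * (q * v)⁻¹ := by rw [h1.eq, mul_inv_cancel_right]
          _ = q * (u * v * u⁻¹ * v⁻¹) * q⁻¹ := by
            rw [← mul_assoc u, h3.eq]; group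
          _ = ⁅u, v⁆ := by rw [h2.eq, mul_inv_cancel_right, commutatorElement_def]
      exact (mul_inv_eq_iff_eq_mul.1 hfix).symm
    rw [hperf] at hle
    have h1 := Subgroup.mem_centralizer_singleton_iff.1 (hle haK)
    exact hb.2.1 ((hswap _ x.2 hxK).1.symm.trans (mul_inv_eq_iff_eq_mul.2 h1.symm))

end Cfsg.Agent.ThreeTrans
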