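import Cfsg.Agent.ThreeTrans.FixedSym

/-!
# Commuting graphs of fixed member sets: ten and twenty-one points
-/

set_option autoImplicit false

open Cfsg

namespace Cfsg.Agent.ThreeTrans.FixedSym

variable {G : Type*} [Group G] [Finite G] {S : Set G}

/-- The common partners of two members. -/
abbrev common (S : Set G) (a b : G) : Set G := {v | v ∈ dperp S a ∧ Commute v b}

/-- Counting the members not commuting with one of them. -/
theorem ncard_of_regular {d : G} (hd : d ∈ S) {l e z : ℕ} (hz : 0 < z)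
    (hl : (dperp S d).ncard = l)
    (he : ∀ a ∈ dperp S d, {u | (u ∈ S ∧ ¬ Commute d u) ∧ Commute a u}.ncard = e)
    (hcom : ∀ u ∈ S, ¬ Commute d u → (common S d u).ncard = z) :
    ∃ N, S.ncard = N + (l + 1) ∧ l * e = N * z := by
  classical
  refine ⟨{u | u ∈ S ∧ ¬ Commute d u}.ncard, ?_, ?_⟩
  · rw [← hl]; exact (ncard_nonpartners hd).symm
  have hmul := Finset.card_mul_eq_card_mul (fun a u : G => Commute a u)
    (s := (Set.toFinite (dperp S d)).toFinset)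
    (t := (Set.toFinite {u | u ∈ S ∧ ¬ Commute d u}).toFinset) (m := e) (n := z)
    (fun a ha => by
      rw [Set.Finite.mem_toFinset] at ha
      exact (card_filter_set _ _).trans (he a ha))
    (fun u hu => by
      rw [Set.Finite.mem_toFinset] at hu
      refine (card_filter_set (dperp S d) _).trans ?_
      exact hcom u hu.1 hu.2)
  rw [← Set.ncard_eq_toFinset_card _, ← Set.ncard_eq_toFinset_card _, hl] at hmul
  exact hmul

theorem ncard_other_side {d a : G} (hd : d ∈ S) (ha : a ∈ dperp S d) {l c : ℕ}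
    (hl : (dperp S a).ncard = l) (hc : (dperp (dperp S d) a).ncard = c) :
    {u | (u ∈ S ∧ ¬ Commute d u) ∧ Commute a u}.ncard + (c + 1) = l := by
  classical
  have hsplit : dperp S a = {u | (u ∈ S ∧ ¬ Commute d u) ∧ Commute a u} ∪ insert d (dperp (dperp S d) a) := by
    apply Set.ext
    intro u
    constructor
    · intro hu
      by_cases hdu : Commute d u
      · refine Or.inr ?_
        rcases eq_or_ne u d with rfl | hne
        · exact Set.mem_insert _ _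
        · exact Set.mem_insert_of_mem _ ⟨⟨hu.1, hne, hdu⟩, hu.2.1, hu.2.2⟩
      · exact Or.inl ⟨⟨hu.1, hdu⟩, hu.2.2⟩
    · rintro (⟨⟨hu, hdu⟩, hau⟩ | rfl | hu)
      · exact ⟨hu, fun e' => hdu (e' ▸ ha.2.2), hau⟩
      · exact dperp_symm hd ha
      · exact ⟨hu.1.1, hu.2.1, hu.2.2⟩
  have h := congrArg Set.ncard hsplit
  rw [hl, Set.ncard_union_eq ?_ (Set.toFinite _) (Set.toFinite _),
    Set.ncard_insert_of_notMem (fun h => h.1.2.1 rfl) (Set.toFinite _), hc] at h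
  · exact h.symm
  · refine Set.disjoint_left.2 ?_
    rintro u ⟨⟨hu, hdu⟩, -⟩ (rfl | hu')
    · exact hdu (Commute.refl _)
    · exact hdu hu'.1.2.2

theorem common_unique {a b v w : G} (h : (common S a b).ncard = 1) (hv : v ∈ common S a b)
    (hw : w ∈ common S a b) : v = w := by
  obtain ⟨r, hr⟩ := Set.ncard_eq_one.1 h
  rw [hr, Set.mem_singleton_iff] at hv hw
  rw [hv, hw]

/-- Three pairwise noncommuting partners for every member and one common partner for noncommuting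
pairs: ten members, with a path of four. -/
theorem ten_points (h3 : ∀ a ∈ S, (dperp S a).ncard = 3)
    (hnc : ∀ a ∈ S, ∀ u ∈ dperp S a, ∀ v ∈ dperp S a, u ≠ v → ¬ Commute u v)
    (h1 : ∀ a ∈ S, ∀ b ∈ S, ¬ Commute a b → (common S a b).ncard = 1) {d : G} (hd : d ∈ S) :
    S.ncard = 10 ∧ ∀ c ∈ dperp S d, ∀ a ∈ dperp S d, c ≠ a → ∃ z ∈ dperp S c,
      ¬ Commute d z ∧ ¬ Commute z a ∧ ¬ Commute a c ∧ Commute d a ∧ Commute d c ∧ Commute z c := by
  constructor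
  · have hzero : ∀ a ∈ dperp S d, (dperp (dperp S d) a).ncard = 0 := by
      intro a ha
      rw [Set.ncard_eq_zero (Set.toFinite _), Set.eq_empty_iff_forall_notMem]
      exact fun u hu => hnc d hd a ha u hu.1 (fun e => hu.2.1 e.symm) hu.2.2
    obtain ⟨N, hN, hN2⟩ := ncard_of_regular hd Nat.one_pos (h3 d hd) (e := 2)
      (fun a ha => by
        have := ncard_other_side hd ha (h3 a ha.1) (hzero a ha)
        omega)
      (fun u hu hdu => h1 d hd u hu hdu)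
    omega
  intro c hc a ha hca
  obtain ⟨z, hz, hzd⟩ := Set.exists_ne_of_one_lt_ncard (s := dperp S c) (by rw [h3 c hc.1]; norm_num) d
  have ndz : ¬ Commute d z := hnc c hc.1 d (dperp_symm hd hc) z hz (Ne.symm hzd)
  refine ⟨z, hz, ndz, fun h => ?_, fun h => hnc d hd a ha c hc (Ne.symm hca) h, ha.2.2, hc.2.2, hz.2.2.symm⟩
  refine hca (common_unique (h1 z hz.1 d hd fun h' => ndz h'.symm) ⟨?_, hc.2.2.symm⟩ ⟨?_, ha.2.2.symm⟩)
  · exact dperp_symm hc.1 hz
  · exact ⟨ha.1, fun e => ndz (e ▸ ha.2.2), h⟩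

/-- The hypotheses of `ten_points` for every layer. -/
structure TenLayers (S : Set G) : Prop where
  ten : ∀ a ∈ S, (dperp S a).ncard = 10
  three : ∀ d ∈ S, ∀ a ∈ dperp S d, (dperp (dperp S d) a).ncard = 3
  nc : ∀ d ∈ S, ∀ a ∈ dperp S d, ∀ u ∈ dperp (dperp S d) a, ∀ v ∈ dperp (dperp S d) a,
    u ≠ v → ¬ Commute u v
  one : ∀ d ∈ S, ∀ a ∈ dperp S d, ∀ b ∈ dperp S d, ¬ Commute a b →
    (common (dperp S d) a b).ncard = 1
  mod : ∀ a ∈ S, ∀ b ∈ S, ¬ Commute a b → (common S a b).ncard % 5 = 1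

variable (hS : TenLayers S)
include hS

theorem common_six {a b : G} (ha : a ∈ S) (hb : b ∈ S) (hab : ¬ Commute a b) :
    (common S a b).ncard = 6 := by
  have hmod := hS.mod a ha b hb hab
  have hle : (common S a b).ncard ≤ 10 :=
    (Set.ncard_le_ncard (fun v hv => hv.1) (Set.toFinite _)).trans (hS.ten a ha).le
  have hne : (common S a b).ncard ≠ 1 := by
    intro h
    obtain ⟨v, hv⟩ := Set.ncard_eq_one.1 h
    have hvm : v ∈ common S a b := by rw [hv]; rfl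
    have hav : a ∈ dperp S v := dperp_symm ha hvm.1
    have hbv : b ∈ dperp S v := ⟨hb, fun e => hab (e ▸ hvm.1.2.2), hvm.2⟩
    obtain ⟨w, hw⟩ := Set.nonempty_of_ncard_ne_zero (s := common (dperp S v) a b)
      (by rw [hS.one v hvm.1.1 a hav b hbv hab]; norm_num)
    have hwm : w ∈ common S a b := ⟨⟨hw.1.1.1, hw.1.2.1, hw.1.2.2⟩, hw.2⟩
    rw [hv, Set.mem_singleton_iff] at hwm
    exact hw.1.1.2.1 hwm
  omega

/-- Twenty-one members, with a path of six. -/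
theorem twentyone_points {d : G} (hd : d ∈ S) :
    S.ncard = 21 ∧ ∃ s₁ s₂ s₃ s₄ u : G,
      s₁ ∈ dperp S d ∧ s₂ ∈ dperp S d ∧ s₃ ∈ dperp S d ∧ s₄ ∈ dperp S d ∧ u ∈ S ∧
      ¬ Commute s₁ s₂ ∧ ¬ Commute s₂ s₃ ∧ ¬ Commute s₃ s₄ ∧ ¬ Commute s₄ u ∧ ¬ Commute u d ∧
      Commute s₁ s₃ ∧ Commute s₁ s₄ ∧ Commute s₁ u ∧ Commute s₂ s₄ ∧ Commute s₂ u ∧ Commute s₃ u := by
  classical
  constructor
  · obtain ⟨N, hN, hN2⟩ := ncard_of_regular hd (z := 6) (by norm_num) (hS.ten d hd) (e := 6)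
      (fun a ha => by
        have := ncard_other_side hd ha (hS.ten a ha.1) (hS.three d hd a ha)
        omega)
      (fun u hu hdu => common_six hS hd hu hdu)
    omega
  -- a path in the layer of `d`
  obtain ⟨s₁, hs₁⟩ := Set.nonempty_of_ncard_ne_zero (s := dperp S d) (by rw [hS.ten d hd]; norm_num)
  obtain ⟨-, hpath⟩ := ten_points (hS.three d hd) (hS.nc d hd) (hS.one d hd) hs₁
  obtain ⟨s₄, s₃, hs₄, hs₃, h43⟩ := (Set.one_lt_ncard_iff (Set.toFinite _)).1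
    (show 1 < (dperp (dperp S d) s₁).ncard by rw [hS.three d hd s₁ hs₁]; norm_num)
  obtain ⟨s₂, hs₂, n12, n23, n34, c13, c14, c24⟩ := hpath s₄ hs₄ s₃ hs₃ h43
  have hd₁ : d ∈ dperp S s₁ := dperp_symm hd hs₁
  -- in the layer of `s₁`
  have hs₃₁ : s₃ ∈ dperp S s₁ := ⟨hs₃.1.1, hs₃.2.1, hs₃.2.2⟩
  have hs₄₁ : s₄ ∈ dperp S s₁ := ⟨hs₄.1.1, hs₄.2.1, hs₄.2.2⟩
  have hd₃ : d ∈ dperp (dperp S s₁) s₃ := ⟨hd₁, hs₃.1.2.1.symm, hs₃.1.2.2.symm⟩
  obtain ⟨u, hu, hud⟩ := Set.exists_ne_of_one_lt_ncard (s := dperp (dperp S s₁) s₃)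
    (by rw [hS.three s₁ hs₁.1 s₃ hs₃₁]; norm_num) d
  have nud : ¬ Commute u d := hS.nc s₁ hs₁.1 s₃ hs₃₁ u hu d hd₃ hud
  have n4u : ¬ Commute s₄ u := by
    intro h
    have hone := hS.one s₁ hs₁.1 u hu.1 d hd₁ nud
    have h3 : s₃ ∈ common (dperp S s₁) u d :=
      ⟨⟨hs₃₁, fun e => nud (e ▸ hs₃.1.2.2.symm), hu.2.2.symm⟩, hs₃.1.2.2.symm⟩
    have h4 : s₄ ∈ common (dperp S s₁) u d :=
      ⟨⟨hs₄₁, fun e => nud (e ▸ hs₄.1.2.2.symm), h.symm⟩, hs₄.1.2.2.symm⟩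
    exact h43 (common_unique hone h4 h3)
  refine ⟨s₁, s₂, s₃, s₄, u, hs₁, hs₂.1, hs₃.1, hs₄.1, hu.1.1, n12, n23, n34, n4u, nud, c13, c14,
    hu.1.2.2, c24, ?_, hu.2.2⟩
  -- `s₂` commutes with `u`
  by_contra n2u
  set Z := common S d u
  set W := dperp S d \ Z
  have hZsub : Z ⊆ dperp S d := fun v hv => hv.1
  have hZ6 : Z.ncard = 6 := common_six hS hd hu.1.1 fun h => nud h.symm
  have hW4 : W.ncard = 4 := by rw [Set.ncard_sdiff hZsub (Set.toFinite _), hS.ten d hd, hZ6]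
  have hs₄W : s₄ ∈ W := ⟨hs₄.1, fun h => n4u h.2⟩
  have hs₂W : s₂ ∈ W := ⟨hs₂.1, fun h => n2u h.2⟩
  have hdeg : ∀ z ∈ Z, {w | w ∈ W ∧ Commute z w}.ncard = 2 := by
    intro z hz
    have hdz : d ∈ dperp S z := dperp_symm hd hz.1
    have huz : u ∈ dperp S z := ⟨hu.1.1, fun e => nud (e ▸ hz.1.2.2.symm), hz.2⟩
    have hone := hS.one z hz.1.1 d hdz u huz fun h => nud h.symm
    obtain ⟨r, hr⟩ := Set.ncard_eq_one.1 hone
    have hrm : r ∈ common (dperp S z) d u := by rw [hr]; rfl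
    have hrin : r ∈ dperp (dperp S d) z :=
      ⟨⟨hrm.1.1.1, hrm.1.2.1, hrm.1.2.2⟩, hrm.1.1.2.1, hrm.1.1.2.2⟩
    have e : {w | w ∈ W ∧ Commute z w} = dperp (dperp S d) z \ {r} := by
      apply Set.ext
      intro w
      constructor
      · rintro ⟨⟨hw, hwZ⟩, hzw⟩
        refine ⟨⟨hw, fun e' => hwZ (e' ▸ hz), hzw⟩, fun e' => hwZ ?_⟩
        rw [Set.mem_singleton_iff.1 e']
        exact ⟨⟨hrm.1.1.1, hrm.1.2.1, hrm.1.2.2⟩, hrm.2⟩
      · rintro ⟨hw, hwr⟩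
        refine ⟨⟨hw.1, fun hwZ => hwr ?_⟩, hw.2.2⟩
        rw [← hr]
        exact ⟨⟨⟨hw.1.1, hw.2.1, hw.2.2⟩, hw.1.2.1, hw.1.2.2⟩, hwZ.2⟩
    rw [e, Set.ncard_sdiff_singleton_of_mem hrin, hS.three d hd z hz.1]
  have hcap : ∀ w ∈ W, {z | z ∈ Z ∧ Commute z w}.ncard ≤ if w = s₂ then 2 else 3 := by
    intro w hw
    split_ifs with h
    · subst h
      have : {z | z ∈ Z ∧ Commute z w} ⊆ dperp (dperp S d) w \ {s₄} := by
        rintro z ⟨hz, hzw⟩
        exact ⟨⟨hz.1, fun e => hw.2 (e ▸ hz), hzw.symm⟩, fun e => hs₄W.2 (Set.mem_singleton_iff.1 e ▸ hz)⟩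
      refine (Set.ncard_le_ncard this (Set.toFinite _)).trans ?_
      rw [Set.ncard_sdiff_singleton_of_mem (show s₄ ∈ dperp (dperp S d) w from ⟨hs₄.1, hs₂.2.1.symm, c24⟩),
        hS.three d hd w hs₂.1]
    · refine le_trans (Set.ncard_le_ncard ?_ (Set.toFinite _)) (hS.three d hd w hw.1).le
      exact fun z hz => ⟨hz.1.1, fun e => hw.2 (e ▸ hz.1), hz.2.symm⟩
  -- double counting
  set Zf := (Set.toFinite Z).toFinset
  set Wf := (Set.toFinite W).toFinset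
  have hcount : ∑ z ∈ Zf, (Finset.bipartiteAbove (fun z w : G => Commute z w) Wf z).card =
      ∑ w ∈ Wf, (Finset.bipartiteBelow (fun z w : G => Commute z w) Zf w).card :=
    Finset.sum_card_bipartiteAbove_eq_sum_card_bipartiteBelow _
  simp only [Finset.bipartiteAbove, Finset.bipartiteBelow] at hcount
  rw [Finset.sum_congr (s₁ := Zf) rfl (fun z hz => (card_filter_set W (fun w => Commute z w)).trans
    (hdeg z ((Set.Finite.mem_toFinset _).1 hz))),
    Finset.sum_const, smul_eq_mul, ← Set.ncard_eq_toFinset_card, hZ6] at hcount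
  have hle := Finset.sum_le_sum (s := Wf) (fun w hw =>
    (card_filter_set Z (fun z => Commute z w)).le.trans (hcap w ((Set.Finite.mem_toFinset _).1 hw)))
  have hsum : ∑ w ∈ Wf, (if w = s₂ then 2 else 3 : ℕ) + ∑ w ∈ Wf, (if w = s₂ then 1 else 0 : ℕ) = 3 * 4 := by
    rw [← Finset.sum_add_distrib, Finset.sum_congr rfl (fun w _ =>
      (by split_ifs <;> rfl : (if w = s₂ then 2 else 3 : ℕ) + (if w = s₂ then 1 else 0) = 3)),
      Finset.sum_const, smul_eq_mul, ← Set.ncard_eq_toFinset_card, hW4]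
  rw [Finset.sum_ite_eq', if_pos ((Set.Finite.mem_toFinset _).2 hs₂W)] at hsum
  have h12 := hcount.le.trans hle
  omega

end Cfsg.Agent.ThreeTrans.FixedSym
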