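import Cfsg.Agent.ThreeTrans.UnitaryPrime5
import Cfsg.Agent.ThreeTrans.FixedGraph
import Cfsg.Agent.ThreeTrans.InvolM22

/-!
# Elements of order 5 in type M(22)

An element of order 5 commutes with ten members, which behave like the transpositions of five letters.
-/

set_option autoImplicit false

open Cfsg

universe u

namespace Cfsg.Agent.ThreeTrans

variable {G : Type u} [Group G] [Finite G] {D : Set G}

/-- An invariant set on which a subgroup acts freely has size divisible by the order of the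
subgroup. -/
theorem dvd_of_free (P : Subgroup G) (S : Set G) (hS : ∀ g ∈ P, ∀ u ∈ S, g * u * g⁻¹ ∈ S)
    (hfree : ∀ u ∈ S, P ⊓ Subgroup.centralizer ({u} : Set G) = ⊥) : Nat.card P ∣ S.ncard := by
  obtain ⟨n, hn⟩ : ∃ n, S.ncard = n := ⟨_, rfl⟩
  induction n using Nat.strong_induction_on generalizing S with
  | _ n ih =>
    rcases S.eq_empty_or_nonempty with rfl | ⟨u, hu⟩
    · simp
    set O : Set G := {y | ∃ g ∈ P, g * u * g⁻¹ = y}
    have hcard : O.ncard = Nat.card P := by
      have h := card_eq_orbit_mul P u O (fun g hg => ⟨g, hg, rfl⟩) fun y hy => hy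
      rw [hfree u hu, Subgroup.card_bot, mul_one] at h
      exact h.symm
    have hOS : O ⊆ S := by rintro y ⟨g, hg, rfl⟩; exact hS g hg u hu
    have hinv : ∀ g ∈ P, ∀ y ∈ S \ O, g * y * g⁻¹ ∈ S \ O := by
      refine fun g hg y hy => ⟨hS g hg y hy.1, fun ⟨k, hk, e⟩ => hy.2 ⟨g⁻¹ * k, mul_mem (inv_mem hg) hk, ?_⟩⟩
      calc g⁻¹ * k * u * (g⁻¹ * k)⁻¹ = g⁻¹ * (k * u * k⁻¹) * g := by group
        _ = y := by rw [e]; group
    have hsum := Set.ncard_sdiff_add_ncard_of_subset hOS (Set.toFinite _)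
    have hpos : 0 < O.ncard := hcard ▸ Nat.card_pos
    rw [← hsum]
    exact dvd_add (ih _ (by omega) _ hinv (fun y hy => hfree y hy.1) rfl) (hcard ▸ dvd_rfl)

/-- Members of a layer that do not commute do not commute modulo the member. -/
theorem commute_of_comm_eq (hT : IsThreeTranspositionSet D) {d u v : G} (hd : d ∈ D) (hu : u ∈ D)
    (hv : v ∈ D) (h : u * v * u⁻¹ * v⁻¹ = 1 ∨ u * v * u⁻¹ * v⁻¹ = d) : Commute u v := by
  rcases h with h | h
  · exact mul_inv_eq_iff_eq_mul.1 (mul_inv_eq_one.1 h)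
  by_contra huv
  rw [inv_eq hT hu, inv_eq hT hv] at h
  have h3 := cube_of_not_commute hT hu hv huv
  have hd2 : d = u * v * (u * v) := by rw [← h]; group
  have h4 : u * v * (u * v) * (u * v * (u * v)) = 1 := by rw [← hd2]; exact mul_self hT hd
  have h1 : u * v = 1 := by
    calc u * v = (u * v) ^ 3 * (u * v) := by rw [h3, one_mul]
      _ = u * v * (u * v) * (u * v * (u * v)) := by simp only [pow_succ, pow_zero, one_mul, mul_assoc]
      _ = 1 := h4
  rw [mul_eq_one_iff_eq_inv, inv_eq hT hv] at h1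
  exact huv (h1 ▸ Commute.refl u)

variable (hD : IsThreeTranspositionGroup D) (hcls : IsThreeTranspositionClass D) (h22 : IsOfTypeM22 G D)
include hD hcls h22

/-- Three pairwise commuting members. -/
theorem card_triple {a b c : G} (ha : a ∈ D) (hb : b ∈ dperp D a) (hc : c ∈ dperp (dperp D a) b) :
    Nat.card ↥(Subgroup.centralizer ({a} : Set G) ⊓ Subgroup.centralizer ({b} : Set G) ⊓
      Subgroup.centralizer ({c} : Set G)) = 147456 := by
  have hP := primeData hD hcls h22
  have hF := m22Full hD h22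
  have h := card_eq_orbit_mul (Subgroup.centralizer ({a} : Set G) ⊓ Subgroup.centralizer ({b} : Set G)) c
    (dperp (dperp D a) b)
    (fun g hg => by
      have h1 : g * a * g⁻¹ = a := by
        rw [Subgroup.mem_centralizer_singleton_iff.1 hg.1, mul_inv_cancel_right]
      have h2 : g * b * g⁻¹ = b := by
        rw [Subgroup.mem_centralizer_singleton_iff.1 hg.2, mul_inv_cancel_right]
      refine ⟨h1 ▸ dperp_conj hD.2.1 g hc.1, fun e => hc.2.1 (mul_left_cancel (mul_right_cancel (e.trans h2.symm))), ?_⟩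
      exact h2 ▸ (commute_conj g b c).2 hc.2.2)
    (fun y hy => by
      obtain ⟨g, h1, h2, h3⟩ := exists_move_pair hD hF ha hb hc hy
      exact ⟨g, ⟨Subgroup.mem_centralizer_singleton_iff.2 h1.eq,
        Subgroup.mem_centralizer_singleton_iff.2 h2.eq⟩, h3⟩)
  rw [hP.pair a ha b hb, hP.layer.card2 a ha b hb] at h
  omega

/-- Fixed members of an element of order 5 around one of them do not commute with each other. -/
theorem layer_five_nc {x d u v : G} (hx : orderOf x = 5) (hd : d ∈ fixSet D x)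
    (hu : u ∈ dperp (fixSet D x) d) (hv : v ∈ dperp (fixSet D x) d) (huv : u ≠ v) : ¬ Commute u v := by
  intro hc
  have h := orderOf_dvd_natCard (⟨x, ⟨⟨Subgroup.mem_centralizer_singleton_iff.2 hd.2.eq,
    Subgroup.mem_centralizer_singleton_iff.2 hu.1.2.eq⟩, Subgroup.mem_centralizer_singleton_iff.2 hv.1.2.eq⟩⟩ :
      ↥(Subgroup.centralizer ({d} : Set G) ⊓ Subgroup.centralizer ({u} : Set G) ⊓
        Subgroup.centralizer ({v} : Set G)))
  rw [← Subgroup.orderOf_coe, hx, card_triple hD hcls h22 hd.1 ⟨hu.1.1, hu.2⟩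
    ⟨⟨hv.1.1, hv.2⟩, huv.symm, hc⟩] at h
  norm_num at h

/-- What centralises an element of order 5, a member and two fixed members of its layer. -/
theorem card_cen_five {x d b c : G} (hx : orderOf x = 5) (hd : d ∈ fixSet D x)
    (hb : b ∈ dperp (fixSet D x) d) (hc : c ∈ dperp (fixSet D x) d) (hbc : ¬ Commute b c) :
    Nat.card ↥(Subgroup.centralizer ({x} : Set G) ⊓ Subgroup.centralizer ({d} : Set G) ⊓
      Subgroup.centralizer ({b} : Set G) ⊓ Subgroup.centralizer ({c} : Set G)) = 10 := by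
  classical
  have hT := hD.1
  have hP := primeData hD hcls h22
  set H := Subgroup.centralizer ({d} : Set G)
  obtain ⟨F, hFld, hFt, hF4, χ, E, hχ, hker, hE, hne, hlift, hmem⟩ := hP.residue d hd.1
  have hH : ∀ {u}, Commute u d → u ∈ H := fun h => Subgroup.mem_centralizer_singleton_iff.2 h.eq
  set xd : H := ⟨x, hH hd.2⟩
  set bd : H := ⟨b, hH hb.2.2.symm⟩
  set cd : H := ⟨c, hH hc.2.2.symm⟩
  have := Fact.mk (by norm_num : (5).Prime)
  have hodd : x ≠ d := fun h => by rw [h, hT.1 d hd.1] at hx; omega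
  have hord : orderOf (χ xd) = 5 := by
    refine orderOf_eq_prime ?_ fun h => ?_
    · rw [← map_pow, show xd ^ 5 = 1 from Subtype.ext (by
        rw [SubgroupClass.coe_pow, ← hx]; exact pow_orderOf_eq_one x), map_one]
    · rcases (hker xd).1 h with h | h
      · rw [show x = 1 from h, orderOf_one] at hx; omega
      · exact hodd h
  have hcommD : ∀ {u v : H}, (u : G) ∈ D → (v : G) ∈ D → Commute (χ u) (χ v) → Commute (u : G) v := by
    intro u v hu hv h
    refine commute_of_comm_eq hT hd.1 hu hv ?_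
    have h0 : χ (u * v * u⁻¹ * v⁻¹) = 1 := by
      rw [map_mul, map_mul, map_mul, map_inv, map_inv, h.eq]; group
    simpa using (hker _).1 h0
  have hcommx : ∀ {u : H}, Commute (χ xd) (χ u) → Commute x (u : G) := by
    intro u h
    have h0 : χ (u * xd * u⁻¹ * xd⁻¹) = 1 := by
      rw [map_mul, map_mul, map_mul, map_inv, map_inv, h.symm.eq]; group
    rcases (hker _).1 h0 with h1 | h1
    · have h2 : (u : G) * x * (u : G)⁻¹ = x := mul_inv_eq_one.1 (by simpa [xd] using h1)
      exact (show Commute (u : G) x from mul_inv_eq_iff_eq_mul.1 h2).symm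
    · exfalso
      have h2 : (u : G) * x * (u : G)⁻¹ = d * x := mul_inv_eq_iff_eq_mul.1 (by simpa [xd] using h1)
      have h3 := congrArg (· ^ 5) h2
      simp only [conj_pow] at h3
      rw [hd.2.symm.mul_pow, ← hx, pow_orderOf_eq_one, hx, mul_one, mul_inv_cancel, mul_one] at h3
      have h4 : d ^ 5 = d := by
        simp only [pow_succ, pow_zero, one_mul, mul_assoc, mul_self_mul hT hd.1]
      exact ne_one hT hd.1 (h4 ▸ h3.symm)
  have hC : ∀ {u v : H}, Commute (u : G) v → Commute (χ u) (χ v) := fun {u v} h =>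
    (show Commute u v from Subtype.ext h.eq).map χ
  have hkill := psu_five hF4 (MulEquiv.refl (Cfsg.PSU 6 F 2)) hE hne hord
    (p := χ bd) (q := χ cd) (hmem bd ⟨hb.1.1, hb.2⟩) (hmem cd ⟨hc.1.1, hc.2⟩)
    (fun h => hbc (hcommD hb.1.1 hc.1.1 h))
    (hC (u := xd) (v := bd) hb.1.2) (hC (u := xd) (v := cd) hc.1.2)
    (fun w hw hwb hwcb hxw => by
      obtain ⟨u, hu, rfl⟩ := hlift w hw
      have hub : (u : G) ≠ b := fun e => hwb (by rw [show u = bd from Subtype.ext e])
      exact layer_five_nc hD hcls h22 hx hd ⟨⟨hu.1, hcommx hxw⟩, hu.2⟩ hb hub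
        (hcommD hu.1 hb.1.1 hwcb))
  set C := Subgroup.centralizer ({x} : Set G) ⊓ H ⊓ Subgroup.centralizer ({b} : Set G) ⊓
    Subgroup.centralizer ({c} : Set G)
  have hCm : ∀ {g}, g ∈ C → Commute g x ∧ Commute g d ∧ Commute g b ∧ Commute g c := fun hg =>
    ⟨Subgroup.mem_centralizer_singleton_iff.1 hg.1.1.1, Subgroup.mem_centralizer_singleton_iff.1 hg.1.1.2,
      Subgroup.mem_centralizer_singleton_iff.1 hg.1.2, Subgroup.mem_centralizer_singleton_iff.1 hg.2⟩
  have hxC : x ∈ C := ⟨⟨⟨Subgroup.mem_centralizer_singleton_iff.2 rfl, hH hd.2⟩,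
    Subgroup.mem_centralizer_singleton_iff.2 hb.1.2.eq⟩, Subgroup.mem_centralizer_singleton_iff.2 hc.1.2.eq⟩
  have hdC : d ∈ C := ⟨⟨⟨Subgroup.mem_centralizer_singleton_iff.2 hd.2.symm.eq, hH (Commute.refl d)⟩,
    Subgroup.mem_centralizer_singleton_iff.2 hb.2.2.eq⟩, Subgroup.mem_centralizer_singleton_iff.2 hc.2.2.eq⟩
  set φ : C →* Cfsg.PSU 6 F 2 := χ.comp (Subgroup.inclusion (inf_le_left.trans (inf_le_left.trans inf_le_right)))
  have hker2 : φ.ker.map C.subtype = Subgroup.zpowers d := by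
    refine le_antisymm ?_ (Subgroup.zpowers_le.2 ⟨⟨d, hdC⟩, (hker _).2 (Or.inr rfl), rfl⟩)
    rintro - ⟨y, hy, rfl⟩
    rcases (hker _).1 hy with h | h
    · rw [show C.subtype y = 1 from h]; exact one_mem _
    · rw [show C.subtype y = d from h]; exact Subgroup.mem_zpowers d
  have hprod : Nat.card C = Nat.card φ.range * 2 := by
    rw [Subgroup.card_eq_card_quotient_mul_card_subgroup φ.ker,
      Nat.card_congr (QuotientGroup.quotientKerEquivRange φ).toEquiv,
      ← Subgroup.card_map_of_injective C.subtype_injective, hker2, Nat.card_zpowers, hT.1 d hd.1]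
  have hdvd : Nat.card C ∣ 26542080 := by
    rw [← hP.pair d hd.1 b ⟨hb.1.1, hb.2⟩]
    exact Subgroup.card_dvd_of_le (inf_le_left.trans (le_inf (inf_le_left.trans inf_le_right) inf_le_right))
  have hno : ∀ r, r = 2 ∨ r = 3 → ¬ r ∣ Nat.card φ.range := by
    intro r hr hdiv
    have := Fact.mk (show r.Prime by rcases hr with rfl | rfl <;> norm_num)
    obtain ⟨⟨-, g, rfl⟩, hg⟩ := exists_prime_orderOf_dvd_card' r hdiv
    rw [← Subgroup.orderOf_coe] at hg
    change orderOf (φ g) = r at hg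
    obtain ⟨-, -, h3, h4⟩ := hCm g.2
    have h1 := hkill r hr (φ g)
      ((hC (u := xd) (v := Subgroup.inclusion (inf_le_left.trans (inf_le_left.trans inf_le_right)) g)
        (hCm g.2).1.symm))
      (hC (v := bd) h3) (hC (v := cd) h4) (hg ▸ pow_orderOf_eq_one _)
    rw [h1, orderOf_one] at hg
    rcases hr with rfl | rfl <;> omega
  have h5 : 5 ∣ Nat.card φ.range := by
    rw [← hord]
    have h := orderOf_dvd_natCard (⟨χ xd, ⟨x, hxC⟩, rfl⟩ : φ.range)
    rwa [← Subgroup.orderOf_coe] at h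
  rw [hprod] at hdvd ⊢
  have hd5 : Nat.card φ.range ∣ 5 := by
    have hco2 : (Nat.card φ.range).Coprime (2 ^ 16) :=
      (Nat.prime_two.coprime_iff_not_dvd.2 (hno 2 (Or.inl rfl))).symm.pow_right _
    have hco3 : (Nat.card φ.range).Coprime (3 ^ 4) :=
      (Nat.prime_three.coprime_iff_not_dvd.2 (hno 3 (Or.inr rfl))).symm.pow_right _
    exact (hco2.mul_right hco3).dvd_of_dvd_mul_left
      (show Nat.card φ.range ∣ 2 ^ 16 * 3 ^ 4 * 5 from (Dvd.intro 2 rfl).trans hdvd)
  rw [Nat.dvd_antisymm hd5 h5]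

/-- The fixed members around one of them. -/
theorem five_layer {x d : G} (hx : orderOf x = 5) (hd : d ∈ fixSet D x) :
    (dperp (fixSet D x) d).ncard = 3 ∧
      Nat.card ↥(Subgroup.centralizer ({x} : Set G) ⊓ Subgroup.centralizer ({d} : Set G)) = 60 := by
  classical
  have hT := hD.1
  have hP := primeData hD hcls h22
  have hL := hP.layer
  set S := fixSet D x
  set A := dperp S d with hA
  have hmod : A.ncard % 5 = 3 := by
    have h := ncard_fixed_modEq (S := dperp D d) (x := x) (fun u hu => by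
        have h := dperp_conj hD.2.1 x hu
        rwa [hd.2.eq, mul_inv_cancel_right] at h)
      (by norm_num : (5).Prime) (hx ▸ pow_orderOf_eq_one x)
    rw [hL.card1 d hd.1, show {u | u ∈ dperp D d ∧ Commute x u} = A from
      Set.ext fun u => ⟨fun h => ⟨⟨h.1.1, h.2⟩, h.1.2⟩, fun h => ⟨⟨h.1.1, h.2⟩, h.1.2⟩⟩] at h
    exact h
  have hnc : ∀ u ∈ A, ∀ v ∈ A, u ≠ v → ¬ Commute u v := fun u hu v hv hne =>
    layer_five_nc hD hcls h22 hx hd hu hv hne
  have hmove : ∀ {g u}, Commute g x → Commute g d → u ∈ A → g * u * g⁻¹ ∈ A := fun {g u} h1 h2 hu => by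
    refine ⟨fixSet_conj hD.2.1 h1 hu.1, fun e => hu.2.1 ?_, ?_⟩
    · rw [← mul_inv_cancel_right d g, ← h2.eq] at e
      exact mul_left_cancel (mul_right_cancel e)
    · have := (commute_conj g d u).2 hu.2.2
      rwa [h2.eq, mul_inv_cancel_right] at this
  obtain ⟨b, hb⟩ := Set.nonempty_of_ncard_ne_zero (s := A) (by omega)
  obtain ⟨c, hc, hcb⟩ := Set.exists_ne_of_one_lt_ncard (s := A) (by omega) b
  set H := Subgroup.centralizer ({d} : Set G)
  set C1 := Subgroup.centralizer ({x} : Set G) ⊓ H with hC1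
  have hin : ∀ {g}, g ∈ C1 → Commute g x ∧ Commute g d := fun hg =>
    ⟨Subgroup.mem_centralizer_singleton_iff.1 hg.1, Subgroup.mem_centralizer_singleton_iff.1 hg.2⟩
  have hAC : ∀ {u}, u ∈ A → u ∈ C1 := fun hu => ⟨Subgroup.mem_centralizer_singleton_iff.2 hu.1.2.symm.eq,
    Subgroup.mem_centralizer_singleton_iff.2 hu.2.2.symm.eq⟩
  have h1 := card_eq_orbit_mul C1 b A (fun g hg => hmove (hin hg).1 (hin hg).2 hb) (fun u hu => by
    rcases eq_or_ne u b with rfl | hne
    · exact ⟨1, one_mem _, by simp⟩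
    · refine ⟨b * u * b, mul_mem (mul_mem (hAC hb) (hAC hu)) (hAC hb), ?_⟩
      have hbr := braid hT hu.1.1 hb.1.1 (hnc u hu b hb hne)
      rw [inv_eq hT (conj_mem hT hD.2.1 hb.1.1 hu.1.1)]
      calc b * u * b * b * (b * u * b) = b * (u * (b * b) * (b * u * b)) := by simp only [mul_assoc]
        _ = b * (u * (u * b * u)) := by rw [mul_self hT hb.1.1, mul_one, hbr]
        _ = u := by
          simp only [mul_assoc, mul_self_mul hT hu.1.1]
          rw [mul_self_mul hT hb.1.1])
  set Cb := C1 ⊓ Subgroup.centralizer ({b} : Set G)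
  set O : Set G := {y | ∃ g ∈ Cb, g * c * g⁻¹ = y}
  have h2 := card_eq_orbit_mul Cb c O (fun g hg => ⟨g, hg, rfl⟩) (fun y hy => hy)
  rw [show Nat.card ↥(Cb ⊓ Subgroup.centralizer ({c} : Set G)) = 10 from
    card_cen_five hD hcls h22 hx hd hb hc (hnc b hb c hc hcb.symm)] at h2
  rw [h2] at h1
  have hdvd : A.ncard * (O.ncard * 10) ∣ 18393661440 := by
    rw [← h1, ← hP.cen d hd.1]
    exact Subgroup.card_dvd_of_le inf_le_right
  have hle : A.ncard ≤ 45 := noncommuting_le hD hP A (fun u hu => hu.1.1) hnc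
  have hodd : A.ncard % 2 = 1 := by
    have h := ncard_fixed_modEq (S := A) (x := b) (fun u hu => hmove hb.1.2.symm hb.2.2.symm hu)
      (p := 2) Nat.prime_two (by rw [sq]; exact mul_self hT hb.1.1)
    rw [← h, show {u | u ∈ A ∧ Commute b u} = {b} from Set.eq_singleton_iff_unique_mem.2
      ⟨⟨hb, Commute.refl b⟩, fun u hu => by
        by_contra hne
        exact hnc b hb u hu.1 (fun e => hne e.symm) hu.2⟩, Set.ncard_singleton]
  have hcases : A.ncard = 3 ∨ A.ncard = 33 := by
    have hd' : A.ncard ∣ 18393661440 := (Dvd.intro _ rfl).trans hdvd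
    rcases (show A.ncard = 3 ∨ A.ncard = 13 ∨ A.ncard = 23 ∨ A.ncard = 33 ∨ A.ncard = 43 by omega)
      with h | h | h | h | h
    · exact Or.inl h
    · rw [h] at hd'; norm_num at hd'
    · rw [h] at hd'; norm_num at hd'
    · exact Or.inr h
    · rw [h] at hd'; norm_num at hd'
  have h3 : A.ncard = 3 := by
    refine hcases.resolve_right fun h => ?_
    -- 11 would divide the order of the centraliser
    have := Fact.mk (by norm_num : (11).Prime)
    obtain ⟨w, hw⟩ := exists_prime_orderOf_dvd_card' (G := C1) 11 (by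
      rw [h1, h]; exact dvd_mul_of_dvd_left (by norm_num) _)
    rw [← Subgroup.orderOf_coe] at hw
    obtain ⟨e, he, -, h22'⟩ := eleven_M22 hD hP hw
    have hxw : x ∈ Subgroup.centralizer ({(w : G)} : Set G) :=
      Subgroup.mem_centralizer_singleton_iff.2 (hin w.2).1.symm.eq
    have := Subgroup.orderOf_coe (⟨x, hxw⟩ : Subgroup.centralizer ({(w : G)} : Set G)) ▸
      orderOf_dvd_natCard (⟨x, hxw⟩ : Subgroup.centralizer ({(w : G)} : Set G))
    rw [h22'] at this
    change orderOf x ∣ 22 at this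
    rw [hx] at this
    norm_num at this
  refine ⟨h3, ?_⟩
  -- the orbit of the third one
  have hbin : b ∈ Cb := ⟨hAC hb, Subgroup.mem_centralizer_singleton_iff.2 rfl⟩
  have hne : b * c * b⁻¹ ≠ c := fun e => hnc b hb c hc hcb.symm (mul_inv_eq_iff_eq_mul.1 e)
  have hO2 : O.ncard = 2 := by
    refine le_antisymm ?_ ?_
    · have hsub : O ⊆ A \ {b} := by
        rintro y ⟨g, hg, rfl⟩
        refine ⟨hmove (hin hg.1).1 (hin hg.1).2 hc, fun e => hcb ?_⟩
        have hgb : g * b * g⁻¹ = b := by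
          rw [Subgroup.mem_centralizer_singleton_iff.1 hg.2, mul_inv_cancel_right]
        exact mul_left_cancel (mul_right_cancel ((Set.mem_singleton_iff.1 e).trans hgb.symm))
      refine (Set.ncard_le_ncard hsub (Set.toFinite _)).trans ?_
      rw [Set.ncard_sdiff_singleton_of_mem hb, h3]
    · rw [← Set.ncard_pair hne]
      refine Set.ncard_le_ncard ?_ (Set.toFinite _)
      rintro y (rfl | rfl)
      exacts [⟨b, hbin, rfl⟩, ⟨1, one_mem _, by simp⟩]
  rw [h1, h3, hO2]

/-- The ten fixed members, as the transpositions of five letters. -/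
theorem five_structure {x d : G} (hx : orderOf x = 5) (hd : d ∈ fixSet D x) :
    (fixSet D x).ncard = 10 ∧ (∃ φ : Equiv.Perm (Fin 5) →* G, Function.Injective φ ∧
      φ.range = Subgroup.closure (fixSet D x)) ∧
    (∀ u ∈ fixSet D x, ∀ v ∈ fixSet D x, ¬ Commute u v → (FixedSym.common (fixSet D x) u v).ncard = 1) ∧
    (∀ u ∈ fixSet D x, ∃ g, Commute g x ∧ g * d * g⁻¹ = u) ∧
    Nat.card ↥(Subgroup.centralizer ({x} : Set G)) = 600 ∧
    Nat.card ↥(Subgroup.normalizer ((Subgroup.zpowers x : Subgroup G) : Set G)) = 5 * 4 * Nat.factorial 5 := by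
  classical
  have hT := hD.1
  have hP := primeData hD hcls h22
  have hL := hP.layer
  have h5 : (5).Prime := by norm_num
  set S := fixSet D x
  have hx5 : x ^ 5 = 1 := hx ▸ pow_orderOf_eq_one x
  have h3 : ∀ a ∈ S, (dperp S a).ncard = 3 := fun a ha => (five_layer hD hcls h22 hx ha).1
  have hnc : ∀ a ∈ S, ∀ u ∈ dperp S a, ∀ v ∈ dperp S a, u ≠ v → ¬ Commute u v :=
    fun a ha u hu v hv hne => layer_five_nc hD hcls h22 hx ha hu hv hne
  have hone : ∀ a ∈ S, ∀ b ∈ S, ¬ Commute a b → (FixedSym.common S a b).ncard = 1 := by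
    intro a ha b hb hab
    have hconj : ∀ v ∈ {v | v ∈ dperp D a ∧ Commute b v}, x * v * x⁻¹ ∈ {v | v ∈ dperp D a ∧ Commute b v} := by
      intro v hv
      refine ⟨?_, ?_⟩
      · have h := dperp_conj hD.2.1 x hv.1
        rwa [ha.2.eq, mul_inv_cancel_right] at h
      · have h := (commute_conj x b v).2 hv.2
        rwa [hb.2.eq, mul_inv_cancel_right] at h
    have h := ncard_fixed_modEq hconj h5 hx5
    rw [hL.common a ha.1 b hb.1 hab, show {v | v ∈ {v | v ∈ dperp D a ∧ Commute b v} ∧ Commute x v} =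
      FixedSym.common S a b from Set.ext fun v =>
        ⟨fun h => ⟨⟨⟨h.1.1.1, h.2⟩, h.1.1.2⟩, h.1.2.symm⟩, fun h => ⟨⟨⟨h.1.1.1, h.1.2⟩, h.2.symm⟩, h.1.1.2⟩⟩] at h
    have hle : (FixedSym.common S a b).ncard ≤ 3 :=
      (Set.ncard_le_ncard (fun v hv => hv.1) (Set.toFinite _)).trans (h3 a ha).le
    omega
  obtain ⟨hS10, hpath⟩ := FixedSym.ten_points h3 hnc hone hd
  obtain ⟨c, a, hc, ha, hca⟩ := (Set.one_lt_ncard_iff (Set.toFinite _)).1
    (show 1 < (dperp S d).ncard by rw [h3 d hd]; norm_num)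
  obtain ⟨z, hz, ndz, nza, nac, cda, cdc, czc⟩ := hpath c hc a ha hca
  set f : Fin 4 → G := ![d, z, a, c]
  have hf : ∀ i, f i ∈ S := by
    intro i; fin_cases i
    exacts [hd, hz.1, ha.1, hc.1]
  obtain ⟨φ, hφ, hrange⟩ := FixedSym.exists_hom hT f (fun i => (hf i).1) (by
      intro i j h
      fin_cases i <;> fin_cases j <;> simp only [Fin.isValue] at h <;>
        first | exact ndz | exact nza | exact nac | omega)
    (by
      intro i j h
      fin_cases i <;> fin_cases j <;> simp only [Fin.isValue] at h <;>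
        first | exact cda | exact cdc | exact czc | omega)
  have hinj := FixedSym.hom_injective le_rfl φ f hφ (fun h => ha.2.1 (by
    change d * a = 1 at h
    rw [mul_eq_one_iff_eq_inv, inv_eq hT ha.1.1] at h
    exact h.symm))
  have hconjS : ∀ u ∈ S, ∀ v ∈ S, u * v * u⁻¹ ∈ S := fun u hu v hv => fixSet_conj hD.2.1 hu.2.symm hv
  have hr := FixedSym.closure_eq_range hconjS φ hinj f hφ hrange hf (by norm_num) (m := 10) (by decide) hS10.le
  -- transitivity on the ten
  set K := Subgroup.centralizer ({x} : Set G)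
  have hstep : ∀ u ∈ S, ∀ v ∈ S, ¬ Commute u v → ∃ g, Commute g x ∧ g * u * g⁻¹ = v := by
    intro u hu v hv huv
    refine ⟨u * v * u, (hu.2.symm.mul_left hv.2.symm).mul_left hu.2.symm, ?_⟩
    have hbr := braid hT hv.1 hu.1 fun h => huv h.symm
    rw [inv_eq hT (conj_mem hT hD.2.1 hu.1 hv.1)]
    calc u * v * u * u * (u * v * u) = u * (v * (u * u) * (u * v * u)) := by simp only [mul_assoc]
      _ = u * (v * (v * u * v)) := by rw [mul_self hT hu.1, mul_one, hbr]
      _ = v := by
        simp only [mul_assoc, mul_self_mul hT hv.1]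
        rw [mul_self_mul hT hu.1]
  have htrans : ∀ u ∈ S, ∃ g, Commute g x ∧ g * d * g⁻¹ = u := by
    intro u hu
    by_cases hdu : Commute d u
    swap
    · exact hstep d hd u hu hdu
    obtain ⟨w, hw, hwd, hwu⟩ : ∃ w ∈ S, ¬ Commute d w ∧ ¬ Commute w u := by
      by_contra hcon
      push Not at hcon
      have hsub : S ⊆ insert d (dperp S d) ∪ insert u (dperp S u) := by
        intro w hw
        by_cases h1 : Commute d w
        · rcases eq_or_ne w d with rfl | hne
          · exact Or.inl (Set.mem_insert _ _)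
          · exact Or.inl (Set.mem_insert_of_mem _ ⟨hw, hne, h1⟩)
        · rcases eq_or_ne w u with rfl | hne
          · exact Or.inr (Set.mem_insert _ _)
          · exact Or.inr (Set.mem_insert_of_mem _ ⟨hw, hne, (hcon w hw h1).symm⟩)
      have h1 := (Set.ncard_le_ncard hsub (Set.toFinite _)).trans (Set.ncard_union_le _ _)
      have h2 := Set.ncard_insert_le d (dperp S d)
      have h4 := Set.ncard_insert_le u (dperp S u)
      rw [h3 d hd] at h2
      rw [h3 u hu] at h4
      omega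
    obtain ⟨g1, k1, e1⟩ := hstep d hd w hw hwd
    obtain ⟨g2, k2, e2⟩ := hstep w hw u hu hwu
    exact ⟨g2 * g1, k2.mul_left k1, by rw [← e2, ← e1]; group⟩
  have h60 := (five_layer hD hcls h22 hx hd).2
  have hK : Nat.card K = 600 := by
    rw [card_eq_orbit_mul K d S
      (fun g hg => fixSet_conj hD.2.1 (show Commute g x from Subgroup.mem_centralizer_singleton_iff.1 hg) hd)
      (fun u hu => (htrans u hu).imp fun g hg => ⟨Subgroup.mem_centralizer_singleton_iff.2 hg.1.eq, hg.2⟩),
      hS10, h60]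
  refine ⟨hS10, ⟨φ, hinj, hr⟩, hone, htrans, hK, ?_⟩
  -- the normaliser
  set X := Subgroup.zpowers x
  set N := Subgroup.normalizer ((X : Subgroup G) : Set G)
  set H := Subgroup.centralizer ({d} : Set G)
  have hKX : Subgroup.centralizer ((X : Subgroup G) : Set G) = K := by
    rw [show X = Subgroup.closure {x} from Subgroup.zpowers_eq_closure x, Subgroup.centralizer_closure]
  have hKN : K ≤ N := hKX ▸ Subgroup.centralizer_le_normalizer _
  have hXH : X ≤ H := Subgroup.zpowers_le.2 (Subgroup.mem_centralizer_singleton_iff.2 hd.2.eq)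
  have hX' : Nat.card ↥(X.subgroupOf H) = 5 := by
    rw [Nat.card_congr (Subgroup.subgroupOfEquivOfLe hXH).toEquiv, Nat.card_zpowers, hx]
  have hN' : (Subgroup.normalizer ((X.subgroupOf H : Subgroup H) : Set H)).map H.subtype = N ⊓ H := by
    apply le_antisymm
    · rintro - ⟨g, hg, rfl⟩
      refine ⟨Subgroup.mem_normalizer_iff.2 fun n => ?_, g.2⟩
      constructor
      · intro hn
        exact (Subgroup.mem_normalizer_iff.1 hg ⟨n, hXH hn⟩).1 hn
      · intro hn
        have hmem : n ∈ H := by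
          change (g : G) * n * (g : G)⁻¹ ∈ X at hn
          have h1 := H.mul_mem (H.mul_mem (H.inv_mem g.2) (hXH hn)) g.2
          rwa [show (g : G)⁻¹ * ((g : G) * n * (g : G)⁻¹) * g = n by group] at h1
        exact (Subgroup.mem_normalizer_iff.1 hg ⟨n, hmem⟩).2 hn
    · rintro g ⟨hgN, hgH⟩
      exact ⟨⟨g, hgH⟩, Subgroup.mem_normalizer_iff.2 fun n => Subgroup.mem_normalizer_iff.1 hgN (n : G), rfl⟩
  have hC' : (Subgroup.centralizer ((X.subgroupOf H : Subgroup H) : Set H)).map H.subtype = K ⊓ H := by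
    apply le_antisymm
    · rintro - ⟨g, hg, rfl⟩
      refine ⟨Subgroup.mem_centralizer_singleton_iff.2 ?_, g.2⟩
      exact (congrArg Subtype.val (Subgroup.mem_centralizer_iff.1 hg ⟨x, hXH (Subgroup.mem_zpowers x)⟩
        (Subgroup.mem_zpowers x))).symm
    · rintro g ⟨hgK, hgH⟩
      rw [← hKX] at hgK
      exact ⟨⟨g, hgH⟩, Subgroup.mem_centralizer_iff.2 fun n hn =>
        Subtype.ext (Subgroup.mem_centralizer_iff.1 hgK (n : G) hn), rfl⟩
  have hH25 : ¬ 5 ^ 2 ∣ Nat.card H := by rw [hP.cen d hd.1]; norm_num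
  obtain ⟨k, n, hk, hNk, hHn, hn⟩ := normalizer_prime h5 hX' hH25 (c := 60) (by
    rw [← Subgroup.card_map_of_injective H.subtype_injective, hC', h60])
  have hk4 : k = 4 := by
    rw [hP.cen d hd.1] at hHn
    have := Nat.le_of_dvd (by norm_num) hk
    interval_cases k <;> omega
  rw [← Subgroup.card_map_of_injective H.subtype_injective, hN', hk4] at hNk
  rw [card_eq_orbit_mul N d S (fun g hg => fixSet_normalizer hD.2.1 hg hd)
    (fun u hu => (htrans u hu).imp fun g hg => ⟨hKN (Subgroup.mem_centralizer_singleton_iff.2 hg.1.eq), hg.2⟩),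
    hS10, hNk]
  rfl

/-- An element of order 5 commuting with an involution commutes with a member. -/
theorem exists_fixed_of_commute_involution {t s : G} (ht2 : t * t = 1) (ht1 : t ≠ 1)
    (hs : orderOf s = 5) (hst : Commute s t) : ∃ u ∈ D, Commute s u := by
  classical
  have hF := m22Full hD h22
  have hT := hD.1
  have hs5 : s ^ 5 = 1 := hs ▸ pow_orderOf_eq_one s
  have hfix : s * t * s⁻¹ = t := by rw [hst.eq, mul_inv_cancel_right]
  obtain ⟨n, h1, h3, l, hl⟩ := involution_M22 hD h22 ht2 ht1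
  have hcj : ∀ {l'}, Factor D n t l' → Factor D n t (l'.map fun u => s * u * s⁻¹) := fun h => by
    have := h.conj hD.2.1 s
    rwa [hfix] at this
  suffices h : ∀ U : Set G, U ⊆ D → (∀ u ∈ U, s * u * s⁻¹ ∈ U) → ¬ 5 ∣ U.ncard → ∃ u ∈ D, Commute s u by
    obtain ⟨hnd, hlen, hmem, -, hp⟩ := id hl
    interval_cases n
    · obtain ⟨a, rfl⟩ := List.length_eq_one_iff.1 hlen
      exact ⟨t, by rw [← hp]; simpa using hmem, hst⟩
    · refine h {u | u ∈ l} hmem (fun u hu => ?_) ?_
      · exact (Factor.pair hT hF.data.noTwins (hcj hl) hl _).1 (List.mem_map.2 ⟨u, hu, rfl⟩)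
      · rw [← List.coe_toFinset, Set.ncard_coe_finset, List.toFinset_card_of_nodup hnd, hlen]
        norm_num
    · obtain ⟨l₂, hl₂, hne, hall⟩ := two_factorisations hD h22.1 hF.data hl
      refine h {u | u ∈ l ++ l₂} (fun u hu => ?_) (fun u hu => ?_) ?_
      · rcases List.mem_append.1 hu with hu | hu
        exacts [hmem u hu, hl₂.2.2.1 u hu]
      · rcases List.mem_append.1 hu with hu | hu
        · rcases hall _ (hcj hl) with h' | h'
          exacts [List.mem_append_left _ ((h' _).1 (List.mem_map.2 ⟨u, hu, rfl⟩)),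
            List.mem_append_right _ ((h' _).1 (List.mem_map.2 ⟨u, hu, rfl⟩))]
        · rcases hall _ (hcj hl₂) with h' | h'
          exacts [List.mem_append_left _ ((h' _).1 (List.mem_map.2 ⟨u, hu, rfl⟩)),
            List.mem_append_right _ ((h' _).1 (List.mem_map.2 ⟨u, hu, rfl⟩))]
      · have hnd2 : (l ++ l₂).Nodup := List.nodup_append.2 ⟨hnd, hl₂.1, fun a ha b hb e => hne fun z =>
          Factor.of_shared hT hF.data.noTwins hl hl₂ (e ▸ ha) hb z⟩
        rw [← List.coe_toFinset, Set.ncard_coe_finset, List.toFinset_card_of_nodup hnd2,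
          List.length_append, hlen, hl₂.2.1]
        norm_num
  intro U hU hinv hn
  obtain ⟨u, hu, hsu⟩ := exists_fixed_of_pow hinv (by norm_num : (5).Prime) hs5 hn
  exact ⟨u, hU hu, hsu⟩

/-- Every element of order 5 commutes with a member. -/
theorem exists_fixed_five {x : G} (hx : orderOf x = 5) : ∃ u ∈ D, Commute x u := by
  classical
  by_contra hcon
  push Not at hcon
  have hT := hD.1
  have hP := primeData hD hcls h22
  have h5 : (5).Prime := by norm_num
  have := Fact.mk h5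
  obtain ⟨P, hxP⟩ := (IsPGroup.of_card (p := 5) (n := 1)
    (show Nat.card (Subgroup.zpowers x) = 5 ^ 1 by rw [Nat.card_zpowers, hx, pow_one])).exists_le_sylow
  have hP25 : Nat.card P = 25 := by
    rw [P.card_eq_multiplicity, hP.card]
    have h1 := (h5.pow_dvd_iff_le_factorization (k := 2) (by norm_num : (3510 * 18393661440 : ℕ) ≠ 0)).1 (by norm_num)
    have h2 := mt (h5.pow_dvd_iff_le_factorization (k := 3) (by norm_num : (3510 * 18393661440 : ℕ) ≠ 0)).2 (by norm_num)
    rw [show Nat.factorization (3510 * 18393661440) 5 = 2 by omega]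
    norm_num
  set Q := (P : Subgroup G)
  have hQcomm : ∀ g ∈ Q, ∀ h ∈ Q, Commute g h := fun g hg h hh =>
    congrArg Subtype.val (IsPGroup.commutative_of_card_eq_prime_sq (p := 5)
      (show Nat.card Q = 5 ^ 2 from hP25) ⟨g, hg⟩ ⟨h, hh⟩)
  have hstab : ∀ u ∈ D, Q ⊓ Subgroup.centralizer ({u} : Set G) ≠ ⊥ →
      Nat.card ↥(Q ⊓ Subgroup.centralizer ({u} : Set G)) = 5 := by
    intro u hu hne
    have h1 := Nat.dvd_gcd (Subgroup.card_dvd_of_le (inf_le_left : Q ⊓ Subgroup.centralizer ({u} : Set G) ≤ Q))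
      (Subgroup.card_dvd_of_le (inf_le_right : Q ⊓ Subgroup.centralizer ({u} : Set G) ≤ _))
    rw [show Nat.card Q = 25 from hP25, hP.cen u hu] at h1
    refine ((Nat.dvd_prime h5).1 (by simpa using h1)).resolve_left fun h => hne ?_
    exact Subgroup.card_eq_one.1 h
  have hgen : ∀ g ∈ Q, g ≠ 1 → ∀ u ∈ D, Commute g u →
      Q ⊓ Subgroup.centralizer ({u} : Set G) = Subgroup.zpowers g ∧ orderOf g = 5 := by
    intro g hg hg1 u hu hgu
    have hmem : g ∈ Q ⊓ Subgroup.centralizer ({u} : Set G) :=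
      ⟨hg, Subgroup.mem_centralizer_singleton_iff.2 hgu.eq⟩
    have hc := hstab u hu fun h => hg1 (by rwa [h, Subgroup.mem_bot] at hmem)
    have ho : orderOf g = 5 := orderOf_eq_prime (by
      have h1 := orderOf_dvd_natCard (⟨g, hmem⟩ : ↥(Q ⊓ Subgroup.centralizer ({u} : Set G)))
      rw [hc, ← Subgroup.orderOf_coe] at h1
      exact orderOf_dvd_iff_pow_eq_one.1 h1) hg1
    refine ⟨(Subgroup.eq_of_le_of_card_ge (Subgroup.zpowers_le.2 hmem) ?_).symm, ho⟩
    rw [Nat.card_zpowers, ho, hc]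
  -- one element of the Sylow subgroup with fixed members
  obtain ⟨z, hzQ, hz1, e, he, hze⟩ : ∃ z ∈ Q, z ≠ 1 ∧ ∃ e ∈ D, Commute z e := by
    by_contra hno
    push Not at hno
    have h := dvd_of_free Q D (fun g _ u hu => hD.2.1 g u hu) fun u hu => by
      rw [Subgroup.eq_bot_iff_forall]
      intro g hg
      by_contra hg1
      exact hno g hg.1 hg1 u hu (Subgroup.mem_centralizer_singleton_iff.1 hg.2)
    rw [show Nat.card Q = 25 from hP25, hP.layer.card] at h
    norm_num at h
  have hz := (hgen z hzQ hz1 e he hze).2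
  obtain ⟨h10, ⟨φ, hinj, hr⟩, -, -, hK, hN⟩ := five_structure hD hcls h22 hz (d := e) ⟨he, hze⟩
  obtain ⟨Fz, hFc, hXF, -, hbot, hcomm, -, -⟩ := FixedSym.frobenius_sym hD hz le_rfl (by norm_num) φ hinj hr
    (p := 5) (k := 4) (by rw [hK]; rfl) (by rw [hN])
  set T := Subgroup.closure (fixSet D z)
  set K := Subgroup.centralizer ({z} : Set G)
  have hT120 : Nat.card T = 120 := by
    rw [← hr, ← Nat.card_congr (MonoidHom.ofInjective hinj).toEquiv, Nat.card_perm, Nat.card_fin]
    rfl
  have hTK : T ≤ K := by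
    rw [Subgroup.closure_le]
    exact fun u hu => Subgroup.mem_centralizer_singleton_iff.2 hu.2.symm.eq
  have hQK : Q ≤ K := fun g hg => Subgroup.mem_centralizer_singleton_iff.2 (hQcomm g hg z hzQ).eq
  obtain ⟨σ, hσT, hσQ, hσ1⟩ : ∃ σ ∈ T, σ ∈ Q ∧ σ ≠ 1 := by
    have hidx : T.relIndex K = 5 := by
      have h := Subgroup.card_mul_index (T.subgroupOf K)
      rw [Nat.card_congr (Subgroup.subgroupOfEquivOfLe hTK).toEquiv, hT120, hK] at h
      change 120 * T.relIndex K = 600 at h
      omega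
    have hle : T.relIndex Q ≤ 5 := hidx ▸ Subgroup.relIndex_le_of_le_right hQK (by rw [hidx]; norm_num)
    have h := Subgroup.card_mul_index (T.subgroupOf Q)
    rw [show Nat.card Q = 25 from hP25] at h
    change Nat.card ↥(T.subgroupOf Q) * T.relIndex Q = 25 at h
    have : 1 < Nat.card ↥(T.subgroupOf Q) := by
      by_contra hlt
      push Not at hlt
      have := Nat.mul_le_mul hlt hle
      omega
    have := (Finite.one_lt_card_iff_nontrivial).1 this
    obtain ⟨s, hs⟩ := exists_ne (1 : T.subgroupOf Q)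
    exact ⟨s.1.1, s.2, s.1.2, fun h => hs (Subtype.ext (Subtype.ext h))⟩
  -- an involution centralising it
  have := Fact.mk Nat.prime_two
  obtain ⟨t, ht⟩ := exists_prime_orderOf_dvd_card' (G := Fz) 2 (by rw [hFc]; norm_num)
  rw [← Subgroup.orderOf_coe] at ht
  have hσ5 : orderOf σ = 5 := by
    have k1 := orderOf_dvd_natCard (⟨σ, hσQ⟩ : Q)
    have k2 := orderOf_dvd_natCard (⟨σ, hσT⟩ : T)
    rw [show Nat.card Q = 25 from hP25, Subgroup.orderOf_mk] at k1
    rw [hT120, Subgroup.orderOf_mk] at k2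
    have h1 := Nat.dvd_gcd k1 k2
    exact ((Nat.dvd_prime h5).1 (by simpa using h1)).resolve_left fun h => hσ1 (orderOf_eq_one_iff.1 h)
  obtain ⟨v, hv, hσv⟩ := exists_fixed_of_commute_involution hD hcls h22
    (show (t : G) * t = 1 by rw [← sq, ← ht]; exact pow_orderOf_eq_one _)
    (fun h => by rw [h, orderOf_one] at ht; norm_num at ht) hσ5 (hcomm t t.2 σ hσT).symm
  have hσz : Subgroup.zpowers σ ≠ Subgroup.zpowers z := fun h => by
    have h1 : z ∈ Fz ⊓ T := ⟨hXF (Subgroup.mem_zpowers z), (Subgroup.zpowers_le.2 hσT) (h ▸ Subgroup.mem_zpowers z)⟩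
    rw [hbot, Subgroup.mem_bot] at h1
    exact hz1 h1
  -- counting the members with nontrivial stabiliser
  set M := (Set.toFinite {u | u ∈ D ∧ Q ⊓ Subgroup.centralizer ({u} : Set G) ≠ ⊥}).toFinset
  set S' := M.image fun u => Q ⊓ Subgroup.centralizer ({u} : Set G)
  have hfib : ∀ L ∈ S', (M.filter fun u => Q ⊓ Subgroup.centralizer ({u} : Set G) = L).card = 10 := by
    intro L hL
    obtain ⟨u, hu, rfl⟩ := Finset.mem_image.1 hL
    rw [Set.Finite.mem_toFinset] at hu
    obtain ⟨g, hg, hg1⟩ := (Q ⊓ Subgroup.centralizer ({u} : Set G)).ne_bot_iff_exists_ne_one.1 hu.2 |>.elim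
      fun g hg => (⟨g.1, g.2, fun h => hg (Subtype.ext h)⟩ : ∃ g, g ∈ Q ⊓ Subgroup.centralizer ({u} : Set G) ∧ g ≠ 1)
    obtain ⟨hLg, hgo⟩ := hgen g hg.1 hg1 u hu.1 (Subgroup.mem_centralizer_singleton_iff.1 hg.2)
    rw [← (five_structure hD hcls h22 hgo (d := u)
      ⟨hu.1, Subgroup.mem_centralizer_singleton_iff.1 hg.2⟩).1, ← Set.ncard_coe_finset]
    congr 1
    ext w
    rw [Finset.mem_coe, Finset.mem_filter, Set.Finite.mem_toFinset]
    constructor
    · rintro ⟨⟨hw, -⟩, hwe⟩
      have : g ∈ Q ⊓ Subgroup.centralizer ({w} : Set G) := hwe ▸ hg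
      exact ⟨hw, Subgroup.mem_centralizer_singleton_iff.1 this.2⟩
    · rintro ⟨hw, hgw⟩
      have e := (hgen g hg.1 hg1 w hw hgw).1
      refine ⟨⟨hw, fun h => hg1 ?_⟩, e.trans hLg.symm⟩
      exact Subgroup.zpowers_eq_bot.1 (e ▸ h)
  have hM : M.card = 10 * S'.card := by
    rw [Finset.card_eq_sum_card_fiberwise (f := fun u => Q ⊓ Subgroup.centralizer ({u} : Set G)) (t := S')
      (fun u hu => Finset.mem_image_of_mem _ hu), Finset.sum_congr rfl hfib, Finset.sum_const, smul_eq_mul,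
      mul_comm]
  have hS5 : ∀ L ∈ insert (Subgroup.zpowers x) S', L ≤ Q ∧ Nat.card L = 5 := by
    intro L hL
    rcases Finset.mem_insert.1 hL with rfl | hL
    · exact ⟨hxP, by rw [Nat.card_zpowers, hx]⟩
    · obtain ⟨u, hu, rfl⟩ := Finset.mem_image.1 hL
      rw [Set.Finite.mem_toFinset] at hu
      exact ⟨inf_le_left, hstab u hu.1 hu.2⟩
  have hxS : Subgroup.zpowers x ∉ S' := fun h => by
    obtain ⟨u, hu, e⟩ := Finset.mem_image.1 h
    rw [Set.Finite.mem_toFinset] at hu
    have : x ∈ Q ⊓ Subgroup.centralizer ({u} : Set G) := e ▸ Subgroup.mem_zpowers x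
    exact hcon u hu.1 (Subgroup.mem_centralizer_singleton_iff.1 this.2)
  have hle6 : 4 * (S'.card + 1) ≤ 24 := by
    rw [← Finset.card_insert_of_notMem hxS]
    set S'' := insert (Subgroup.zpowers x) S'
    have hfin : ∀ L : Subgroup G, ((Set.toFinite ((L : Set G) \ {1})).toFinset).card = Nat.card L - 1 := fun L => by
      rw [← Set.ncard_eq_toFinset_card, Set.ncard_sdiff_singleton_of_mem L.one_mem, ← Nat.card_coe_set_eq]
      rfl
    calc 4 * S''.card = ∑ L ∈ S'', ((Set.toFinite ((L : Set G) \ {1})).toFinset).card := by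
          rw [Finset.sum_congr rfl fun L hL => by rw [hfin, (hS5 L hL).2], Finset.sum_const, smul_eq_mul,
            mul_comm]
      _ = (S''.biUnion fun L : Subgroup G => (Set.toFinite ((L : Set G) \ {1})).toFinset).card := by
          refine (Finset.card_biUnion ?_).symm
          intro L hL L' hL' hne
          refine Finset.disjoint_left.2 fun g hg hg' => hne ?_
          rw [Set.Finite.mem_toFinset] at hg hg'
          have h1 : ∀ M ∈ S'', g ∈ M → Subgroup.zpowers g = M := by
            intro M hM hgM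
            refine Subgroup.eq_of_le_of_card_ge (Subgroup.zpowers_le.2 hgM) ?_
            rw [(hS5 M hM).2, Nat.card_zpowers]
            have := orderOf_dvd_natCard (⟨g, hgM⟩ : M)
            rw [(hS5 M hM).2, Subgroup.orderOf_mk] at this
            rcases (Nat.dvd_prime h5).1 this with h | h
            · exact absurd (orderOf_eq_one_iff.1 h) hg.2
            · omega
          rw [← h1 L hL hg.1, h1 L' hL' hg'.1]
      _ ≤ ((Set.toFinite ((Q : Set G) \ {1})).toFinset).card := by
          refine Finset.card_le_card fun g hg => ?_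
          obtain ⟨L, hL, hg⟩ := Finset.mem_biUnion.1 hg
          rw [Set.Finite.mem_toFinset] at hg ⊢
          exact ⟨(hS5 L hL).1 hg.1, hg.2⟩
      _ = 24 := by rw [hfin, show Nat.card Q = 25 from hP25]
  have hge2 : 2 ≤ S'.card := by
    have hm : ∀ g ∈ Q, g ≠ 1 → ∀ u ∈ D, Commute g u → Subgroup.zpowers g ∈ S' := by
      intro g hg hg1 u hu hgu
      obtain ⟨e, -⟩ := hgen g hg hg1 u hu hgu
      refine Finset.mem_image.2 ⟨u, ?_, e⟩
      rw [Set.Finite.mem_toFinset]
      exact ⟨hu, fun h => hg1 (Subgroup.zpowers_eq_bot.1 (e ▸ h))⟩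
    rw [← Finset.card_pair hσz]
    refine Finset.card_le_card fun L hL => ?_
    rcases Finset.mem_insert.1 hL with rfl | hL
    · exact hm σ hσQ hσ1 v hv hσv
    · rw [Finset.mem_singleton.1 hL]; exact hm z hzQ hz1 e he hze
  -- the free part
  have hrest := dvd_of_free Q (D \ (M : Set G))
    (fun g hg u hu => ⟨hD.2.1 g u hu.1, fun h => hu.2 ?_⟩)
    (fun u hu => by
      by_contra h
      exact hu.2 (Finset.mem_coe.2 ((Set.Finite.mem_toFinset _).2 ⟨hu.1, h⟩)))
  · have hMD : (M : Set G) ⊆ D := fun u hu => ((Set.Finite.mem_toFinset _).1 hu).1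
    have := Set.ncard_sdiff_add_ncard_of_subset hMD (Set.toFinite _)
    rw [hP.layer.card, Set.ncard_coe_finset, hM] at this
    rw [show Nat.card Q = 25 from hP25] at hrest
    obtain ⟨q, hq⟩ := hrest
    omega
  · rw [Finset.mem_coe, Set.Finite.mem_toFinset] at h ⊢
    refine ⟨hu.1, fun hb => h.2 ?_⟩
    rw [Subgroup.eq_bot_iff_forall] at hb ⊢
    intro y hy
    refine hb y ⟨hy.1, Subgroup.mem_centralizer_singleton_iff.2 ?_⟩
    have h1 : Commute y (g * u * g⁻¹) := Subgroup.mem_centralizer_singleton_iff.1 hy.2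
    have h2 := (commute_conj g⁻¹ y (g * u * g⁻¹)).2 h1
    rw [show g⁻¹ * (g * u * g⁻¹) * g⁻¹⁻¹ = u by group, (hQcomm g⁻¹ (inv_mem hg) y hy.1).eq,
      mul_inv_cancel_right] at h2
    exact h2.eq

/-- Subgroups of order 5 are conjugate. -/
theorem exists_conj_five {X Y : Subgroup G} (hX : Nat.card X = 5) (hY : Nat.card Y = 5) :
    ∃ g : G, X.map (MulAut.conj g).toMonoidHom = Y := by
  have hP := primeData hD hcls h22
  have h5 : (5).Prime := by norm_num
  obtain ⟨x, hx, rfl, -⟩ := exists_gen h5 hX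
  obtain ⟨y, hy, rfl, -⟩ := exists_gen h5 hY
  obtain ⟨d, hd, hxd⟩ := exists_fixed_five hD hcls h22 hx
  obtain ⟨e, he, hye⟩ := exists_fixed_five hD hcls h22 hy
  obtain ⟨k, hk⟩ := class_isConj hcls hd he
  set H := Subgroup.centralizer ({e} : Set G)
  have hyH : y ∈ H := Subgroup.mem_centralizer_singleton_iff.2 hye.eq
  have hxH : k * x * k⁻¹ ∈ H := Subgroup.mem_centralizer_singleton_iff.2 (by
    rw [← hk]; exact ((commute_conj k x d).2 hxd).eq)
  have hkx : orderOf (k * x * k⁻¹) = 5 := by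
    rw [show k * x * k⁻¹ = MulAut.conj k x from rfl, MulEquiv.orderOf_eq, hx]
  obtain ⟨h, hh⟩ := exists_conj_of_card (G := H) h5 (by rw [hP.cen e he]; norm_num)
    (X := Subgroup.zpowers ⟨_, hxH⟩) (Y := Subgroup.zpowers ⟨_, hyH⟩)
    (by rw [Nat.card_zpowers, Subgroup.orderOf_mk, hkx]) (by rw [Nat.card_zpowers, Subgroup.orderOf_mk, hy])
  refine ⟨(h : G) * k, Subgroup.eq_of_le_of_card_ge ?_ ?_⟩
  · rw [MonoidHom.map_zpowers, Subgroup.zpowers_le]
    have h1 : h * ⟨k * x * k⁻¹, hxH⟩ * h⁻¹ ∈ Subgroup.zpowers (⟨y, hyH⟩ : H) :=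
      hh ▸ ⟨_, Subgroup.mem_zpowers _, rfl⟩
    obtain ⟨n, hn⟩ := Subgroup.mem_zpowers_iff.1 h1
    refine Subgroup.mem_zpowers_iff.2 ⟨n, ?_⟩
    have := congrArg Subtype.val hn
    simpa [mul_assoc] using this
  · rw [Subgroup.card_map_of_injective (MulAut.conj ((h : G) * k)).injective, Nat.card_zpowers,
      Nat.card_zpowers, hx, hy]

end Cfsg.Agent.ThreeTrans
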