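import Cfsg.Agent.ThreeTrans.PrimeM22

/-!
# Normalisers of subgroups of prime order and their fixed members
-/

set_option autoImplicit false

open Cfsg

namespace Cfsg.Agent.ThreeTrans

variable {G : Type*} [Group G]

/-- Subgroups of prime order are conjugate if the square of the prime does not divide the order. -/
theorem exists_conj_of_card [Finite G] {p : ℕ} (hp : p.Prime) (hG : ¬ p ^ 2 ∣ Nat.card G)
    {X Y : Subgroup G} (hX : Nat.card X = p) (hY : Nat.card Y = p) :
    ∃ g : G, X.map (MulAut.conj g).toMonoidHom = Y := by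
  have := Fact.mk hp
  have hfac : (Nat.card G).factorization p = 1 := by
    have h1 := hp.pow_dvd_iff_le_factorization (k := 2) (Nat.card_pos (α := G)).ne'
    have h2 := hp.factorization_pos_of_dvd (Nat.card_pos (α := G)).ne' (hX ▸ X.card_subgroup_dvd_card)
    by_contra hne
    exact hG (h1.2 (by omega))
  obtain ⟨g, hg⟩ := MulAction.exists_smul_eq G (Sylow.ofCard (p := p) X (by rw [hX, hfac, pow_one]))
    (Sylow.ofCard (p := p) Y (by rw [hY, hfac, pow_one]))
  exact ⟨g, congrArg (fun P : Sylow p G => (P : Subgroup G)) hg⟩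

/-- The normaliser permutes the members commuting with the subgroup. -/
theorem fixSet_normalizer {D : Set G} (hc : ∀ g, ∀ u ∈ D, g * u * g⁻¹ ∈ D) {x g u : G}
    (hg : g ∈ Subgroup.normalizer ((Subgroup.zpowers x : Subgroup G) : Set G))
    (hu : u ∈ fixSet D x) : g * u * g⁻¹ ∈ fixSet D x := by
  refine ⟨hc g u hu.1, ?_⟩
  have hmem : g⁻¹ * x * g ∈ Subgroup.zpowers x := by
    have := (Subgroup.mem_normalizer_iff.1 (inv_mem hg) x).1 (Subgroup.mem_zpowers x)
    rwa [inv_inv] at this
  obtain ⟨k, hk⟩ := Subgroup.mem_zpowers_iff.1 hmem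
  have h := (commute_conj g (g⁻¹ * x * g) u).2 (hk ▸ hu.2.zpow_left k)
  rwa [show g * (g⁻¹ * x * g) * g⁻¹ = x by group] at h

/-- The six elements generated by two members that do not commute. -/
theorem mem_six {D : Set G} (hT : IsThreeTranspositionSet D) {d c z : G} (hd : d ∈ D) (hc : c ∈ D)
    (hdc : ¬ Commute d c) (hz : z ∈ Subgroup.closure ({d, c} : Set G)) :
    z ∈ ({1, d, c, d * c, c * d, d * c * d} : Set G) := by
  have dd := mul_self hT hd
  have cc := mul_self hT hc
  have hb : c * d * c = d * c * d := braid hT hc hd (fun h => hdc h.symm)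
  have hmul : ∀ v ∈ ({1, d, c, d * c, c * d, d * c * d} : Set G), ∀ u ∈ ({d, c} : Set G),
      u * v ∈ ({1, d, c, d * c, c * d, d * c * d} : Set G) := by
    intro v hv u hu
    have r1 : ∀ y, d * (d * y) = y := fun y => by rw [← mul_assoc, dd, one_mul]
    have r2 : ∀ y, c * (c * y) = y := fun y => by rw [← mul_assoc, cc, one_mul]
    have r3 : c * (d * c) = d * (c * d) := by rw [← mul_assoc, hb, mul_assoc]
    have r4 : c * (d * (c * d)) = d * c := by
      rw [show c * (d * (c * d)) = c * (d * c) * d by simp only [mul_assoc], r3]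
      simp only [mul_assoc, dd, mul_one]
    simp only [Set.mem_insert_iff, Set.mem_singleton_iff] at hv hu ⊢
    rcases hu with rfl | rfl <;> rcases hv with rfl | rfl | rfl | rfl | rfl | rfl <;>
      simp [mul_assoc, r1, r2, r3, r4, dd, cc]
  induction hz using Subgroup.closure_induction_left with
  | one => simp
  | mul_left u hu v _ ih => exact hmul v ih u hu
  | inv_mul_cancel u hu v _ ih =>
    rw [inv_eq hT (by rcases hu with rfl | rfl <;> assumption)]
    exact hmul v ih u hu

/-- The six elements generated by two members that do not commute: only 1 commutes with both. -/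
theorem eq_one_of_mem_closure_pair {D : Set G} (hT : IsThreeTranspositionSet D) {d c z : G}
    (hd : d ∈ D) (hc : c ∈ D) (hdc : ¬ Commute d c)
    (hz : z ∈ Subgroup.closure ({d, c} : Set G)) (hzd : Commute z d) (hzc : Commute z c) : z = 1 := by
  have dd := mul_self hT hd
  have cc := mul_self hT hc
  have hb : c * d * c = d * c * d := braid hT hc hd (fun h => hdc h.symm)
  have hsix := mem_six hT hd hc hdc hz
  rcases hsix with rfl | rfl | rfl | rfl | rfl | rfl
  · rfl
  · exact absurd hzc hdc
  · exact absurd hzd.symm hdc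
  · exfalso
    have h : d * c * d = c := by rw [hzd.eq, ← mul_assoc, dd, one_mul]
    exact hdc (show d * c = c * d by
      calc d * c = d * c * (d * d) := by rw [dd, mul_one]
        _ = c * d := by rw [← mul_assoc, h])
  · exfalso
    have h : c = d * c * d := by
      rw [mul_assoc d c d, ← hzd.eq, mul_assoc, dd, mul_one]
    exact hdc (show d * c = c * d by
      calc d * c = d * c * (d * d) := by rw [dd, mul_one]
        _ = c * d := by rw [← mul_assoc, ← h])
  · exfalso
    apply hdc
    show d * c = c * d
    have h := hzd.eq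
    rw [mul_assoc (d * c) d d, dd, mul_one, mul_assoc d c d, ← mul_assoc d d, dd, one_mul] at h
    exact h

end Cfsg.Agent.ThreeTrans
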