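import Cfsg.Agent.ThreeTrans.PrimeLargeM23

/-!
# Centralisers and normalisers of the subgroups of order 17 and 23 in type M(23)
-/

set_option autoImplicit false

open Cfsg

universe u

namespace Cfsg.Agent.ThreeTrans

theorem pow_mod_seventeen : ∀ t s : Fin 14, 3 ^ t.val % 17 = 3 ^ s.val % 17 → t = s := by
  decide +kernel

/-- Subgroups of prime order inside a subgroup are conjugate under it if the square of the prime
does not divide its order. -/
theorem exists_conj_within {G : Type*} [Group G] [Finite G] {M Y Z : Subgroup G} {p : ℕ}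
    (hp : p.Prime) (hM : ¬ p ^ 2 ∣ Nat.card M) (hY : Y ≤ M) (hZ : Z ≤ M) (hYc : Nat.card Y = p)
    (hZc : Nat.card Z = p) : ∃ m ∈ M, Y.map (MulAut.conj m).toMonoidHom = Z := by
  obtain ⟨m, hm⟩ := exists_conj_of_card hp hM
    ((Nat.card_congr (Subgroup.subgroupOfEquivOfLe hY).toEquiv).trans hYc)
    ((Nat.card_congr (Subgroup.subgroupOfEquivOfLe hZ).toEquiv).trans hZc)
  refine ⟨m, m.2, ?_⟩
  have h := congrArg (Subgroup.map M.subtype) hm
  rw [Subgroup.subgroupOf_map_subtype, inf_of_le_left hZ, Subgroup.map_map] at h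
  rw [← h]
  conv_lhs => rw [show Y = (Y.subgroupOf M).map M.subtype by
    rw [Subgroup.subgroupOf_map_subtype, inf_of_le_left hY]]
  rw [Subgroup.map_map]
  rfl

variable {G : Type u} [Group G] [Finite G] {D : Set G}
  {X : Type u} [Group X] [Finite X] {E : Set X}
  (hD : IsThreeTranspositionGroup D) (hcls : IsThreeTranspositionClass D) (hM : M23Data D)
  (hE : IsThreeTranspositionGroup E) (hclsE : IsThreeTranspositionClass E) (h22 : IsOfTypeM22 X E)
  (hcov : ∀ b ∈ D, Cover23 D E b)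

include hD hcls hM hE hclsE h22 hcov

/-- The shape of the centraliser of an element of order 17 or 23. -/
theorem shape23 {x : G} {p q : ℕ} (hpq : p = 17 ∧ q = 23 ∨ p = 23 ∧ q = 17) (hx : orderOf x = p) :
    ∃ (a : Fin 14) (b : Fin 2) (k n : ℕ),
      Nat.card ↥(Subgroup.centralizer ({x} : Set G)) = p * 3 ^ a.val * q ^ b.val ∧ k ∣ p - 1 ∧
      Nat.card ↥(Subgroup.normalizer ((Subgroup.zpowers x : Subgroup G) : Set G)) =
        p * 3 ^ a.val * q ^ b.val * k ∧
      2 ^ 18 * 3 ^ 13 * 5 ^ 2 * 7 * 11 * 13 * 17 * 23 = p * 3 ^ a.val * q ^ b.val * k * n ∧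
      n % p = 1 ∧ k ≠ 1 := by
  have hp17 : p = 17 ∨ p = 23 := hpq.imp And.left And.left
  have hp : p.Prime := by rcases hp17 with rfl | rfl <;> norm_num
  have hq : q.Prime := by rcases hpq with ⟨-, rfl⟩ | ⟨-, rfl⟩ <;> norm_num
  obtain ⟨-, ⟨a₀, ha₀, -⟩, -⟩ := id hcls
  have hG := card_M23 hD hcls hM hE hclsE h22 hcov ha₀
  set C := Subgroup.centralizer ({x} : Set G) with hC
  have hXC : Subgroup.centralizer ((Subgroup.zpowers x : Subgroup G) : Set G) = C := by
    rw [hC, Subgroup.zpowers_eq_closure, Subgroup.centralizer_closure]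
  have hG2 : ¬ p ^ 2 ∣ Nat.card G := by rw [hG]; rcases hp17 with rfl | rfl <;> norm_num
  have hcard : Nat.card ↥(Subgroup.zpowers x) = p := by rw [Nat.card_zpowers, hx]
  obtain ⟨k, n, hk, hN, hGn, hn⟩ := normalizer_prime hp hcard hG2 (c := Nat.card C) (by rw [hXC])
  have hsmall : ∀ r : ℕ, r = 2 ∨ r = 5 ∨ r = 7 ∨ r = 11 ∨ r = 13 → ¬ r ∣ Nat.card C := by
    intro r hr hd
    have : Fact r.Prime := ⟨by rcases hr with rfl | rfl | rfl | rfl | rfl <;> norm_num⟩
    obtain ⟨y, hy⟩ := exists_prime_orderOf_dvd_card' r hd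
    rw [← Subgroup.orderOf_coe] at hy
    exact not_commute_small23 hD hcls hM hE hclsE h22 hcov hp17 hx hr hy
      (show Commute x (y : G) from (Subgroup.mem_centralizer_singleton_iff.1 y.2).symm)
  obtain ⟨c', hc'⟩ : p ∣ Nat.card C :=
    hx ▸ Subgroup.orderOf_dvd_natCard _ (Subgroup.mem_centralizer_singleton_iff.2 rfl)
  have hdiv : Nat.card C ∣ p * (3 ^ 13 * q) := by
    have h1 : Nat.card C ∣ 2 ^ 18 * 5 ^ 2 * 7 * 11 * 13 * (p * (3 ^ 13 * q)) := by
      refine (Subgroup.card_subgroup_dvd_card C).trans ?_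
      rw [hG]
      rcases hpq with ⟨rfl, rfl⟩ | ⟨rfl, rfl⟩ <;> norm_num
    have hco : ∀ r : ℕ, r.Prime → ¬ r ∣ Nat.card C → (Nat.card C).Coprime r := fun r hr h =>
      ((Nat.Prime.coprime_iff_not_dvd hr).2 h).symm
    refine Nat.Coprime.dvd_of_dvd_mul_left ?_ h1
    exact ((((((hco 2 (by norm_num) (hsmall 2 (by simp))).pow_right 18).mul_right
      ((hco 5 (by norm_num) (hsmall 5 (by simp))).pow_right 2))).mul_right
      (hco 7 (by norm_num) (hsmall 7 (by simp)))).mul_right
      (hco 11 (by norm_num) (hsmall 11 (by simp)))).mul_right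
      (hco 13 (by norm_num) (hsmall 13 (by simp)))
  rw [hc'] at hdiv
  obtain ⟨d₁, d₂, hd₁, hd₂, rfl⟩ := Nat.dvd_mul.1 (Nat.dvd_of_mul_dvd_mul_left hp.pos hdiv)
  obtain ⟨a, ha, rfl⟩ := (Nat.dvd_prime_pow Nat.prime_three).1 hd₁
  obtain ⟨b, hb, rfl⟩ : ∃ b ≤ 1, d₂ = q ^ b := (Nat.dvd_prime_pow hq).1 (by rwa [pow_one])
  rw [← mul_assoc] at hc'
  refine ⟨⟨a, by omega⟩, ⟨b, by omega⟩, k, n, hc', hk, by rw [hN, hc'], by rw [← hc', ← hGn, hG], hn,
    fun h1 => ?_⟩
  rw [h1, mul_one] at hN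
  exact normalizer_ne_centralizer_of_perfect (perfect_M23 hD hcls hM hE hclsE h22 hcov) hp hcard hG2
    (c := Nat.card C) (by rw [hXC]) hN

/-- The possible centraliser orders of an element of order 17. -/
theorem cases17 {x : G} (hx : orderOf x = 17) :
    (Nat.card ↥(Subgroup.centralizer ({x} : Set G)) = 17 ∧
      Nat.card ↥(Subgroup.normalizer ((Subgroup.zpowers x : Subgroup G) : Set G)) = 17 * 16) ∨
    Nat.card ↥(Subgroup.centralizer ({x} : Set G)) = 1173 ∨
    (Nat.card ↥(Subgroup.centralizer ({x} : Set G)) = 17 * 3 ^ 10 ∧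
      Nat.card ↥(Subgroup.normalizer ((Subgroup.zpowers x : Subgroup G) : Set G)) = 17 * 3 ^ 10 * 2) := by
  obtain ⟨a, b, k, n, hc, hk, hN, hG, hn, hk1⟩ :=
    shape23 hD hcls hM hE hclsE h22 hcov (Or.inl ⟨rfl, rfl⟩) hx
  have hk17 : k < 17 := lt_of_le_of_lt (Nat.le_of_dvd (by norm_num) hk) (by norm_num)
  have hpos : 0 < 17 * 3 ^ a.val * 23 ^ b.val * k := by
    rw [← hN]; exact Nat.card_pos
  rcases sylow_arith17 a b ⟨k, hk17⟩ ⟨hk, by rw [hG, Nat.mul_mod_right],
    by rw [hG, Nat.mul_div_cancel_left _ hpos, hn]⟩ with h | h | h | h | h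
  · rw [h.1, h.2.1] at hc hN
    rw [show k = 16 from h.2.2] at hN
    exact Or.inl ⟨by rw [hc]; norm_num, by rw [hN]; norm_num⟩
  · rw [h.1, h.2] at hc
    exact Or.inr (Or.inl (by rw [hc]; norm_num))
  · exact absurd h hk1
  · rw [h.1, h.2.1] at hc hN
    rw [show k = 2 from h.2.2] at hN
    exact Or.inr (Or.inr ⟨by rw [hc]; norm_num, by rw [hN]; norm_num⟩)
  · exfalso
    obtain ⟨P, hP⟩ := Sylow.exists_subgroup_card_pow_prime 3 (n := a.val)
      (G := ↥(Subgroup.centralizer ({x} : Set G))) (by rw [hc]; exact Dvd.intro_left _ rfl |>.mul_right _)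
    refine (not_centralize_large_three23 hD hcls hM hE hclsE h22 hcov (Or.inl rfl) hx
      (P := P.map (Subgroup.centralizer ({x} : Set G)).subtype) (a := a.val) ?_ ?_).not_ge h
    · rw [Subgroup.card_map_of_injective (Subgroup.subtype_injective _), hP]
    · rintro y ⟨y, -, rfl⟩
      exact (Subgroup.mem_centralizer_singleton_iff.1 y.2).symm

/-- The possible centraliser orders of an element of order 23. -/
theorem cases23 {x : G} (hx : orderOf x = 23) :
    (Nat.card ↥(Subgroup.centralizer ({x} : Set G)) = 23 ∧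
      Nat.card ↥(Subgroup.normalizer ((Subgroup.zpowers x : Subgroup G) : Set G)) = 23 * 11) ∨
    Nat.card ↥(Subgroup.centralizer ({x} : Set G)) = 391 := by
  obtain ⟨a, b, k, n, hc, hk, hN, hG, hn, hk1⟩ :=
    shape23 hD hcls hM hE hclsE h22 hcov (Or.inr ⟨rfl, rfl⟩) hx
  have hk23 : k < 23 := lt_of_le_of_lt (Nat.le_of_dvd (by norm_num) hk) (by norm_num)
  have hpos : 0 < 23 * 3 ^ a.val * 17 ^ b.val * k := by
    rw [← hN]; exact Nat.card_pos
  rcases sylow_arith23 a b ⟨k, hk23⟩ ⟨hk, by rw [hG, Nat.mul_mod_right],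
    by rw [hG, Nat.mul_div_cancel_left _ hpos, hn]⟩ with h | h | h | h | h
  · rw [h.1, h.2.1] at hc hN
    rw [show k = 11 from h.2.2] at hN
    exact Or.inl ⟨by rw [hc]; norm_num, by rw [hN]; norm_num⟩
  · rw [h.1, h.2.1] at hc
    exact Or.inr (by rw [hc]; norm_num)
  · exact absurd h hk1
  · exfalso
    rw [h.1, h.2.1] at hc hN
    rw [show k = 22 from h.2.2] at hN
    norm_num at hc hN
    set N := Subgroup.normalizer ((Subgroup.zpowers x : Subgroup G) : Set G)
    set C := Subgroup.centralizer ({x} : Set G) with hC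
    have := Fact.mk (by norm_num : (11).Prime)
    obtain ⟨g, hg⟩ := exists_prime_orderOf_dvd_card' (G := N) 11 (by rw [hN]; norm_num)
    rw [← Subgroup.orderOf_coe] at hg
    obtain ⟨d, hd, e, he, hF, h44⟩ := eleven_M23 hD hcls hM hE hclsE h22 hcov hg
    set K := Subgroup.centralizer ({(g : G)} : Set G) with hK
    have hK88 : Nat.card K ∣ 88 := by
      set O : Set G := {y | ∃ k ∈ K, k * d * k⁻¹ = y}
      have h1 := card_eq_orbit_mul K d O (fun k hk => ⟨k, hk, rfl⟩) (fun y hy => hy)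
      rw [h44] at h1
      have h2 : O ⊆ {d, e} := by
        rintro y ⟨k, hk, rfl⟩
        exact hF ▸ fixSet_conj hD.2.1 (show Commute k (g : G) from
          Subgroup.mem_centralizer_singleton_iff.1 hk) (hF ▸ by simp : d ∈ fixSet D (g : G))
      have h3 : O.ncard ≤ 2 :=
        (Set.ncard_le_ncard h2 (Set.toFinite _)).trans (Set.ncard_pair he.2.1.symm).le
      have h4 : 0 < Nat.card K := Nat.card_pos
      rw [h1] at h4 ⊢
      generalize O.ncard = m at h3 h4
      rcases (show m = 1 ∨ m = 2 by omega) with rfl | rfl <;> norm_num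
    have hinv : ∀ y ∈ (C : Set G), (g : G) * y * (g : G)⁻¹ ∈ (C : Set G) := by
      intro y hy
      rw [SetLike.mem_coe, hC, ← Subgroup.centralizer_closure, ← Subgroup.zpowers_eq_closure] at hy ⊢
      rw [Subgroup.mem_centralizer_iff] at hy ⊢
      intro z hz
      have hz' : (g : G)⁻¹ * z * g ∈ Subgroup.zpowers x := by
        have := (Subgroup.mem_normalizer_iff.1 (inv_mem g.2) z).1 hz
        rwa [inv_inv] at this
      calc z * ((g : G) * y * (g : G)⁻¹) = g * ((g : G)⁻¹ * z * g * y) * (g : G)⁻¹ := by group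
        _ = g * (y * ((g : G)⁻¹ * z * g)) * (g : G)⁻¹ := by rw [hy _ hz']
        _ = _ := by group
    have h := ncard_fixed_modEq hinv (by norm_num : (11).Prime) (hg ▸ pow_orderOf_eq_one (g : G))
    rw [show {u | u ∈ (C : Set G) ∧ Commute (g : G) u} = ((C ⊓ K : Subgroup G) : Set G) from by
      apply Set.ext
      intro y
      exact and_congr_right fun _ => ⟨fun h => Subgroup.mem_centralizer_singleton_iff.2 h.symm.eq,
        fun h => (Subgroup.mem_centralizer_singleton_iff.1 h).symm⟩,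
      ← Nat.card_coe_set_eq, ← Nat.card_coe_set_eq (C : Set G)] at h
    change Nat.card ↥(C ⊓ K) % 11 = Nat.card ↥C % 11 at h
    have h1 := Nat.dvd_gcd (Subgroup.card_dvd_of_le (inf_le_left : C ⊓ K ≤ C))
      ((Subgroup.card_dvd_of_le (inf_le_right : C ⊓ K ≤ K)).trans hK88)
    rw [hc] at h h1
    rw [show Nat.gcd 1863 88 = 1 from by norm_num, Nat.dvd_one] at h1
    rw [h1] at h
    norm_num at h
  · exfalso
    obtain ⟨P, hP⟩ := Sylow.exists_subgroup_card_pow_prime 3 (n := a.val)
      (G := ↥(Subgroup.centralizer ({x} : Set G))) (by rw [hc]; exact Dvd.intro_left _ rfl |>.mul_right _)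
    refine (not_centralize_large_three23 hD hcls hM hE hclsE h22 hcov (Or.inr rfl) hx
      (P := P.map (Subgroup.centralizer ({x} : Set G)).subtype) (a := a.val) ?_ ?_).not_ge h
    · rw [Subgroup.card_map_of_injective (Subgroup.subtype_injective _), hP]
    · rintro y ⟨y, -, rfl⟩
      exact (Subgroup.mem_centralizer_singleton_iff.1 y.2).symm

/-- Elements of order 17 and 23 do not commute. -/
theorem not_commute_17_23 {x z : G} (hx : orderOf x = 17) (hz : orderOf z = 23) : ¬ Commute x z := by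
  intro hxz
  set C := Subgroup.centralizer ({x} : Set G)
  set K := Subgroup.centralizer ({z} : Set G)
  have hzC : z ∈ C := Subgroup.mem_centralizer_singleton_iff.2 hxz.symm.eq
  have hxK : x ∈ K := Subgroup.mem_centralizer_singleton_iff.2 hxz.eq
  have h23 : 23 ∣ Nat.card C := hz ▸ Subgroup.orderOf_dvd_natCard _ hzC
  have h17 : 17 ∣ Nat.card K := hx ▸ Subgroup.orderOf_dvd_natCard _ hxK
  have hC : Nat.card C = 1173 := by
    rcases cases17 hD hcls hM hE hclsE h22 hcov hx with h | h | h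
    · rw [h.1] at h23; norm_num at h23
    · exact h
    · rw [h.1] at h23; norm_num at h23
  have hK : Nat.card K = 391 := by
    rcases cases23 hD hcls hM hE hclsE h22 hcov hz with h | h
    · rw [h.1] at h17; norm_num at h17
    · exact h
  set Z := Subgroup.zpowers (⟨z, hzC⟩ : C)
  have hZ : Nat.card Z = 23 := by rw [Nat.card_zpowers, ← Subgroup.orderOf_coe, hz]
  obtain ⟨k, n, hk, -, hn, hn1⟩ := normalizer_prime (by norm_num : (23).Prime) hZ
    (by rw [hC]; norm_num) (c := Nat.card ↥(Subgroup.centralizer (Z : Set C))) rfl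
  have hd : Nat.card ↥(Subgroup.centralizer (Z : Set C)) ∣ 391 := by
    rw [← hK, ← Subgroup.card_map_of_injective C.subtype_injective]
    refine Subgroup.card_dvd_of_le ?_
    rintro - ⟨y, hy, rfl⟩
    exact Subgroup.mem_centralizer_singleton_iff.2 (congrArg Subtype.val
      (Subgroup.mem_centralizer_iff.1 hy ⟨z, hzC⟩ (Subgroup.mem_zpowers _))).symm
  rw [hC] at hn
  have hk1 : k = 1 := by
    have h := Nat.dvd_gcd hk (show k ∣ 1173 from ⟨Nat.card ↥(Subgroup.centralizer (Z : Set C)) * n,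
      by rw [hn]; ring⟩)
    norm_num at h
    exact h
  rw [hk1, mul_one] at hn
  have hmem : Nat.card ↥(Subgroup.centralizer (Z : Set C)) ∈ Nat.divisors 391 :=
    Nat.mem_divisors.2 ⟨hd, by norm_num⟩
  rw [show Nat.divisors 391 = {1, 17, 23, 391} from by decide +kernel] at hmem
  simp only [Finset.mem_insert, Finset.mem_singleton] at hmem
  rcases hmem with h | h | h | h <;> rw [h] at hn <;> omega

/-- No element of order 17 has centraliser of order `17 * 3 ^ 10`. -/
theorem false_of_three_ten {x : G} (hx : orderOf x = 17)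
    (hc : Nat.card ↥(Subgroup.centralizer ({x} : Set G)) = 17 * 3 ^ 10)
    (hN : Nat.card ↥(Subgroup.normalizer ((Subgroup.zpowers x : Subgroup G) : Set G)) = 17 * 3 ^ 10 * 2) :
    False := by
  classical
  obtain ⟨-, ⟨a₀, ha₀, -⟩, -⟩ := id hcls
  have hGc := card_M23 hD hcls hM hE hclsE h22 hcov ha₀
  have := Fact.mk (by norm_num : (17).Prime)
  have : Fact (Nat.Prime 3) := ⟨Nat.prime_three⟩
  set C := Subgroup.centralizer ({x} : Set G) with hC
  set Xs := Subgroup.zpowers x with hXs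
  set NX := Subgroup.normalizer (Xs : Set G)
  have hX17 : Nat.card Xs = 17 := by rw [Nat.card_zpowers, hx]
  have hXC : Subgroup.centralizer (Xs : Set G) = C := by
    rw [hC, hXs, Subgroup.zpowers_eq_closure, Subgroup.centralizer_closure]
  have hCN : C ≤ NX := hXC ▸ Subgroup.centralizer_le_normalizer _
  obtain ⟨P₀, hP₀⟩ := Sylow.exists_subgroup_card_pow_prime 3 (n := 10) (G := C) (by rw [hc]; norm_num)
  set P := P₀.map C.subtype
  have hP : Nat.card P = 3 ^ 10 := by
    rw [Subgroup.card_map_of_injective C.subtype_injective, hP₀]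
  set M := Subgroup.centralizer (P : Set G) with hMdef
  set NP := Subgroup.normalizer (P : Set G)
  have hxM : x ∈ M := Subgroup.mem_centralizer_iff.2 (by
    rintro - ⟨y, -, rfl⟩
    exact Subgroup.mem_centralizer_singleton_iff.1 y.2)
  have hXM : Xs ≤ M := Subgroup.zpowers_le.2 hxM
  have hodd : Odd (Nat.card M) := by
    rw [Nat.odd_iff]
    by_contra h
    have : Fact (Nat.Prime 2) := ⟨Nat.prime_two⟩
    obtain ⟨t, ht⟩ := exists_prime_orderOf_dvd_card' (G := M) 2 (Nat.dvd_of_mod_eq_zero (by omega))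
    rw [← Subgroup.orderOf_coe] at ht
    refine not_dvd_centralizer_involution23 hD hcls hM hE hclsE h22 hcov ht ?_
    rw [← hP]
    exact Subgroup.card_dvd_of_le fun y hy =>
      Subgroup.mem_centralizer_singleton_iff.2 (Subgroup.mem_centralizer_iff.1 t.2 y hy)
  have hM17 : ¬ 17 ^ 2 ∣ Nat.card M := fun h => by
    have := h.trans (Subgroup.card_subgroup_dvd_card M)
    rw [hGc] at this
    norm_num at this
  -- Burnside's transfer in the centraliser of `P`
  have hfac : (Nat.card M).factorization 17 = 1 := by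
    have h1 := (by norm_num : (17).Prime).pow_dvd_iff_le_factorization (k := 2)
      (Nat.card_pos (α := M)).ne'
    have h2 := (by norm_num : (17).Prime).factorization_pos_of_dvd (Nat.card_pos (α := M)).ne'
      (hX17 ▸ Subgroup.card_dvd_of_le hXM)
    by_contra hne
    exact hM17 (h1.2 (by omega))
  set S : Sylow 17 M := Sylow.ofCard (Xs.subgroupOf M)
    (by rw [Nat.card_congr (Subgroup.subgroupOfEquivOfLe hXM).toEquiv, hX17, hfac, pow_one])
  have hS : Subgroup.normalizer ((S : Subgroup M) : Set M) ≤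
      Subgroup.centralizer ((S : Subgroup M) : Set M) := by
    show Subgroup.normalizer ((Xs.subgroupOf M : Subgroup M) : Set M) ≤
      Subgroup.centralizer ((Xs.subgroupOf M : Subgroup M) : Set M)
    intro g hg
    have hgN : (g : G) ∈ NX := by
      refine Subgroup.mem_normalizer_iff.2 fun y => ?_
      constructor
      · intro hy
        exact (Subgroup.mem_normalizer_iff.1 hg ⟨y, hXM hy⟩).1 hy
      · intro hy
        have hyM : y ∈ M := by
          have h1 := M.mul_mem (M.mul_mem (M.inv_mem g.2) (hXM hy)) g.2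
          simpa [mul_assoc] using h1
        exact (Subgroup.mem_normalizer_iff.1 hg ⟨y, hyM⟩).2 hy
    have hidx : (C.subgroupOf NX).index = 2 := by
      have h := (C.subgroupOf NX).index_mul_card
      rw [Nat.card_congr (Subgroup.subgroupOfEquivOfLe hCN).toEquiv, hc, hN] at h
      omega
    have hsq : (g : G) ^ 2 ∈ C := Subgroup.sq_mem_of_index_two hidx (⟨g, hgN⟩ : NX)
    have hgodd : Odd (orderOf (g : G)) := by
      rw [Subgroup.orderOf_coe]
      exact hodd.of_dvd_nat (orderOf_dvd_natCard g)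
    obtain ⟨j, hj⟩ := hgodd
    have hgC : (g : G) ∈ C := by
      have : (g : G) = ((g : G) ^ 2) ^ (j + 1) := by
        rw [← pow_mul, show 2 * (j + 1) = orderOf (g : G) + 1 by omega, pow_succ, pow_orderOf_eq_one,
          one_mul]
      rw [this]
      exact pow_mem hsq _
    rw [← hXC] at hgC
    exact Subgroup.mem_centralizer_iff.2 fun y hy =>
      Subtype.ext (Subgroup.mem_centralizer_iff.1 hgC (y : G) hy)
  have hK := MonoidHom.ker_transferSylow_isComplement' S hS
  set M₀ := (MonoidHom.transferSylow S hS).ker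
  have h170 : ¬ 17 ∣ Nat.card M₀ := MonoidHom.not_dvd_card_ker_transferSylow S hS
  have hM₀ : Nat.card M₀ * 17 = Nat.card M := by
    rw [← hK.card_mul_card, show Nat.card ↥(S : Subgroup M) = 17 from
      (Nat.card_congr (Subgroup.subgroupOfEquivOfLe hXM).toEquiv).trans hX17]
  set T : Sylow 3 M₀ := default
  set T₁ := (T : Subgroup M₀).map M₀.subtype
  obtain ⟨t, ht⟩ := IsPGroup.iff_card.1 (T.isPGroup'.map M₀.subtype)
  change Nat.card ↥T₁ = 3 ^ t at ht
  obtain ⟨m', hm'⟩ : 3 ^ t ∣ Nat.card M₀ := by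
    rw [← ht, Subgroup.card_map_of_injective M₀.subtype_injective]
    exact Subgroup.card_subgroup_dvd_card _
  have hm3 : ¬ 3 ∣ m' := by
    have h := T.not_dvd_index
    have h1 := Subgroup.card_mul_index (T : Subgroup M₀)
    rw [← Subgroup.card_map_of_injective M₀.subtype_injective, ht, hm'] at h1
    rwa [← Nat.eq_of_mul_eq_mul_left (pow_pos (by norm_num) t) h1]
  -- an element of order 17 normalising the Sylow 3-subgroup centralises it
  set NT := Subgroup.normalizer (T₁ : Set M)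
  obtain ⟨y, hy⟩ : ∃ y : NT, orderOf y = 17 := by
    refine exists_prime_orderOf_dvd_card' 17 ?_
    have hsup : NT ⊔ M₀ = ⊤ := Sylow.normalizer_sup_eq_top T
    have hrange : NT.map (QuotientGroup.mk' M₀) = ⊤ := by
      have h1 := congrArg (Subgroup.map (QuotientGroup.mk' M₀)) hsup
      rwa [Subgroup.map_sup, QuotientGroup.map_mk'_self, sup_bot_eq,
        Subgroup.map_top_of_surjective _ (QuotientGroup.mk'_surjective _)] at h1
    have h2 := Subgroup.card_map_dvd NT (QuotientGroup.mk' M₀)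
    rw [hrange, Subgroup.card_top] at h2
    refine dvd_trans ?_ h2
    have h3 := Subgroup.card_eq_card_quotient_mul_card_subgroup M₀
    rw [← hM₀, mul_comm] at h3
    exact dvd_of_eq (Nat.eq_of_mul_eq_mul_right Nat.card_pos h3)
  set T₂ := T₁.map M.subtype with hT₂
  have hT₂c : Nat.card T₂ = 3 ^ t := by
    rw [hT₂, Subgroup.card_map_of_injective M.subtype_injective, ht]
  have ht13 : t < 14 := by
    by_contra hlt
    have h := (pow_dvd_pow 3 (show 14 ≤ t by omega)).trans (hT₂c ▸ T₂.card_subgroup_dvd_card)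
    rw [hGc] at h
    norm_num at h
  set w : G := ((y : M) : G)
  have hw : orderOf w = 17 := by
    rw [show orderOf w = orderOf (y : M) from Subgroup.orderOf_coe _, Subgroup.orderOf_coe, hy]
  have hinv : ∀ u ∈ (T₂ : Set G), w * u * w⁻¹ ∈ (T₂ : Set G) := by
    rintro - ⟨u, hu, rfl⟩
    exact ⟨(y : M) * u * (y : M)⁻¹, (Subgroup.mem_normalizer_iff.1 y.2 u).1 hu, rfl⟩
  have hmod := ncard_fixed_modEq hinv (by norm_num : (17).Prime) (hw ▸ pow_orderOf_eq_one w)
  rw [show {u | u ∈ (T₂ : Set G) ∧ Commute w u} =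
      ((T₂ ⊓ Subgroup.centralizer ({w} : Set G) : Subgroup G) : Set G) from by
    apply Set.ext
    intro u
    exact and_congr_right fun _ => ⟨fun h => Subgroup.mem_centralizer_singleton_iff.2 h.symm.eq,
      fun h => (Subgroup.mem_centralizer_singleton_iff.1 h).symm⟩,
    ← Nat.card_coe_set_eq, ← Nat.card_coe_set_eq (T₂ : Set G)] at hmod
  change Nat.card ↥(T₂ ⊓ Subgroup.centralizer ({w} : Set G)) % 17 = Nat.card ↥T₂ % 17 at hmod
  obtain ⟨s, hs, hs'⟩ := (Nat.dvd_prime_pow Nat.prime_three).1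
    (hT₂c ▸ Subgroup.card_dvd_of_le (inf_le_left : T₂ ⊓ Subgroup.centralizer ({w} : Set G) ≤ T₂))
  rw [hT₂c, hs'] at hmod
  have hst := congrArg Fin.val (pow_mod_seventeen ⟨s, by omega⟩ ⟨t, ht13⟩ hmod)
  have hTw : T₂ ⊓ Subgroup.centralizer ({w} : Set G) = T₂ :=
    Subgroup.eq_of_le_of_card_ge inf_le_left (by rw [hs', hT₂c, show s = t from hst])
  obtain ⟨m, hm, hmap⟩ := exists_conj_within (by norm_num : (17).Prime) hM17
    (Subgroup.zpowers_le.2 (y : M).2 : Subgroup.zpowers w ≤ M) hXM (by rw [Nat.card_zpowers, hw]) hX17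
  set T₃ := T₂.map (MulAut.conj m).toMonoidHom with hT₃
  have hT₃C : T₃ ≤ C ⊓ M := by
    rintro - ⟨u, hu, rfl⟩
    have hwu : Commute w u := by
      rw [← hTw] at hu
      exact (Subgroup.mem_centralizer_singleton_iff.1 hu.2).symm
    refine ⟨?_, ?_⟩
    · show (MulAut.conj m) u ∈ C
      rw [← hXC, Subgroup.mem_centralizer_iff]
      intro z hz
      rw [SetLike.mem_coe, ← hmap] at hz
      obtain ⟨v, hv, rfl⟩ := hz
      obtain ⟨i, rfl⟩ := Subgroup.mem_zpowers_iff.1 hv
      exact ((hwu.zpow_left i).map (MulAut.conj m).toMonoidHom).eq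
    · obtain ⟨u, -, rfl⟩ := hu
      show m * (u : G) * m⁻¹ ∈ M
      exact M.mul_mem (M.mul_mem hm u.2) (M.inv_mem hm)
  -- the normaliser of `P`
  have hMN : M ≤ NP := Subgroup.centralizer_le_normalizer _
  have hnormal : (M.subgroupOf NP).Normal := by
    refine ⟨fun u hu g => Subgroup.mem_centralizer_iff.2 fun z hz => ?_⟩
    have hz' : (g : G)⁻¹ * z * g ∈ P := by
      have := (Subgroup.mem_normalizer_iff.1 (inv_mem g.2) z).1 hz
      rwa [inv_inv] at this
    show z * ((g : G) * u * (g : G)⁻¹) = (g : G) * u * (g : G)⁻¹ * z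
    calc z * ((g : G) * u * (g : G)⁻¹) = g * ((g : G)⁻¹ * z * g * u) * (g : G)⁻¹ := by group
      _ = g * (u * ((g : G)⁻¹ * z * g)) * (g : G)⁻¹ := by
        rw [show (g : G)⁻¹ * z * g * u = u * ((g : G)⁻¹ * z * g) from Subgroup.mem_centralizer_iff.1 hu _ hz']
      _ = _ := by group
  set Q := NP ⊓ NX
  set ψ := (QuotientGroup.mk' (M.subgroupOf NP)).comp (Subgroup.inclusion (inf_le_left : Q ≤ NP))
  have hψ : Function.Surjective ψ := by
    intro z
    obtain ⟨g, rfl⟩ := QuotientGroup.mk'_surjective _ z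
    have hle : Xs.map (MulAut.conj (g : G)).toMonoidHom ≤ M := by
      rintro - ⟨v, hv, rfl⟩
      exact hnormal.conj_mem ⟨v, hMN (hXM hv)⟩ (hXM hv) g
    obtain ⟨m₁, hm₁, hmap₁⟩ := exists_conj_within (by norm_num : (17).Prime) hM17 hle hXM
      (by rw [Subgroup.card_map_of_injective (MulAut.conj (g : G)).injective, hX17]) hX17
    have hmem : m₁ * g ∈ NX := by
      refine Subgroup.mem_normalizer_iff_map_conj_eq.2 ?_
      conv_rhs => rw [← hmap₁, Subgroup.map_map]
      congr 1
      ext v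
      simp [mul_assoc]
    refine ⟨⟨m₁ * g, mul_mem (hMN hm₁) g.2, hmem⟩, ?_⟩
    show ((⟨m₁, hMN hm₁⟩ * g : NP) : NP ⧸ M.subgroupOf NP) = (g : NP ⧸ M.subgroupOf NP)
    rw [QuotientGroup.mk_mul, (QuotientGroup.eq_one_iff (⟨m₁, hMN hm₁⟩ : NP)).2 hm₁, one_mul]
  have h1 := Subgroup.card_eq_card_quotient_mul_card_subgroup (M.subgroupOf NP)
  rw [Nat.card_congr (Subgroup.subgroupOfEquivOfLe hMN).toEquiv] at h1
  have h2 := Subgroup.card_eq_card_quotient_mul_card_subgroup ψ.ker
  rw [Nat.card_congr (QuotientGroup.quotientKerEquivOfSurjective ψ hψ).toEquiv] at h2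
  have h3 : 3 ^ t ∣ Nat.card ψ.ker := by
    rw [← hT₂c, ← Subgroup.card_map_of_injective Q.subtype_injective (K := ψ.ker),
      ← Subgroup.card_map_of_injective (f := (MulAut.conj m).toMonoidHom) (MulAut.conj m).injective (K := T₂)]
    refine Subgroup.card_dvd_of_le ?_
    intro v hv
    obtain ⟨h4, h5⟩ := hT₃C hv
    exact ⟨⟨v, hMN h5, hCN h4⟩, (QuotientGroup.eq_one_iff _).2 h5, rfl⟩
  have h4 : 3 ^ 11 ∣ Nat.card NP :=
    Sylow.prime_pow_dvd_card_normalizer (by rw [hGc]; norm_num) hP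
  rw [h1, ← hM₀, hm', show ∀ q : ℕ, q * (3 ^ t * m' * 17) = q * 3 ^ t * (m' * 17) from
    fun q => by ring] at h4
  have h5 : 3 ^ 11 ∣ Nat.card (NP ⧸ M.subgroupOf NP) * 3 ^ t :=
    (Nat.Coprime.pow_left 11 ((Nat.Prime.coprime_iff_not_dvd Nat.prime_three).2 fun h =>
      (Nat.prime_three.dvd_mul.1 h).elim hm3 (by norm_num))).dvd_of_dvd_mul_right h4
  have h6 := h5.trans ((Nat.mul_dvd_mul_left _ h3).trans (dvd_of_eq h2.symm))
  have h7 := h6.trans (Subgroup.card_dvd_of_le (inf_le_right : Q ≤ NX))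
  rw [hN] at h7
  norm_num at h7

/-- Subgroups of order 17: centraliser and normaliser. -/
theorem seventeen_M23 {x : G} (hx : orderOf x = 17) :
    Nat.card ↥(Subgroup.centralizer ({x} : Set G)) = 17 ∧
      Nat.card ↥(Subgroup.normalizer ((Subgroup.zpowers x : Subgroup G) : Set G)) = 17 * 16 := by
  rcases cases17 hD hcls hM hE hclsE h22 hcov hx with h | h | h
  · exact h
  · exfalso
    have := Fact.mk (by norm_num : (23).Prime)
    obtain ⟨z, hz⟩ := exists_prime_orderOf_dvd_card'
      (G := ↥(Subgroup.centralizer ({x} : Set G))) 23 (by rw [h]; norm_num)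
    rw [← Subgroup.orderOf_coe] at hz
    exact not_commute_17_23 hD hcls hM hE hclsE h22 hcov hx hz
      (show Commute x (z : G) from (Subgroup.mem_centralizer_singleton_iff.1 z.2).symm)
  · exact (false_of_three_ten hD hcls hM hE hclsE h22 hcov hx h.1 h.2).elim

/-- Subgroups of order 23: centraliser and normaliser. -/
theorem twentythree_M23 {x : G} (hx : orderOf x = 23) :
    Nat.card ↥(Subgroup.centralizer ({x} : Set G)) = 23 ∧
      Nat.card ↥(Subgroup.normalizer ((Subgroup.zpowers x : Subgroup G) : Set G)) = 23 * 11 := by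
  rcases cases23 hD hcls hM hE hclsE h22 hcov hx with h | h
  · exact h
  · exfalso
    have := Fact.mk (by norm_num : (17).Prime)
    obtain ⟨z, hz⟩ := exists_prime_orderOf_dvd_card'
      (G := ↥(Subgroup.centralizer ({x} : Set G))) 17 (by rw [h]; norm_num)
    rw [← Subgroup.orderOf_coe] at hz
    exact not_commute_17_23 hD hcls hM hE hclsE h22 hcov hz hx
      (show Commute (z : G) x from Subgroup.mem_centralizer_singleton_iff.1 z.2)

end Cfsg.Agent.ThreeTrans
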