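import Cfsg.Agent.ThreeTrans.BaseM24

/-!
# Type M(24): centralisers of members

The centraliser of a member maps onto the group of type M(23) with the member and 1 as kernel.
-/

set_option autoImplicit false

open Cfsg

namespace Cfsg.Agent.ThreeTrans

universe u

/-- Some member of a set is moved by both of two commuting members. -/
theorem exists_nc_both {G : Type u} [Group G] [Finite G] {S : Set G} {m : ℕ} {u w : G}
    (hu : (dperp S u).ncard = m) (hw : (dperp S w).ncard = m) (h : 2 * m + 2 < S.ncard) :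
    ∃ z ∈ S, ¬ Commute z u ∧ ¬ Commute z w := by
  by_contra hcon
  push Not at hcon
  have hsub : S ⊆ insert u (dperp S u) ∪ insert w (dperp S w) := by
    intro z hz
    by_cases h1 : Commute z u
    · rcases eq_or_ne z u with rfl | hne
      · exact Or.inl (Set.mem_insert _ _)
      · exact Or.inl (Set.mem_insert_of_mem _ ⟨hz, hne, h1.symm⟩)
    · rcases eq_or_ne z w with rfl | hne
      · exact Or.inr (Set.mem_insert _ _)
      · exact Or.inr (Set.mem_insert_of_mem _ ⟨hz, hne, (hcon z hz h1).symm⟩)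
  have h1 := (Set.ncard_le_ncard hsub (Set.toFinite _)).trans (Set.ncard_union_le _ _)
  have h2 := Set.ncard_insert_le u (dperp S u)
  have h3 := Set.ncard_insert_le w (dperp S w)
  omega

variable {G : Type u} [Group G] [Finite G] {D : Set G} {X : Type u} [Group X] [Finite X] {E : Set X}
  (hD : IsThreeTranspositionGroup D) (hZ : Subgroup.center G = ⊥) (hB : M24Base D E)

include hD hZ hB

/-- Only the member centralises a member and its partners. -/
theorem eq_one_or_eq24 {a c : G} (ha : a ∈ D) (hca : Commute c a)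
    (hcd : ∀ x ∈ dperp D a, Commute c x) : c = 1 ∨ c = a :=
  eq_one_or_eq_of_centralises' hD hZ hB.nice hB.trace hB.hypLayer ha hca hcd

/-- What is needed to see that members generate centralisers, in type M(24). -/
theorem transport24 : Transport D := by
  have hS := closedSet_of_group hD
  obtain ⟨-, hnice23, -, -⟩ := m23_base hB.group hB.m23
  obtain ⟨X₀, _, _, E₀, hE₀, hcls₀, h22, hcov⟩ :=
    exists_cover23 hB.group (prim_M23 hB.group hB.m23) hB.m23
  have hlayer2 : ∀ t ∈ D, ∀ u ∈ dperp D t, Nice (dperp (dperp D t) u) := fun t ht u hu => by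
    obtain ⟨φ, hφ⟩ := hB.iso t ht
    exact (hφ.restrict hu).nice ((hS.dperp t).dperp u)
      ((m23Data hB.group (prim_M23 hB.group hB.m23) hB.m23).transport.layerNice _ (hφ.bij.mapsTo hu))
  refine ⟨hB.nice, fun t ht => ?_, fun a ha u hu w hw => ?_, fun a ha a' ha' u hu w hw huw hne => ?_,
    fun u hu w hw a ha a' ha' haw haw' hna hna' => ?_,
    fun x hx y hy z hz hxy hne hxz hyz => third24 hD hB hx hy hz hxy hne hxz hyz,
    fun a ha u hu k hk hku => ?_⟩
  · obtain ⟨φ, hφ⟩ := hB.iso t ht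
    exact hφ.nice (hS.dperp t) hnice23
  · obtain ⟨h0, h1, -, -⟩ := layer_counts24 hB ha
    exact exists_nc_both (h1 u hu) (h1 w hw.1) (by rw [h0]; norm_num)
  · obtain ⟨-, h1, h2, -⟩ := layer_counts24 hB ha
    obtain ⟨z, hz, h⟩ := exists_nc_both (h2 a' ha' u hu) (h2 a' ha' w hw) (by rw [h1 a' ha']; norm_num)
    exact ⟨z, hz.1, hz.2.2.symm, h⟩
  · have hA : a ∈ dperp (dperp D u) w := ⟨ha, hna, haw.symm⟩
    have hA' : a' ∈ dperp (dperp D u) w := ⟨ha', hna', haw'.symm⟩
    by_cases haa : Commute a a'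
    · exact ⟨a, hA, Commute.refl a, haa⟩
    · obtain ⟨c, hc, hca'⟩ := (hlayer2 u hu w hw).diam a hA a' hA' haa
      exact ⟨c, hc.1, hc.2.2.symm, hca'⟩
  obtain ⟨d, hd, hbase0⟩ := hB.base
  set H := Subgroup.closure (dperp D d) with hHdef
  obtain ⟨π, hπ, hker, φ, hφ, hagree⟩ := hbase0
  have hbase : ∀ u ∈ dperp D d, ∀ k ∈ H, Commute k u → k ∈ memGroup D u := by
    intro u hu k hk hku
    set uH : H := ⟨u, Subgroup.subset_closure hu⟩
    set kH : H := ⟨k, hk⟩
    have hmem : π kH ∈ Subgroup.closure (dperp E (φ u)) := by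
      rw [← (hcov _ (hφ.bij.mapsTo hu)).top, Subgroup.mem_centralizer_singleton_iff, hagree u hu]
      exact ((show Commute kH uH from Subtype.ext hku.eq).map π).eq
    set A : Subgroup H := Subgroup.closure {x : H | (x : G) ∈ dperp D d ∧ Commute u (x : G)}
    have hle : Subgroup.closure (dperp E (φ u)) ≤ A.map π := by
      refine (Subgroup.closure_le _).2 ?_
      rintro q ⟨hq, -, huq⟩
      obtain ⟨x, hx, rfl⟩ := hφ.bij.surjOn hq
      exact ⟨⟨x, Subgroup.subset_closure hx⟩,
        Subgroup.subset_closure ⟨hx, (hφ.comm u hu x hx).1 huq⟩, (hagree x hx).symm⟩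
    obtain ⟨y, hy, hyk⟩ := hle hmem
    have hz : y⁻¹ * kH ∈ Subgroup.center H := by
      rw [← hker, MonoidHom.mem_ker, map_mul, map_inv, hyk, inv_mul_cancel]
    have hA : A.map H.subtype ≤ memGroup D u := by
      rw [MonoidHom.map_closure, Subgroup.closure_le]
      rintro - ⟨x, ⟨hx, hux⟩, rfl⟩
      exact Subgroup.subset_closure ⟨hx.1, hux⟩
    have hz' : (↑(y⁻¹ * kH) : G) ∈ memGroup D u := by
      rcases eq_one_or_eq24 hD hZ hB hd (commute_of_mem_H hHdef (y⁻¹ * kH).2).symm (fun x hx =>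
          (congrArg Subtype.val
            (Subgroup.mem_center_iff.1 hz ⟨x, Subgroup.subset_closure hx⟩)).symm) with h | h
      · rw [h]; exact one_mem _
      · rw [h]; exact Subgroup.subset_closure ⟨hd, hu.2.2.symm⟩
    have := mul_mem (hA ⟨y, hy, rfl⟩) hz'
    simpa [kH] using this
  obtain ⟨g, hg⟩ := class_isConj hB.cls ha hd
  have hk' : g * k * g⁻¹ ∈ H := by
    suffices (Subgroup.closure (dperp D a)).map (MulAut.conj g).toMonoidHom ≤
        Subgroup.closure (dperp D d) from this ⟨k, hk, rfl⟩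
    rw [MonoidHom.map_closure, Subgroup.closure_le]
    rintro - ⟨x, hx, rfl⟩
    exact Subgroup.subset_closure (hg ▸ dperp_conj hD.2.1 g hx)
  have := hbase (g * u * g⁻¹) (hg ▸ dperp_conj hD.2.1 g hu) _ hk' ((commute_conj g k u).2 hku)
  have h2 := memGroup_conj hD.2.1 (g := g⁻¹) this
  simpa [mul_assoc] using h2

omit hD hZ hB in
/-- The image of the centraliser of a member: a group of type M(23). -/
structure Cover24 (D : Set G) (E : Set X) (b : G) : Prop where
  maps : ∃ (χ : ↥(Subgroup.centralizer ({b} : Set G)) →* X) (ψ : G → X), Function.Surjective χ ∧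
    (∀ x, χ x = 1 ↔ ((x : G) = 1 ∨ (x : G) = b)) ∧
    (∀ x : ↥(Subgroup.centralizer ({b} : Set G)), (x : G) ∈ dperp D b → ψ x = χ x) ∧
    SetIso (dperp D b) E ψ

theorem exists_cover_base : ∃ d ∈ D, Cover24 D E d := by
  obtain ⟨d, hd, hbase0⟩ := hB.base
  refine ⟨d, hd, ?_⟩
  set H := Subgroup.closure (dperp D d) with hHdef
  obtain ⟨π, hπ, hker, φ, hφ, hagree⟩ := hbase0
  set C := Subgroup.centralizer ({d} : Set G)
  have hHC : H ≤ C := fun x hx =>
    Subgroup.mem_centralizer_singleton_iff.2 (commute_of_mem_H hHdef hx).eq.symm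
  set q : H →* C ⧸ Subgroup.center C := (QuotientGroup.mk' _).comp (Subgroup.inclusion hHC)
  have hzC : ∀ x : C, x ∈ Subgroup.center C ↔ ((x : G) = 1 ∨ (x : G) = d) := by
    intro x
    constructor
    · intro hx
      exact eq_one_or_eq24 hD hZ hB hd (Subgroup.mem_centralizer_singleton_iff.1 x.2) fun y hy =>
        (congrArg Subtype.val (Subgroup.mem_center_iff.1 hx ⟨y, hHC (Subgroup.subset_closure hy)⟩)).symm
    · rintro (h | h)
      · rw [show x = 1 from Subtype.ext h]; exact one_mem _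
      · refine Subgroup.mem_center_iff.2 fun y => Subtype.ext ?_
        rw [Subgroup.coe_mul, Subgroup.coe_mul, h]
        exact Subgroup.mem_centralizer_singleton_iff.1 y.2
  have hqker : q.ker = π.ker := by
    rw [hker]
    ext x
    rw [MonoidHom.mem_ker, MonoidHom.comp_apply, QuotientGroup.mk'_apply, QuotientGroup.eq_one_iff, hzC]
    constructor
    · intro h
      refine Subgroup.mem_center_iff.2 fun y => Subtype.ext ?_
      rw [Subgroup.coe_mul, Subgroup.coe_mul, show (x : G) = ((Subgroup.inclusion hHC x : C) : G) from rfl]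
      rcases h with h | h <;> rw [h]
      · rw [mul_one, one_mul]
      · exact Subgroup.mem_centralizer_singleton_iff.1 (hHC y.2)
    · intro h
      exact eq_one_or_eq24 hD hZ hB hd (Subgroup.mem_centralizer_singleton_iff.1 (hHC x.2)) fun y hy =>
        (congrArg Subtype.val (Subgroup.mem_center_iff.1 h ⟨y, Subgroup.subset_closure hy⟩)).symm
  have hqs : Function.Surjective q := by
    intro r
    obtain ⟨x, rfl⟩ := QuotientGroup.mk'_surjective _ r
    have hx : (x : G) ∈ memGroup D d := (transport24 hD hZ hB).mem_memGroup_of_commute hD hd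
      (Subgroup.mem_centralizer_singleton_iff.1 x.2)
    have hle : memGroup D d ≤ C := by
      rw [memGroup, Subgroup.closure_le]
      exact fun e he => Subgroup.mem_centralizer_singleton_iff.2 he.2.eq.symm
    suffices key : ∀ (g : G) (hg : g ∈ memGroup D d),
        ((⟨g, hle hg⟩ : C) : C ⧸ Subgroup.center C) ∈ q.range from key x hx
    intro g hg
    induction hg using Subgroup.closure_induction with
    | mem e he =>
      rcases eq_or_ne e d with rfl | hne
      · exact ⟨1, (map_one q).trans ((QuotientGroup.eq_one_iff _).2 ((hzC _).2 (Or.inr rfl))).symm⟩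
      · exact ⟨⟨e, Subgroup.subset_closure ⟨he.1, hne, he.2⟩⟩, rfl⟩
    | one => exact ⟨1, map_one q⟩
    | mul y z hy hz ihy ihz => exact mul_mem ihy ihz
    | inv y hy ihy => exact inv_mem ihy
  let e : X ≃* C ⧸ Subgroup.center C := ((QuotientGroup.quotientKerEquivOfSurjective π hπ).symm.trans
    (QuotientGroup.quotientMulEquivOfEq hqker.symm)).trans
    (QuotientGroup.quotientKerEquivOfSurjective q hqs)
  have he : ∀ x : H, e (π x) = q x := by
    intro x
    have h1 : (QuotientGroup.quotientKerEquivOfSurjective π hπ).symm (π x) = QuotientGroup.mk x :=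
      (MulEquiv.symm_apply_eq _).2 rfl
    simp only [e, MulEquiv.trans_apply, h1]
    rfl
  refine ⟨e.symm.toMonoidHom.comp (QuotientGroup.mk' _), φ,
    e.symm.surjective.comp (QuotientGroup.mk'_surjective _), fun x => ?_, fun x hx => ?_, hφ⟩
  · rw [MonoidHom.comp_apply, QuotientGroup.mk'_apply]
    show e.symm _ = 1 ↔ _
    rw [MulEquiv.map_eq_one_iff, QuotientGroup.eq_one_iff, hzC]
  · rw [hagree x hx, MonoidHom.comp_apply]
    exact ((MulEquiv.symm_apply_eq e).2 (he ⟨x, Subgroup.subset_closure hx⟩).symm).symm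

/-- Every member has such a cover. -/
theorem cover24 {b : G} (hb : b ∈ D) : Cover24 D E b := by
  obtain ⟨d, hd, hcov⟩ := exists_cover_base hD hZ hB
  obtain ⟨χ, ψ, hχ, hker, hagree, hiso⟩ := hcov.maps
  obtain ⟨g, hg⟩ := class_isConj hB.cls hb hd
  have hmem : ∀ {x : G}, x ∈ Subgroup.centralizer ({b} : Set G) ↔
      g * x * g⁻¹ ∈ Subgroup.centralizer ({d} : Set G) := by
    intro x
    rw [Subgroup.mem_centralizer_singleton_iff, Subgroup.mem_centralizer_singleton_iff, ← hg]
    exact (commute_conj g x b).symm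
  let ε : ↥(Subgroup.centralizer ({b} : Set G)) →* ↥(Subgroup.centralizer ({d} : Set G)) :=
    MonoidHom.mk' (fun x => ⟨g * x * g⁻¹, hmem.1 x.2⟩) fun x y => Subtype.ext
      (show g * ((x : G) * y) * g⁻¹ = g * (x : G) * g⁻¹ * (g * (y : G) * g⁻¹) by group)
  have hε : Function.Surjective ε := fun y => ⟨⟨g⁻¹ * y * g, hmem.2 (by
    rw [show g * (g⁻¹ * (y : G) * g) * g⁻¹ = y by group]; exact y.2)⟩,
      Subtype.ext (show g * (g⁻¹ * (y : G) * g) * g⁻¹ = y by group)⟩
  refine ⟨χ.comp ε, ψ ∘ fun x => g * x * g⁻¹, hχ.comp hε, fun x => ?_, fun x hx => ?_,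
    (hg ▸ setIso_conj hD.2.1 g b).trans hiso⟩
  · rw [MonoidHom.comp_apply, hker]
    show g * (x : G) * g⁻¹ = 1 ∨ g * (x : G) * g⁻¹ = d ↔ _
    rw [← hg, conj_eq_one_iff]
    exact or_congr Iff.rfl ⟨fun h => mul_left_cancel (mul_right_cancel h), fun h => by rw [h]⟩
  · exact hagree (ε x) (hg ▸ dperp_conj hD.2.1 g hx)

omit hZ in
/-- The order of the group of type M(23) of the layer. -/
theorem card_layer_group : Nat.card X = 2 ^ 18 * 3 ^ 13 * 5 ^ 2 * 7 * 11 * 13 * 17 * 23 := by
  have hp := prim_M23 hB.group hB.m23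
  obtain ⟨a, ha, -⟩ := hp.2.1
  obtain ⟨X₀, _, _, E₀, hE₀, hcls₀, h22, hcov⟩ := exists_cover23 hB.group hp hB.m23
  exact card_M23 hB.group (class_of_primitive hB.group hp) (m23Data hB.group hp hB.m23) hE₀ hcls₀ h22
    hcov ha

/-- The order of the centraliser of a member. -/
theorem card_centralizer24 {b : G} (hb : b ∈ D) :
    Nat.card ↥(Subgroup.centralizer ({b} : Set G)) =
      2 * (2 ^ 18 * 3 ^ 13 * 5 ^ 2 * 7 * 11 * 13 * 17 * 23) := by
  obtain ⟨χ, ψ, hχ, hker, -, -⟩ := (cover24 hD hZ hB hb).maps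
  have hk : χ.ker.map (Subgroup.centralizer ({b} : Set G)).subtype = Subgroup.zpowers b := by
    refine le_antisymm ?_ ?_
    · rintro - ⟨x, hx, rfl⟩
      rcases (hker x).1 hx with h | h
      · rw [Subgroup.coe_subtype, h]; exact one_mem _
      · rw [Subgroup.coe_subtype, h]; exact Subgroup.mem_zpowers b
    · rw [Subgroup.zpowers_le]
      exact ⟨⟨b, Subgroup.mem_centralizer_singleton_iff.2 rfl⟩, (hker _).2 (Or.inr rfl), rfl⟩
  rw [Subgroup.card_eq_card_quotient_mul_card_subgroup χ.ker,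
    Nat.card_congr (QuotientGroup.quotientKerEquivOfSurjective χ hχ).toEquiv, card_layer_group hD hB,
    ← Subgroup.card_map_of_injective
      (Subgroup.centralizer ({b} : Set G)).subtype_injective, hk, Nat.card_zpowers, hD.1.1 b hb,
    mul_comm]

/-- The order of a group of type M(24). -/
theorem card_M24 : Nat.card G = 2 ^ 22 * 3 ^ 16 * 5 ^ 2 * 7 ^ 3 * 11 * 13 * 17 * 23 * 29 := by
  obtain ⟨-, ⟨a, ha, -⟩, -⟩ := id hB.cls
  rw [← Subgroup.card_top, card_eq_orbit_mul ⊤ a D (fun g _ => hD.2.1 g a ha)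
    (fun y hy => (class_isConj hB.cls ha hy).imp fun g hg => ⟨Subgroup.mem_top g, hg⟩), top_inf_eq,
    card_centralizer24 hD hZ hB ha, (counts24 hD hB ha).1]
  norm_num

end Cfsg.Agent.ThreeTrans
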