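import Cfsg.Agent.ThreeTrans.PrimeLarge
import Cfsg.Agent.ThreeTrans.PrimeM23Small
import Cfsg.Agent.ThreeTrans.PrimeM23

/-!
# Elements of order 17 and 23 in type M(23)
-/

set_option autoImplicit false

open Cfsg

universe u

namespace Cfsg.Agent.ThreeTrans

/-- Arithmetic of Sylow counting for the order of a group of type M(23), the prime 17. -/
theorem sylow_arith17 : ∀ a : Fin 14, ∀ b : Fin 2, ∀ k : Fin 17,
    (k.val ∣ 16 ∧ 2 ^ 18 * 3 ^ 13 * 5 ^ 2 * 7 * 11 * 13 * 17 * 23 % (17 * 3 ^ a.val * 23 ^ b.val * k.val) = 0 ∧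
      (2 ^ 18 * 3 ^ 13 * 5 ^ 2 * 7 * 11 * 13 * 17 * 23 / (17 * 3 ^ a.val * 23 ^ b.val * k.val)) % 17 = 1) →
    (a.val = 0 ∧ b.val = 0 ∧ k.val = 16) ∨ (a.val = 1 ∧ b.val = 1) ∨ k.val = 1 ∨
      (a.val = 10 ∧ b.val = 0 ∧ k.val = 2) ∨ 11 ≤ a.val := by
  decide +kernel

/-- Arithmetic of Sylow counting for the order of a group of type M(23), the prime 23. -/
theorem sylow_arith23 : ∀ a : Fin 14, ∀ b : Fin 2, ∀ k : Fin 23,
    (k.val ∣ 22 ∧ 2 ^ 18 * 3 ^ 13 * 5 ^ 2 * 7 * 11 * 13 * 17 * 23 % (23 * 3 ^ a.val * 17 ^ b.val * k.val) = 0 ∧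
      (2 ^ 18 * 3 ^ 13 * 5 ^ 2 * 7 * 11 * 13 * 17 * 23 / (23 * 3 ^ a.val * 17 ^ b.val * k.val)) % 23 = 1) →
    (a.val = 0 ∧ b.val = 0 ∧ k.val = 11) ∨ (a.val = 0 ∧ b.val = 1 ∧ k.val = 2) ∨ k.val = 1 ∨
      (a.val = 4 ∧ b.val = 0 ∧ k.val = 22) ∨ 11 ≤ a.val := by
  decide +kernel

/-- A perfect group has no Sylow subgroup of prime order which is central in its normaliser. -/
theorem normalizer_ne_centralizer_of_perfect {G : Type*} [Group G] [Finite G]
    (hperf : commutator G = ⊤) {X : Subgroup G} {p : ℕ} (hp : p.Prime) (hX : Nat.card X = p)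
    (hG : ¬ p ^ 2 ∣ Nat.card G) {c : ℕ} (hc : Nat.card ↥(Subgroup.centralizer (X : Set G)) = c) :
    Nat.card ↥(Subgroup.normalizer (X : Set G)) ≠ c := by
  intro hN
  have := Fact.mk hp
  have hfac : (Nat.card G).factorization p = 1 := by
    have h1 := hp.pow_dvd_iff_le_factorization (k := 2) (Nat.card_pos (α := G)).ne'
    have h2 := hp.factorization_pos_of_dvd (Nat.card_pos (α := G)).ne' (hX ▸ X.card_subgroup_dvd_card)
    by_contra hne
    exact hG (h1.2 (by omega))
  set P : Sylow p G := Sylow.ofCard X (by rw [hX, hfac, pow_one])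
  have hP : Subgroup.normalizer ((P : Subgroup G) : Set G) ≤ Subgroup.centralizer ((P : Subgroup G) : Set G) := by
    show Subgroup.normalizer (X : Set G) ≤ Subgroup.centralizer (X : Set G)
    exact (Subgroup.eq_of_le_of_card_ge (Subgroup.centralizer_le_normalizer _) (by rw [hN, hc])).ge
  have hK := MonoidHom.ker_transferSylow_isComplement' P hP
  have hcomm : IsMulCommutative X := (isCyclic_of_prime_card hX).isMulCommutative
  have hle : commutator G ≤ (MonoidHom.transferSylow P hP).ker := by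
    rw [commutator_def, Subgroup.commutator_le]
    intro g _ h _
    rw [MonoidHom.mem_ker, map_commutatorElement, commutatorElement_eq_one_iff_mul_comm]
    exact hcomm.is_comm.comm (MonoidHom.transferSylow P hP g : X) (MonoidHom.transferSylow P hP h : X)
  rw [hperf, top_le_iff] at hle
  have h1 := hK.card_mul
  rw [hle, Subgroup.card_top, show Nat.card ↥(P : Subgroup G) = p from hX] at h1
  exact hp.one_lt.ne' ((Nat.mul_eq_left (Nat.card_pos (α := G)).ne').1 h1)

variable {G : Type u} [Group G] [Finite G] {D : Set G}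
  {X : Type u} [Group X] [Finite X] {E : Set X}
  (hD : IsThreeTranspositionGroup D) (hcls : IsThreeTranspositionClass D) (hM : M23Data D)
  (hE : IsThreeTranspositionGroup E) (hclsE : IsThreeTranspositionClass E) (h22 : IsOfTypeM22 X E)
  (hcov : ∀ b ∈ D, Cover23 D E b)

include hD hcls hM hE hclsE h22 hcov

/-- The joint centraliser of two commuting members. -/
theorem card_pair23 {a b : G} (ha : a ∈ D) (hb : b ∈ dperp D a) :
    Nat.card ↥(Subgroup.centralizer ({a} : Set G) ⊓ Subgroup.centralizer ({b} : Set G)) =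
      36787322880 := by
  have hL := layers23 hD hE h22 hcov
  have hfix : ∀ {g y : G}, g ∈ Subgroup.centralizer ({y} : Set G) → g * y * g⁻¹ = y := fun hg => by
    rw [Subgroup.mem_centralizer_singleton_iff.1 hg, mul_inv_cancel_right]
  have hex : ∀ {v}, v ∈ dperp D a → ∃ r, r ∈ dperp (dperp D a) v := fun hv =>
    Set.nonempty_of_ncard_ne_zero (by rw [(hL a ha).card1 _ hv]; norm_num)
  obtain ⟨r₀, hr₀⟩ := hex hb
  have h := card_eq_orbit_mul (Subgroup.centralizer ({a} : Set G)) b (dperp D a)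
    (fun g hg => hfix hg ▸ dperp_conj hD.2.1 g hb) fun y hy => by
      obtain ⟨r, hr⟩ := hex hy
      obtain ⟨g, g1, g2, -⟩ := exists_conj_triple23 hD hcls hM hE hclsE h22 hcov ha hb hr₀ ha hy hr
      exact ⟨g, Subgroup.mem_centralizer_singleton_iff.2 (mul_inv_eq_iff_eq_mul.1 g1), g2⟩
  rw [(hL a ha).card, card_centralizer23 hD hcls hM hE hclsE h22 hcov ha] at h
  omega

/-- The order of the centraliser of an involution has no large 3-part. -/
theorem not_dvd_centralizer_involution23 {t : G} (ht : orderOf t = 2) :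
    ¬ 3 ^ 10 ∣ Nat.card ↥(Subgroup.centralizer ({t} : Set G)) := by
  have ht2 : t * t = 1 := by rw [← sq, ← ht, pow_orderOf_eq_one]
  have ht1 : t ≠ 1 := fun h => by rw [h, orderOf_one] at ht; exact absurd ht (by norm_num)
  obtain ⟨n, h1, h3, l, hnd, hlen, hmem, hco, hp⟩ :=
    involution_M23 hD hcls hM hE hclsE h22 hcov ht2 ht1
  interval_cases n
  · obtain ⟨a, rfl⟩ := List.length_eq_one_iff.1 hlen
    simp only [List.prod_cons, List.prod_nil, mul_one] at hp
    subst hp
    rw [card_centralizer23 hD hcls hM hE hclsE h22 hcov (hmem a (by simp))]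
    norm_num
  · obtain ⟨a, b, rfl⟩ := List.length_eq_two.1 hlen
    simp only [List.prod_cons, List.prod_nil, mul_one] at hp
    subst hp
    simp only [List.nodup_cons, List.mem_cons, List.not_mem_nil, or_false] at hnd
    have hb : b ∈ dperp D a := ⟨hmem b (by simp), fun e => hnd.1 e.symm,
      hco a (by simp) b (by simp)⟩
    obtain ⟨c, hc⟩ : ∃ c, c ∈ dperp (dperp D a) b := Set.nonempty_of_ncard_ne_zero (by
      rw [(layers23 hD hE h22 hcov a (hmem a (by simp))).card1 _ hb]; norm_num)
    have h := (card_centralizer_products hD hcls hM hE hclsE h22 hcov (hmem a (by simp)) hb hc).1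
    intro hd
    obtain ⟨q, hq⟩ := hd
    rw [hq] at h
    omega
  · obtain ⟨a, b, c, rfl⟩ := List.length_eq_three.1 hlen
    simp only [List.prod_cons, List.prod_nil, mul_one] at hp
    simp only [List.nodup_cons, List.mem_cons, List.not_mem_nil, or_false, not_or] at hnd
    have hb : b ∈ dperp D a := ⟨hmem b (by simp), fun e => hnd.1.1 e.symm,
      hco a (by simp) b (by simp)⟩
    have hc : c ∈ dperp (dperp D a) b := ⟨⟨hmem c (by simp), fun e => hnd.1.2 e.symm,
      hco a (by simp) c (by simp)⟩, fun e => hnd.2.1 e.symm, hco b (by simp) c (by simp)⟩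
    have h := (card_centralizer_products hD hcls hM hE hclsE h22 hcov (hmem a (by simp)) hb hc).2
    rw [← mul_assoc] at hp
    rw [← hp]
    intro hd
    obtain ⟨q, hq⟩ := hd
    rw [hq] at h
    omega

/-- Elements of order 17 and 23 move every member. -/
theorem no_fixed23 {x : G} {p : ℕ} (hp17 : p = 17 ∨ p = 23) (hx : orderOf x = p) :
    ∀ u ∈ D, ¬ Commute x u := fun u hu hc => by
  have hd := orderOf_dvd_natCard (⟨x, Subgroup.mem_centralizer_singleton_iff.2 hc.eq⟩ :
    Subgroup.centralizer ({u} : Set G))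
  rw [← Subgroup.orderOf_coe, hx, card_centralizer23 hD hcls hM hE hclsE h22 hcov hu] at hd
  rcases hp17 with rfl | rfl <;> norm_num at hd

/-- Elements of order 17 and 23 commute only with elements of order made of the primes 3, 17, 23. -/
theorem not_commute_small23 {x y : G} {p q : ℕ} (hp17 : p = 17 ∨ p = 23) (hx : orderOf x = p)
    (hq : q = 2 ∨ q = 5 ∨ q = 7 ∨ q = 11 ∨ q = 13) (hy : orderOf y = q) : ¬ Commute x y := by
  intro hxy
  have hT := hD.1
  have hp : p.Prime := by rcases hp17 with rfl | rfl <;> norm_num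
  have hfp := no_fixed23 hD hcls hM hE hclsE h22 hcov hp17 hx
  have hxC : x ∈ Subgroup.centralizer ({y} : Set G) := Subgroup.mem_centralizer_singleton_iff.2 hxy.eq
  have hdvd : p ∣ Nat.card ↥(Subgroup.centralizer ({y} : Set G)) :=
    hx ▸ Subgroup.orderOf_dvd_natCard _ hxC
  rcases hq with rfl | rfl | rfl | rfl | rfl
  · have ht2 : y * y = 1 := by rw [← sq, ← hy, pow_orderOf_eq_one]
    have ht1 : y ≠ 1 := fun h => by rw [h, orderOf_one] at hy; exact absurd hy (by norm_num)
    obtain ⟨n, h1, h3, l, hnd, hlen, hmem, hco, hpr⟩ :=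
      involution_M23 hD hcls hM hE hclsE h22 hcov ht2 ht1
    have hxy' : x * y * x⁻¹ = y := by rw [hxy.eq, mul_inv_cancel_right]
    have hperm : ∀ {u v : G}, u ≠ v → x * u * x⁻¹ ≠ x * v * x⁻¹ := fun hne e =>
      hne (mul_left_cancel (mul_right_cancel e))
    interval_cases n
    · obtain ⟨a, rfl⟩ := List.length_eq_one_iff.1 hlen
      simp only [List.prod_cons, List.prod_nil, mul_one] at hpr
      exact hfp a (hmem a (by simp)) (hpr ▸ hxy)
    · obtain ⟨a, b, rfl⟩ := List.length_eq_two.1 hlen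
      simp only [List.prod_cons, List.prod_nil, mul_one] at hpr
      simp only [List.nodup_cons, List.mem_cons, List.not_mem_nil, or_false] at hnd
      have ha := hmem a (by simp)
      have hb := hmem b (by simp)
      have hab := hco a (by simp) b (by simp)
      have hmap : ∀ u w : G, u * w = a * b → u ∈ D → w ∈ D → Commute u w → u ≠ w →
          x * u * x⁻¹ = a ∨ x * u * x⁻¹ = b := fun u w he hu hw huw hne =>
        pair_unique hT hM.noTwins ha hb (hD.2.1 x u hu) (hD.2.1 x w hw) hab hnd.1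
          ((commute_conj x u w).2 huw) (hperm hne) (by
            calc a * b = x * (a * b) * x⁻¹ := by rw [hpr, hxy']
              _ = x * (u * w) * x⁻¹ := by rw [he]
              _ = x * u * x⁻¹ * (x * w * x⁻¹) := by group)
      refine false_of_small_invariant hp hx hfp (S := {a, b}) ?_ ⟨a, by simp⟩ ?_ ?_
      · rintro u (rfl | rfl) <;> assumption
      · rintro u (rfl | rfl)
        · exact hmap _ b rfl ha hb hab hnd.1
        · exact hmap _ a hab.symm.eq hb ha hab.symm fun e => hnd.1 e.symm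
      · calc ({a, b} : Set G).ncard ≤ 2 := (Set.ncard_pair hnd.1).le
          _ < p := by rcases hp17 with rfl | rfl <;> norm_num
    · obtain ⟨a, b, c, rfl⟩ := List.length_eq_three.1 hlen
      simp only [List.prod_cons, List.prod_nil, mul_one, ← mul_assoc] at hpr
      simp only [List.nodup_cons, List.mem_cons, List.not_mem_nil, or_false, not_or] at hnd
      have ha := hmem a (by simp)
      have hb := hmem b (by simp)
      have hc := hmem c (by simp)
      have hab := hco a (by simp) b (by simp)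
      have hac := hco a (by simp) c (by simp)
      have hbc := hco b (by simp) c (by simp)
      have hmap : ∀ u v w : G, u * v * w = a * b * c → u ∈ D → v ∈ D → w ∈ D → Commute u v →
          Commute u w → Commute v w → u ≠ v → u ≠ w → v ≠ w →
          x * u * x⁻¹ = a ∨ x * u * x⁻¹ = b ∨ x * u * x⁻¹ = c :=
        fun u v w he hu hv hw huv huw hvw n1 n2 n3 =>
        triple_unique hT hM.noTwins hM.noTwins2 ha hb hc (hD.2.1 x u hu) (hD.2.1 x v hv)
          (hD.2.1 x w hw) hab hac hbc hnd.1.1 hnd.1.2 hnd.2.1 ((commute_conj x u v).2 huv)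
          ((commute_conj x u w).2 huw) ((commute_conj x v w).2 hvw) (hperm n1) (hperm n2)
          (hperm n3) (by
            calc a * b * c = x * (a * b * c) * x⁻¹ := by rw [hpr, hxy']
              _ = x * (u * v * w) * x⁻¹ := by rw [he]
              _ = x * u * x⁻¹ * (x * v * x⁻¹) * (x * w * x⁻¹) := by group)
      refine false_of_small_invariant hp hx hfp (S := {a, b, c}) ?_ ⟨a, by simp⟩ ?_ ?_
      · rintro u (rfl | rfl | rfl) <;> assumption
      · rintro u (rfl | rfl | rfl)
        · exact hmap _ b c rfl ha hb hc hab hac hbc hnd.1.1 hnd.1.2 hnd.2.1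
        · exact hmap _ a c (by rw [hab.eq]) hb ha hc hab.symm hbc hac (Ne.symm hnd.1.1) hnd.2.1 hnd.1.2
        · exact hmap _ a b (by rw [hac.symm.eq, mul_assoc, hbc.symm.eq, mul_assoc]) hc ha hb
            hac.symm hbc.symm hab (Ne.symm hnd.1.2) (Ne.symm hnd.2.1) hnd.1.1
      · calc ({a, b, c} : Set G).ncard ≤ ({b, c} : Set G).ncard + 1 := Set.ncard_insert_le _ _
          _ ≤ 3 := by rw [Set.ncard_pair hnd.2.1]
          _ < p := by rcases hp17 with rfl | rfl <;> norm_num
  · obtain ⟨-, -, -, h, -⟩ := five_structure23 hD hcls hM hE hclsE h22 hcov hy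
    rw [h] at hdvd
    rcases hp17 with rfl | rfl <;> norm_num [Nat.factorial] at hdvd
  · obtain ⟨-, -, -, h⟩ := seven_structure23 hD hcls hM hE hclsE h22 hcov hy
    rw [h] at hdvd
    rcases hp17 with rfl | rfl <;> norm_num [Nat.factorial] at hdvd
  · obtain ⟨d, hd, b, hb, hF, -⟩ := eleven_M23 hD hcls hM hE hclsE h22 hcov hy
    refine false_of_small_invariant hp hx hfp (S := fixSet D y) (fun u hu => hu.1)
      (hF ▸ ⟨d, by simp⟩) (fun u hu => fixSet_conj hD.2.1 hxy hu) ?_
    rw [hF, Set.ncard_pair hb.2.1.symm]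
    rcases hp17 with rfl | rfl <;> norm_num
  · obtain ⟨-, ⟨a₀, ha₀, -⟩, -⟩ := id hcls
    have hn := ncard_members23 hD (layers23 hD hE h22 hcov) ha₀
    obtain ⟨u, hu, hyu⟩ := exists_fixed_of_pow (fun v hv => hD.2.1 y v hv)
      (by norm_num : (13).Prime) (hy ▸ pow_orderOf_eq_one y) (S := D) (by rw [hn]; norm_num)
    obtain ⟨a, b, ha, hb, h1, h2⟩ := exists_commuting_pair_of_centralized hD hp
      (by rcases hp17 with rfl | rfl <;> norm_num) hx hfp (Y := {y})
      (fun z hz => by rw [Set.mem_singleton_iff] at hz; rwa [hz]) hu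
      (fun z hz => by rw [Set.mem_singleton_iff] at hz; rwa [hz])
    have h := orderOf_dvd_pair (h1 y rfl) (h2 y rfl)
    rw [hy, card_pair23 hD hcls hM hE hclsE h22 hcov ha hb] at h
    norm_num at h

/-- Elements of order 17 and 23 commute with no subgroup of order at least `3 ^ 11`. -/
theorem not_centralize_large_three23 {x : G} {p : ℕ} (hp17 : p = 17 ∨ p = 23) (hx : orderOf x = p)
    {P : Subgroup G} {a : ℕ} (hP : Nat.card P = 3 ^ a) (hc : ∀ y ∈ P, Commute x y) : a < 11 := by
  by_contra ha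
  have hp : p.Prime := by rcases hp17 with rfl | rfl <;> norm_num
  have hfp := no_fixed23 hD hcls hM hE hclsE h22 hcov hp17 hx
  obtain ⟨-, ⟨a₀, ha₀, -⟩, -⟩ := id hcls
  have hn := ncard_members23 hD (layers23 hD hE h22 hcov) ha₀
  obtain ⟨u, hu, hdvd⟩ := exists_small_orbit hP (S := D) (k := 4) (fun g _ v hv => hD.2.1 g v hv)
    (by rw [hn]; norm_num)
  obtain ⟨e, b, he, hb, h1, h2⟩ := exists_commuting_pair_of_centralized hD hp
    (by rcases hp17 with rfl | rfl <;> norm_num) hx hfp
    (Y := ((P ⊓ Subgroup.centralizer ({u} : Set G) : Subgroup G) : Set G))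
    (fun y hy => hc y hy.1) hu (fun y hy => Subgroup.mem_centralizer_singleton_iff.1 hy.2)
  have hle : P ⊓ Subgroup.centralizer ({u} : Set G) ≤
      Subgroup.centralizer ({e} : Set G) ⊓ Subgroup.centralizer ({b} : Set G) := fun y hy =>
    ⟨Subgroup.mem_centralizer_singleton_iff.2 (h1 y hy).eq,
      Subgroup.mem_centralizer_singleton_iff.2 (h2 y hy).eq⟩
  have h := (pow_dvd_pow 3 (show 7 ≤ a - 4 by omega)).trans
    (hdvd.trans (Subgroup.card_dvd_of_le hle))
  rw [card_pair23 hD hcls hM hE hclsE h22 hcov he hb] at h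
  norm_num at h

end Cfsg.Agent.ThreeTrans
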