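import Cfsg.Agent.ThreeTrans.ElemM22

/-!
# Involutions of double covers of U₆(2) and of type M(22)

Lifts of commuting transvections (members) commute and are involutions, so every involution lifts to
an involution.
-/

set_option autoImplicit false

open Cfsg Cfsg.Agent.Classical Cfsg.Agent.Classical.Herm Module
open scoped commutatorElement

namespace Cfsg.Agent.ThreeTrans

namespace Lift

variable {C X : Type*} [Group C] [Group X]

/-- A surjection with central kernel of exponent two. -/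
structure Cov (ξ : C →* X) : Prop where
  surj : Function.Surjective ξ
  comm : ∀ z, ξ z = 1 → ∀ c, Commute z c
  sq : ∀ z, ξ z = 1 → z * z = 1

variable {ξ : C →* X} (hξ : Cov ξ)

include hξ

theorem exists_ker {a b : C} (h : ξ a = ξ b) : ∃ z, ξ z = 1 ∧ a = b * z :=
  ⟨b⁻¹ * a, by rw [map_mul, map_inv, h, inv_mul_cancel], by group⟩

theorem commute_congr {x k k' : C} (h : ξ k = ξ k') (hc : Commute x k) : Commute x k' := by
  obtain ⟨z, hz, rfl⟩ := exists_ker hξ h.symm
  exact hc.mul_right (hξ.comm z hz x).symm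

theorem sq_congr {k k' : C} (h : ξ k = ξ k') : k * k = k' * k' := by
  obtain ⟨z, hz, rfl⟩ := exists_ker hξ h
  rw [(hξ.comm z hz k').mul_mul_mul_comm, hξ.sq z hz, mul_one]

theorem exists_bracket {x k : C} (h : Commute (ξ x) (ξ k)) : ∃ z, ξ z = 1 ∧ x * k = k * x * z :=
  exists_ker hξ (by rw [map_mul, map_mul, h.eq])

/-- A lift commutes with the lifts of a perfect group centralising its image. -/
theorem commute_of_perfect {P : Subgroup X} (hP : ⁅P, P⁆ = P) {x : C}
    (hx : ∀ g ∈ P, Commute (ξ x) g) {k : C} (hk : ξ k ∈ P) : Commute x k := by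
  suffices ∀ g ∈ P, ∀ k, ξ k = g → Commute x k from this _ hk k rfl
  intro g hg
  rw [← hP, Subgroup.commutator_def] at hg
  induction hg using Subgroup.closure_induction with
  | mem g h =>
    obtain ⟨u, hu, v, hv, rfl⟩ := h
    intro k hk
    obtain ⟨u', rfl⟩ := hξ.surj u
    obtain ⟨v', rfl⟩ := hξ.surj v
    refine commute_congr hξ (k := ⁅u', v'⁆) (by rw [map_commutatorElement, hk]) ?_
    obtain ⟨z, hz, ez⟩ := exists_bracket hξ (hx _ hu)
    obtain ⟨w, hw, ew⟩ := exists_bracket hξ (hx _ hv)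
    have hu' : x * u' * x⁻¹ = u' * z := by
      rw [ez, mul_assoc u' x z, ← (hξ.comm z hz x).eq, ← mul_assoc, mul_inv_cancel_right]
    have hv' : x * v' * x⁻¹ = v' * w := by
      rw [ew, mul_assoc v' x w, ← (hξ.comm w hw x).eq, ← mul_assoc, mul_inv_cancel_right]
    refine mul_inv_eq_iff_eq_mul.1 ?_
    calc x * ⁅u', v'⁆ * x⁻¹ = ⁅x * u' * x⁻¹, x * v' * x⁻¹⁆ := conjugate_commutatorElement u' v' x
      _ = ⁅u', v'⁆ := by
        rw [hu', hv']
        simp only [commutatorElement_def, mul_inv_rev]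
        have hzc := hξ.comm z hz
        have hwc := hξ.comm w hw
        calc u' * z * (v' * w) * (z⁻¹ * u'⁻¹) * (w⁻¹ * v'⁻¹)
            = u' * (z * (v' * w) * z⁻¹) * u'⁻¹ * (w⁻¹ * v'⁻¹) := by group
          _ = u' * (v' * w) * u'⁻¹ * (w⁻¹ * v'⁻¹) := by rw [(hzc _).eq, mul_inv_cancel_right]
          _ = u' * v' * (w * u'⁻¹ * w⁻¹) * v'⁻¹ := by group
          _ = u' * v' * u'⁻¹ * v'⁻¹ := by rw [(hwc _).eq, mul_inv_cancel_right]
  | one => exact fun k hk => commute_congr hξ (k := 1) (by rw [map_one, hk]) (Commute.one_right _)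
  | mul a b _ _ iha ihb =>
    intro k hk
    obtain ⟨a', ha'⟩ := hξ.surj a
    obtain ⟨b', hb'⟩ := hξ.surj b
    exact commute_congr hξ (k := a' * b') (by rw [map_mul, ha', hb', hk])
      ((iha a' ha').mul_right (ihb b' hb'))
  | inv a _ iha =>
    intro k hk
    simpa using (iha k⁻¹ (by rw [map_inv, hk, inv_inv])).inv_right

/-- A product of lifts squares to the product of the squares. -/
theorem sq_prod (l : List C) (hl : ∀ a ∈ l, ∀ b ∈ l, Commute a b) {c : C} (hc : ∀ a ∈ l, a * a = c) :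
    l.prod * l.prod = c ^ l.length := by
  induction l with
  | nil => simp
  | cons a l ih =>
    rw [List.prod_cons, (Commute.list_prod_left l a fun y hy =>
      hl y (List.mem_cons_of_mem _ hy) a List.mem_cons_self).mul_mul_mul_comm,
      hc a List.mem_cons_self, ih (fun y hy z hz => hl y (List.mem_cons_of_mem _ hy) z (List.mem_cons_of_mem _ hz))
        (fun y hy => hc y (List.mem_cons_of_mem _ hy)), List.length_cons, pow_succ']

end Lift

/-- PSU(6, 2) as the image of the isometry group, with the kernel. -/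
theorem psu_proj {F : Type*} [Field F] [Fintype F] (hF : Fintype.card F = 4) {X : Type*} [Group X]
    (e : X ≃* Cfsg.PSU 6 F 2) :
    ∃ (θ : F →+* F) (_ : UModel.Space (hermB 6 θ)) (π : suG (hermB 6 θ) →* X),
      Function.Surjective π ∧ ∀ g, π g = 1 → g ∈ Subgroup.center (suG (hermB 6 θ)) ∧ g ^ 3 = 1 := by
  obtain ⟨θ, hθq, hθ, hfix, -⟩ := exists_powHom (F := F) (q := 2) (by rw [hF]; norm_num)
  have hB : UModel.Space (hermB 6 θ) := by
    refine ⟨hermB_isHerm hθ 6, inferInstance, inferInstance, by rw [Module.finrank_fin_fun], ?_⟩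
    intro a ha
    rw [hθq] at ha
    have : a * (a - 1) = 0 := by linear_combination ha
    rcases mul_eq_zero.1 this with h | h
    · exact Or.inl h
    · exact Or.inr (sub_eq_zero.1 h)
  have hmap : (Subgroup.center (Cfsg.SU 6 F 2)).map (suEquiv 6 hθq).toMonoidHom
      = Subgroup.center (suG (hermB 6 θ)) := by
    ext x
    simp only [Subgroup.mem_map, Subgroup.mem_center_iff]
    constructor
    · rintro ⟨y, hy, rfl⟩ g
      obtain ⟨g', rfl⟩ := (suEquiv 6 hθq).surjective g
      simp only [MulEquiv.coe_toMonoidHom, ← map_mul, hy g']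
    · intro hx
      refine ⟨(suEquiv 6 hθq).symm x, fun g => (suEquiv 6 hθq).injective ?_, by simp⟩
      simp [hx]
  set ε := (QuotientGroup.congr _ _ (suEquiv 6 hθq) hmap).symm.trans e.symm
  refine ⟨θ, hB, ε.toMonoidHom.comp (QuotientGroup.mk' _), ε.surjective.comp (QuotientGroup.mk'_surjective _),
    fun g hg => ?_⟩
  have hgc : g ∈ Subgroup.center (suG (hermB 6 θ)) := by
    rw [← QuotientGroup.eq_one_iff]
    exact ε.injective (by rw [map_one]; exact hg)
  refine ⟨hgc, ?_⟩
  rw [← hmap] at hgc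
  obtain ⟨y, hy, rfl⟩ := hgc
  have h3 : Nat.card (Subgroup.center (Cfsg.SU 6 F 2)) = 3 := by
    rw [card_center_SU hθ hθq hfix (by norm_num)]; norm_num
  have h1 : (⟨y, hy⟩ : Subgroup.center (Cfsg.SU 6 F 2)) ^ 3 = 1 := by
    rw [← h3]; exact pow_card_eq_one'
  rw [← map_pow, show y ^ 3 = 1 from congrArg Subtype.val h1, map_one]

namespace UModel

variable {F V : Type*} [Field F] [AddCommGroup V] [Module F V] {θ : F →+* F}
  {B : V →ₛₗ[θ] V →ₗ[F] F} (hB : Space B) {C X : Type*} [Group C] [Group X] {ξ : C →* X}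
  (hξ : Lift.Cov ξ) (π : suG B →* X)

include hB

/-- A transvection as a product of four of a line through it. -/
theorem tr_line (a b : Pt B) (hab : B a.1 b.1 = 0) (hind : ∀ k : F, a.1 ≠ k • b.1) :
    ∃ p : Fin 4 → Pt B, (∀ i, ∃ k : F, (p i).1 = a.1 + k • b.1) ∧
      tr hB b = tr hB (p 0) * tr hB (p 1) * tr hB (p 2) * tr hB (p 3) := by
  have := hB.finF
  obtain ⟨w, hw⟩ := Herm.exists_moved hB.herm.toIsInvol
  have hw0 : w ≠ 0 := fun h => hw (by rw [h, map_zero])
  have hsum : w + θ w = 1 := by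
    rcases hB.fixed (w + θ w) (by rw [map_add, hB.herm.invol, add_comm]) with h | h
    · exact absurd (eq_of_add hB _ _ h).symm hw
    · exact h
  have hba := (symm_zero hB).1 hab
  have hp : ∀ k : F, a.1 + k • b.1 ≠ 0 ∧ B (a.1 + k • b.1) (a.1 + k • b.1) = 0 := fun k =>
    ⟨fun h => hind (-k) (by rw [neg_smul]; exact eq_neg_of_add_eq_zero_left h),
      by simp [a.2.2, b.2.2, hab, hba]⟩
  let co : Fin 4 → F := ![0, 1, w, θ w]
  refine ⟨fun i => ⟨_, hp (co i)⟩, fun i => ⟨co i, rfl⟩, ext_suG hB fun x => ?_⟩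
  show _ = (tr hB _).1 ((tr hB _).1 ((tr hB _).1 ((tr hB _).1 x)))
  simp only [tr_apply]
  simp [co, a.2.2, b.2.2, hab, hba, hB.herm.invol]
  have hn := norm_one hB hw0
  match_scalars
  · rfl
  · linear_combination -(B b.1 x) * (hn + hn) - (B a.1 x) * hsum - (B b.1 x) * two hB - (B a.1 x) * two hB
  · linear_combination -(B a.1 x) * two hB - (B a.1 x) * two hB - (B b.1 x) * hsum - (B b.1 x) * two hB

variable (hsurj : Function.Surjective π)

include hξ

/-- Lifts of commuting transvections commute, and lifts of transvections are involutions. -/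
theorem lift_tr (hF : Nat.card F = 4) : (∀ (v w : Pt B) (x y : C), B v.1 w.1 = 0 →
      ξ x = π (tr hB v) → ξ y = π (tr hB w) → Commute x y) ∧
    ∀ (v : Pt B) (x : C), ξ x = π (tr hB v) → x * x = 1 := by
  classical
  have := hB.fin; have := hB.finF
  choose L hL using fun g : suG B => hξ.surj (π g)
  -- lifts of commuting transvections commute
  have hcomm : ∀ a b : Pt B, B a.1 b.1 = 0 → Commute (L (tr hB a)) (L (tr hB b)) := by
    intro a b hab
    by_cases hbk : ∃ k : F, b.1 = k • a.1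
    · obtain ⟨k, hk⟩ := hbk
      rw [(tr_eq_iff hB a b).2 ⟨k, hk⟩]
    push Not at hbk
    set x := L (tr hB a) with hx
    set P : Pt B → Prop := fun p => B a.1 p.1 = 0 ∧ ∀ k : F, p.1 ≠ k • a.1
    -- the bracket of `x` with a lift
    have hbr : ∀ p : Pt B, B a.1 p.1 = 0 → ∃ z, ξ z = 1 ∧ x * L (tr hB p) = L (tr hB p) * x * z :=
      fun p hp => Lift.exists_bracket hξ (by rw [hx, hL, hL]; exact ((tr_commute_iff hB a p).2 hp).map π)
    choose ψ hψ1 hψ2 using hbr
    have hψmul : ∀ {k k' z z' : C}, ξ z = 1 → ξ z' = 1 → x * k = k * x * z → x * k' = k' * x * z' →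
        x * (k * k') = k * k' * x * (z * z') := by
      intro k k' z z' hz hz' e e'
      calc x * (k * k') = k * x * z * k' := by rw [← mul_assoc, e]
        _ = k * (x * k') * z := by rw [mul_assoc (k * x) z k', (hξ.comm z hz k').eq]; simp only [mul_assoc]
        _ = k * k' * x * (z' * z) := by rw [e']; simp only [mul_assoc]
        _ = k * k' * x * (z * z') := by rw [(hξ.comm z hz z').eq]
    have hψuni : ∀ {k z z' : C}, x * k = k * x * z → x * k = k * x * z' → z = z' := fun e e' =>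
      mul_left_cancel (e.symm.trans e')
    have hψcongr : ∀ {k k' z : C}, ξ k = ξ k' → x * k = k * x * z → x * k' = k' * x * z := by
      intro k k' z h e
      obtain ⟨s, hs, rfl⟩ := Lift.exists_ker hξ h.symm
      calc x * (k * s) = k * x * z * s := by rw [← mul_assoc, e]
        _ = k * s * x * z := by
          rw [← (hξ.comm s hs _).eq, ← mul_assoc, ← mul_assoc, ← (hξ.comm s hs k).eq]
    -- non-perpendicular points have the same bracket
    have hnon : ∀ (p q : Pt B) (hp : B a.1 p.1 = 0) (hq : B a.1 q.1 = 0), B p.1 q.1 ≠ 0 →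
        ψ p hp = ψ q hq := by
      intro p q hp hq hpq
      have e1 := hψmul (by rw [map_mul, hψ1 p hp, hψ1 q hq, one_mul]) (hψ1 p hp)
        (hψmul (hψ1 p hp) (hψ1 q hq) (hψ2 p hp) (hψ2 q hq)) (hψ2 p hp)
      have e2 := hψmul (by rw [map_mul, hψ1 q hq, hψ1 p hp, one_mul]) (hψ1 q hq)
        (hψmul (hψ1 q hq) (hψ1 p hp) (hψ2 q hq) (hψ2 p hp)) (hψ2 q hq)
      have e3 := hψuni (hψcongr (by
        simp only [map_mul, hL]
        rw [← map_mul, ← map_mul, ← map_mul, ← map_mul, tr_braid hB hpq]) e1) e2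
      rw [(hξ.comm _ (hψ1 q hq) (ψ p hp)).eq] at e3
      exact mul_left_cancel e3
    -- all have the same bracket
    obtain ⟨R⟩ := exists_res hB a
    have hall : ∀ (p q : Pt B) (hp : P p) (hq : P q), ψ p hp.1 = ψ q hq.1 := by
      intro p q hp hq
      have hd : ∀ r : Pt B, P r → R.down r.1 ≠ 0 ∧ hermB 4 θ (R.down r.1) (R.down r.1) = 0 := by
        intro r hr
        refine ⟨fun h0 => hr.2 (B R.f r.1) ?_, by rw [← R.form_split hB hr.1 hr.1, r.2.2]⟩
        have := R.split hB hr.1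
        rwa [h0, map_zero, zero_add] at this
      obtain ⟨z, hzz, hzp, hzq⟩ := Herm.exists_common (isHerm_four hB) (hd p hp).1 (hd p hp).2
        (hd q hq).1 (hd q hq).2
      let u : Pt B := ⟨R.up z, fun h => hzp (by
          rw [show z = R.down (R.up z) from (R.down_up hB z).symm, h, map_zero, map_zero, LinearMap.zero_apply]),
        by rw [R.form_up hB, hzz]⟩
      have hu : B a.1 u.1 = 0 := R.e_up hB z
      have hne : ∀ r : Pt B, B a.1 r.1 = 0 → hermB 4 θ z (R.down r.1) ≠ 0 → B u.1 r.1 ≠ 0 := by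
        intro r hr hz
        rwa [R.form_split hB hu hr, show R.down u.1 = z from R.down_up hB z]
      rw [← hnon u p hu hp.1 (hne p hp.1 hzp), hnon u q hu hq.1 (hne q hq.1 hzq)]
    -- a line avoiding `a`
    obtain ⟨za, zb, hzaa, hzbb, hzaa', hzab, hzbb', hzba, -⟩ :=
      exists_duals hB a.2.1 a.2.2 b.2.1 b.2.2 hab hbk
    obtain ⟨c, hc0, hcc, hac, hbc, hzac, hzbc⟩ := exists_iso hB a.1 b.1 za zb
    have hcind : ∀ α β : F, c ≠ α • a.1 + β • b.1 := fun α β hk => by
      have h1 := hzac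
      have h2 := hzbc
      rw [hk] at h1 h2
      simp [hzaa', hzab] at h1
      simp [hzba, hzbb'] at h2
      exact hc0 (by rw [hk, h1, h2, zero_smul, zero_smul, add_zero])
    obtain ⟨p, hp, hprod⟩ := tr_line hB ⟨c, hc0, hcc⟩ b ((symm_zero hB).1 hbc) fun k hk =>
      hcind 0 k (by rw [zero_smul, zero_add]; exact hk)
    have hP : ∀ i, P (p i) := fun i => by
      obtain ⟨k, hk⟩ := hp i
      refine ⟨by rw [hk]; simp [hac, hab], fun m hm => hcind m (-k) ?_⟩
      rw [hk] at hm
      rw [neg_smul, ← sub_eq_add_neg, ← hm, add_sub_cancel_right]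
    have hbP : P b := ⟨hab, hbk⟩
    set ψ₀ := ψ b hab with hψ₀
    have hz : ξ ψ₀ = 1 := hψ1 b hab
    have hi : ∀ i, x * L (tr hB (p i)) = L (tr hB (p i)) * x * ψ₀ := fun i => by
      rw [hψ₀, ← hall (p i) b (hP i) hbP]; exact hψ2 _ _
    have h4 := hψmul (by simp only [map_mul, hz, one_mul]) hz
      (hψmul (by simp only [map_mul, hz, one_mul]) hz (hψmul hz hz (hi 0) (hi 1)) (hi 2)) (hi 3)
    have h5 := hψcongr (show _ = ξ (L (tr hB b)) by simp only [map_mul, hL, hprod]) h4
    rw [hξ.sq _ hz, one_mul, hξ.sq _ hz, mul_one] at h5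
    exact h5
  -- all lifts have the same square
  have hq : ∀ v w : Pt B, B v.1 w.1 ≠ 0 → L (tr hB v) * L (tr hB v) = L (tr hB w) * L (tr hB w) := by
    intro v w hvw
    set g := L (tr hB v) * L (tr hB w)
    have e : ξ (g * L (tr hB v) * g⁻¹) = ξ (L (tr hB w)) := by
      simp only [g, mul_inv_rev, map_mul, map_inv, hL]
      rw [← map_inv, ← map_inv, ← map_mul, ← map_mul, ← map_mul, ← map_mul,
        inv_eq_of_mul_eq_one_left (tr_sq hB v), inv_eq_of_mul_eq_one_left (tr_sq hB w)]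
      congr 1
      rw [tr_braid hB hvw]
      simp only [mul_assoc, tr_sq, mul_one]
      rw [← mul_assoc (tr hB w) (tr hB w), tr_sq, one_mul, tr_sq, mul_one]
    have h1 := Lift.sq_congr hξ e
    have h2 : ξ (L (tr hB v) * L (tr hB v)) = 1 := by rw [map_mul, hL, ← map_mul, tr_sq, map_one]
    calc L (tr hB v) * L (tr hB v) = g * (L (tr hB v) * L (tr hB v)) * g⁻¹ := by
          rw [← (hξ.comm _ h2 g).eq, mul_inv_cancel_right]
      _ = g * L (tr hB v) * g⁻¹ * (g * L (tr hB v) * g⁻¹) := by group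
      _ = _ := h1
  have hq' : ∀ v w : Pt B, L (tr hB v) * L (tr hB v) = L (tr hB w) * L (tr hB w) := by
    intro v w
    obtain ⟨z, hzz, hzv, hzw⟩ := Herm.exists_common hB.herm v.2.1 v.2.2 w.2.1 w.2.2
    rw [← hq ⟨z, fun h => hzv (by rw [h]; simp), hzz⟩ v hzv, hq ⟨z, fun h => hzv (by rw [h]; simp), hzz⟩ w hzw]
  refine ⟨fun v w x y h hx hy => ?_, fun b x hx => ?_⟩
  · exact (Lift.commute_congr hξ (k := L (tr hB w)) (by rw [hy, hL])
      (Lift.commute_congr hξ (k := L (tr hB v)) (by rw [hx, hL]) (hcomm v w h).symm).symm)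
  rw [Lift.sq_congr hξ (k' := L (tr hB b)) (by rw [hx, hL])]
  obtain ⟨y, hy⟩ := exists_pair hB b.2.1
  obtain ⟨c, hc0, hcc, hbc, hyc, -, -⟩ := exists_iso hB b.1 y 0 0
  obtain ⟨p, hp, hprod⟩ := tr_line hB ⟨c, hc0, hcc⟩ b ((symm_zero hB).1 hbc) fun k hk => by
    rw [show c = k • b.1 from hk, map_smul, smul_eq_mul, hy, mul_one] at hyc
    exact hc0 (by rw [show c = k • b.1 from hk, hyc, zero_smul])
  have hperp : ∀ i j, B (p i).1 (p j).1 = 0 := fun i j => by
    obtain ⟨k, hk⟩ := hp i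
    obtain ⟨k', hk'⟩ := hp j
    rw [hk, hk']; simp [hcc, b.2.2, hbc, (symm_zero hB).1 hbc]
  set s := L (tr hB b) * L (tr hB b) with hs
  set l := [L (tr hB (p 0)), L (tr hB (p 1)), L (tr hB (p 2)), L (tr hB (p 3))] with hl
  have hl' : ∀ u ∈ l, ∃ i, u = L (tr hB (p i)) := fun u hu => by
    simp only [hl, List.mem_cons, List.not_mem_nil, or_false] at hu
    rcases hu with rfl | rfl | rfl | rfl <;> exact ⟨_, rfl⟩
  have h1 := Lift.sq_prod hξ l (fun u hu u' hu' => by
      obtain ⟨i, rfl⟩ := hl' u hu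
      obtain ⟨j, rfl⟩ := hl' u' hu'
      exact hcomm _ _ (hperp i j)) (c := s) fun u hu => by
      obtain ⟨i, rfl⟩ := hl' u hu
      exact hq' _ _
  have h2 : ξ l.prod = ξ (L (tr hB b)) := by
    rw [hL, hprod]; simp [hl, hL, mul_assoc]
  rw [Lift.sq_congr hξ h2, ← hs] at h1
  have hs1 : ξ s = 1 := by rw [hs, map_mul, hL, ← map_mul, tr_sq, map_one]
  rw [show l.length = 4 from rfl, pow_succ, pow_succ, sq, hξ.sq s hs1, one_mul, hξ.sq s hs1] at h1
  exact h1

include hsurj

/-- Every involution lifts to an involution. -/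
theorem lift_involution (hker : ∀ g, π g = 1 → g ^ 3 = 1) (hF : Nat.card F = 4) {q : X}
    (hq : q * q = 1) : ∃ y, y * y = 1 ∧ ξ y = q := by
  classical
  obtain ⟨hcomm, hsq⟩ := lift_tr hB hξ π hF
  obtain ⟨g₀, hg₀⟩ := hsurj q
  have hgq : π (g₀ ^ 3) = q := by rw [map_pow, pow_succ, sq, hg₀, hq, one_mul]
  have hg : g₀ ^ 3 * g₀ ^ 3 = 1 := by
    rw [← pow_add, show 3 + 3 = 2 * 3 from rfl, pow_mul, sq]
    exact hker _ (by rw [map_mul, hg₀, hq])
  obtain ⟨l, hl, hprod⟩ : ∃ l : List (Pt B), (∀ v ∈ l, ∀ w ∈ l, B v.1 w.1 = 0) ∧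
      g₀ ^ 3 = (l.map (tr hB)).prod := by
    rcases involution_eq hB hg with h | ⟨a, h⟩ | ⟨a, b, hab, -, h⟩ | ⟨a, b, c, hab, hac, hbc, -, -, h⟩
    · exact ⟨[], by simp, by simpa using h⟩
    · exact ⟨[a], by simp [a.2.2], by simpa using h⟩
    · exact ⟨[a, b], by simp [a.2.2, b.2.2, hab, (symm_zero hB).1 hab], by simpa using h⟩
    · exact ⟨[a, b, c], by simp [a.2.2, b.2.2, c.2.2, hab, hac, hbc, (symm_zero hB).1 hab,
        (symm_zero hB).1 hac, (symm_zero hB).1 hbc], by simpa [mul_assoc] using h⟩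
  choose L hL using fun v : Pt B => hξ.surj (π (tr hB v))
  refine ⟨(l.map L).prod, ?_, ?_⟩
  · rw [Lift.sq_prod hξ (l.map L) (c := 1) ?_ ?_, one_pow]
    · intro u hu u' hu'
      obtain ⟨v, hv, rfl⟩ := List.mem_map.1 hu
      obtain ⟨w, hw, rfl⟩ := List.mem_map.1 hu'
      exact hcomm v w _ _ (hl v hv w hw) (hL v) (hL w)
    · intro u hu
      obtain ⟨v, -, rfl⟩ := List.mem_map.1 hu
      exact hsq v _ (hL v)
  · rw [← hgq, hprod, map_list_prod, map_list_prod, List.map_map, List.map_map]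
    exact congrArg List.prod (List.map_congr_left fun v _ => hL v)

end UModel

/-- Every involution of type M(22) lifts to an involution in a central extension by a group of
exponent two. -/
theorem lift_involution_M22 {C X : Type*} [Group C] [Group X] [Finite X] {ξ : C →* X} (hξ : Lift.Cov ξ)
    {E : Set X} (hE : IsThreeTranspositionClass E) (h22 : IsOfTypeM22 X E) {q : X} (hq : q * q = 1) :
    ∃ y, y * y = 1 ∧ ξ y = q := by
  classical
  have hD : IsThreeTranspositionGroup E := class_toGroup hE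
  have hT := hD.1
  have hF := m22Full hD h22
  choose L hL using hξ.surj
  have hcomm : ∀ a ∈ E, ∀ b, Commute a b → Commute (L a) (L b) := fun a ha b hab => by
    refine Lift.commute_of_perfect hξ (centralizer_perfect_M22 hD h22 ha) (fun g hg => ?_) ?_
    · rw [hL]; exact (Subgroup.mem_centralizer_singleton_iff.1 hg : g * a = a * g).symm
    · rw [hL]; exact Subgroup.mem_centralizer_singleton_iff.2 hab.symm.eq
  obtain ⟨d, hd, -⟩ := id h22.2
  set c := L d * L d with hc
  have hsq : ∀ a ∈ E, L a * L a = c := by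
    intro a ha
    obtain ⟨g, hg⟩ := class_isConj hE hd ha
    have e : ξ (L g * L d * (L g)⁻¹) = ξ (L a) := by simp [hL, hg]
    rw [← Lift.sq_congr hξ e, show L g * L d * (L g)⁻¹ * (L g * L d * (L g)⁻¹) =
      L g * (L d * L d) * (L g)⁻¹ by group, ← (hξ.comm _ (by rw [map_mul, hL, mul_self hT hd]) (L g)).eq,
      mul_inv_cancel_right]
  have hlist : ∀ (l : List X), (∀ x ∈ l, x ∈ E) → (∀ x ∈ l, ∀ y ∈ l, Commute x y) →
      ξ (l.map L).prod = l.prod ∧ (l.map L).prod * (l.map L).prod = c ^ l.length := by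
    intro l hl hlc
    refine ⟨?_, ?_⟩
    · rw [map_list_prod, List.map_map]
      conv_rhs => rw [← List.map_id l]
      exact congrArg List.prod (List.map_congr_left fun x _ => hL x)
    rw [Lift.sq_prod hξ (l.map L) (c := c) ?_ ?_, List.length_map]
    · intro u hu u' hu'
      obtain ⟨v, hv, rfl⟩ := List.mem_map.1 hu
      obtain ⟨w, hw, rfl⟩ := List.mem_map.1 hu'
      exact hcomm v (hl v hv) w (hlc v hv w hw)
    · intro u hu
      obtain ⟨v, hv, rfl⟩ := List.mem_map.1 hu
      exact hsq v (hl v hv)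
  -- an odd relation
  have hc1 : c = 1 := by
    have hc2 : c * c = 1 := hξ.sq c (by rw [hc, map_mul, hL, mul_self hT hd])
    obtain ⟨a, ha⟩ := hF.data.nice.rich d hd
    obtain ⟨b, hb⟩ := (hF.data.layerNice d hd).rich a ha
    obtain ⟨x, hx, hxa, hxb, hxl⟩ := (hF.planes d hd).ext a ha b hb
    obtain ⟨p, q, r, -, -, -, hfac⟩ := frame_shift hD h22 hd ha hb hx hxa hxb hxl
    obtain ⟨k1, k2⟩ := hlist [a, b, x, d] (by simp [ha.1, hb.1.1, hx.1, hd]) (by
      have e1 : Commute a b := hb.2.2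
      have e2 : Commute a d := ha.2.2.symm
      have e3 : Commute b d := hb.1.2.2.symm
      have e4 : Commute x d := hx.2.2.symm
      simp [e1, e1.symm, e2, e2.symm, e3, e3.symm, e4, e4.symm, hxa, hxa.symm, hxb, hxb.symm])
    obtain ⟨-, hlen, hmem, hco, hprod⟩ := hfac
    obtain ⟨k3, k4⟩ := hlist [p, q, r] hmem hco
    have h := Lift.sq_congr hξ (k1.trans (show [a, b, x, d].prod = [p, q, r].prod by
      rw [hprod]; simp [mul_assoc]) |>.trans k3.symm)
    rw [k2, k4] at h
    simp only [List.length_cons, List.length_nil] at h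
    rw [show (0 + 1 + 1 + 1 + 1 : ℕ) = 2 * 2 from rfl, pow_mul, sq c, hc2, one_pow,
      show (0 + 1 + 1 + 1 : ℕ) = 2 + 1 from rfl, pow_succ, sq, hc2, one_mul] at h
    exact h.symm
  by_cases h1 : q = 1
  · exact ⟨1, one_mul _, by rw [map_one, h1]⟩
  obtain ⟨n, -, -, l, -, -, hmem, hco, hprod⟩ := involution_M22 hD h22 hq h1
  obtain ⟨k1, k2⟩ := hlist l hmem hco
  exact ⟨_, by rw [k2, hc1, one_pow], k1.trans hprod⟩

end Cfsg.Agent.ThreeTrans
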