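import Cfsg.Agent.ThreeTrans.UnitaryClass

/-!
# The centraliser of a transvection in PSU(6, 2) is generated by the transvections commuting with it
-/

set_option autoImplicit false

open Cfsg Cfsg.Agent.Classical Cfsg.Agent.Classical.Herm Module

namespace Cfsg.Agent.ThreeTrans.UModel

variable {F V : Type*} [Field F] [AddCommGroup V] [Module F V] {θ : F →+* F}
  {B : V →ₛₗ[θ] V →ₗ[F] F} (hB : Space B)

include hB

/-- The group generated by the transvections perpendicular to `e`. -/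
def perpGroup (e : V) : Subgroup (suG B) :=
  Subgroup.closure {g | ∃ u : Pt B, B e u.1 = 0 ∧ g = tr hB u}

theorem perpGroup_fix {e : V} {g : suG B} (hg : g ∈ perpGroup hB e) : g.1 e = e := by
  induction hg using Subgroup.closure_induction with
  | mem g h => obtain ⟨u, hu, rfl⟩ := h; simp [tr_apply, (symm_zero hB).1 hu]
  | one => rfl
  | mul a b _ _ ha hb => show a.1 (b.1 e) = e; rw [hb, ha]
  | inv a _ ha => show a.1⁻¹ e = e; conv_lhs => rw [← ha]
                  exact Herm.inv_apply_self' _ _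

variable {e : Pt B} {f f' : V}

/-- One step between partners of `e`. -/
theorem step_one (hf : B f f = 0) (hef : B e.1 f = 1) (hf' : B f' f' = 0) (hef' : B e.1 f' = 1)
    (hc : θ (B f f') = B f f') : ∃ g ∈ perpGroup hB e.1, g.1 f = f' := by
  have hfe := symm_one hB hef
  have hfe' := symm_one hB hef'
  set c := B f f' with hcdef
  have hcf : B f' f = c := by rw [← hc, hcdef, hB.herm.symm]
  have hemem : tr hB e ∈ perpGroup hB e.1 := Subgroup.subset_closure ⟨e, e.2.2, rfl⟩
  set u := f' - f - (c + 1) • e.1 with hu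
  have heu : B e.1 u = 0 := by simp [hu, hef, hef', e.2.2]
  have huu : B u u = 0 := by
    simp [hu, hf, hf', e.2.2, hef, hef', hfe, hfe', hcf, ← hcdef, hc]
    linear_combination -(add_self' hB c)
  have huf : B u f = 1 := by
    simp [hu, hf, hef, hcf, hc]
    linear_combination -(two hB)
  have hu0 : u ≠ 0 := fun h => by rw [h] at huf; simp at huf
  have hstep : (tr hB ⟨u, hu0, huu⟩).1 f = f' - (c + 1) • e.1 := by
    rw [tr_apply]
    show f + B u f • u = _
    rw [huf, one_smul, hu]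
    abel
  have hmem : tr hB ⟨u, hu0, huu⟩ ∈ perpGroup hB e.1 := Subgroup.subset_closure ⟨_, heu, rfl⟩
  rcases hB.fixed c hc with h0 | h1
  · refine ⟨tr hB e * tr hB ⟨u, hu0, huu⟩, mul_mem hemem hmem, ?_⟩
    show (tr hB e).1 ((tr hB ⟨u, hu0, huu⟩).1 f) = f'
    rw [hstep, tr_apply, h0]
    simp [hef', e.2.2]
  · exact ⟨_, hmem, by rw [hstep, h1, two hB, zero_smul, sub_zero]⟩

/-- The transvections perpendicular to `e` are transitive on the partners of `e`. -/
theorem perp_trans (hf : B f f = 0) (hef : B e.1 f = 1) (hf' : B f' f' = 0) (hef' : B e.1 f' = 1) :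
    ∃ g ∈ perpGroup hB e.1, g.1 f = f' := by
  by_cases hc : θ (B f f') = B f f'
  · exact step_one hB hf hef hf' hef' hc
  set c := B f f' with hcdef
  set w := f' - f - c • e.1 with hw
  have hfe := symm_one hB hef
  have hfe' := symm_one hB hef'
  have hcf : B f' f = θ c := by rw [hcdef, hB.herm.symm]
  have hw1 : B e.1 w = 0 := by simp [hw, hef, hef', e.2.2]
  have hw2 : B f w = 0 := by simp [hw, hf, hfe, ← hcdef]
  have hw0 : w ≠ 0 := fun h => hc (by
    have h1 := congrArg (fun x => B x f') h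
    simp [hw, hf', hef', ← hcdef, hcf] at h1
    linear_combination h1 + add_self' hB (θ c))
  obtain ⟨p, hpp, hep, hfp, hpw⟩ := exists_pair_nonorth hB e.2.2 hf hef hw1 hw2 hw0
  obtain ⟨k, hk⟩ : ∃ k : F, θ k * B p f' = c := by
    have hpf : B p f' = B p w := by
      simp [hw, (symm_zero hB).1 hep, (symm_zero hB).1 hfp]
    exact ⟨θ (c * (B p w)⁻¹), by rw [hpf, hB.herm.invol, mul_assoc, inv_mul_cancel₀ hpw, mul_one]⟩
  set f₁ := f + k • p with hf1
  have h11 : B f₁ f₁ = 0 := by simp [hf1, hf, hpp, hfp, (symm_zero hB).1 hfp]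
  have he1 : B e.1 f₁ = 1 := by simp [hf1, hef, hep]
  have h01 : B f f₁ = 0 := by simp [hf1, hf, hfp]
  have h12 : B f₁ f' = 0 := by
    simp [hf1, ← hcdef, hk]
    exact add_self' hB c
  obtain ⟨g₁, hg₁, hg₁'⟩ := step_one hB hf hef h11 he1 (by rw [h01, map_zero])
  obtain ⟨g₂, hg₂, hg₂'⟩ := step_one hB h11 he1 hf' hef' (by rw [h12, map_zero])
  exact ⟨g₂ * g₁, mul_mem hg₂ hg₁, by show g₂.1 (g₁.1 f) = f'; rw [hg₁', hg₂']⟩

/-- An element fixing a vector is a product of transvections perpendicular to it. -/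
theorem mem_perpGroup {g : suG B} (hg : g.1 e.1 = e.1) : g ∈ perpGroup hB e.1 := by
  have := hB.fin; have := hB.finF
  obtain ⟨f, hff, hef⟩ := Herm.exists_hyp_partner hB.herm e.2.1 e.2.2
  obtain ⟨t, ht, htf⟩ := perp_trans hB hff hef (f' := g.1 f) (by rw [g.2.1, hff]) (by
    conv_lhs => arg 1; rw [← hg]
    rw [g.2.1, hef])
  suffices h : t⁻¹ * g ∈ perpGroup hB e.1 by simpa using mul_mem ht h
  set h := t⁻¹ * g
  have hfe : h.1 e.1 = e.1 := by
    show t.1⁻¹ (g.1 e.1) = e.1
    rw [hg]; exact perpGroup_fix hB (inv_mem ht)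
  have hhf : h.1 f = f := by
    show t.1⁻¹ (g.1 f) = f
    rw [← htf]; exact Herm.inv_apply_self' _ _
  obtain ⟨w, hw⟩ : ∃ w : F, θ w ≠ w := by
    by_contra hcon
    push Not at hcon
    obtain ⟨c, hc⟩ := Herm.exists_trace hB.herm.toIsInvol (a := (1 : F)) (map_one θ)
    rw [hcon, add_self' hB] at hc
    exact zero_ne_one hc
  have hsum : w + θ w = 1 := by
    rcases hB.fixed (w + θ w) (by rw [map_add, hB.herm.invol, add_comm]) with h | h
    · exact absurd (eq_of_add hB _ _ h).symm hw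
    · exact h
  have hfe' := symm_one hB hef
  let a : Fin 2 → V := ![e.1 + w • f, e.1 + θ w • f]
  have ha : Herm.IsON B a := by
    intro i j
    fin_cases i <;> fin_cases j <;>
      simp [a, e.2.2, hff, hef, hfe', hB.herm.invol, add_self' hB] <;> linear_combination hsum
  have hgen := Herm.gen hB.herm 4 (by norm_num) (Or.inr (by norm_num)) 2 a ha (by rw [hB.rank]) h.1 h.2
    (fun i => by fin_cases i <;> simp [a, hfe, hhf])
  have hle : TUon B (perpOf B a) ≤ (perpGroup hB e.1).map (Subgroup.subtype _) := by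
    refine (Subgroup.closure_le _).2 ?_
    rintro t' ⟨v, hv, c, hvv, hc, ht'⟩
    by_cases hv0 : v = 0 ∨ c = 0
    · refine ⟨1, one_mem _, LinearEquiv.ext fun x => ?_⟩
      rw [ht' x]
      rcases hv0 with h | h <;> simp [h]
    push Not at hv0
    have hc1 : c = 1 := (hB.fixed c (eq_of_add hB _ _ hc).symm).resolve_left hv0.2
    have hev : B e.1 v = 0 := by
      have h0 := mem_perpOf.1 hv 0
      have h1 := mem_perpOf.1 hv 1
      simp [a, hB.herm.invol] at h0 h1
      have h2 : (w + θ w) * B f v = 0 := by linear_combination h0 + h1 - add_self' hB (B e.1 v)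
      rw [hsum, one_mul] at h2
      simpa [h2] using h0
    refine ⟨tr hB ⟨v, hv0.1, hvv⟩, Subgroup.subset_closure ⟨_, hev, rfl⟩, LinearEquiv.ext fun x => ?_⟩
    rw [ht' x, show c * B v x = B v x by rw [hc1, one_mul]]
    exact tr_apply hB _ x
  obtain ⟨h', hh', hhh⟩ := hle hgen
  exact (Subtype.ext hhh : h' = h) ▸ hh'

/-- An element commuting with the image of a transvection lifts to one fixing the vector. -/
theorem exists_fix_lift {X : Type*} [Group X] (π : suG B →* X)
    (hsurj : Function.Surjective π) (hker : ∀ z ∈ Subgroup.center (suG B), π z = 1)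
    (hpeq : ∀ v w : Pt B, π (tr hB v) = π (tr hB w) → tr hB v = tr hB w) (v : Pt B) {x : X}
    (hx : Commute x (π (tr hB v))) : ∃ s : suG B, s.1 v.1 = v.1 ∧ π s = x := by
  have := hB.fin; have := hB.finF
  obtain ⟨g, rfl⟩ := hsurj x
  obtain ⟨u, hu⟩ := exists_image hB g v
  have h1 : π (tr hB u) = π (tr hB v) := by
    rw [← tr_conj hB g hu, map_mul, map_mul, map_inv, hx.eq, mul_inv_cancel_right]
  obtain ⟨k, hk⟩ := (tr_eq_iff hB v u).1 (hpeq v u h1.symm)
  have hk0 : k ≠ 0 := fun h => u.2.1 (by rw [hk, h, zero_smul])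
  -- a scalar making the vector fixed
  have hk1 : k⁻¹ * θ k⁻¹ = 1 := norm_one hB (inv_ne_zero hk0)
  have hk3 : k⁻¹ ^ 3 = 1 := by
    have h := hk1
    rcases hB.fixed (k⁻¹ + θ k⁻¹) (by rw [map_add, hB.herm.invol, add_comm]) with h2 | h2
    · rw [← eq_of_add hB _ _ h2] at h
      have h3 : (k⁻¹ + 1) * (k⁻¹ + 1) = 0 := by linear_combination h + (k⁻¹ + 1) * two hB
      have h4 : k⁻¹ = 1 := eq_of_add hB _ _ (mul_self_eq_zero.1 h3)
      rw [h4, one_pow]
    · linear_combination (k⁻¹ + 1) * k⁻¹ * h2 - (k⁻¹ + 1) * h - two hB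
  let s₀ : V ≃ₗ[F] V := LinearEquiv.smulOfUnit (Units.mk0 k⁻¹ (inv_ne_zero hk0))
  have hs0 : ∀ y, s₀ y = k⁻¹ • y := fun y => rfl
  have hs : s₀ ∈ suG B := by
    refine ⟨fun a b => ?_, ?_⟩
    swap
    · refine Units.ext ?_
      rw [LinearEquiv.coe_det, show (s₀ : V →ₗ[F] V) = k⁻¹ • LinearMap.id from LinearMap.ext hs0,
        LinearMap.det_smul, LinearMap.det_id, mul_one, hB.rank, Units.val_one,
        show (6 : ℕ) = 3 * 2 from rfl, pow_mul, hk3, one_pow]
    simp only [hs0, map_smulₛₗ, LinearMap.smul_apply, smul_eq_mul, RingHom.id_apply]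
    linear_combination B a b * hk1
  set s : suG B := ⟨s₀, hs⟩
  have hsc : s ∈ Subgroup.center (suG B) := scalar_mem_center (a := k⁻¹) (g := s) hB.herm hs0
  have hfix : (s * g).1 v.1 = v.1 := by
    show s₀ (g.1 v.1) = v.1
    rw [hs0, ← hu, hk, inv_smul_smul₀ hk0]
  exact ⟨s * g, hfix, by rw [map_mul, hker s hsc, one_mul]⟩

/-- The centraliser of a member is generated by the members commuting with it. -/
theorem mem_closure_of_commute {X : Type*} [Group X] {E : Set X} (π : suG B →* X)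
    (hsurj : Function.Surjective π) (hker : ∀ z ∈ Subgroup.center (suG B), π z = 1)
    (hpeq : ∀ v w : Pt B, π (tr hB v) = π (tr hB w) → tr hB v = tr hB w)
    (hM : Model B E (fun v => π (tr hB v))) {p x : X} (hp : p ∈ E) (hx : Commute x p) :
    x ∈ Subgroup.closure {q | q ∈ E ∧ Commute p q} := by
  obtain ⟨v, rfl⟩ := exists_tp hM hp
  obtain ⟨g, hfix, rfl⟩ := exists_fix_lift hB π hsurj hker hpeq v hx
  have hmem := mem_perpGroup hB hfix
  suffices (perpGroup hB v.1).map π ≤ _ from this ⟨_, hmem, rfl⟩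
  rw [perpGroup, MonoidHom.map_closure, Subgroup.closure_le]
  rintro - ⟨-, ⟨w, hw, rfl⟩, rfl⟩
  exact Subgroup.subset_closure ⟨tp_mem hM w, (hM.comm_iff v w).2 hw⟩

end Cfsg.Agent.ThreeTrans.UModel
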