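import Cfsg.Agent.ThreeTrans.PlaneIso
import Cfsg.Agent.ThreeTrans.UnitaryStab
import Cfsg.Agent.ThreeTrans.UnitaryCentral

/-!
# The centraliser of a member in type M(22)

`mem_memGroup_of_commute`: the centraliser of a member is generated by the members commuting with it.
-/

set_option autoImplicit false

open Cfsg

namespace Cfsg.Agent.ThreeTrans

variable {G K : Type*} [Group G] [Group K] {S : Set G} {T : Set K} {D : Set G}

/-- The group generated by the members commuting with `u`. -/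
def memGroup (D : Set G) (u : G) : Subgroup G := Subgroup.closure {e | e ∈ D ∧ Commute u e}

theorem SetIso.links {φ : G → K} (h : SetIso S T φ) (hS : ClosedSet S) (hT : Links T) : Links S := by
  have hm : ∀ {x}, x ∈ S → φ x ∈ T := fun hx => h.bij.mapsTo hx
  have hc : ∀ {x y}, x ∈ S → y ∈ S → Commute x y → Commute (φ x) (φ y) := fun hx hy hxy =>
    (h.comm _ hx _ hy).2 hxy
  have hn : ∀ {x y}, x ∈ S → y ∈ S → ¬ Commute x y → ¬ Commute (φ x) (φ y) := fun hx hy hxy hh =>
    hxy ((h.comm _ hx _ hy).1 hh)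
  have hr : ∀ {x y}, x ∈ S → y ∈ S → Commute (φ x) (φ y) → Commute x y := fun hx hy hh =>
    (h.comm _ hx _ hy).1 hh
  refine ⟨?_, ?_, ?_, ?_, ?_⟩
  · intro p hp q hq r hr' hpq hall
    have := hT.hyp _ (hm hp) _ (hm hq) _ (hm hr') (hn hp hq hpq) fun k hk h1 h2 => by
      obtain ⟨y, hy, rfl⟩ := h.bij.surjOn hk
      exact hc hy hr' (hall y hy (hr hy hp h1) (hr hy hq h2))
    rw [← h.conj p hp q hq] at this
    rcases this with e | e | e
    · exact Or.inl (h.bij.injOn hr' hp e)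
    · exact Or.inr (Or.inl (h.bij.injOn hr' hq e))
    · exact Or.inr (Or.inr (h.bij.injOn hr' (hS.conj p hp q hq) e))
  · intro p hp q hq hpq
    obtain ⟨a', b', c', ha', hb', hc', ⟨a1, a2⟩, ⟨b1, b2⟩, ⟨c1, c2⟩, h1, h2, h3, h4⟩ :=
      hT.tri _ (hm hp) _ (hm hq) (hn hp hq hpq)
    obtain ⟨a, ha, rfl⟩ := h.bij.surjOn ha'
    obtain ⟨b, hb, rfl⟩ := h.bij.surjOn hb'
    obtain ⟨c, hcS, rfl⟩ := h.bij.surjOn hc'
    refine ⟨a, b, c, ha, hb, hcS, ⟨hr ha hp a1, hr ha hq a2⟩, ⟨hr hb hp b1, hr hb hq b2⟩,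
      ⟨hr hcS hp c1, hr hcS hq c2⟩, fun e => h1 (hc ha hb e), fun e => h2 (hc ha hcS e),
      fun e => h3 (hc hb hcS e), fun e => h4 ?_⟩
    rw [← h.conj a ha b hb]
    exact hc hcS (hS.conj a ha b hb) e
  · intro x hx a ha b hb c hcS h1 h2 h3 h4
    have hab := hS.conj a ha b hb
    have hac := hS.conj a ha c hcS
    have hbc := hS.conj b hb c hcS
    obtain ⟨m, hmem, hxm⟩ := hT.nine _ (hm hx) _ (hm ha) _ (hm hb) _ (hm hcS) (hn ha hb h1)
      (hn ha hcS h2) (hn hb hcS h3) (by rw [← h.conj a ha b hb]; exact hn hcS hab h4)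
    rw [← h.conj a ha b hb, ← h.conj a ha c hcS, ← h.conj b hb c hcS, ← h.conj c hcS _ hab,
      ← h.conj a ha _ hbc, ← h.conj b hb _ hac] at hmem
    have hsub : ∀ y ∈ [a, b, c, a * b * a, a * c * a, b * c * b, c * (a * b * a) * c,
        a * (b * c * b) * a, b * (a * c * a) * b], y ∈ S := by
      intro y hy
      simp only [List.mem_cons, List.not_mem_nil, or_false] at hy
      rcases hy with rfl | rfl | rfl | rfl | rfl | rfl | rfl | rfl | rfl
      exacts [ha, hb, hcS, hab, hac, hbc, hS.conj c hcS _ hab, hS.conj a ha _ hbc, hS.conj b hb _ hac]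
    have : m ∈ List.map φ [a, b, c, a * b * a, a * c * a, b * c * b, c * (a * b * a) * c,
        a * (b * c * b) * a, b * (a * c * a) * b] := by simpa using hmem
    obtain ⟨y, hy, rfl⟩ := List.mem_map.1 this
    exact ⟨y, hy, hr hx (hsub y hy) hxm⟩
  · intro p hp q hq r hr' hqr
    obtain ⟨k, hk, h1, h2, h3⟩ := hT.mover _ (hm hp) _ ((h.restrict hp).bij.mapsTo hq) _
      ((h.restrict hp).bij.mapsTo hr') (hc hq.1 hr'.1 hqr)
    obtain ⟨z, hz, rfl⟩ := h.bij.surjOn hk
    exact ⟨z, hz, hr hz hp h1, fun e => h2 (hc hz hq.1 e), fun e => h3 (hc hz hr'.1 e)⟩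
  · intro p hp a ha b hb
    obtain ⟨k, hk, h1, h2⟩ := hT.join _ (hm hp) _ (hm ha) _ (hm hb)
    obtain ⟨c, hcS, rfl⟩ := (h.restrict hp).bij.surjOn hk
    exact ⟨c, hcS, hr hcS.1 ha h1, hr hcS.1 hb h2⟩

theorem memGroup_conj (hc : ∀ g : G, ∀ x ∈ D, g * x * g⁻¹ ∈ D) {g u k : G} (hk : k ∈ memGroup D u) :
    g * k * g⁻¹ ∈ memGroup D (g * u * g⁻¹) := by
  suffices (memGroup D u).map (MulAut.conj g).toMonoidHom ≤ memGroup D (g * u * g⁻¹) from
    this ⟨k, hk, rfl⟩
  rw [memGroup, MonoidHom.map_closure, Subgroup.closure_le]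
  rintro - ⟨e, ⟨he, hue⟩, rfl⟩
  exact Subgroup.subset_closure ⟨hc g e he, (commute_conj g u e).2 hue⟩

/-- The common partners of two members that do not commute determine their line. -/
def Hyp (S : Set G) : Prop :=
  ∀ p ∈ S, ∀ q ∈ S, ∀ r ∈ S, ¬ Commute p q →
    (∀ y ∈ S, Commute y p → Commute y q → Commute y r) → r = p ∨ r = q ∨ r = p * q * p

/-- Only the member centralises a member and its partners. -/
theorem eq_one_or_eq_of_centralises' (hD : IsThreeTranspositionGroup D)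
    (hZ : Subgroup.center G = ⊥) (hN : Nice D) (hTr : Trace D)
    (hL : ∀ t ∈ D, Hyp (dperp D t)) {a c : G} (ha : a ∈ D) (hca : Commute c a)
    (hcd : ∀ x ∈ dperp D a, Commute c x) : c = 1 ∨ c = a := by
  have hfix : ∀ {x : G}, Commute c x → c * x * c⁻¹ = x := fun {x} hx => by
    rw [hx.eq, mul_inv_cancel_right]
  suffices hcc : c * c = 1 from eq_one_or_eq_of_nice hD hZ hN hTr ha hcc hca hcd
  have key : ∀ f ∈ D, Commute (c * c) f := by
    intro f hf
    by_cases haf : Commute a f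
    · rcases eq_or_ne f a with rfl | hne
      · exact hca.mul_left hca
      · exact (hcd f ⟨hf, hne, haf⟩).mul_left (hcd f ⟨hf, hne, haf⟩)
    obtain ⟨b, hb, hbf⟩ := hN.diam a ha f hf haf
    set g := c * f * c⁻¹ with hg
    have hgD : g ∈ D := hD.2.1 c f hf
    have hga : ¬ Commute a g := fun h => haf (by
      have := (commute_conj c a f).1 (by rwa [hfix hca])
      exact this)
    have hgb : Commute b g := by
      have := (commute_conj c b f).2 hbf
      rwa [hfix (hcd b hb)] at this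
    have haS : a ∈ dperp D b := dperp_symm ha hb
    have hfS : f ∈ dperp D b := ⟨hf, fun h => haf (h ▸ hb.2.2), hbf⟩
    have hgS : g ∈ dperp D b := ⟨hgD, fun h => hga (h ▸ hb.2.2), hgb⟩
    have hg3 : g = f ∨ g = a * f * a := by
      refine (hL b hb.1 a haS f hfS g hgS haf fun y hy hya hyf => ?_).resolve_left fun h =>
        hga (h ▸ Commute.refl a)
      have hyA : y ∈ dperp D a := ⟨hy.1, fun h => haf (h ▸ hyf), hya.symm⟩
      have := (commute_conj c y f).2 hyf
      rwa [hfix (hcd y hyA)] at this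
    have hcc : c * g * c⁻¹ = f := by
      rcases hg3 with h | h
      · rw [h, ← hg, h]
      · have e : c * (a * f * a) * c⁻¹ = a * g * a := by
          calc c * (a * f * a) * c⁻¹ = (c * a * c⁻¹) * (c * f * c⁻¹) * (c * a * c⁻¹) := by group
            _ = a * g * a := by rw [hfix hca, hg]
        rw [h, e, h]
        exact conj_twice (mul_self hD.1 ha)
    show c * c * f = f * (c * c)
    calc c * c * f = c * g * c⁻¹ * (c * c) := by rw [hg]; group
      _ = f * (c * c) := by rw [hcc]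
  have := mem_center_of_commute hD.2.2 key
  rwa [hZ, Subgroup.mem_bot] at this

/-- Only the member centralises a member and its partners, in type M(22). -/
theorem eq_one_or_eq_of_centralises (hD : IsThreeTranspositionGroup D) (hZ : Subgroup.center G = ⊥)
    (hM : M22Data D) (hL : ∀ t ∈ D, Links (dperp D t)) {a c : G} (ha : a ∈ D) (hca : Commute c a)
    (hcd : ∀ x ∈ dperp D a, Commute c x) : c = 1 ∨ c = a :=
  eq_one_or_eq_of_centralises' hD hZ hM.nice hM.trace (fun t ht => (hL t ht).hyp) ha hca hcd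

/-- What is used about a set of type M(22) to compute centralisers. -/
structure M22Full (D : Set G) : Prop where
  data : M22Data D
  planes : ∀ t ∈ D, Planes (dperp D t)
  links : ∀ t ∈ D, Links (dperp D t)
  loc : ∀ a ∈ D, ∀ u ∈ dperp D a, ∀ k ∈ Subgroup.closure (dperp D a), Commute k u → k ∈ memGroup D u

theorem m22Full_diff {X : Type*} [Group X] [Finite X] {D₀ : Set X}
    (hD : IsThreeTranspositionGroup (D₀ \ {1})) (h : IsOfTypeM22 X D₀)
    (hZ : Subgroup.center X = ⊥) : M22Full (D₀ \ {1}) := by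
  have hdata := m22Data_diff hD h
  have hplanes := planes_layer hD h
  obtain ⟨⟨hcls, -, hN⟩, -, -⟩ := layerData_of_M22 hD h
  obtain ⟨-, d, hd0, c, -, hdc, ⟨F, hFld, hFt, hF, ⟨e⟩⟩, -, -, -⟩ := h
  have hd : d ∈ D₀ \ {1} := ⟨hd0, fun hh => hdc (by rw [hh]; exact Commute.one_left c)⟩
  set H := Subgroup.closure {y : X | y ∈ D₀ ∧ y ≠ d ∧ Commute d y}
  have hH : H = Subgroup.closure (dperp (D₀ \ {1}) d) := closure_congr_one (dperp_diff_iff d)
  have hcard : 2 ^ 15 ∣ Nat.card (H ⧸ Subgroup.center H) := by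
    rw [Nat.card_congr e.toEquiv]
    exact two_pow_dvd_psu hF
  have : IsSimpleGroup (H ⧸ Subgroup.center H) :=
    (MulEquiv.isSimpleGroup_congr e).2 (Cfsg.Agent.S0283.result
      (by rw [hF]; norm_num : Fintype.card F = 2 ^ 2) 6 (by norm_num) (by norm_num))
  have hgrp := lowImage_group hD hH
  have hG := good_of_simple (not_isMulCommutative_of_two_pow_dvd hgrp hcard) hgrp
  obtain ⟨q, hq, -⟩ := hG.2.1
  obtain ⟨θ, hB, π, hsurj, hker, hpeq, hM⟩ := psu_hom hF e hgrp ⟨q, hq⟩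
  have hS := closedSet_of_group hD
  set D := D₀ \ {1} with hDdef
  have hlinks : ∀ t ∈ D, Links (dperp D t) := fun t ht => by
    obtain ⟨φ, hφ⟩ := exists_layer_iso hD hd hH hcls hG hN ht
    exact hφ.links (hS.dperp t) (UModel.links hB hM (by rw [Nat.card_eq_fintype_card, hF]))
  -- the base layer
  have hbase : ∀ u ∈ dperp D d, ∀ k ∈ H, Commute k u → k ∈ memGroup D u := by
    intro u hu k hk hku
    set uH : H := ⟨u, mem_H hH hu⟩
    set kH : H := ⟨k, hk⟩
    have hne := mk_ne_one hD hd hH hcls hG hN (u := uH) hu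
    have hmem := UModel.mem_closure_of_commute hB π hsurj hker hpeq hM
      (p := (uH : H ⧸ Subgroup.center H)) (x := (kH : H ⧸ Subgroup.center H)) ⟨⟨uH, hu, rfl⟩, hne⟩
      ((show Commute kH uH from Subtype.ext hku.eq).map (QuotientGroup.mk' _))
    set A : Subgroup H := Subgroup.closure {x : H | (x : X) ∈ dperp D d ∧ Commute u (x : X)}
    have hle : Subgroup.closure {q : H ⧸ Subgroup.center H | q ∈ lowImage H (dperp D d) \ {1} ∧
        Commute (uH : H ⧸ Subgroup.center H) q} ≤ A.map (QuotientGroup.mk' _) := by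
      refine (Subgroup.closure_le _).2 ?_
      rintro - ⟨⟨⟨x, hx, rfl⟩, -⟩, hux⟩
      exact ⟨x, Subgroup.subset_closure ⟨hx, reflect hD hH (u := uH) hu hx hux⟩, rfl⟩
    obtain ⟨y, hy, hyk⟩ := hle hmem
    have hz : y⁻¹ * kH ∈ Subgroup.center H := QuotientGroup.eq.1 hyk
    have hA : A.map H.subtype ≤ memGroup D u := by
      rw [MonoidHom.map_closure, Subgroup.closure_le]
      rintro - ⟨x, ⟨hx, hux⟩, rfl⟩
      exact Subgroup.subset_closure ⟨hx.1, hux⟩
    have hz' : (↑(y⁻¹ * kH) : X) ∈ memGroup D u := by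
      rcases eq_one_or_eq_of_centralises hD hZ hdata hlinks hd
        (commute_of_mem_H hH (y⁻¹ * kH).2).symm (fun x hx =>
          (congrArg Subtype.val (Subgroup.mem_center_iff.1 hz ⟨x, mem_H hH hx⟩)).symm) with h | h
      · rw [h]; exact one_mem _
      · rw [h]; exact Subgroup.subset_closure ⟨hd, hu.2.2.symm⟩
    have := mul_mem (hA ⟨y, hy, rfl⟩) hz'
    simpa [kH] using this
  refine ⟨hdata, hplanes, hlinks, fun a ha u hu k hk hku => ?_⟩
  obtain ⟨g, hg⟩ := class_isConj hcls ha hd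
  have hk' : g * k * g⁻¹ ∈ H := by
    rw [hH]
    suffices (Subgroup.closure (dperp D a)).map (MulAut.conj g).toMonoidHom ≤
        Subgroup.closure (dperp D d) from this ⟨k, hk, rfl⟩
    rw [MonoidHom.map_closure, Subgroup.closure_le]
    rintro - ⟨x, hx, rfl⟩
    exact Subgroup.subset_closure (hg ▸ dperp_conj hD.2.1 g hx)
  have := hbase (g * u * g⁻¹) (hg ▸ dperp_conj hD.2.1 g hu) _ hk' ((commute_conj g k u).2 hku)
  have h2 := memGroup_conj hD.2.1 (g := g⁻¹) this
  simpa [mul_assoc] using h2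

theorem m22Full [Finite G] (hD : IsThreeTranspositionGroup D) (h : IsOfTypeM22 G D) : M22Full D := by
  have e : D \ {1} = D := Set.sdiff_singleton_eq_self fun h1 => ne_one hD.1 h1 rfl
  have := m22Full_diff (D₀ := D) (by rwa [e]) h h.1
  rwa [e] at this

/-- Two commuting members and a member moved by both have a common partner. -/
theorem exists_common_third (hD : IsThreeTranspositionGroup D) (hF : M22Full D) {x y z : G} (hx : x ∈ D) (hy : y ∈ D) (hz : z ∈ D) (hxy : Commute x y)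
    (hne : x ≠ y) (hxz : ¬ Commute x z) (hyz : ¬ Commute y z) :
    ∃ a ∈ dperp D x, Commute a y ∧ Commute a z ∧ a ≠ y := by
  obtain ⟨b, hb, hbz⟩ := hF.data.nice.diam y hy z hz hyz
  have hyS : y ∈ dperp D b := dperp_symm hy hb
  have hzS : z ∈ dperp D b := ⟨hz, fun h => hyz (h ▸ hb.2.2), hbz⟩
  obtain ⟨p, q, r, hp, hq, hr, ⟨p1, p2⟩, ⟨q1, q2⟩, ⟨r1, r2⟩, n1, n2, n3, n4⟩ :=
    (hF.links b hb.1).tri y hyS z hzS hyz
  have hT : ∀ {v}, v ∈ dperp D b → Commute v y → Commute v z → v ∈ dperp D y := fun hv h1 h2 =>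
    ⟨hv.1, fun h => hyz (h ▸ h2), h1.symm⟩
  have hxY : x ∈ dperp D y := ⟨hx, hne, hxy.symm⟩
  obtain ⟨m, hm, hxm⟩ := (hF.links y hy).nine x hxY p (hT hp p1 p2) q (hT hq q1 q2) r (hT hr r1 r2)
    n1 n2 n3 n4
  have hS := (closedSet_of_group hD).dperp y
  let P : G → Prop := fun v => v ∈ dperp D y ∧ Commute v z
  have hconj : ∀ {u v}, P u → P v → P (u * v * u) := fun hu hv =>
    ⟨hS.conj _ hu.1 _ hv.1, (hu.2.mul_left hv.2).mul_left hu.2⟩
  have hall : P m := by
    have kp : P p := ⟨hT hp p1 p2, p2⟩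
    have kq : P q := ⟨hT hq q1 q2, q2⟩
    have kr : P r := ⟨hT hr r1 r2, r2⟩
    simp only [List.mem_cons, List.not_mem_nil, or_false] at hm
    rcases hm with rfl | rfl | rfl | rfl | rfl | rfl | rfl | rfl | rfl
    exacts [kp, kq, kr, hconj kp kq, hconj kp kr, hconj kq kr, hconj kr (hconj kp kq),
      hconj kp (hconj kq kr), hconj kq (hconj kp kr)]
  exact ⟨m, ⟨hall.1.1, fun h => hxz (h ▸ hall.2), hxm⟩, hall.1.2.2.symm, hall.2, hall.1.2.1⟩

/-- What is used to show that members commuting with a member generate its centraliser. -/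
structure Transport (D : Set G) : Prop where
  nice : Nice D
  layerNice : ∀ t ∈ D, Nice (dperp D t)
  move : ∀ a ∈ D, ∀ u ∈ dperp D a, ∀ w ∈ dperp (dperp D a) u,
    ∃ z ∈ dperp D a, ¬ Commute z u ∧ ¬ Commute z w
  move2 : ∀ a ∈ D, ∀ a' ∈ dperp D a, ∀ u ∈ dperp (dperp D a) a', ∀ w ∈ dperp (dperp D a) a',
    Commute u w → u ≠ w → ∃ z ∈ dperp D a, Commute z a' ∧ ¬ Commute z u ∧ ¬ Commute z w
  join : ∀ u ∈ D, ∀ w ∈ dperp D u, ∀ a ∈ dperp D u, ∀ a' ∈ dperp D u, Commute a w → Commute a' w →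
    a ≠ w → a' ≠ w → ∃ c ∈ dperp (dperp D u) w, Commute c a ∧ Commute c a'
  third : ∀ x ∈ D, ∀ y ∈ D, ∀ z ∈ D, Commute x y → x ≠ y → ¬ Commute x z → ¬ Commute y z →
    ∃ a ∈ dperp D x, Commute a y ∧ Commute a z ∧ a ≠ y
  loc : ∀ a ∈ D, ∀ u ∈ dperp D a, ∀ k ∈ Subgroup.closure (dperp D a), Commute k u → k ∈ memGroup D u

theorem M22Full.transport (hD : IsThreeTranspositionGroup D) (hF : M22Full D) : Transport D := by
  refine ⟨hF.data.nice, hF.data.layerNice, fun a ha u hu w hw => ?_,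
    fun a ha a' ha' u hu w hw huw _ => (hF.links a ha).mover a' ha' u hu w hw huw,
    fun u hu w hw a ha a' ha' _ _ _ _ => (hF.links u hu).join w hw a ha a' ha',
    fun x hx y hy z hz => exists_common_third hD hF hx hy hz, hF.loc⟩
  obtain ⟨a', ha', hane, hawne⟩ : ∃ a' ∈ ln (dperp D a) u w, a' ≠ u ∧ a' ≠ w := by
    by_contra hcon
    push Not at hcon
    have hsub : ln (dperp D a) u w ⊆ {u, w} := fun v hv => or_iff_not_imp_left.2 (hcon v hv)
    have h5 := (hF.data.layerLines a ha).five u hu w hw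
    have := Set.ncard_le_ncard hsub (Set.toFinite _)
    rw [h5, Set.ncard_pair hw.2.1.symm] at this
    omega
  have hua : Commute u a' := ha'.2 u hu (Commute.refl u) hw.2.2
  have hwa : Commute w a' := ha'.2 w hw.1 hw.2.2.symm (Commute.refl w)
  obtain ⟨z, hz, -, hzu, hzw⟩ := (hF.links a ha).mover a' ha'.1 u ⟨hu, hane.symm, hua.symm⟩ w
    ⟨hw.1, hawne.symm, hwa.symm⟩ hw.2.2
  exact ⟨z, hz, hzu, hzw⟩

section Transport

variable (hD : IsThreeTranspositionGroup D) (hF : Transport D)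

include hD hF

/-- An element of the layer of `a` taking `u` to `w`. -/
theorem Transport.exists_mv {a u w : G} (ha : a ∈ D) (hu : u ∈ dperp D a) (hw : w ∈ dperp D a) :
    ∃ k ∈ Subgroup.closure (dperp D a), k * u * k⁻¹ = w := by
  have hT := hD.1
  rcases eq_or_ne w u with rfl | hne
  · exact ⟨1, one_mem _, by simp⟩
  have hmul : ∀ {p q : G}, p ∈ D → q ∈ D → ¬ Commute p q → p * q * p * (p * q)⁻¹ = q := by
    intro p q hp hq hpq
    rw [mul_inv_rev, inv_eq hT hp, inv_eq hT hq]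
    calc p * q * p * (q * p) = p * (q * p * q) * p := by simp only [mul_assoc]
      _ = q := by
        rw [braid hT hq hp fun h => hpq h.symm]
        simp only [mul_assoc, mul_self_mul hT hp, mul_self hT hp, mul_one]
  by_cases huw : Commute u w
  swap
  · exact ⟨u * w, mul_mem (Subgroup.subset_closure hu) (Subgroup.subset_closure hw),
      hmul hu.1 hw.1 huw⟩
  have hwu : w ∈ dperp (dperp D a) u := ⟨hw, hne, huw⟩
  obtain ⟨z, hz, hzu, hzw⟩ := hF.move a ha u hu w hwu
  refine ⟨z * w * (u * z), mul_mem (mul_mem (Subgroup.subset_closure hz) (Subgroup.subset_closure hw))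
    (mul_mem (Subgroup.subset_closure hu) (Subgroup.subset_closure hz)), ?_⟩
  calc z * w * (u * z) * u * (z * w * (u * z))⁻¹ = z * w * (u * z * u * (u * z)⁻¹) * (z * w)⁻¹ := by
        group
    _ = z * w * z * (z * w)⁻¹ := by rw [hmul hu.1 hz.1 fun h => hzu h.symm]
    _ = w := hmul hz.1 hw.1 hzw

/-- Two elements of layers taking `u` to `w` agree up to the members commuting with `u`. -/
theorem Transport.indep {u w a a' k k' : G} (hu : u ∈ D) (hw : w ∈ D) (ha : a ∈ dperp D u) (ha' : a' ∈ dperp D u)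
    (haw : Commute a w) (haw' : Commute a' w) (hna : a ≠ w) (hna' : a' ≠ w)
    (hk : k ∈ Subgroup.closure (dperp D a)) (hk' : k' ∈ Subgroup.closure (dperp D a'))
    (hkw : k * u * k⁻¹ = w) (hkw' : k' * u * k'⁻¹ = w) : k⁻¹ * k' ∈ memGroup D u := by
  have hT := hD.1
  have fixes : ∀ {k m : G}, k * u * k⁻¹ = w → m * u * m⁻¹ = w → Commute (k⁻¹ * m) u := by
    intro k m h1 h2
    show k⁻¹ * m * u = u * (k⁻¹ * m)
    calc k⁻¹ * m * u = k⁻¹ * (m * u * m⁻¹) * m := by group
      _ = k⁻¹ * (k * u * k⁻¹) * m := by rw [h1, h2]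
      _ = u * (k⁻¹ * m) := by group
  have same : ∀ {a k m : G}, a ∈ dperp D u → k ∈ Subgroup.closure (dperp D a) →
      m ∈ Subgroup.closure (dperp D a) → k * u * k⁻¹ = w → m * u * m⁻¹ = w →
      k⁻¹ * m ∈ memGroup D u := fun ha hk hm h1 h2 =>
    hF.loc _ ha.1 u (dperp_symm hu ha) _ (mul_mem (inv_mem hk) hm) (fixes h1 h2)
  have via : ∀ {a a' k k' m : G}, a ∈ dperp D u → a' ∈ dperp D u →
      k ∈ Subgroup.closure (dperp D a) → k' ∈ Subgroup.closure (dperp D a') →
      m ∈ Subgroup.closure (dperp D a) → m ∈ Subgroup.closure (dperp D a') →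
      k * u * k⁻¹ = w → k' * u * k'⁻¹ = w → m * u * m⁻¹ = w → k⁻¹ * k' ∈ memGroup D u := by
    intro a a' k k' m ha ha' hk hk' hm hm' h1 h2 h3
    simpa [mul_assoc] using mul_mem (same ha hk hm h1 h3) (same ha' hm' hk' h3 h2)
  have mem : ∀ {a x : G}, a ∈ D → x ∈ D → x ≠ a → Commute a x → x ∈ Subgroup.closure (dperp D a) :=
    fun _ hx hne hc => Subgroup.subset_closure ⟨hx, hne, hc⟩
  have uin : ∀ {a : G}, a ∈ dperp D u → u ∈ Subgroup.closure (dperp D a) := fun ha =>
    mem ha.1 hu ha.2.1.symm ha.2.2.symm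
  rcases eq_or_ne w u with rfl | hne
  · refine via ha ha' hk hk' (one_mem _) (one_mem _) hkw hkw' ?_
    simp
  by_cases huw : Commute u w
  swap
  · refine via ha ha' hk hk' (m := u * w) (mul_mem (uin ha) (mem ha.1 hw hna.symm haw))
      (mul_mem (uin ha') (mem ha'.1 hw hna'.symm haw')) hkw hkw' ?_
    rw [mul_inv_rev, inv_eq hT hu, inv_eq hT hw]
    calc u * w * u * (w * u) = u * (w * u * w) * u := by simp only [mul_assoc]
      _ = w := by
        rw [braid hT hw hu fun h => huw h.symm]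
        simp only [mul_assoc, mul_self_mul hT hu, mul_self hT hu, mul_one]
  have step : ∀ {a a' k k' : G}, a ∈ dperp D u → a' ∈ dperp D u → Commute a w → Commute a' w →
      a ≠ w → a' ≠ w → Commute a a' →
      k ∈ Subgroup.closure (dperp D a) → k' ∈ Subgroup.closure (dperp D a') →
      k * u * k⁻¹ = w → k' * u * k'⁻¹ = w → k⁻¹ * k' ∈ memGroup D u := by
    intro a a' k k' ha ha' haw haw' hna hna' haa hk hk' h1 h2
    rcases eq_or_ne a' a with rfl | hane
    · exact same ha hk hk' h1 h2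
    have huS : u ∈ dperp (dperp D a) a' := ⟨dperp_symm hu ha, ha'.2.1.symm, ha'.2.2.symm⟩
    have hwS : w ∈ dperp (dperp D a) a' := ⟨⟨hw, hna.symm, haw⟩, hna'.symm, haw'⟩
    obtain ⟨z, hz, hza', hzu, hzw⟩ :=
      hF.move2 a ha.1 a' ⟨ha'.1, hane, haa⟩ u huS w hwS huw (Ne.symm hne)
    have hz' : z ∈ Subgroup.closure (dperp D a') :=
      mem ha'.1 hz.1 (fun h => hzu (h ▸ ha'.2.2.symm)) hza'.symm
    refine via ha ha' hk hk' (m := z * w * (u * z))
      (mul_mem (mul_mem (Subgroup.subset_closure hz) (mem ha.1 hw hna.symm haw))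
        (mul_mem (uin ha) (Subgroup.subset_closure hz)))
      (mul_mem (mul_mem hz' (mem ha'.1 hw hna'.symm haw')) (mul_mem (uin ha') hz')) h1 h2 ?_
    have hmul : ∀ {p q : G}, p ∈ D → q ∈ D → ¬ Commute p q → p * q * p * (p * q)⁻¹ = q := by
      intro p q hp hq hpq
      rw [mul_inv_rev, inv_eq hT hp, inv_eq hT hq]
      calc p * q * p * (q * p) = p * (q * p * q) * p := by simp only [mul_assoc]
        _ = q := by
          rw [braid hT hq hp fun h => hpq h.symm]
          simp only [mul_assoc, mul_self_mul hT hp, mul_self hT hp, mul_one]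
    calc z * w * (u * z) * u * (z * w * (u * z))⁻¹
        = z * w * (u * z * u * (u * z)⁻¹) * (z * w)⁻¹ := by group
      _ = z * w * z * (z * w)⁻¹ := by rw [hmul hu hz.1 fun h => hzu h.symm]
      _ = w := hmul hz.1 hw hzw
  obtain ⟨c, hc, hca, hca'⟩ := hF.join u hu w ⟨hw, hne, huw⟩ a ha a' ha' haw haw' hna hna'
  obtain ⟨kc, hkc, hkcw⟩ := hF.exists_mv hD hc.1.1 (dperp_symm hu hc.1)
    ⟨hw, hc.2.1.symm, hc.2.2.symm⟩
  simpa [mul_assoc] using mul_mem
    (step ha hc.1 haw hc.2.2.symm hna hc.2.1 hca.symm hk hkc hkw hkcw)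
    (step hc.1 ha' hc.2.2.symm haw' hc.2.1 hna' hca' hkc hk' hkcw hkw')

/-- The inductive step. -/
theorem Transport.good_step {d : G} (hd : d ∈ D) (e : G) (he : e ∈ D) (g : G)
    (ih : ∀ a ∈ dperp D d, Commute a (g * d * g⁻¹) → a ≠ g * d * g⁻¹ →
      ∀ k ∈ Subgroup.closure (dperp D a), k * d * k⁻¹ = g * d * g⁻¹ → k⁻¹ * g ∈ memGroup D d) :
    ∀ a ∈ dperp D d, Commute a (e * g * d * (e * g)⁻¹) → a ≠ e * g * d * (e * g)⁻¹ →
      ∀ k ∈ Subgroup.closure (dperp D a), k * d * k⁻¹ = e * g * d * (e * g)⁻¹ →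
        k⁻¹ * (e * g) ∈ memGroup D d := by
  have hT := hD.1
  have hcl := closedSet_of_group hD
  set x := g * d * g⁻¹ with hxdef
  have hx : x ∈ D := hD.2.1 g d hd
  set w := e * g * d * (e * g)⁻¹ with hwdef
  have hwe : w = e * x * e := by
    rw [hwdef, hxdef, mul_inv_rev, inv_eq hT he]; simp only [mul_assoc]
  have hw : w ∈ D := hwe ▸ hcl.conj e he x hx
  suffices h : ∃ a ∈ dperp D d, Commute a w ∧ a ≠ w ∧ ∃ k ∈ Subgroup.closure (dperp D a),
      k * d * k⁻¹ = w ∧ k⁻¹ * (e * g) ∈ memGroup D d by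
    obtain ⟨a, ha, haw, hna, k, hk, hkw, hkg⟩ := h
    intro a' ha' haw' hna' k' hk' hkw'
    simpa [mul_assoc] using
      mul_mem (hF.indep hD hd hw ha' ha haw' haw hna' hna hk' hk hkw' hkw) hkg
  -- a common partner of `d`, `e` and `x`
  have caseA : ∀ a ∈ dperp D d, Commute a e → Commute a x → a ≠ e → a ≠ x →
      ∃ a ∈ dperp D d, Commute a w ∧ a ≠ w ∧ ∃ k ∈ Subgroup.closure (dperp D a),
        k * d * k⁻¹ = w ∧ k⁻¹ * (e * g) ∈ memGroup D d := by
    intro a ha hae hax hne hnx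
    obtain ⟨k, hk, hkx⟩ := hF.exists_mv hD ha.1 (dperp_symm hd ha) ⟨hx, hnx.symm, hax⟩
    refine ⟨a, ha, hwe ▸ (hae.mul_right hax).mul_right hae, fun h => hnx ?_, e * k,
      mul_mem (Subgroup.subset_closure ⟨he, hne.symm, hae⟩) hk, ?_, ?_⟩
    · rw [hwe] at h
      calc a = e * a * e := (conj_self_of_commute hT he hae.symm).symm
        _ = e * (e * x * e) * e := by rw [← h]
        _ = x := conj_twice (mul_self hT he)
    · rw [mul_inv_rev, inv_eq hT he, hwe, ← hkx]
      simp only [mul_assoc]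
    · have e1 : (e * k)⁻¹ * (e * g) = k⁻¹ * g := by group
      rw [e1]
      exact ih a ha hax hnx k hk hkx
  by_cases hex : Commute e x
  · have hwx : w = x := by rw [hwe]; exact conj_self_of_commute hT he hex
    obtain ⟨a, ha, hax, hna⟩ : ∃ a ∈ dperp D d, Commute a x ∧ a ≠ x := by
      by_cases hdx : Commute d x
      · rcases eq_or_ne x d with hxd | hxd
        · obtain ⟨a, ha⟩ := hF.nice.rich d hd
          exact ⟨a, ha, by rw [hxd]; exact ha.2.2.symm, by rw [hxd]; exact ha.2.1⟩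
        · obtain ⟨a, ha⟩ := (hF.layerNice d hd).rich x ⟨hx, hxd, hdx⟩
          exact ⟨a, ha.1, ha.2.2.symm, ha.2.1⟩
      · obtain ⟨a, ha, hax⟩ := hF.nice.diam d hd x hx hdx
        exact ⟨a, ha, hax, fun h => hdx (h ▸ ha.2.2)⟩
    obtain ⟨k, hk, hkx⟩ := hF.exists_mv hD ha.1 (dperp_symm hd ha) ⟨hx, hna.symm, hax⟩
    refine ⟨a, ha, hwx ▸ hax, hwx ▸ hna, k, hk, hwx ▸ hkx, ?_⟩
    have e1 : k⁻¹ * (e * g) = (k⁻¹ * g) * (g⁻¹ * e * g) := by group
    rw [e1]
    refine mul_mem (ih a ha hax hna k hk hkx) (Subgroup.subset_closure ⟨?_, ?_⟩)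
    · simpa using hD.2.1 g⁻¹ e he
    · refine (commute_conj g d (g⁻¹ * e * g)).1 ?_
      rw [show g * (g⁻¹ * e * g) * g⁻¹ = e by group]
      exact hex.symm
  by_cases hde : Commute d e
  · rcases eq_or_ne e d with hed | hed
    · obtain ⟨a, ha, hax⟩ := hF.nice.diam d hd x hx (hed ▸ hex)
      exact caseA a ha (by rw [hed]; exact ha.2.2.symm) hax (by rw [hed]; exact ha.2.1)
        fun h => hex (by rw [hed, ← h]; exact ha.2.2)
    by_cases hdx : Commute d x
    · have hxd : x ≠ d := fun h => hex (h ▸ hde.symm)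
      obtain ⟨a, ha, hax⟩ := (hF.layerNice d hd).diam e ⟨he, hed, hde⟩ x ⟨hx, hxd, hdx⟩ hex
      exact caseA a ha.1 ha.2.2.symm hax ha.2.1 fun h => hex (h ▸ ha.2.2)
    · obtain ⟨a, ha, hae, hax, hane⟩ := hF.third _ hd _ he _ hx hde (Ne.symm hed) hdx hex
      exact caseA a ha hae hax hane fun h => hdx (h ▸ ha.2.2)
  by_cases hdx : Commute d x
  · rcases eq_or_ne x d with hxd | hxd
    · obtain ⟨a, ha, hae⟩ := hF.nice.diam d hd e he hde
      exact caseA a ha hae (by rw [hxd]; exact ha.2.2.symm) (fun h => hde (h ▸ ha.2.2))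
        (by rw [hxd]; exact ha.2.1)
    · obtain ⟨a, ha, hax, hae, hane⟩ :=
        hF.third _ hd _ hx _ he hdx (Ne.symm hxd) hde fun h => hex h.symm
      exact caseA a ha hae hax (fun h => hde (h ▸ ha.2.2)) hane
  -- `d`, `e`, `x` pairwise non-commuting
  have hwx' : x = e * w * e := by rw [hwe, conj_twice (mul_self hT he)]
  by_cases hdw : Commute d w
  · have hew : ¬ Commute e w := fun h => hex (by
      rw [hwx', conj_self_of_commute hT he h]; exact h)
    obtain ⟨a, ha, haw, hae, hane⟩ : ∃ a ∈ dperp D d, Commute a w ∧ Commute a e ∧ a ≠ w := by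
      rcases eq_or_ne w d with hwd | hwd
      · obtain ⟨a, ha, hae⟩ := hF.nice.diam d hd e he hde
        exact ⟨a, ha, by rw [hwd]; exact ha.2.2.symm, hae, by rw [hwd]; exact ha.2.1⟩
      · exact hF.third _ hd _ hw _ he hdw (Ne.symm hwd) hde fun h => hew h.symm
    exact caseA a ha hae (hwx' ▸ (hae.mul_right haw).mul_right hae) (fun h => hde (h ▸ ha.2.2))
      fun h => hdx (h ▸ ha.2.2)
  obtain ⟨v, hv, hvx⟩ := hF.nice.diam e he x hx hex
  have hnvx : v ≠ x := fun h => hex (h ▸ hv.2.2)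
  by_cases hdv : Commute d v
  · exact caseA v ⟨hv.1, fun h => hde (h ▸ hv.2.2.symm), hdv⟩ hv.2.2.symm hvx hv.2.1 hnvx
  have hvw : Commute v w := hwe ▸ (hv.2.2.symm.mul_right hvx).mul_right hv.2.2.symm
  have hnvw : v ≠ w := fun h => hnvx (by
    rw [hwx', ← h]; exact (conj_self_of_commute hT he hv.2.2).symm)
  -- route through `v`, moved by `d`
  obtain ⟨b, hb, hbx, hbd, hnbx⟩ :=
    hF.third _ hv.1 _ hx _ hd hvx hnvx (fun h => hdv h.symm) fun h => hdx h.symm
  obtain ⟨c, hc, hcw, hcd, hncw⟩ :=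
    hF.third _ hv.1 _ hw _ hd hvw hnvw (fun h => hdv h.symm) fun h => hdw h.symm
  have hbD : b ∈ dperp D d := ⟨hb.1, fun h => hdx (h ▸ hbx), hbd.symm⟩
  have hcD : c ∈ dperp D d := ⟨hc.1, fun h => hdw (h ▸ hcw), hcd.symm⟩
  obtain ⟨kb, hkb, hkbv⟩ := hF.exists_mv hD hb.1 (dperp_symm hd hbD) (dperp_symm hv.1 hb)
  obtain ⟨m, hm, hmx⟩ := hF.exists_mv hD hb.1 (dperp_symm hv.1 hb) ⟨hx, hnbx.symm, hbx⟩
  obtain ⟨kc, hkc, hkcv⟩ := hF.exists_mv hD hc.1 (dperp_symm hd hcD) (dperp_symm hv.1 hc)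
  obtain ⟨m', hm', hmw⟩ := hF.exists_mv hD hc.1 (dperp_symm hv.1 hc) ⟨hw, hncw.symm, hcw⟩
  refine ⟨c, hcD, hcw, hncw, m' * kc, mul_mem hm' hkc, ?_, ?_⟩
  · rw [← hmw, ← hkcv]; group
  have h1 : (m * kb)⁻¹ * g ∈ memGroup D d :=
    ih b hbD hbx hnbx _ (mul_mem hm hkb) (by rw [← hmx, ← hkbv]; group)
  have h2 : kb⁻¹ * e * kb ∈ memGroup D d := by
    refine Subgroup.subset_closure ⟨by simpa using hD.2.1 kb⁻¹ e he, ?_⟩
    refine (commute_conj kb d (kb⁻¹ * e * kb)).1 ?_
    rw [hkbv, show kb * (kb⁻¹ * e * kb) * kb⁻¹ = e by group]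
    exact hv.2.2.symm
  -- the move conjugated by `e`
  have hev : e * v * e = v := conj_self_of_commute hT he hv.2.2
  have hb' : e * b * e ∈ dperp D v := by
    refine ⟨hcl.conj e he b hb.1, fun h => hb.2.1 ?_, ?_⟩
    · calc b = e * (e * b * e) * e := (conj_twice (mul_self hT he)).symm
        _ = v := by rw [h, hev]
    · exact (hv.2.2.symm.mul_right hb.2.2).mul_right hv.2.2.symm
  have hb'w : Commute (e * b * e) w := by
    have := (commute_conj e b x).2 hbx
    rw [inv_eq hT he] at this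
    rwa [hwe]
  have hb'n : e * b * e ≠ w := fun h => hnbx (by
    rw [hwe] at h
    exact mul_left_cancel (mul_right_cancel h))
  have hm'' : e * m * e ∈ Subgroup.closure (dperp D (e * b * e)) := by
    suffices (Subgroup.closure (dperp D b)).map (MulAut.conj e).toMonoidHom ≤
        Subgroup.closure (dperp D (e * b * e)) from by
      have := this ⟨m, hm, rfl⟩
      simpa [inv_eq hT he] using this
    rw [MonoidHom.map_closure, Subgroup.closure_le]
    rintro - ⟨y, hy, rfl⟩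
    refine Subgroup.subset_closure ?_
    have := dperp_conj hD.2.1 e hy
    simpa [inv_eq hT he] using this
  have hm''w : e * m * e * v * (e * m * e)⁻¹ = w := by
    rw [hwe, ← hmx, mul_inv_rev, mul_inv_rev, inv_eq hT he]
    calc e * m * e * v * (e * (m⁻¹ * e)) = e * m * (e * v * e) * (m⁻¹ * e) := by
          simp only [mul_assoc]
      _ = e * (m * v * m⁻¹) * e := by rw [hev]; simp only [mul_assoc]
  have h3 : m'⁻¹ * (e * m * e) ∈ memGroup D v :=
    hF.indep hD hv.1 hw hc hb' hcw hb'w hncw hb'n hm' hm'' hmw hm''w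
  have h4 : kb⁻¹ * (m'⁻¹ * (e * m * e)) * kb ∈ memGroup D d := by
    have := memGroup_conj hD.2.1 (g := kb⁻¹) h3
    rw [inv_inv, ← hkbv, show kb⁻¹ * (kb * d * kb⁻¹) * kb = d by group] at this
    exact this
  have h5 : kc⁻¹ * kb ∈ memGroup D d :=
    hF.indep hD hd hv.1 hcD hbD hc.2.2.symm hb.2.2.symm hc.2.1 hb.2.1 hkc hkb hkcv hkbv
  have key : (m' * kc)⁻¹ * (e * g) = (kc⁻¹ * kb) * (kb⁻¹ * (m'⁻¹ * (e * m * e)) * kb) *
      (kb⁻¹ * e * kb) * ((m * kb)⁻¹ * g) := by
    have he1 : e * e = 1 := mul_self hT he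
    simp only [mul_assoc, mul_inv_rev, mul_inv_cancel_left]
    rw [← mul_assoc e e, he1, one_mul, mul_inv_cancel_left]
  rw [key]
  exact mul_mem (mul_mem (mul_mem h5 h4) h2) h1

/-- The centraliser of a member is generated by the members commuting with it. -/
theorem Transport.mem_memGroup_of_commute {d g : G} (hd : d ∈ D) (hgd : Commute g d) : g ∈ memGroup D d := by
  have hT := hD.1
  have hc := hD.2.1
  let Good : G → Prop := fun g => ∀ a ∈ dperp D d, Commute a (g * d * g⁻¹) → a ≠ g * d * g⁻¹ →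
    ∀ k ∈ Subgroup.closure (dperp D a), k * d * k⁻¹ = g * d * g⁻¹ → k⁻¹ * g ∈ memGroup D d
  suffices hgood : Good g by
    have hx : g * d * g⁻¹ = d := by rw [hgd.eq, mul_inv_cancel_right]
    obtain ⟨a, ha⟩ := hF.nice.rich d hd
    simpa using hgood a ha (by rw [hx]; exact ha.2.2.symm) (by rw [hx]; exact ha.2.1) 1 (one_mem _)
      (by rw [hx]; simp)
  clear hgd
  have hmem : g ∈ Subgroup.closure D := hD.2.2.symm ▸ Subgroup.mem_top g
  induction hmem using Subgroup.closure_induction_left with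
  | one =>
    intro a ha _ _ k hk hkx
    rw [mul_one]
    refine inv_mem (hF.loc a ha.1 d (dperp_symm hd ha) k hk ?_)
    simp only [one_mul, inv_one, mul_one] at hkx
    show k * d = d * k
    conv_rhs => rw [← hkx]
    group
  | inv_mul_cancel e he g _ ih =>
    rw [inv_eq hT he]
    exact hF.good_step hD hd e he g ih
  | mul_left e he g _ ih => exact hF.good_step hD hd e he g ih

end Transport

/-- An element of the layer of `a` taking `u` to `w`. -/
theorem exists_mv (hD : IsThreeTranspositionGroup D) (hF : M22Full D) {a u w : G} (ha : a ∈ D)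
    (hu : u ∈ dperp D a) (hw : w ∈ dperp D a) :
    ∃ k ∈ Subgroup.closure (dperp D a), k * u * k⁻¹ = w :=
  (hF.transport hD).exists_mv hD ha hu hw

/-- The centraliser of a member is generated by the members commuting with it. -/
theorem mem_memGroup_of_commute (hD : IsThreeTranspositionGroup D) (hF : M22Full D) {d g : G}
    (hd : d ∈ D) (hgd : Commute g d) : g ∈ memGroup D d :=
  (hF.transport hD).mem_memGroup_of_commute hD hd hgd

end Cfsg.Agent.ThreeTrans
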