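import Cfsg.Agent.ThreeTrans.WidthOne
import Cfsg.Agent.ThreeTrans.SmallPerm

/-!
# Connectedness of the two graphs on a class of 3-transpositions

The noncommuting graph is connected; so is the commuting graph if the derived group is perfect.
-/

set_option autoImplicit false

open Cfsg

open scoped commutatorElement

namespace Cfsg.Agent.ThreeTrans

variable {G : Type*} [Group G] {D : Set G}

/-- A nonempty set of members closed under noncommuting neighbours is everything. -/
theorem noncommute_closed_eq (hD : IsThreeTranspositionClass D) {S : Set G} (hSD : S ⊆ D)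
    (hne : S.Nonempty) (hcl : ∀ s ∈ S, ∀ e ∈ D, ¬ Commute s e → e ∈ S) : S = D := by
  obtain ⟨s₀, hs₀⟩ := hne
  refine Set.Subset.antisymm hSD fun e he => ?_
  obtain ⟨g, rfl⟩ := class_isConj hD (hSD hs₀) he
  have hg : g ∈ Subgroup.closure D := by rw [hD.2.2]; trivial
  have step : ∀ a ∈ D, ∀ s ∈ S, a * s * a⁻¹ ∈ S := by
    intro a ha s hs
    rw [inv_eq hD.1 ha]
    by_cases hc : Commute a s
    · rwa [conj_self_of_commute hD.1 ha hc]
    · have haS : a ∈ S := hcl s hs a ha fun hh => hc hh.symm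
      exact hcl a haS _ (conj_mem hD.1 (class_conj hD) ha (hSD hs)) (by
        rw [braid hD.1 ha (hSD hs) hc]; exact commute_conj_mem hD.1 ha (hSD hs) hc)
  clear he
  induction hg using Subgroup.closure_induction_left with
  | one => simpa using hs₀
  | mul_left a ha m _ ih =>
    rw [show a * m * s₀ * (a * m)⁻¹ = a * (m * s₀ * m⁻¹) * a⁻¹ by group]
    exact step a ha _ ih
  | inv_mul_cancel a ha m _ ih =>
    rw [inv_eq hD.1 ha, show a * m * s₀ * (a * m)⁻¹ = a * (m * s₀ * m⁻¹) * a⁻¹ by group]
    exact step a ha _ ih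

/-- The connected component in the commuting graph. -/
def commBlock (D : Set G) (d : G) : Set G :=
  {z | Relation.ReflTransGen (fun u v => (u ∈ D ∧ v ∈ D) ∧ Commute u v) d z}

theorem mem_commBlock_self (d : G) : d ∈ commBlock D d := Relation.ReflTransGen.refl

theorem commBlock_eq_of_mem {d z : G} (h : z ∈ commBlock D d) : commBlock D z = commBlock D d := by
  have hs : Relation.ReflTransGen (fun u v => (u ∈ D ∧ v ∈ D) ∧ Commute u v) z d := by
    induction h with
    | refl => exact Relation.ReflTransGen.refl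
    | tail _ h ih => exact ih.head ⟨⟨h.1.2, h.1.1⟩, h.2.symm⟩
  exact Set.ext fun w => ⟨fun hw => h.trans hw, fun hw => hs.trans hw⟩

theorem commBlock_eq_of_commute {d z : G} (hd : d ∈ D) (hz : z ∈ D) (h : Commute d z) :
    commBlock D z = commBlock D d :=
  commBlock_eq_of_mem (Relation.ReflTransGen.single ⟨⟨hd, hz⟩, h⟩)

theorem image_commBlock (hc : ∀ g : G, ∀ d ∈ D, g * d * g⁻¹ ∈ D) (g d : G) :
    (fun x => g * x * g⁻¹) '' commBlock D d = commBlock D (g * d * g⁻¹) := by
  have one : ∀ (g d z : G), z ∈ commBlock D d → g * z * g⁻¹ ∈ commBlock D (g * d * g⁻¹) := by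
    intro g d z hz
    induction hz with
    | refl => exact mem_commBlock_self _
    | tail _ h ih =>
      exact ih.tail ⟨⟨hc g _ h.1.1, hc g _ h.1.2⟩, (commute_conj g _ _).2 h.2⟩
  apply Set.ext
  intro w
  constructor
  · rintro ⟨z, hz, rfl⟩
    exact one g d z hz
  · intro hw
    refine ⟨g⁻¹ * w * g, ?_, by group⟩
    have h1 := one g⁻¹ _ _ hw
    rw [show g⁻¹ * (g * d * g⁻¹) * g⁻¹⁻¹ = d by group, inv_inv] at h1
    exact h1

/-- If the derived group is perfect, a nonempty set of members closed under commuting neighbours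
is everything. -/
theorem commute_closed_eq [Finite G] (hD : IsThreeTranspositionClass D)
    (hperf : ⁅commutator G, commutator G⁆ = commutator G) {S : Set G} (hSD : S ⊆ D)
    (hne : S.Nonempty) (hcl : ∀ s ∈ S, ∀ e ∈ D, Commute s e → e ∈ S) : S = D := by
  classical
  have hTS := hD.1
  have hc := class_conj hD
  have : Fact (Nat.Prime 3) := ⟨Nat.prime_three⟩
  obtain ⟨s₀, hs₀⟩ := hne
  by_contra hSne
  obtain ⟨f₀, hf₀, hf₀S⟩ : ∃ f ∈ D, f ∉ S :=
    Set.exists_of_ssubset (hSD.ssubset_of_ne hSne)
  have hbS : commBlock D s₀ ⊆ S := fun z hz => by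
    induction hz with
    | refl => exact hs₀
    | tail _ h ih => exact hcl _ ih _ h.1.2 h.2
  have hb0 : f₀ ∉ commBlock D s₀ := fun h => hf₀S (hbS h)
  have hout : ∀ d ∈ D, ∃ f ∈ D, f ∉ commBlock D d := by
    intro d hd
    obtain ⟨g, rfl⟩ := class_isConj hD (hSD hs₀) hd
    refine ⟨g * f₀ * g⁻¹, hc g f₀ hf₀, ?_⟩
    rw [← image_commBlock hc]
    rintro ⟨z, hz, hzz⟩
    exact hb0 (by rwa [mul_left_cancel (mul_right_cancel hzz)] at hz)
  -- the action on the components
  let Ω : Type _ := {B : Set G // ∃ d ∈ D, B = commBlock D d}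
  have himg : ∀ (g : G) (B : Ω), ∃ d ∈ D, (fun x => g * x * g⁻¹) '' B.1 = commBlock D d := by
    intro g B
    obtain ⟨d, hd, hB⟩ := B.2
    exact ⟨_, hc g d hd, by rw [hB, image_commBlock hc]⟩
  let act : G → Equiv.Perm Ω := fun g =>
    { toFun := fun B => ⟨_, himg g B⟩
      invFun := fun B => ⟨_, himg g⁻¹ B⟩
      left_inv := fun B => Subtype.ext (by simp [Set.image_image, mul_assoc])
      right_inv := fun B => Subtype.ext (by simp [Set.image_image, mul_assoc]) }
  let ψ : G →* Equiv.Perm Ω := MonoidHom.mk' act fun g h => Equiv.ext fun B => Subtype.ext (by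
    simp [act, Set.image_image, mul_assoc])
  let blk : (d : G) → d ∈ D → Ω := fun d hd => ⟨commBlock D d, d, hd, rfl⟩
  have hblk : ∀ (g d : G) (hd : d ∈ D), ψ g (blk d hd) = blk (g * d * g⁻¹) (hc g d hd) :=
    fun g d hd => Subtype.ext (image_commBlock hc g d)
  have hfix : ∀ (d : G) (hd : d ∈ D), ψ d (blk d hd) = blk d hd := fun d hd => by
    rw [hblk d d hd]
    exact Subtype.ext (by simp [blk])
  -- `d` moves every other component
  have hmove : ∀ (d f : G) (hd : d ∈ D) (hf : f ∈ D), commBlock D f ≠ commBlock D d →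
      commBlock D (d * f * d⁻¹) ≠ commBlock D f := by
    intro d f hd hf hne heq
    have hnc : ¬ Commute d f := fun h => hne (commBlock_eq_of_commute hd hf h)
    rw [inv_eq hTS hd, braid hTS hd hf hnc, conj_involution hTS hf, ← image_commBlock hc,
      show commBlock D f = (fun x => f * x * f⁻¹) '' commBlock D f by
        rw [image_commBlock hc, mul_inv_cancel_right]] at heq
    refine hne (Set.image_injective.2 ?_ heq).symm
    exact fun x y h => mul_left_cancel (mul_right_cancel h)
  have hψne : ∀ d ∈ D, ψ d ≠ 1 := by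
    intro d hd h1
    obtain ⟨f, hf, hfd⟩ := hout d hd
    have h2 := congrArg Subtype.val (hblk d f hf)
    rw [h1] at h2
    refine hmove d f hd hf (fun hh => hfd ?_) h2.symm
    rw [← hh]; exact mem_commBlock_self f
  -- commuting members act alike
  have hsame : ∀ d ∈ D, ∀ e ∈ D, Commute d e → ψ d = ψ e := by
    intro d hd e he hde
    rcases eq_or_ne d e with rfl | hne'
    · rfl
    refine Equiv.ext fun B => ?_
    obtain ⟨f, hf, hB⟩ := B.2
    have hB' : B = blk f hf := Subtype.ext hB
    rw [hB', hblk d f hf, hblk e f hf]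
    apply Subtype.ext
    show commBlock D (d * f * d⁻¹) = commBlock D (e * f * e⁻¹)
    by_cases hdf : commBlock D f = commBlock D d
    · have h1 : ∀ u ∈ D, commBlock D f = commBlock D u →
          commBlock D (u * f * u⁻¹) = commBlock D f := fun u _ hu => by
        rw [← image_commBlock hc, hu, image_commBlock hc, mul_inv_cancel_right]
      rw [h1 d hd hdf, h1 e he (hdf.trans (commBlock_eq_of_commute hd he hde).symm)]
    have hnd : ¬ Commute d f := fun h => hdf (commBlock_eq_of_commute hd hf h)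
    have hne2 : ¬ Commute f e := fun h => hdf
      ((commBlock_eq_of_commute hf he h).symm.trans (commBlock_eq_of_commute hd he hde))
    let φ := SmallPerm.hom (mul_self hTS hd) (mul_self hTS hf) (mul_self hTS he)
      (braid hTS hf hd fun h => hnd h.symm) hde.symm.eq (braid hTS he hf fun h => hne2 h.symm)
    have h3 : (SmallPerm.s4 0 * SmallPerm.s4 1 * SmallPerm.s4 0) *
        (SmallPerm.s4 2 * SmallPerm.s4 1 * SmallPerm.s4 2) =
        (SmallPerm.s4 2 * SmallPerm.s4 1 * SmallPerm.s4 2) *
        (SmallPerm.s4 0 * SmallPerm.s4 1 * SmallPerm.s4 0) := by decide +kernel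
    have h4 := congrArg φ h3
    simp only [map_mul, φ, SmallPerm.hom_gen] at h4
    refine (commBlock_eq_of_commute (hc e f hf) (hc d f hf) ?_)
    rw [inv_eq hTS hd, inv_eq hTS he]
    exact Commute.symm h4
  -- the image is of width one
  let T : Set ψ.range := {q | ∃ d ∈ D, (q : Equiv.Perm Ω) = ψ d}
  have hcube : ∀ d ∈ D, ∀ e ∈ D, (ψ d * ψ e) ^ 3 = 1 := by
    intro d hd e he
    by_cases hde : Commute d e
    · rw [hsame d hd e he hde, ← map_mul, mul_self hTS he, map_one, one_pow]
    · rw [← map_mul, ← map_pow, cube_of_not_commute hTS hd he hde, map_one]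
  have hT : IsCubeSet T :=
    { conj := by
        rintro ⟨-, g, rfl⟩ q ⟨d, hd, hq⟩
        exact ⟨_, hc g d hd, by simp [hq]⟩
      ord := by
        rintro q ⟨d, hd, hq⟩
        rw [← Subgroup.orderOf_coe, hq]
        exact orderOf_eq_prime (by rw [← map_pow, pow_two, mul_self hTS hd, map_one]) (hψne d hd)
      cube := by
        rintro q ⟨d, hd, hq⟩ q' ⟨e, he, hq'⟩
        exact Subtype.ext (by simpa [hq, hq'] using hcube d hd e he) }
  let χ : G →* ψ.range ⧸ pCore 3 ψ.range := (QuotientGroup.mk' _).comp ψ.rangeRestrict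
  have hχ : ∀ d ∈ D, χ d = χ s₀ := by
    intro d hd
    apply QuotientGroup.eq.2
    have : ((ψ.rangeRestrict d) : ψ.range)⁻¹ = ψ.rangeRestrict d := by
      rw [← map_inv, inv_eq hTS hd]
    rw [this]
    exact hT.mul_mem_pCore ⟨d, hd, rfl⟩ ⟨s₀, hSD hs₀, rfl⟩
  have hle : (⊤ : Subgroup G).map χ ≤ Subgroup.zpowers (χ s₀) := by
    rw [← hD.2.2, MonoidHom.map_closure, Subgroup.closure_le]
    rintro - ⟨d, hd, rfl⟩
    exact ⟨1, by simp [hχ d hd]⟩
  have hcomχ : ∀ a b : G, χ ⁅a, b⁆ = 1 := by
    intro a b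
    obtain ⟨i, hi⟩ := hle ⟨a, Subgroup.mem_top a, rfl⟩
    obtain ⟨j, hj⟩ := hle ⟨b, Subgroup.mem_top b, rfl⟩
    rw [map_commutatorElement, commutatorElement_eq_one_iff_commute, ← hi, ← hj]
    exact Commute.zpow_zpow_self _ _ _
  have hker : (commutator G).map ψ.rangeRestrict ≤ pCore 3 ψ.range := by
    rw [Subgroup.map_le_iff_le_comap, commutator_def, Subgroup.commutator_le]
    intro a _ b _
    show ψ.rangeRestrict ⁅a, b⁆ ∈ pCore 3 ψ.range
    exact (QuotientGroup.eq_one_iff _).1 (hcomχ a b)
  set X := (commutator G).map ψ.rangeRestrict with hX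
  have hXperf : ⁅X, X⁆ = X := by rw [hX, ← Subgroup.map_commutator, hperf]
  have hXsol : Group.IsSolvable X := by
    have := (Core.pCore_isPGroup (p := 3) (G := ψ.range)).isNilpotent
    exact Core.isSolvable_mono (K := pCore 3 ψ.range) inferInstance hker
  have hXbot : X = ⊥ := by
    by_contra hne
    have : Nontrivial X := (Subgroup.nontrivial_iff_ne_bot X).2 hne
    refine (Group.IsSolvable.commutator_lt_top_of_nontrivial (G := X)).ne ?_
    apply Subgroup.map_injective X.subtype_injective
    rw [Subgroup.map_subtype_commutator, hXperf, ← MonoidHom.range_eq_map, Subgroup.range_subtype]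
  have habel : ∀ a b : G, ψ a * ψ b = ψ b * ψ a := by
    intro a b
    have : ψ.rangeRestrict ⁅a, b⁆ ∈ X := ⟨_, Subgroup.commutator_mem_commutator
      (Subgroup.mem_top a) (Subgroup.mem_top b), rfl⟩
    rw [hXbot, Subgroup.mem_bot] at this
    have h2 := congrArg Subtype.val this
    rw [MonoidHom.coe_rangeRestrict, OneMemClass.coe_one, map_commutatorElement,
      commutatorElement_eq_one_iff_commute] at h2
    exact h2
  obtain ⟨f, hf, hfd⟩ := hout s₀ (hSD hs₀)
  have h6 : ψ s₀ = ψ f := by
    have h7 : (ψ s₀ * ψ f) ^ 2 = 1 := by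
      rw [(show Commute (ψ s₀) (ψ f) from habel s₀ f).mul_pow, ← map_pow, ← map_pow, pow_two,
        pow_two, mul_self hTS (hSD hs₀), mul_self hTS hf, map_one, one_mul]
    have h8 := hcube s₀ (hSD hs₀) f hf
    rw [pow_succ, h7, one_mul] at h8
    rw [eq_inv_of_mul_eq_one_left h8, ← map_inv, inv_eq hTS hf]
  have h9 := congrArg Subtype.val (hblk s₀ f hf)
  rw [h6, hfix f hf] at h9
  refine hmove s₀ f (hSD hs₀) hf (fun hh => hfd ?_) h9.symm
  rw [← hh]; exact mem_commBlock_self f

end Cfsg.Agent.ThreeTrans
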