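import Cfsg.Agent.ThreeTrans.LayerM22
import Cfsg.Agent.ThreeTrans.InvolM22
import Cfsg.Agent.ThreeTrans.PairM23

/-!
# Counting in type M(23)

A commuting pair and a member moving both have 63 common partners, two members that do not commute
have 351 and there are 31671 members.
-/

set_option autoImplicit false

open Cfsg

namespace Cfsg.Agent.ThreeTrans

variable {G : Type*} [Group G] {D : Set G}

theorem dperp_dperp_comm (S : Set G) (a b : G) : dperp (dperp S a) b = dperp (dperp S b) a := by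
  ext e
  exact ⟨fun h => ⟨⟨h.1.1, h.2.1, h.2.2⟩, h.1.2.1, h.1.2.2⟩,
    fun h => ⟨⟨h.1.1, h.2.1, h.2.2⟩, h.1.2.1, h.1.2.2⟩⟩

section

variable [Finite G] (hD : IsThreeTranspositionGroup D) (hL : ∀ t ∈ D, M22Layer (dperp D t))

include hD hL

/-- A commuting pair and a member moving both have 63 common partners. -/
theorem sixty_three {a b z : G} (ha : a ∈ D) (hb : b ∈ dperp D a) (hz : z ∈ D)
    (hza : ¬ Commute z a) (hzb : ¬ Commute z b) :
    {u | u ∈ dperp (dperp D a) b ∧ Commute z u}.ncard = 63 := by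
  classical
  have hT := hD.1
  set S := dperp (dperp D a) b with hSdef
  set W := {u | u ∈ S ∧ Commute z u} with hW
  set tw := twist a b z with htw
  have hinv : ∀ u, tw (tw u) = u := twist_twist hD ha hb hz hza hzb
  have hcj := fun u v => twist_conj hD ha hb hz hza hzb u v
  have hfix : ∀ {u}, u ∈ S → (tw u = u ↔ Commute z u) := fun hu =>
    twist_eq_self hD ha hb hz hza hzb hu.1.1 hu.1.2.2.symm hu.2.2.symm
  have hmem : ∀ {u}, u ∈ S → tw u ∈ S := fun hu => twist_mem hD ha hb hz hza hzb hu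
  have hLines : Lines S := (hL a ha).lines b hb
  -- inside the layer of a fixed member
  have hsee : ∀ {x}, x ∈ W → a ∈ dperp D x ∧ b ∈ dperp (dperp D x) a ∧ z ∈ dperp D x ∧
      dperp (dperp (dperp D x) a) b = dperp S x := fun {x} hx =>
    ⟨dperp_symm ha hx.1.1, ⟨⟨hb.1, hx.1.2.1.symm, hx.1.2.2.symm⟩, hb.2.1, hb.2.2⟩,
      ⟨hz, fun e => hza (e ▸ hx.1.1.2.2.symm), hx.2.symm⟩, by
        rw [dperp_dperp_comm (S := D) x a, dperp_dperp_comm (S := dperp D a) x b]⟩
  have hY : ∀ x ∈ W, {v | v ∈ W ∧ v ≠ x ∧ Commute x v}.ncard = 30 := by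
    intro x hx
    obtain ⟨h1, h2, h3, h4⟩ := hsee hx
    rw [← (hL x hx.1.1.1).thirty a h1 b h2 z h3 hza hzb, h4]
    congr 1
    ext v
    exact ⟨fun h => ⟨⟨h.1.1, h.2.1, h.2.2⟩, h.1.2⟩, fun h => ⟨⟨h.1.1, h.2⟩, h.1.2.1, h.1.2.2⟩⟩
  have h13 : ∀ x ∈ W, ∀ y ∈ W, y ≠ x → Commute x y →
      {v | (v ∈ W ∧ v ≠ x ∧ Commute x v) ∧ v ≠ y ∧ Commute y v}.ncard = 13 := by
    intro x hx y hy hne hxy
    obtain ⟨h1, h2, h3, h4⟩ := hsee hx
    have := (hL x hx.1.1.1).thirteen a h1 b h2 z h3 hza hzb y (h4 ▸ ⟨hy.1, hne, hxy⟩) hy.2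
    rw [h4] at this
    rw [← this]
    congr 1
    ext v
    exact ⟨fun h => ⟨⟨⟨h.1.1.1, h.1.2.1, h.1.2.2⟩, h.1.1.2⟩, h.2⟩,
      fun h => ⟨⟨⟨h.1.1.1, h.1.2⟩, h.1.1.2.1, h.1.1.2.2⟩, h.2⟩⟩
  -- a line through two fixed members has three
  have hline : ∀ x ∈ W, ∀ v ∈ W, v ≠ x → Commute x v →
      (∀ e ∈ ln S x v, tw e ∈ ln S x v) ∧ {e | e ∈ ln S x v ∧ e ∈ W}.ncard = 3 := by
    intro x hx v hv hne hxv
    set L := ln S x v with hLdef
    have hxv' : v ∈ dperp S x := ⟨hv.1, hne, hxv⟩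
    have htx : tw x = x := (hfix hx.1).2 hx.2
    have htv : tw v = v := (hfix hv.1).2 hv.2
    have htL : ∀ e ∈ L, tw e ∈ L := by
      intro e he
      refine ⟨hmem he.1, fun k hk k1 k2 => ?_⟩
      have h := (hcj (tw k) e).1.2 (he.2 (tw k) (hmem hk) (htx ▸ (hcj k x).1.2 k1)
        (htv ▸ (hcj k v).1.2 k2))
      rwa [show twist a b z (tw k) = k from hinv k] at h
    refine ⟨htL, ?_⟩
    have h5 : L.ncard = 5 := hLines.five x hx.1 v hxv'
    set A := {e | e ∈ L ∧ e ∈ W}
    have hev : ¬ Odd (L \ A).ncard := by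
      intro hodd
      obtain ⟨e, he, hee⟩ := exists_fixed_of_odd hodd tw (fun e he => ⟨htL e he.1, fun hA =>
        he.2 ⟨he.1, he.1.1, (hfix he.1.1).1 (by
          rw [← hinv e, (hfix hA.1.1).2 hA.2.2]; exact (hfix hA.1.1).2 hA.2.2)⟩⟩) fun e _ => hinv e
      exact he.2 ⟨he.1, he.1.1, (hfix he.1.1).1 hee⟩
    have hsub : A ⊆ L := fun e he => he.1
    have hsum := Set.ncard_sdiff_add_ncard_of_subset hsub (Set.toFinite L)
    have h2 : 2 ≤ A.ncard := by
      rw [← Set.ncard_pair hne.symm]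
      refine Set.ncard_le_ncard ?_ (Set.toFinite A)
      rintro e (rfl | rfl)
      · exact ⟨mem_ln_left hx.1, hx⟩
      · exact ⟨mem_ln_right hv.1, hv⟩
    have hne5 : A.ncard ≠ 5 := by
      intro hA5
      have hAL : A = L := Set.eq_of_subset_of_ncard_le hsub (by omega) (Set.toFinite L)
      have h3 : 2 ≤ (L \ {x, v}).ncard := by
        have := Set.le_ncard_sdiff ({x, v} : Set G) L
        rw [Set.ncard_pair hne.symm] at this
        omega
      obtain ⟨w₁, hw₁, w₂, hw₂, h12⟩ := (Set.one_lt_ncard (Set.toFinite _)).1 h3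
      have hxa : x ∈ dperp (dperp D a) b := hx.1
      have hvxb : v ∈ dperp (dperp (dperp D a) b) x := hxv'
      set T := dperp D v with hTdef
      have haT : a ∈ T := dperp_symm ha hv.1.1
      have hbT : b ∈ dperp T a := ⟨⟨hb.1, hv.1.2.1.symm, hv.1.2.2.symm⟩, hb.2.1, hb.2.2⟩
      have hxT : x ∈ dperp (dperp T a) b :=
        ⟨⟨⟨hx.1.1.1, hne.symm, hxv.symm⟩, hx.1.1.2⟩, hx.1.2⟩
      have hmove : ∀ {w}, w ∈ L \ {x, v} → w ∈ ln (dperp T x) a b := by
        rintro w ⟨hw, hwn⟩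
        simp only [Set.mem_insert_iff, Set.mem_singleton_iff, not_or] at hwn
        have hs := (hL a ha).swap b hb x hxa v hvxb w hw hwn.1 hwn.2
        rw [dperp_dperp_comm (S := D) a v] at hs
        exact (hL v hv.1.1.1).swap a haT b hbT x hxT w hs hw.1.2.1 hwn.1
      have hzT : z ∈ dperp T x :=
        ⟨⟨hz, fun e => hza (e ▸ hv.1.1.2.2.symm), hv.2.symm⟩,
          fun e => hza (e ▸ hx.1.1.2.2.symm), hx.2.symm⟩
      have haX : a ∈ dperp T x := ⟨haT, fun e => hx.1.1.2.1 e.symm, hx.1.1.2.2.symm⟩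
      have hbX : b ∈ dperp (dperp T x) a :=
        ⟨⟨hbT.1, fun e => hx.1.2.1 e.symm, hx.1.2.2.symm⟩, hb.2.1, hb.2.2⟩
      have hpair := (((hL v hv.1.1.1).lines x hxT.1.1).pair a haX b hbX w₁ (hmove hw₁) w₂ (hmove hw₂)
        h12).2
      have hmema : a ∈ ln (dperp T x) w₁ w₂ := hpair ▸ mem_ln_left haX
      exact hza (hmema.2 z hzT (hAL.symm ▸ hw₁.1 : w₁ ∈ A).2.2 (hAL.symm ▸ hw₂.1 : w₂ ∈ A).2.2)
    rw [Nat.not_odd_iff_even, Nat.even_iff] at hev
    omega
  -- a starting member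
  obtain ⟨x, hxa, hxb, hxz, hxne⟩ := third_of_odd hD ha hb.1 hz hb.2.2 hb.2.1.symm
    (fun h => hza h.symm) (fun h => hzb h.symm) (by rw [(hL a ha).card1 b hb]; decide)
  have hxW : x ∈ W := ⟨⟨hxa, hxne, hxb.symm⟩, hxz.symm⟩
  set Y := {v | v ∈ W ∧ v ≠ x ∧ Commute x v} with hYdef
  set Z := {u | u ∈ W ∧ ¬ Commute x u} with hZdef
  have hYZ : ∀ y ∈ Y, {u | u ∈ Z ∧ Commute y u}.ncard = 16 := by
    intro y hy
    have hsplit : {v | v ∈ W ∧ v ≠ y ∧ Commute y v} = {u | u ∈ Z ∧ Commute y u} ∪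
        insert x {v | (v ∈ W ∧ v ≠ x ∧ Commute x v) ∧ v ≠ y ∧ Commute y v} := by
      apply Set.ext
      intro v
      constructor
      · rintro ⟨hv, hvy, hyv⟩
        by_cases hxv : Commute x v
        · refine Or.inr ?_
          rcases eq_or_ne v x with rfl | hvx
          · exact Set.mem_insert _ _
          · exact Set.mem_insert_of_mem _ ⟨⟨hv, hvx, hxv⟩, hvy, hyv⟩
        · exact Or.inl ⟨⟨hv, hxv⟩, hyv⟩
      · rintro (⟨⟨hv, hxv⟩, hyv⟩ | rfl | ⟨⟨hv, -⟩, hvy, hyv⟩)
        · exact ⟨hv, fun e => hxv (e ▸ hy.2.2), hyv⟩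
        · exact ⟨hxW, hy.2.1.symm, hy.2.2.symm⟩
        · exact ⟨hv, hvy, hyv⟩
    have h := congrArg Set.ncard hsplit
    rw [hY y hy.1, Set.ncard_union_eq ?_ (Set.toFinite _) (Set.toFinite _),
      Set.ncard_insert_of_notMem (fun h => h.1.2.1 rfl) (Set.toFinite _),
      h13 x hxW y hy.1 hy.2.1 hy.2.2] at h
    · omega
    · refine Set.disjoint_left.2 ?_
      rintro v ⟨⟨-, hxv⟩, -⟩ (rfl | ⟨⟨-, -, hxv'⟩, -⟩)
      · exact hxv (Commute.refl _)
      · exact hxv hxv'
  have hZY : ∀ u ∈ Z, {v | v ∈ Y ∧ Commute u v}.ncard = 15 := by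
    intro u hu
    set C := {w | w ∈ S ∧ Commute w x ∧ Commute w u} with hC
    set N := dperp S x
    have hC45 : C.ncard = 45 := (hL a ha).pair b hb x hxW.1 u hu.1.1 hu.2
    have hN180 : N.ncard = 180 := (hL a ha).card2 b hb x hxW.1
    have hCN : C ⊆ N := fun w hw => ⟨hw.1, fun e => hu.2 (e ▸ hw.2.2), hw.2.1.symm⟩
    have hone : ∀ v ∈ N, {w | w ∈ C ∧ w ∈ ln S x v}.ncard ≤ 1 := by
      intro v hv
      refine (Set.ncard_le_one (Set.toFinite _)).2 ?_
      rintro w₁ ⟨hw₁, hl₁⟩ w₂ ⟨hw₂, hl₂⟩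
      by_contra hne
      have hpair := (hLines.pair x hxW.1 v hv w₁ hl₁ w₂ hl₂ hne).2
      have hxl : x ∈ ln S w₁ w₂ := hpair ▸ mem_ln_left hxW.1
      exact hu.2 (hxl.2 u hu.1.1 hw₁.2.2.symm hw₂.2.2.symm).symm
    have hfour : ∀ w ∈ C, {v | v ∈ N ∧ w ∈ ln S x v}.ncard = 4 := by
      intro w hw
      have hwN := hCN hw
      have he : {v | v ∈ N ∧ w ∈ ln S x v} = ln S x w \ {x} := by
        apply Set.ext
        intro v
        constructor
        · rintro ⟨hv, hwl⟩
          refine ⟨?_, hv.2.1⟩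
          rw [(hLines.pair x hxW.1 v hv x (mem_ln_left hxW.1) w hwl hwN.2.1.symm).2]
          exact mem_ln_right hv.1
        · rintro ⟨hv, hvx⟩
          obtain ⟨h1, h2⟩ := hLines.pair x hxW.1 w hwN x (mem_ln_left hxW.1) v hv (Ne.symm hvx)
          exact ⟨h1, h2 ▸ mem_ln_right hw.1⟩
      rw [he, Set.ncard_sdiff_singleton_of_mem (mem_ln_left hxW.1), hLines.five x hxW.1 w hwN]
    have hex : ∀ v ∈ N, {w | w ∈ C ∧ w ∈ ln S x v}.ncard = 1 := by
      intro v₀ hv₀
      have hsum := Finset.sum_card_bipartiteAbove_eq_sum_card_bipartiteBelow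
        (fun (v w : G) => w ∈ ln S x v) (s := (Set.toFinite N).toFinset)
        (t := (Set.toFinite C).toFinset)
      have hbelow : ∀ w ∈ (Set.toFinite C).toFinset,
          (Finset.bipartiteBelow (fun (v w : G) => w ∈ ln S x v) (Set.toFinite N).toFinset w).card = 4 :=
        fun w hw => (card_filter_set N _).trans (hfour w ((Set.Finite.mem_toFinset _).1 hw))
      rw [Finset.sum_congr rfl hbelow, Finset.sum_const, smul_eq_mul,
        ← Set.ncard_eq_toFinset_card, hC45] at hsum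
      by_contra hne
      have hlt : (∑ v ∈ (Set.toFinite N).toFinset,
          (Finset.bipartiteAbove (fun (v w : G) => w ∈ ln S x v) (Set.toFinite C).toFinset v).card) <
          ∑ _v ∈ (Set.toFinite N).toFinset, 1 := by
        refine Finset.sum_lt_sum (fun v hv => ?_) ⟨v₀, (Set.Finite.mem_toFinset _).2 hv₀, ?_⟩
        · exact (card_filter_set C _).trans_le (hone v ((Set.Finite.mem_toFinset _).1 hv))
        · exact lt_of_le_of_ne ((card_filter_set C _).trans_le (hone v₀ hv₀))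
            fun e => hne ((card_filter_set C _).symm.trans e)
      rw [hsum, Finset.sum_const, smul_eq_mul, mul_one, ← Set.ncard_eq_toFinset_card, hN180] at hlt
      omega
    set M := {w | w ∈ Y ∧ Commute u w}
    have hmul := Finset.card_mul_eq_card_mul (fun w v : G => w ∈ ln S x v)
      (s := (Set.toFinite M).toFinset) (t := (Set.toFinite Y).toFinset) (m := 2) (n := 1)
      (fun w hw => by
        rw [Set.Finite.mem_toFinset] at hw
        obtain ⟨⟨hwW, hwx, hxw⟩, huw⟩ := hw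
        refine (card_filter_set Y _).trans ?_
        have hwN : w ∈ N := ⟨hwW.1, hwx, hxw⟩
        have he : {v | v ∈ Y ∧ w ∈ ln S x v} = {e | e ∈ ln S x w ∧ e ∈ W} \ {x} := by
          apply Set.ext
          intro v
          constructor
          · rintro ⟨⟨hv, hvx, hxv⟩, hwl⟩
            refine ⟨⟨?_, hv⟩, hvx⟩
            rw [(hLines.pair x hxW.1 v ⟨hv.1, hvx, hxv⟩ x (mem_ln_left hxW.1) w hwl hwx.symm).2]
            exact mem_ln_right hv.1
          · rintro ⟨⟨hv, hvW⟩, hvx⟩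
            obtain ⟨h1, h2⟩ := hLines.pair x hxW.1 w hwN x (mem_ln_left hxW.1) v hv (Ne.symm hvx)
            exact ⟨⟨hvW, h1.2.1, h1.2.2⟩, h2 ▸ mem_ln_right hwW.1⟩
        rw [he, Set.ncard_sdiff_singleton_of_mem (show x ∈ {e | e ∈ ln S x w ∧ e ∈ W} from
          ⟨mem_ln_left hxW.1, hxW⟩), (hline x hxW w hwW hwx hxw).2])
      (fun v hv => by
        rw [Set.Finite.mem_toFinset] at hv
        obtain ⟨hvW, hvx, hxv⟩ := hv
        refine (card_filter_set M _).trans ?_
        rw [← hex v ⟨hvW.1, hvx, hxv⟩]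
        congr 1
        ext w
        constructor
        · rintro ⟨⟨⟨hwW, hwx, hxw⟩, huw⟩, hwl⟩
          exact ⟨⟨hwW.1, hxw.symm, huw.symm⟩, hwl⟩
        · rintro ⟨hwC, hwl⟩
          have htwl := (hline x hxW v hvW hvx hxv).1 w hwl
          have htu : tw u = u := (hfix hu.1.1).2 hu.1.2
          have htx : tw x = x := (hfix hxW.1).2 hxW.2
          have htC : tw w ∈ C := ⟨hmem hwC.1, htx ▸ (hcj w x).1.2 hwC.2.1,
            htu ▸ (hcj w u).1.2 hwC.2.2⟩
          have hNv : v ∈ N := ⟨hvW.1, hvx, hxv⟩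
          have hfw := (Set.ncard_le_one (Set.toFinite _)).1 (hone v hNv) _ ⟨htC, htwl⟩ w ⟨hwC, hwl⟩
          exact ⟨⟨⟨⟨hwC.1, (hfix hwC.1).1 hfw⟩, (hCN hwC).2.1, hwC.2.1.symm⟩, hwC.2.2.symm⟩, hwl⟩)
    rw [← Set.ncard_eq_toFinset_card _, ← Set.ncard_eq_toFinset_card _, hY x hxW] at hmul
    omega
  have hmul := Finset.card_mul_eq_card_mul (fun u v : G => Commute u v)
    (s := (Set.toFinite Z).toFinset) (t := (Set.toFinite Y).toFinset) (m := 15) (n := 16)
    (fun u hu => by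
      rw [Set.Finite.mem_toFinset] at hu
      exact (card_filter_set Y _).trans (hZY u hu))
    (fun v hv => by
      rw [Set.Finite.mem_toFinset] at hv
      refine (card_filter_set Z _).trans ?_
      rw [← hYZ v hv]
      congr 1
      ext u
      exact ⟨fun h => ⟨h.1, h.2.symm⟩, fun h => ⟨h.1, h.2.symm⟩⟩)
  rw [← Set.ncard_eq_toFinset_card _, ← Set.ncard_eq_toFinset_card _, hY x hxW] at hmul
  have hsplit : W = Z ∪ insert x Y := by
    apply Set.ext
    intro v
    constructor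
    · intro hv
      by_cases hxv : Commute x v
      · rcases eq_or_ne v x with rfl | hne
        · exact Or.inr (Set.mem_insert _ _)
        · exact Or.inr (Set.mem_insert_of_mem _ ⟨hv, hne, hxv⟩)
      · exact Or.inl ⟨hv, hxv⟩
    · rintro (h | rfl | h)
      exacts [h.1, hxW, h.1]
  rw [hsplit, Set.ncard_union_eq ?_ (Set.toFinite _) (Set.toFinite _),
    Set.ncard_insert_of_notMem (fun h => h.2.1 rfl) (Set.toFinite _), hY x hxW]
  · omega
  · refine Set.disjoint_left.2 ?_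
    rintro v hv (rfl | hv')
    · exact hv.2 (Commute.refl _)
    · exact hv.2 hv'.2.2

/-- Two members that do not commute have 351 common partners. -/
theorem common_351 {a z : G} (ha : a ∈ D) (hz : z ∈ D) (haz : ¬ Commute a z) :
    {v | v ∈ dperp D a ∧ Commute z v}.ncard = 351 := by
  classical
  set W := {v | v ∈ dperp D a ∧ Commute z v}
  have h126 : ∀ b ∈ dperp D a, Commute z b → {v | v ∈ W ∧ (v ≠ b ∧ Commute b v)}.ncard = 126 := by
    intro b hb hzb
    have haS : a ∈ dperp D b := dperp_symm ha hb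
    have hzS : z ∈ dperp D b := ⟨hz, fun e => haz (e ▸ hb.2.2), hzb.symm⟩
    rw [← (hL b hb.1).common a haS z hzS haz]
    congr 1
    ext v
    constructor
    · rintro ⟨⟨hv, hzv⟩, hne, hbv⟩
      exact ⟨⟨⟨hv.1, hne, hbv⟩, hv.2.1, hv.2.2⟩, hzv⟩
    · rintro ⟨⟨⟨hvD, hne, hbv⟩, hva⟩, hvz⟩
      exact ⟨⟨⟨hvD, hva⟩, hvz⟩, hne, hbv⟩
  have h63 : ∀ b ∈ dperp D a, ¬ Commute z b → {v | v ∈ W ∧ (v ≠ b ∧ Commute b v)}.ncard = 63 := by
    intro b hb hzb
    rw [← sixty_three hD hL ha hb hz (fun h => haz h.symm) hzb]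
    congr 1
    ext v
    constructor
    · rintro ⟨⟨hv, hzv⟩, hne, hbv⟩
      exact ⟨⟨hv, hne, hbv⟩, hzv⟩
    · rintro ⟨⟨hv, hne, hbv⟩, hzv⟩
      exact ⟨⟨hv, hzv⟩, hne, hbv⟩
  have hsum := Finset.sum_card_bipartiteAbove_eq_sum_card_bipartiteBelow
    (fun b v : G => v ≠ b ∧ Commute b v) (s := (Set.toFinite (dperp D a)).toFinset)
    (t := (Set.toFinite W).toFinset)
  have habove : ∀ b ∈ (Set.toFinite (dperp D a)).toFinset,
      (Finset.bipartiteAbove (fun b v : G => v ≠ b ∧ Commute b v) (Set.toFinite W).toFinset b).card =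
        if Commute z b then 126 else 63 := fun b hb => by
    rw [Set.Finite.mem_toFinset] at hb
    refine (card_filter_set W _).trans ?_
    by_cases hzb : Commute z b
    · rw [if_pos hzb]; exact h126 b hb hzb
    · rw [if_neg hzb]; exact h63 b hb hzb
  have hbelow : ∀ v ∈ (Set.toFinite W).toFinset,
      (Finset.bipartiteBelow (fun b v : G => v ≠ b ∧ Commute b v)
        (Set.toFinite (dperp D a)).toFinset v).card = 693 := fun v hv => by
    rw [Set.Finite.mem_toFinset] at hv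
    refine (card_filter_set (dperp D a) _).trans ?_
    rw [← (hL a ha).card1 v hv.1]
    congr 1
    ext b
    exact ⟨fun h => ⟨h.1, h.2.1.symm, h.2.2.symm⟩, fun h => ⟨h.1, h.2.1.symm, h.2.2.symm⟩⟩
  rw [Finset.sum_congr rfl habove, Finset.sum_congr rfl hbelow, Finset.sum_ite, Finset.sum_const,
    Finset.sum_const, Finset.sum_const, smul_eq_mul, smul_eq_mul, smul_eq_mul, card_filter_set,
    card_filter_set, ← Set.ncard_eq_toFinset_card] at hsum
  have hdiff := Set.ncard_sdiff_add_ncard_of_subset (show W ⊆ dperp D a from fun v hv => hv.1)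
    (Set.toFinite _)
  rw [(hL a ha).card, show dperp D a \ W = {v | v ∈ dperp D a ∧ ¬ Commute z v} by
    ext v; exact ⟨fun h => ⟨h.1, fun hh => h.2 ⟨h.1, hh⟩⟩, fun h => ⟨h.1, fun hh => h.2 hh.2⟩⟩]
    at hdiff
  change W.ncard * 126 + _ = W.ncard * 693 at hsum
  omega

/-- The number of members. -/
theorem ncard_members23 {a : G} (ha : a ∈ D) : D.ncard = 31671 := by
  classical
  set N := {e | e ∈ D ∧ ¬ Commute a e}
  have h2816 : ∀ u ∈ dperp D a, {e | e ∈ N ∧ Commute u e}.ncard = 2816 := by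
    intro u hu
    have hsplit : dperp D u = {e | e ∈ N ∧ Commute u e} ∪ insert a (dperp (dperp D a) u) := by
      apply Set.ext
      intro e
      constructor
      · intro he
        by_cases hae : Commute a e
        · refine Or.inr ?_
          rcases eq_or_ne e a with rfl | hne
          · exact Set.mem_insert _ _
          · exact Set.mem_insert_of_mem _ ⟨⟨he.1, hne, hae⟩, he.2.1, he.2.2⟩
        · exact Or.inl ⟨⟨he.1, hae⟩, he.2.2⟩
      · rintro (⟨⟨he, hae⟩, hue⟩ | rfl | he)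
        · exact ⟨he, fun e' => hae (e' ▸ hu.2.2), hue⟩
        · exact dperp_symm ha hu
        · exact ⟨he.1.1, he.2.1, he.2.2⟩
    have h := congrArg Set.ncard hsplit
    rw [(hL u hu.1).card, Set.ncard_union_eq ?_ (Set.toFinite _) (Set.toFinite _),
      Set.ncard_insert_of_notMem (fun h => h.1.2.1 rfl) (Set.toFinite _),
      (hL a ha).card1 u hu] at h
    · omega
    · refine Set.disjoint_left.2 ?_
      rintro e ⟨⟨he, hae⟩, -⟩ (rfl | he')
      · exact hae (Commute.refl _)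
      · exact hae he'.1.2.2
  have hmul := Finset.card_mul_eq_card_mul (fun u e : G => Commute u e)
    (s := (Set.toFinite (dperp D a)).toFinset) (t := (Set.toFinite N).toFinset) (m := 2816) (n := 351)
    (fun u hu => by
      rw [Set.Finite.mem_toFinset] at hu
      exact (card_filter_set N _).trans (h2816 u hu))
    (fun e he => by
      rw [Set.Finite.mem_toFinset] at he
      refine (card_filter_set (dperp D a) _).trans ?_
      rw [← common_351 hD hL ha he.1 he.2]
      congr 1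
      ext v
      exact ⟨fun h => ⟨h.1, h.2.symm⟩, fun h => ⟨h.1, h.2.symm⟩⟩)
  rw [← Set.ncard_eq_toFinset_card _, ← Set.ncard_eq_toFinset_card _, (hL a ha).card] at hmul
  have hsplit : D = N ∪ insert a (dperp D a) := by
    apply Set.ext
    intro e
    constructor
    · intro he
      by_cases hae : Commute a e
      · refine Or.inr ?_
        rcases eq_or_ne e a with rfl | hne
        · exact Set.mem_insert _ _
        · exact Set.mem_insert_of_mem _ ⟨he, hne, hae⟩
      · exact Or.inl ⟨he, hae⟩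
    · rintro (h | rfl | h)
      exacts [h.1, ha, h.1]
  have h := congrArg Set.ncard hsplit
  rw [Set.ncard_union_eq ?_ (Set.toFinite _) (Set.toFinite _),
    Set.ncard_insert_of_notMem (fun h => h.2.1 rfl) (Set.toFinite _), (hL a ha).card] at h
  · omega
  · refine Set.disjoint_left.2 ?_
    rintro e he (rfl | he')
    · exact he.2 (Commute.refl _)
    · exact he.2 he'.2.2

end

end Cfsg.Agent.ThreeTrans
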