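import Cfsg.Agent.ThreeTrans.UnitFrame
import Cfsg.Agent.ThreeTrans.CentralLift

/-!
# The class of lifts of transvections in a double cover of U₆(2)

The lifts of the transvections fall into two classes.  In a perfect cover some product of two
commuting members of a class, multiplied by the central involution, is a square.
-/

set_option autoImplicit false

open Cfsg Cfsg.Agent.Classical Cfsg.Agent.Classical.Herm Module

namespace Cfsg.Agent.ThreeTrans.UModel

variable {F V : Type*} [Field F] [AddCommGroup V] [Module F V] {θ : F →+* F}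
  {B : V →ₛₗ[θ] V →ₗ[F] F} {C X : Type*} [Group C] [Group X]

/-- A double cover of the quotient of the isometry group by its centre. -/
structure Setup (hB : Space B) (ξ : C →* X) (π : suG B →* X) (z : C) : Prop where
  four : Nat.card F = 4
  cov : Lift.Cov ξ
  surj : Function.Surjective π
  ker : ∀ g, π g = 1 → g ∈ Subgroup.center (suG B) ∧ g ^ 3 = 1
  cen : ∀ g ∈ Subgroup.center (suG B), π g = 1
  z_map : ξ z = 1
  z_ne : z ≠ 1
  kern : ∀ c, ξ c = 1 → c = 1 ∨ c = z

variable {hB : Space B} {ξ : C →* X} {π : suG B →* X} {z : C} (hS : Setup hB ξ π z)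

include hS

theorem Setup.z_sq : z * z = 1 := hS.cov.sq z hS.z_map

theorem Setup.z_comm (c : C) : Commute z c := hS.cov.comm z hS.z_map c

/-- The projection is injective on elements of order two. -/
theorem Setup.inj_sq {g g' : suG B} (hg : g * g = 1) (hg' : g' * g' = 1) (hc : Commute g g')
    (h : π g = π g') : g = g' := by
  have h3 := (hS.ker (g * g') (by rw [map_mul, h, ← map_mul, hg', map_one])).2
  have h2 : g * g' * (g * g') = 1 := by
    rw [hc.symm.mul_mul_mul_comm, hg, hg', one_mul]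
  rw [pow_succ, sq, h2, one_mul] at h3
  rw [eq_inv_of_mul_eq_one_left h3, inv_eq_of_mul_eq_one_left hg']

theorem Setup.tr_inj (p q : Pt B) (h : π (tr hB p) = π (tr hB q)) : tr hB p = tr hB q := by
  refine hS.inj_sq (tr_sq hB p) (tr_sq hB q) ?_ h
  have hk := (hS.ker (tr hB p * tr hB q) (by rw [map_mul, h, ← map_mul, tr_sq hB q, map_one])).1
  have h1 := Subgroup.mem_center_iff.1 hk (tr hB p)
  rw [← mul_assoc, tr_sq hB p, one_mul] at h1
  show tr hB p * tr hB q = tr hB q * tr hB p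
  conv_rhs => rw [h1]
  rw [mul_assoc, mul_assoc, tr_sq hB p, mul_one]

/-- Lifts of transvections at all vectors, compatible with conjugation. -/
structure Cls (hB : Space B) (ξ : C →* X) (π : suG B →* X) (x : V → C) : Prop where
  map : ∀ v, ξ (x v) = π (trv hB v)
  conj : ∀ c s v, ξ c = π s → c * x v * c⁻¹ = x (s.1 v)
  smul : ∀ (k : F) (v), k ≠ 0 → x (k • v) = x v
  triv : ∀ v, ¬ (v ≠ 0 ∧ B v v = 0) → x v = 1

theorem exists_cls : ∃ x : V → C, Cls hB ξ π x := by
  classical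
  have := hB.fin; have := hB.finF
  obtain ⟨hcomm, -⟩ := lift_tr hB hS.cov π hS.four
  obtain ⟨a, ha, haa, -⟩ := exists_iso hB (0 : V) 0 0 0
  set p : Pt B := ⟨a, ha, haa⟩
  obtain ⟨x0, hx0⟩ := hS.cov.surj (π (tr hB p))
  -- the stabiliser of the point centralises the lift
  have key : ∀ (c : C) (s : suG B) (k : F), ξ c = π s → k ≠ 0 → s.1 a = k • a → c * x0 * c⁻¹ = x0 := by
    intro c s k hc hk hs
    have hcom : Commute (π s) (π (tr hB p)) := by
      have h1 := trv_conj hB s a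
      rw [hs, trv_smul hB hk, trv_pt hB p, mul_inv_eq_iff_eq_mul] at h1
      exact (show Commute s (tr hB p) from h1).map π
    obtain ⟨s', hfix, hs'⟩ := exists_fix_lift hB π hS.surj hS.cen hS.tr_inj p hcom
    suffices ∀ c' : C, ξ c' = π s' → Commute x0 c' by
      rw [← (this c (by rw [hc, hs'])).eq, mul_inv_cancel_right]
    have hmem := mem_perpGroup hB (e := p) hfix
    clear hcom hs' hfix
    induction hmem using Subgroup.closure_induction with
    | mem g hg =>
      obtain ⟨u, hu, rfl⟩ := hg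
      intro c' hc'
      exact hcomm p u x0 c' hu hx0 hc'
    | one =>
      intro c' hc'
      exact Lift.commute_congr hS.cov (k := 1) (by rw [map_one, hc', map_one]) (Commute.one_right _)
    | mul g g' _ _ ih ih' =>
      intro c' hc'
      obtain ⟨cg, hcg⟩ := hS.cov.surj (π g)
      obtain ⟨cg', hcg'⟩ := hS.cov.surj (π g')
      exact Lift.commute_congr hS.cov (k := cg * cg') (by rw [map_mul, hcg, hcg', hc', map_mul])
        ((ih cg hcg).mul_right (ih' cg' hcg'))
    | inv g _ ih =>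
      intro c' hc'
      obtain ⟨cg, hcg⟩ := hS.cov.surj (π g)
      exact Lift.commute_congr hS.cov (k := cg⁻¹) (by rw [map_inv, hcg, hc', map_inv]) (ih cg hcg).inv_right
  have hmv : ∀ q : Pt B, ∃ (s : suG B) (c : C) (k : F), k ≠ 0 ∧ s.1 a = k • q.1 ∧ ξ c = π s := fun q => by
    obtain ⟨s, k, hk, hs⟩ := move_point hB ha haa q.2.1 q.2.2
    obtain ⟨c, hc⟩ := hS.cov.surj (π s)
    exact ⟨s, c, k, hk, hs, hc⟩
  choose S Cl K hK hSa hCl using hmv
  let x : V → C := fun v => if h : v ≠ 0 ∧ B v v = 0 then Cl ⟨v, h⟩ * x0 * (Cl ⟨v, h⟩)⁻¹ else 1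
  have gen : ∀ (c : C) (s : suG B) (q q' : Pt B) (l : F), ξ c = π s → l ≠ 0 → s.1 q.1 = l • q'.1 →
      c * (Cl q * x0 * (Cl q)⁻¹) * c⁻¹ = Cl q' * x0 * (Cl q')⁻¹ := by
    intro c s q q' l hc hl hs
    have h1 : ((S q')⁻¹ * s * S q).1 a = (K q * l * (K q')⁻¹) • a := by
      show (S q').1⁻¹ (s.1 ((S q).1 a)) = _
      rw [hSa, map_smul, hs, smul_smul, map_smul]
      have h2 : (S q').1⁻¹ q'.1 = (K q')⁻¹ • a := by
        have h3 : (S q').1⁻¹ ((S q').1 a) = a := Herm.inv_apply_self' _ _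
        rw [hSa, map_smul] at h3
        conv_rhs => rw [← h3, smul_smul, inv_mul_cancel₀ (hK q'), one_smul]
      rw [h2, smul_smul]
    have h4 := key ((Cl q')⁻¹ * c * Cl q) _ _ (by simp [hCl, hc])
      (mul_ne_zero (mul_ne_zero (hK q) hl) (inv_ne_zero (hK q'))) h1
    calc c * (Cl q * x0 * (Cl q)⁻¹) * c⁻¹
        = Cl q' * ((Cl q')⁻¹ * c * Cl q * x0 * ((Cl q')⁻¹ * c * Cl q)⁻¹) * (Cl q')⁻¹ := by group
      _ = _ := by rw [h4]
  refine ⟨x, fun v => ?_, fun c s v hc => ?_, fun k v hk => ?_, fun v hv => dif_neg hv⟩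
  · by_cases h : v ≠ 0 ∧ B v v = 0
    · simp only [x, dif_pos h, map_mul, map_inv, hCl, hx0]
      rw [← map_inv, ← map_mul, ← map_mul, ← trv_pt hB p, trv_conj, hSa, trv_smul hB (hK _)]
    · simp only [x, dif_neg h, map_one]
      rw [trv, dif_neg h, map_one]
  · by_cases h : v ≠ 0 ∧ B v v = 0
    · have h' : s.1 v ≠ 0 ∧ B (s.1 v) (s.1 v) = 0 :=
        ⟨fun e => h.1 (by simpa using e), by rw [s.2.1]; exact h.2⟩
      simp only [x, dif_pos h, dif_pos h']
      exact gen c s ⟨v, h⟩ ⟨_, h'⟩ 1 hc one_ne_zero (one_smul _ _).symm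
    · have h' : ¬ (s.1 v ≠ 0 ∧ B (s.1 v) (s.1 v) = 0) := fun e => h
        ⟨fun e' => e.1 (by rw [e', map_zero]), by rw [← s.2.1]; exact e.2⟩
      simp only [x, dif_neg h, dif_neg h', mul_one, mul_inv_cancel]
  · by_cases h : v ≠ 0 ∧ B v v = 0
    · have h' : k • v ≠ 0 ∧ B (k • v) (k • v) = 0 := ⟨smul_ne_zero hk h.1, by simp [h.2]⟩
      simp only [x, dif_pos h, dif_pos h']
      simpa using gen 1 1 ⟨_, h'⟩ ⟨v, h⟩ k (by simp) hk rfl
    · have h' : ¬ (k • v ≠ 0 ∧ B (k • v) (k • v) = 0) := fun e => h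
        ⟨fun e' => e.1 (by rw [e', smul_zero]), by simpa [hk] using e.2⟩
      simp only [x, dif_neg h, dif_neg h']

variable {x : V → C} (hx : Cls hB ξ π x)

include hx

theorem Cls.sq (v : V) : x v * x v = 1 := by
  by_cases h : v ≠ 0 ∧ B v v = 0
  · exact (lift_tr hB hS.cov π hS.four).2 ⟨v, h⟩ (x v) (by rw [hx.map, trv_pt hB ⟨v, h⟩])
  · rw [hx.triv v h, one_mul]

theorem Cls.comm {u v : V} (huv : B u v = 0) : Commute (x u) (x v) := by
  by_cases h : u ≠ 0 ∧ B u u = 0
  · by_cases h' : v ≠ 0 ∧ B v v = 0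
    · exact (lift_tr hB hS.cov π hS.four).1 ⟨u, h⟩ ⟨v, h'⟩ _ _ huv (by rw [hx.map, trv_pt hB ⟨u, h⟩])
        (by rw [hx.map, trv_pt hB ⟨v, h'⟩])
    · rw [hx.triv v h']; exact Commute.one_right _
  · rw [hx.triv u h]; exact Commute.one_left _

/-- The other class. -/
theorem Cls.flip : ∃ x' : V → C, Cls hB ξ π x' ∧ ∀ v, v ≠ 0 → B v v = 0 → x' v = x v * z := by
  classical
  refine ⟨fun v => if v ≠ 0 ∧ B v v = 0 then x v * z else x v, ⟨fun v => ?_, fun c s v hc => ?_,
    fun k v hk => ?_, fun v hv => by simp only [if_neg hv]; exact hx.triv v hv⟩,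
    fun v h h' => if_pos ⟨h, h'⟩⟩
  · show ξ (if v ≠ 0 ∧ B v v = 0 then x v * z else x v) = _
    split_ifs <;> simp [hx.map, hS.z_map]
  · have hiff : (s.1 v ≠ 0 ∧ B (s.1 v) (s.1 v) = 0) ↔ (v ≠ 0 ∧ B v v = 0) := by
      rw [s.2.1]; simp
    simp only [hiff]
    split_ifs
    · rw [← hx.conj c s v hc]
      simp only [mul_assoc]
      rw [(hS.z_comm c⁻¹).eq]
    · exact hx.conj c s v hc
  · have hiff : (k • v ≠ 0 ∧ B (k • v) (k • v) = 0) ↔ (v ≠ 0 ∧ B v v = 0) := by simp [hk]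
    simp only [hiff, hx.smul k v hk]

omit hS hx

/-- The product of the lifts at a line. -/
def lineProd (x : V → C) (w : F) (σ : F) (a b : V) : C :=
  x a * x b * x (a + b) * x (a + w • b) * x (a + σ • b)

/-- The product of the lifts at a subplane. -/
def subProd (x : V → C) (a b c : V) : C :=
  x a * x b * x c * x (a + b) * x (a + c) * x (b + c) * x (a + b + c)

/-- The subgroup of the lifts at a plane. -/
def planeW (x : V → C) (f : Frame B) : Subgroup C :=
  Subgroup.closure {y | ∃ v, (∀ i, B (f.u i) v = 0) ∧ y = x v}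

theorem mem_planeW (f : Frame B) {v : V} (hv : ∀ i, B (f.u i) v = 0) : x v ∈ planeW x f :=
  Subgroup.subset_closure ⟨v, hv, rfl⟩

include hS hx

theorem planeW_comm (f : Frame B) {c c' : C} (hc : c ∈ planeW x f) (hc' : c' ∈ planeW x f) :
    Commute c c' := by
  have h : IsMulCommutative (planeW x f) := Subgroup.isMulCommutative_closure (by
    rintro _ ⟨u, hu, rfl⟩ _ ⟨v, hv, rfl⟩
    refine (hx.comm hS ?_).eq
    rw [f.mem_plane hB hu, f.mem_plane hB hv]
    exact f.plane_iso _ _)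
  exact congrArg Subtype.val (h.is_comm.comm ⟨c, hc⟩ ⟨c', hc'⟩)

theorem map_lineProd {w : F} (hw : w + θ w = 1) {a b : V} (haa : B a a = 0) (hbb : B b b = 0)
    (hab : B a b = 0) : ξ (lineProd x w (θ w) a b) = 1 := by
  simp only [lineProd, map_mul, hx.map]
  rw [← map_mul, ← map_mul, ← map_mul, ← map_mul, line_one hB haa hbb hab hw, map_one]

theorem map_subProd (f : Frame B) : ξ (subProd x (f.u 0) (f.u 1) (f.u 2)) = 1 := by
  simp only [subProd, map_mul, hx.map]
  rw [← map_mul, ← map_mul, ← map_mul, ← map_mul, ← map_mul, ← map_mul,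
    subplane_one hB (f.uu 0 0) (f.uu 1 1) (f.uu 2 2) (f.uu 0 1) (f.uu 0 2) (f.uu 1 2), map_one]

omit hS hx
include hB

/-- Commutation inside the lifts at a plane. -/
theorem planeW_comm' (hcomm : ∀ {u v : V}, B u v = 0 → Commute (x u) (x v)) (f : Frame B) {c c' : C}
    (hc : c ∈ planeW x f) (hc' : c' ∈ planeW x f) : Commute c c' := by
  have h : IsMulCommutative (planeW x f) := Subgroup.isMulCommutative_closure (by
    rintro _ ⟨u, hu, rfl⟩ _ ⟨v, hv, rfl⟩
    refine (hcomm ?_).eq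
    rw [f.mem_plane hB hu, f.mem_plane hB hv]
    exact f.plane_iso _ _)
  exact congrArg Subtype.val (h.is_comm.comm ⟨c, hc⟩ ⟨c', hc'⟩)

/-- The square of an element above an elation, for any family of commuting involutions compatible
with the elations. -/
theorem square_identity (hsq : ∀ v, x v * x v = 1) (hcomm : ∀ {u v : V}, B u v = 0 → Commute (x u) (x v))
    (hsmul : ∀ (k : F) (v : V), k ≠ 0 → x (k • v) = x v)
    (hconj : ∀ p q v : V, B p q = 0 →
      x p * x q * x v * (x p * x q)⁻¹ = x ((trv hB p * trv hB q).1 v))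
    (f : Frame B) {w : F} (hw : w + θ w = 1) :
    ∃ u : C, u * u = x (f.u 1) * x (f.u 0 + f.u 1) *
      (subProd x (f.u 0) (f.u 1) (f.u 2) * lineProd x w (θ w) (f.u 0) (f.u 2)) := by
  have hw0 : w ≠ 0 := fun h => by rw [h] at hw; simp at hw
  have hn := norm_one hB hw0
  have hw2 : θ w * θ w = w := by linear_combination θ w * hw - hn - hw + (θ w - 1) * two hB
  set g := el hB (f.flip2 hB) w 0 2 1 with hg
  have hgg : g * g = 1 := (f.flip2 hB).rad_sq hB (el_mem hB _ hw _ _ _)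
  set p := (f.flip2 hB).u 0 + (θ 1 * w) • (f.flip2 hB).u 2
  set q := (f.flip2 hB).u 0 + (θ 1 * θ w) • (f.flip2 hB).u 2
  have hpq : B p q = 0 := by simp [p, q, (f.flip2 hB).uu]
  set ĝ := x p * x q with hĝ
  have hξ : ∀ v, ĝ * x v * ĝ⁻¹ = x (g.1 v) := fun v => hconj p q v hpq
  have hĝ2 : ĝ * ĝ = 1 := by
    rw [hĝ, (hcomm hpq).symm.mul_mul_mul_comm, hsq, hsq, one_mul]
  have hĝi : ĝ⁻¹ = ĝ := inv_eq_of_mul_eq_one_left hĝ2
  set r := f.u 1 + f.u 2
  set s := f.u 0 + w • f.u 2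
  have hgr : g.1 r = f.u 0 + f.u 1 + f.u 2 := by
    rw [hg, el_apply hB _ hw]
    simp [r, Frame.flip2, f.uu, f.vu]
    abel
  have hgs : g.1 s = θ w • (f.u 0 + θ w • f.u 2) := by
    rw [hg, el_apply hB _ hw]
    simp [s, Frame.flip2, f.uu, f.vu, smul_smul, hw2]
    match_scalars
    · linear_combination hw + (1 - θ w) * two hB
    · rfl
  refine ⟨x r * x s * ĝ, ?_⟩
  have h1 : x r * x s * ĝ * (x r * x s * ĝ) = x r * x s * (ĝ * x r * ĝ⁻¹ * (ĝ * x s * ĝ⁻¹)) := by
    simp only [hĝi, mul_assoc]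
    rw [← mul_assoc ĝ ĝ, hĝ2, one_mul]
  rw [h1, hξ r, hξ s, hgr, hgs, hsmul _ _ fun h => hw0 (by simpa using h)]
  -- reorder inside the plane
  have hu : ∀ a : Fin 3 → F, ∀ i, B (f.u i) (∑ k, a k • f.u k) = 0 := fun a i => by
    simp [map_sum, f.uu]
  have hv : ∀ v : V, (∀ i, B (f.u i) v = 0) → x v ∈ planeW x f := fun v h => mem_planeW f h
  letI : CommGroup (planeW x f) :=
    { (inferInstance : Group (planeW x f)) with
      mul_comm := fun a b => Subtype.ext (planeW_comm' (hB := hB) hcomm f a.2 b.2).eq }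
  have hsq' : ∀ a : planeW x f, (∃ v, a.1 = x v) → a * a = 1 := fun a ⟨v, h⟩ =>
    Subtype.ext (by show a.1 * a.1 = 1; rw [h, hsq])
  let el' : ∀ v : V, (∀ i, B (f.u i) v = 0) → planeW x f := fun v h => ⟨x v, hv v h⟩
  have key : ∀ a b c ab ac bc abc aw aσ : planeW x f, a * a = 1 → b * b = 1 → c * c = 1 → ab * ab = 1 →
      ac * ac = 1 → bc * aw * (abc * aσ) =
        b * ab * (a * b * c * ab * ac * bc * abc * (a * c * ac * aw * aσ)) := by
    intro a b c ab ac bc abc aw aσ ha hb hc hab hac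
    calc bc * aw * (abc * aσ) = a * a * (b * b) * (c * c) * (ab * ab) * (ac * ac) * (bc * aw * (abc * aσ)) := by
          rw [ha, hb, hc, hab, hac]; simp
      _ = _ := by ac_rfl
  have hd : ∀ i j, B (f.u i) (f.u j) = 0 := f.uu
  exact congrArg Subtype.val (key (el' (f.u 0) (by simp [hd])) (el' (f.u 1) (by simp [hd]))
    (el' (f.u 2) (by simp [hd])) (el' (f.u 0 + f.u 1) (by simp [hd])) (el' (f.u 0 + f.u 2) (by simp [hd]))
    (el' (f.u 1 + f.u 2) (by simp [hd])) (el' (f.u 0 + f.u 1 + f.u 2) (by simp [hd]))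
    (el' (f.u 0 + w • f.u 2) (by simp [hd])) (el' (f.u 0 + θ w • f.u 2) (by simp [hd]))
    (hsq' _ ⟨_, rfl⟩) (hsq' _ ⟨_, rfl⟩) (hsq' _ ⟨_, rfl⟩) (hsq' _ ⟨_, rfl⟩) (hsq' _ ⟨_, rfl⟩))

/-- A product of two members exchanged by an elation is a square. -/
theorem square_pair (hsq : ∀ v, x v * x v = 1) (hcomm : ∀ {u v : V}, B u v = 0 → Commute (x u) (x v))
    (hconj : ∀ p q v : V, B p q = 0 →
      x p * x q * x v * (x p * x q)⁻¹ = x ((trv hB p * trv hB q).1 v))
    (f : Frame B) {w : F} (hw : w + θ w = 1) : ∃ u : C, u * u = x (f.u 2) * x (f.u 2 + f.u 0) := by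
  set g := el hB (f.flip2 hB) w 0 2 1 with hg
  set p := (f.flip2 hB).u 0 + (θ 1 * w) • (f.flip2 hB).u 2
  set q := (f.flip2 hB).u 0 + (θ 1 * θ w) • (f.flip2 hB).u 2
  have hpq : B p q = 0 := by simp [p, q, (f.flip2 hB).uu]
  have hgi : (x p * x q)⁻¹ = x p * x q := inv_eq_of_mul_eq_one_left (by
    rw [(hcomm hpq).symm.mul_mul_mul_comm, hsq, hsq, one_mul])
  have hgu : g.1 (f.u 2) = f.u 2 + f.u 0 := by
    rw [hg, el_apply hB _ hw]
    simp [Frame.flip2, f.uu, f.vu]
  refine ⟨x (f.u 2) * (x p * x q), ?_⟩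
  rw [← hgu, show g = trv hB p * trv hB q from rfl, ← hconj p q (f.u 2) hpq, hgi]
  simp only [mul_assoc]

include hS hx

theorem Cls.conj_pair (p q v : V) :
    x p * x q * x v * (x p * x q)⁻¹ = x ((trv hB p * trv hB q).1 v) :=
  hx.conj _ _ _ (by rw [map_mul, hx.map, hx.map, map_mul])

/-- The square of an element above an elation. -/
theorem exists_square (f : Frame B) {w : F} (hw : w + θ w = 1) :
    ∃ u : C, u * u = x (f.u 1) * x (f.u 0 + f.u 1) *
      (subProd x (f.u 0) (f.u 1) (f.u 2) * lineProd x w (θ w) (f.u 0) (f.u 2)) :=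
  square_identity (hx.sq hS) (hx.comm hS) hx.smul (fun p q v _ => hx.conj_pair hS p q v) f hw

end Cfsg.Agent.ThreeTrans.UModel
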