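import Cfsg.Agent.ThreeTrans.CoverThompson
import Cfsg.Agent.ThreeTrans.CountM22

/-!
# Double covers of groups of type M(22): member lifts and the layer of a member

The lifts of the members fall into two classes.  Over the centraliser of a base member they give a
class of lifts of the transvections of U₆(2), with a central group of order four.
-/

set_option autoImplicit false

open Cfsg Cfsg.Agent.Classical Cfsg.Agent.Classical.Herm Module

namespace Cfsg.Agent.ThreeTrans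

variable {C X : Type*} [Group C] [Group X]

/-- A double cover of a group of type M(22). -/
structure MCover (ξ : C →* X) (z : C) (E : Set X) : Prop where
  cov : Lift.Cov ξ
  z_map : ξ z = 1
  z_ne : z ≠ 1
  kern : ∀ c, ξ c = 1 → c = 1 ∨ c = z
  cls : IsThreeTranspositionClass E
  m22 : IsOfTypeM22 X E

/-- A compatible choice of lifts of the members. -/
structure MemLift (ξ : C →* X) (E : Set X) (y : X → C) : Prop where
  map : ∀ e ∈ E, ξ (y e) = e
  conj : ∀ c : C, ∀ e ∈ E, c * y e * c⁻¹ = y (ξ c * e * (ξ c)⁻¹)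

variable {ξ : C →* X} {z : C} {E : Set X} (hM : MCover ξ z E)

include hM

theorem MCover.z_sq : z * z = 1 := hM.cov.sq z hM.z_map

theorem MCover.z_comm (c : C) : Commute z c := hM.cov.comm z hM.z_map c

theorem MCover.group : IsThreeTranspositionGroup E := class_toGroup hM.cls

variable [Finite X]

theorem MCover.member_sq {e : X} (he : e ∈ E) {c : C} (hc : ξ c = e) : c * c = 1 := by
  obtain ⟨b, hb, hbe⟩ := lift_involution_M22 hM.cov hM.cls hM.m22 (mul_self hM.group.1 he)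
  rw [Lift.sq_congr hM.cov (show ξ c = ξ b by rw [hc, hbe]), hb]

theorem MCover.member_comm {e : X} (he : e ∈ E) {c c' : C} (hc : ξ c = e) (h : Commute e (ξ c')) :
    Commute c c' := by
  refine Lift.commute_of_perfect hM.cov (centralizer_perfect_M22 hM.group hM.m22 he) (fun g hg => ?_) ?_
  · rw [hc]; exact (Subgroup.mem_centralizer_singleton_iff.1 hg : g * e = e * g).symm
  · exact Subgroup.mem_centralizer_singleton_iff.2 h.symm.eq

theorem MCover.exists_memLift : ∃ y : X → C, MemLift ξ E y := by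
  classical
  obtain ⟨-, e₀, he₀, -⟩ := id hM.m22
  obtain ⟨c₀, hc₀⟩ := hM.cov.surj e₀
  have hmv : ∀ e ∈ E, ∃ c : C, ξ c * e₀ * (ξ c)⁻¹ = e := fun e he => by
    obtain ⟨g, hg⟩ := class_isConj hM.cls he₀ he
    obtain ⟨c, rfl⟩ := hM.cov.surj g
    exact ⟨c, hg⟩
  choose m hm using hmv
  let y : X → C := fun e => if h : e ∈ E then m e h * c₀ * (m e h)⁻¹ else 1
  refine ⟨y, fun e he => ?_, fun c e he => ?_⟩
  · simp only [y, dif_pos he, map_mul, map_inv, hc₀, hm e he]
  · have he' : ξ c * e * (ξ c)⁻¹ ∈ E := hM.group.2.1 _ _ he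
    simp only [y, dif_pos he, dif_pos he']
    set k := (m _ he')⁻¹ * (c * m e he) with hk
    have hcom : Commute c₀ k := hM.member_comm he₀ hc₀ (by
      show e₀ * ξ k = ξ k * e₀
      have h3 : ξ k * e₀ * (ξ k)⁻¹ = e₀ := by
        calc ξ k * e₀ * (ξ k)⁻¹
            = (ξ (m _ he'))⁻¹ * (ξ c * (ξ (m e he) * e₀ * (ξ (m e he))⁻¹) * (ξ c)⁻¹) * ξ (m _ he') := by
              simp only [hk, map_mul, map_inv]; group
          _ = (ξ (m _ he'))⁻¹ * (ξ (m _ he') * e₀ * (ξ (m _ he'))⁻¹) * ξ (m _ he') := by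
              rw [hm e he, hm _ he']
          _ = e₀ := by group
      exact (mul_inv_eq_iff_eq_mul.1 h3).symm)
    calc c * (m e he * c₀ * (m e he)⁻¹) * c⁻¹ = m _ he' * (k * c₀ * k⁻¹) * (m _ he')⁻¹ := by
          simp only [hk]; group
      _ = _ := by rw [← hcom.eq, mul_inv_cancel_right]

variable {y : X → C} (hy : MemLift ξ E y)

include hy

theorem MemLift.sq {e : X} (he : e ∈ E) : y e * y e = 1 := hM.member_sq he (hy.map e he)

theorem MemLift.comm {a b : X} (ha : a ∈ E) (hb : b ∈ E) (h : Commute a b) : Commute (y a) (y b) :=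
  hM.member_comm ha (hy.map a ha) (by rwa [hy.map b hb])

omit hM hy [Finite X] in
/-- The preimage of the centraliser of a member. -/
def pre (ξ : C →* X) (e : X) : Subgroup C := (Subgroup.centralizer ({e} : Set X)).comap ξ

omit hM hy [Finite X] in
theorem mem_pre {e : X} {c : C} : c ∈ pre ξ e ↔ ξ c * e = e * ξ c :=
  Subgroup.mem_centralizer_singleton_iff

omit hM hy [Finite X] in
/-- A unitary model for the layer of a member. -/
structure MLayer {F V : Type} [Field F] [AddCommGroup V] [Module F V] {θ : F →+* F}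
    {B : V →ₛₗ[θ] V →ₗ[F] F} (hB : UModel.Space B) (ξ : C →* X) (y : X → C) (E : Set X) (e : X)
    {Xu : Type*} [Group Xu] (π : suG B →* Xu) (ρ : pre ξ e →* Xu) (x : V → C) : Prop where
  four : Nat.card F = 4
  mem_e : e ∈ E
  surj : Function.Surjective π
  ker : ∀ g, π g = 1 → g ∈ Subgroup.center (suG B) ∧ g ^ 3 = 1
  cen : ∀ g ∈ Subgroup.center (suG B), π g = 1
  rsurj : Function.Surjective ρ
  rker : ∀ c, ρ c = 1 ↔ ξ c = 1 ∨ ξ c = e
  card : ¬ 2 ^ 16 ∣ Nat.card Xu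
  member : ∀ p : UModel.Pt B, ∃ m ∈ dperp E e, x p.1 = y m ∧
    ∀ h : y m ∈ pre ξ e, ρ ⟨y m, h⟩ = π (UModel.tr hB p)
  onto : ∀ m ∈ dperp E e, ∃ p : UModel.Pt B, x p.1 = y m
  triv : ∀ v, ¬ (v ≠ 0 ∧ B v v = 0) → x v = 1
  conj : ∀ (c : pre ξ e) (s : suG B) (v : V), ρ c = π s → (c : C) * x v * (c : C)⁻¹ = x (s.1 v)
  comm : ∀ {u v : V}, B u v = 0 → Commute (x u) (x v)
  smul : ∀ (k : F) (v : V), k ≠ 0 → x (k • v) = x v

theorem MCover.exists_layer : ∃ (e : X) (F : Type) (_ : Field F) (θ : F →+* F)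
    (hB : UModel.Space (hermB 6 θ)) (π : suG (hermB 6 θ) →*
      ↥(Subgroup.closure {y : X | y ∈ E ∧ y ≠ e ∧ Commute e y}) ⧸ Subgroup.center
        ↥(Subgroup.closure {y : X | y ∈ E ∧ y ≠ e ∧ Commute e y}))
    (ρ : pre ξ e →* ↥(Subgroup.closure {y : X | y ∈ E ∧ y ≠ e ∧ Commute e y}) ⧸ Subgroup.center
        ↥(Subgroup.closure {y : X | y ∈ E ∧ y ≠ e ∧ Commute e y}))
    (x : (Fin 6 → F) → C), MLayer hB ξ y E e π ρ x := by
  classical
  have hD := hM.group
  have h22 := hM.m22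
  have hT := hD.1
  have hF := m22Full hD h22
  have hZ := h22.1
  have he : E \ {1} = E := Set.sdiff_singleton_eq_self fun h1 => ne_one hT h1 rfl
  obtain ⟨⟨hcls, -, hN⟩, -, -⟩ := layerData_of_M22 (by rwa [he]) h22
  rw [he] at hcls hN
  obtain ⟨-, d, hd, c, -, -, ⟨F, hFld, hFt, hF4, ⟨eq⟩⟩, -⟩ := id h22
  refine ⟨d, F, hFld, ?_⟩
  set H := Subgroup.closure {y : X | y ∈ E ∧ y ≠ d ∧ Commute d y}
  have hH : H = Subgroup.closure (dperp E d) := rfl
  have hcard : 2 ^ 15 ∣ Nat.card (H ⧸ Subgroup.center H) := by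
    rw [Nat.card_congr eq.toEquiv]
    exact two_pow_dvd_psu hF4
  have : IsSimpleGroup (H ⧸ Subgroup.center H) :=
    (MulEquiv.isSimpleGroup_congr eq).2 (Cfsg.Agent.S0283.result
      (by rw [hF4]; norm_num : Fintype.card F = 2 ^ 2) 6 (by norm_num) (by norm_num))
  have hgrp := lowImage_group hD hH
  have hG := good_of_simple (not_isMulCommutative_of_two_pow_dvd hgrp hcard) hgrp
  obtain ⟨q, hq, -⟩ := hG.2.1
  obtain ⟨θ, hB, π, hsurj, hker, hMd⟩ := psu_hom_kernel hF4 eq hgrp ⟨q, hq⟩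
  have := finite_suG hB
  have hcen : Subgroup.centralizer ({d} : Set X) = H := centralizer_eq_closure hD hF hZ hd
  have hlift : ∀ v : UModel.Pt (hermB 6 θ), ∃ x : H, (x : X) ∈ dperp E d ∧
      (x : H ⧸ Subgroup.center H) = π (UModel.tr hB v) := fun v => by
    obtain ⟨⟨x, hx, hxe⟩, -⟩ := UModel.tp_mem hMd v
    exact ⟨x, hx, hxe⟩
  choose xl hxl1 hxl2 using hlift
  -- the projection
  have hdom : ∀ c : pre ξ d, ξ c ∈ H := fun c => hcen ▸ c.2
  let ρ : pre ξ d →* H ⧸ Subgroup.center H :=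
    (QuotientGroup.mk' _).comp ((ξ.comp (pre ξ d).subtype).codRestrict H hdom)
  have hdH : d ∈ H := hcen ▸ Subgroup.mem_centralizer_singleton_iff.2 rfl
  have hZH : ∀ h : H, h ∈ Subgroup.center H ↔ (h : X) = 1 ∨ (h : X) = d := fun h => by
    refine ⟨fun hh => eq_one_or_eq_of_centralises hD hZ hF.data hF.links hd (commute_of_mem_H hH h.2).symm
      fun x hx => (congrArg Subtype.val (Subgroup.mem_center_iff.1 hh ⟨x, mem_H hH hx⟩)).symm, ?_⟩
    rintro (hh | hh)
    · rw [show h = 1 from Subtype.ext hh]; exact one_mem _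
    · exact Subgroup.mem_center_iff.2 fun k => Subtype.ext (by
        show (k : X) * h = h * k
        rw [hh]; exact (commute_of_mem_H hH k.2).symm.eq)
  -- members with the same image are equal
  have hinj : ∀ u v : H, (u : X) ∈ dperp E d → (v : X) ∈ dperp E d →
      (u : H ⧸ Subgroup.center H) = v → (u : X) = v := by
    intro u v hu hv huv
    rcases (hZH _).1 (QuotientGroup.eq.1 huv) with h | h <;> rw [Subgroup.coe_mul, Subgroup.coe_inv] at h
    · exact inv_mul_eq_one.1 h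
    exfalso
    have hne : (u : X) ≠ v := fun e => ne_one hT hd (by rw [← h, e, inv_mul_cancel])
    have huv' : Commute (u : X) v := reflect hD hH hu hv (by rw [huv])
    obtain ⟨w, hw, hwu⟩ := hF.data.nice.sep d hd u hu
    refine hwu ((commute_pair_iff hT hu.1 hv.1 hw.1 huv' hne).1 ?_).1
    rw [show (u : X) * v = d by rw [← h, inv_eq hT hu.1]]
    exact hw.2.2.symm
  let x : (Fin 6 → F) → C := fun v =>
    if h : v ≠ 0 ∧ (hermB 6 θ) v v = 0 then y (xl ⟨v, h⟩) else 1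
  have hxp : ∀ p : UModel.Pt (hermB 6 θ), x p.1 = y (xl p) := fun p => by simp only [x, dif_pos p.2]
  have hpre : ∀ m ∈ dperp E d, y m ∈ pre ξ d := fun m hm =>
    mem_pre.2 (by rw [hy.map m hm.1]; exact hm.2.2.symm.eq)
  have hρ : ∀ (m : X) (hm : m ∈ dperp E d) (h : y m ∈ pre ξ d),
      ρ ⟨y m, h⟩ = ((⟨m, mem_H hH hm⟩ : H) : H ⧸ Subgroup.center H) := fun m hm h => by
    show ((⟨ξ (y m), _⟩ : H) : H ⧸ Subgroup.center H) = _
    congr 1
    exact Subtype.ext (hy.map m hm.1)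
  refine ⟨θ, hB, π, ρ, x, ⟨by rw [Nat.card_eq_fintype_card, hF4], hd, hsurj, hker, ?_, ?_, fun c => ?_, ?_,
    fun p => ?_, fun m hm => ?_, fun v hv => dif_neg hv, fun c s v hc => ?_, ?_, fun k v hk => ?_⟩⟩
  · intro g hg
    obtain ⟨θ', -, hθ', hfix, -⟩ := exists_powHom (F := F) (q := 2) (by rw [hF4]; norm_num)
    have h3 : (π.ker : Subgroup _) = Subgroup.center (suG (hermB 6 θ)) := by
      refine le_antisymm (fun a ha => (hker a ha).1) ?_
      have hmap : (Subgroup.center (suG (hermB 6 θ))).map π = ⊥ := by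
        have hsub : (Subgroup.center (suG (hermB 6 θ))).map π ≤ Subgroup.center (H ⧸ Subgroup.center H) := by
          rintro _ ⟨a, ha, rfl⟩
          refine Subgroup.mem_center_iff.2 fun b => ?_
          obtain ⟨b, rfl⟩ := hsurj b
          rw [← map_mul, ← map_mul, Subgroup.mem_center_iff.1 ha b]
        rcases IsSimpleGroup.eq_bot_or_eq_top_of_normal (Subgroup.center (H ⧸ Subgroup.center H)) inferInstance
          with h | h
        · exact le_bot_iff.1 (h ▸ hsub)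
        · exact absurd ⟨⟨fun a b => Subgroup.mem_center_iff.1 (h ▸ Subgroup.mem_top b) a⟩⟩
            (not_isMulCommutative_of_two_pow_dvd hgrp hcard)
      intro a ha
      have : π a ∈ (Subgroup.center (suG (hermB 6 θ))).map π := Subgroup.mem_map_of_mem π ha
      rw [hmap] at this
      exact this
    exact (h3 ▸ hg : g ∈ π.ker)
  · intro q'
    obtain ⟨h, rfl⟩ := QuotientGroup.mk'_surjective (Subgroup.center H) q'
    obtain ⟨c, hc⟩ := hM.cov.surj (h : X)
    refine ⟨⟨c, ?_⟩, ?_⟩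
    · show ξ c ∈ Subgroup.centralizer ({d} : Set X)
      rw [hc, hcen]; exact h.2
    · show ((⟨ξ c, _⟩ : H) : H ⧸ Subgroup.center H) = h
      congr 1
      exact Subtype.ext hc
  · show ((⟨ξ c, _⟩ : H) : H ⧸ Subgroup.center H) = 1 ↔ _
    rw [QuotientGroup.eq_one_iff, hZH]
  · rw [Nat.card_congr eq.toEquiv, card_psu_six hF4]
    norm_num
  · refine ⟨xl p, hxl1 p, hxp p, fun h => ?_⟩
    rw [hρ _ (hxl1 p) h]
    exact hxl2 p
  · obtain ⟨p, hp⟩ := UModel.exists_tp hMd (g := ((⟨m, mem_H hH hm⟩ : H) : H ⧸ Subgroup.center H))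
      ⟨⟨⟨m, mem_H hH hm⟩, hm, rfl⟩, fun h1 => by
        rcases (hZH _).1 ((QuotientGroup.eq_one_iff _).1 h1) with h | h
        · exact ne_one hT hm.1 h
        · exact hm.2.1 h⟩
    refine ⟨p, ?_⟩
    rw [hxp, hinj (xl p) ⟨m, mem_H hH hm⟩ (hxl1 p) hm (by rw [hxl2]; exact hp)]
  · by_cases h : v ≠ 0 ∧ (hermB 6 θ) v v = 0
    · have h' : s.1 v ≠ 0 ∧ (hermB 6 θ) (s.1 v) (s.1 v) = 0 :=
        ⟨fun e' => h.1 (by simpa using e'), by rw [s.2.1]; exact h.2⟩
      simp only [x, dif_pos h, dif_pos h']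
      rw [hy.conj _ _ (hxl1 _).1]
      congr 1
      refine hinj ⟨_, mul_mem (mul_mem (hdom c) (xl ⟨v, h⟩).2) (inv_mem (hdom c))⟩ (xl ⟨_, h'⟩)
        (dperp_conj_H hD hH (hdom c) (hxl1 _)) (hxl1 _) ?_
      rw [hxl2]
      show ρ c * ((xl ⟨v, h⟩ : H) : H ⧸ Subgroup.center H) * (ρ c)⁻¹ = _
      rw [hc, hxl2, ← map_inv, ← map_mul, ← map_mul,
        UModel.tr_conj hB s (v := ⟨v, h⟩) (u := ⟨_, h'⟩) rfl]
    · have h' : ¬ (s.1 v ≠ 0 ∧ (hermB 6 θ) (s.1 v) (s.1 v) = 0) := fun e' => h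
        ⟨fun e'' => e'.1 (by rw [e'', map_zero]), by rw [← s.2.1]; exact e'.2⟩
      simp only [x, dif_neg h, dif_neg h', mul_one, mul_inv_cancel]
  · intro u v huv
    simp only [x]
    split_ifs with h h'
    · exact hy.comm hM (hxl1 _).1 (hxl1 _).1 (reflect hD hH (hxl1 _) (hxl1 _) (by
        rw [hxl2, hxl2]; exact ((UModel.tr_commute_iff hB _ _).2 huv).map π))
    all_goals first | exact Commute.one_right _ | exact Commute.one_left _
  · by_cases h : v ≠ 0 ∧ (hermB 6 θ) v v = 0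
    · have h' : k • v ≠ 0 ∧ (hermB 6 θ) (k • v) (k • v) = 0 := ⟨smul_ne_zero hk h.1, by simp [h.2]⟩
      simp only [x, dif_pos h, dif_pos h']
      rw [hinj (xl ⟨_, h'⟩) (xl ⟨v, h⟩) (hxl1 _) (hxl1 _) (by
        rw [hxl2, hxl2, (UModel.tr_eq_iff hB ⟨v, h⟩ ⟨_, h'⟩).2 ⟨k, rfl⟩])]
    · have h' : ¬ (k • v ≠ 0 ∧ (hermB 6 θ) (k • v) (k • v) = 0) := fun e' => h
        ⟨fun e'' => e'.1 (by rw [e'', smul_zero]), by simpa [hk] using e'.2⟩
      simp only [x, dif_neg h, dif_neg h']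

end Cfsg.Agent.ThreeTrans
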