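import Cfsg.Agent.ThreeTrans.CoverM22Quot

/-!
# The preimage of the centraliser of a member is perfect

Otherwise a character separating the central involution extends to the preimage of the stabiliser of
two commuting members, which has odd index, against the transfer.
-/

set_option autoImplicit false

open Cfsg Cfsg.Agent.Classical Cfsg.Agent.Classical.Herm Module

namespace Cfsg.Agent.ThreeTrans

/-- Five distinct pairwise commuting members of one layer do not multiply to one. -/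
theorem five_ne_one {G : Type*} [Group G] {D : Set G} (hT : IsThreeTranspositionSet D) (hM : M22Data D)
    {a b c p q : G} (hnd : [a, b, c, p, q].Nodup) (hm : ∀ g ∈ [a, b, c, p, q], g ∈ D)
    (hcom : ∀ g ∈ [a, b, c, p, q], ∀ g' ∈ [a, b, c, p, q], Commute g g') : a * b * c * p * q ≠ 1 := by
  intro h1
  have hp := hm p (by simp)
  have hq := hm q (by simp)
  simp only [List.nodup_cons, List.mem_cons, List.not_mem_nil, or_false, not_or] at hnd
  obtain ⟨⟨nab, nac, nap, naq⟩, ⟨nbc, nbp, nbq⟩, ⟨ncp, ncq⟩, npq, -⟩ := hnd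
  have hqp : q ∈ dperp D p := ⟨hq, Ne.symm npq, hcom _ (by simp) _ (by simp)⟩
  obtain ⟨d, hd, hda⟩ := (hM.layerNice p hp).sep q hqp a
    ⟨⟨hm a (by simp), nap, hcom _ (by simp) _ (by simp)⟩, naq, hcom _ (by simp) _ (by simp)⟩
  refine hda ((commute_triple_iff hT (hm a (by simp)) (hm b (by simp)) (hm c (by simp)) hd.1.1
    (hcom _ (by simp) _ (by simp)) (hcom _ (by simp) _ (by simp)) (hcom _ (by simp) _ (by simp)) nab nac nbc).1
    ?_).1
  have e : a * b * c = q * p := by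
    calc a * b * c = a * b * c * p * q * (q * p) := by
          simp only [mul_assoc, mul_self_mul hT hq, mul_self hT hp, mul_one]
      _ = q * p := by rw [h1, one_mul]
  rw [e]
  exact hd.2.2.symm.mul_right hd.1.2.2.symm

variable {F V : Type} [Field F] [AddCommGroup V] [Module F V] {θ : F →+* F}
  {B : V →ₛₗ[θ] V →ₗ[F] F} {hB : UModel.Space B}
  {C X : Type*} [Group C] [Group X] {ξ : C →* X} {z : C} {E : Set X} {y : X → C} {e : X}
  {Xu : Type*} [Group Xu] {π : suG B →* Xu} {ρ : pre ξ e →* Xu} {x : V → C}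
  [Finite C] [Finite X] (hM : MCover ξ z E) (hy : MemLift ξ E y) (hL : MLayer hB ξ y E e π ρ x)

include hM hy hL

/-- The vector of a lift is determined up to a scalar. -/
theorem MLayer.x_eq {a b : V} (ha : a ≠ 0) (haa : B a a = 0) (hb : b ≠ 0) (hbb : B b b = 0)
    (h : x a = x b) : ∃ k : F, b = k • a := by
  have e1 : π (UModel.trv hB a) = π (UModel.trv hB b) := by
    rw [← hL.rho_x hM hy a, ← hL.rho_x hM hy b]
    exact congrArg ρ (Subtype.ext h)
  rw [UModel.trv_pt hB ⟨a, ha, haa⟩, UModel.trv_pt hB ⟨b, hb, hbb⟩] at e1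
  set p : UModel.Pt B := ⟨a, ha, haa⟩
  set q : UModel.Pt B := ⟨b, hb, hbb⟩
  obtain ⟨hk, hk3⟩ := hL.ker (UModel.tr hB p * UModel.tr hB q)
    (by rw [map_mul, e1, ← map_mul, UModel.tr_sq hB q, map_one])
  have hc : Commute (UModel.tr hB p) (UModel.tr hB q) := by
    have h1 := Subgroup.mem_center_iff.1 hk (UModel.tr hB p)
    rw [← mul_assoc, UModel.tr_sq hB p, one_mul] at h1
    show UModel.tr hB p * UModel.tr hB q = UModel.tr hB q * UModel.tr hB p
    conv_rhs => rw [h1]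
    rw [mul_assoc, mul_assoc, UModel.tr_sq hB p, mul_one]
  have h2 : UModel.tr hB p * UModel.tr hB q * (UModel.tr hB p * UModel.tr hB q) = 1 := by
    rw [hc.symm.mul_mul_mul_comm, UModel.tr_sq, UModel.tr_sq, one_mul]
  rw [pow_succ, pow_two, h2, one_mul] at hk3
  have heq : UModel.tr hB p = UModel.tr hB q := by
    rw [eq_inv_of_mul_eq_one_left hk3, inv_eq_of_mul_eq_one_left (UModel.tr_sq hB q)]
  exact (UModel.tr_eq_iff hB p q).1 heq

/-- The preimage of the centraliser of a member is perfect. -/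
theorem MLayer.pre_perfect (hperf : commutator C = ⊤) : commutator (pre ξ e) = ⊤ := by
  classical
  have hT := hM.group.1
  have hF := m22Full hM.group hM.m22
  have heE := hL.mem_e
  have hmem : ∀ {c}, c ∈ pre ξ e ↔ ξ c * e = e * ξ c := fun {c} => mem_pre
  -- the commutator group covers the centraliser
  have hcover : ∀ c : (pre ξ e), c ∈ commutator (pre ξ e) ∨ c * ⟨z, hL.z_mem hM hy⟩ ∈ commutator (pre ξ e) := by
    intro c
    have hmap : (commutator (pre ξ e)).map (ξ.comp (pre ξ e).subtype) = Subgroup.centralizer ({e} : Set X) := by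
      have hr : (⊤ : Subgroup (pre ξ e)).map (ξ.comp (pre ξ e).subtype) = Subgroup.centralizer ({e} : Set X) := by
        rw [← Subgroup.map_map, ← MonoidHom.range_eq_map, Subgroup.range_subtype, pre,
          Subgroup.map_comap_eq_self_of_surjective hM.cov.surj]
      rw [commutator_def, Subgroup.map_commutator, hr, centralizer_perfect_M22 hM.group hM.m22 heE]
    obtain ⟨c', hc', hcc⟩ : ξ (c : C) ∈ (commutator (pre ξ e)).map (ξ.comp (pre ξ e).subtype) := hmap ▸ c.2
    obtain ⟨k, hk, ek⟩ := Lift.exists_ker hM.cov (show ξ (c : C) = ξ (c' : C) from hcc.symm)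
    rcases hM.kern k hk with hk' | hk' <;> rw [hk'] at ek
    · left; rwa [show c = c' from Subtype.ext (by rw [ek, mul_one])]
    · right
      rwa [show c * ⟨z, hL.z_mem hM hy⟩ = c' from Subtype.ext (by
        show (c : C) * z = c'
        rw [ek, mul_assoc, hM.z_sq, mul_one])]
  by_contra hne
  set zD : (pre ξ e) := ⟨z, hL.z_mem hM hy⟩
  have hzne : zD ∉ commutator (pre ξ e) := fun h => hne (eq_top_iff.2 fun c _ => by
    rcases hcover c with hc | hc
    · exact hc
    · simpa using mul_mem hc (inv_mem h))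
  let φ : (pre ξ e) →* Abelianization (pre ξ e) := Abelianization.of
  have hφz : φ zD ≠ 1 := fun h => hzne (by
    rw [← Abelianization.ker_of]; exact MonoidHom.mem_ker.2 h)
  have hperfz : ∀ hm : z ∈ pre ξ e, commutator (pre ξ e) ⊔ Subgroup.zpowers ⟨z, hm⟩ = ⊤ := fun hm =>
    eq_top_iff.2 fun c _ => by
      rcases hcover c with hc | hc
      · exact Subgroup.mem_sup_left hc
      · rw [show c = c * zD * zD⁻¹ by group]
        exact mul_mem (Subgroup.mem_sup_left hc) (Subgroup.mem_sup_right (inv_mem (Subgroup.mem_zpowers _)))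
  obtain ⟨w, hw⟩ := UModel.exists_split hB
  obtain ⟨f, hf1, hfz⟩ := hL.quot_unbalanced hM hy (Or.inl rfl) hperfz hw
  -- the members at the frame
  have hxm : ∀ v, v ≠ 0 → B v v = 0 → ∃ m ∈ dperp E e, x v = y m := fun v h h' => by
    obtain ⟨m, hm, hm', -⟩ := hL.member ⟨v, h, h'⟩
    exact ⟨m, hm, hm'⟩
  have hne' : ∀ a : Fin 3 → F, a ≠ 0 → (∑ i, a i • f.u i) ≠ 0 := fun a ha h0 =>
    ha (funext fun i => by rw [← f.plane_coord a i, h0, map_zero, Pi.zero_apply])
  have hpt : ∀ a b c : F, a ≠ 0 ∨ b ≠ 0 ∨ c ≠ 0 → a • f.u 0 + b • f.u 1 + c • f.u 2 ≠ 0 := by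
    intro a b c h
    have := hne' ![a, b, c] fun e0 => by
      have h0 : a = 0 := by simpa using congrFun e0 0
      have h1 : b = 0 := by simpa using congrFun e0 1
      have h2 : c = 0 := by simpa using congrFun e0 2
      simp [h0, h1, h2] at h
    simpa [Fin.sum_univ_three] using this
  have hpl : ∀ a b c : F, B (a • f.u 0 + b • f.u 1 + c • f.u 2) (a • f.u 0 + b • f.u 1 + c • f.u 2) = 0 :=
    fun a b c => by simp [f.uu]
  have hmem' : ∀ a b c : F, (a ≠ 0 ∨ b ≠ 0 ∨ c ≠ 0) →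
      ∃ m ∈ dperp E e, x (a • f.u 0 + b • f.u 1 + c • f.u 2) = y m := fun a b c h =>
    hxm _ (hpt a b c h) (hpl a b c)
  -- the line gives the member
  have hLe : ξ (UModel.lineProd x w (θ w) (f.u 0) (f.u 2)) = e := by
    obtain ⟨hl, hl1⟩ := hL.line_ker hM hy hw (f.uu 0 0) (f.uu 2 2) (f.uu 0 2)
    refine ((hL.rker _).1 (hl1 hl)).resolve_left fun h1 => ?_
    have hw0 : w ≠ 0 := fun h => by rw [h] at hw; simp at hw
    obtain ⟨m1, hm1, e1⟩ := hmem' 1 0 0 (by simp)
    obtain ⟨m2, hm2, e2⟩ := hmem' 0 0 1 (by simp)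
    obtain ⟨m3, hm3, e3⟩ := hmem' 1 0 1 (by simp)
    obtain ⟨m4, hm4, e4⟩ := hmem' 1 0 w (by simp)
    obtain ⟨m5, hm5, e5⟩ := hmem' 1 0 (θ w) (by simp)
    simp only [one_smul, zero_smul, add_zero, zero_add] at e1 e2 e3 e4 e5
    have hprod : m1 * m2 * m3 * m4 * m5 = 1 := by
      rw [← h1]
      simp [UModel.lineProd, e1, e2, e3, e4, e5, hy.map _ hm1.1, hy.map _ hm2.1, hy.map _ hm3.1,
        hy.map _ hm4.1, hy.map _ hm5.1]
    have inj : ∀ (r r' : F) (m m' : X), m = m' → x (f.u 0 + r • f.u 2) = y m →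
        x (f.u 0 + r' • f.u 2) = y m' → r = r' := by
      intro r r' m m' hmm h h'
      have hp : ∀ t : F, f.u 0 + t • f.u 2 ≠ 0 ∧ B (f.u 0 + t • f.u 2) (f.u 0 + t • f.u 2) = 0 := fun t =>
        ⟨by simpa using hpt 1 0 t (by simp), by simp [f.uu]⟩
      obtain ⟨k, hk⟩ := hL.x_eq hM hy (hp r).1 (hp r).2 (hp r').1 (hp r').2 (by rw [h, h', hmm])
      have k0 := congrArg (B (f.v 0)) hk
      have k2 := congrArg (B (f.v 2)) hk
      simp [f.vu] at k0 k2
      rw [k2, ← k0, one_mul]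
    have inj2 : ∀ (r : F) (m : X), m = m2 → x (f.u 0 + r • f.u 2) = y m → False := by
      intro r m hmm h
      obtain ⟨k, hk⟩ := hL.x_eq hM hy (by simpa using hpt 0 0 1 (by simp)) (f.uu 2 2)
        (by simpa using hpt 1 0 r (by simp)) (show B (f.u 0 + r • f.u 2) (f.u 0 + r • f.u 2) = 0 by simp [f.uu])
        (by rw [h, hmm, e2])
      have k0 := congrArg (B (f.v 0)) hk
      simp [f.vu] at k0
    have t1 : (1 : F) ≠ 0 := one_ne_zero
    have t2 : w ≠ 1 := fun h => by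
      subst h; rw [map_one, UModel.two hB] at hw; exact zero_ne_one hw
    have t3 : θ w ≠ 0 := (map_ne_zero θ).2 hw0
    have t4 : θ w ≠ 1 := fun h => t2 (by
      have := congrArg θ h; rwa [hB.herm.invol, map_one] at this)
    have t5 : w ≠ θ w := fun h => by
      rw [← h, UModel.add_self' hB] at hw; exact zero_ne_one hw
    have e1' : x (f.u 0 + (0 : F) • f.u 2) = y m1 := by simpa using e1
    have e3' : x (f.u 0 + (1 : F) • f.u 2) = y m3 := by simpa using e3
    refine five_ne_one hT hF.data ?_ ?_ ?_ hprod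
    · simp only [List.nodup_cons, List.mem_cons, List.not_mem_nil, or_false, not_or, not_false_iff,
        List.nodup_nil, and_true]
      exact ⟨⟨fun h => inj2 0 m1 h e1', fun h => t1 (inj 1 0 m3 m1 h.symm e3' e1'),
          fun h => hw0 (inj w 0 m4 m1 h.symm e4 e1'), fun h => t3 (inj _ 0 m5 m1 h.symm e5 e1')⟩,
        ⟨fun h => inj2 1 m3 h.symm e3', fun h => inj2 w m4 h.symm e4, fun h => inj2 (θ w) m5 h.symm e5⟩,
        ⟨fun h => t2 (inj w 1 m4 m3 h.symm e4 e3'), fun h => t4 (inj _ 1 m5 m3 h.symm e5 e3')⟩,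
        fun h => t5 (inj w (θ w) m4 m5 h e4 e5)⟩
    · intro g hg
      simp only [List.mem_cons, List.not_mem_nil, or_false] at hg
      rcases hg with rfl | rfl | rfl | rfl | rfl
      exacts [hm1.1, hm2.1, hm3.1, hm4.1, hm5.1]
    · have hyc : ∀ g ∈ [m1, m2, m3, m4, m5], g ∈ E ∧ ∃ v, (∀ i, B (f.u i) v = 0) ∧ x v = y g := by
        intro g hg
        simp only [List.mem_cons, List.not_mem_nil, or_false] at hg
        rcases hg with rfl | rfl | rfl | rfl | rfl
        exacts [⟨hm1.1, f.u 0, fun i => f.uu i 0, e1⟩, ⟨hm2.1, f.u 2, fun i => f.uu i 2, e2⟩,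
          ⟨hm3.1, _, fun i => by simp [f.uu], e3⟩, ⟨hm4.1, _, fun i => by simp [f.uu], e4⟩,
          ⟨hm5.1, _, fun i => by simp [f.uu], e5⟩]
      intro g hg g' hg'
      obtain ⟨hgE, v, hv, hxv⟩ := hyc g hg
      obtain ⟨hgE', v', hv', hxv'⟩ := hyc g' hg'
      have h := (hL.comm (f.plane_perp hB hv hv')).map ξ
      rwa [hxv, hxv', hy.map g hgE, hy.map g' hgE'] at h
  set P := UModel.subProd x (f.u 0) (f.u 1) (f.u 2) with hP
  have hξP : P = 1 ∨ P = z := by
    have hv := hL.val_ker hM hy hw f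
    set v := planeVal x w (θ w) (f.u 0) (f.u 1) (f.u 2) with hvdef
    have hξv : ξ v = e := by
      rcases hv with h | h | h | h
      · exact absurd h hf1
      · exact absurd h hfz
      · rw [h, hy.map e heE]
      · rw [h, map_mul, hy.map e heE, hM.z_map, mul_one]
    refine hM.kern P ?_
    rw [hvdef, planeVal, map_mul, hLe] at hξv
    exact mul_eq_right.1 hξv
  -- the values of the character
  have hym : ∀ m ∈ dperp E e, y m ∈ (pre ξ e) := fun m hm => hmem.2 (by rw [hy.map m hm.1]; exact hm.2.2.symm.eq)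
  have hDH : ∀ k : X, k ∈ Subgroup.closure (dperp E e) → ∀ c, ξ c = k → c ∈ (pre ξ e) := fun k hk c hc =>
    hmem.2 (by rw [hc]; exact (commute_of_mem_H (D := E) (d := e) rfl hk).symm.eq)
  obtain ⟨b₀, hb₀⟩ := hF.data.nice.rich e heE
  set γ := φ ⟨y b₀, hym b₀ hb₀⟩ with hγ
  have hconst : ∀ (m : X) (hm : m ∈ dperp E e) (h : y m ∈ (pre ξ e)), φ ⟨y m, h⟩ = γ := by
    intro m hm h
    obtain ⟨k, hk, hkm⟩ := exists_mv hM.group hF heE hb₀ hm
    obtain ⟨c, hc⟩ := hM.cov.surj k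
    have hcD := hDH k hk c hc
    have e1 : (⟨y m, h⟩ : (pre ξ e)) = ⟨c, hcD⟩ * ⟨y b₀, hym b₀ hb₀⟩ * ⟨c, hcD⟩⁻¹ := Subtype.ext (by
      show y m = c * y b₀ * c⁻¹
      rw [hy.conj c b₀ hb₀.1, hc, hkm])
    rw [e1, map_mul, map_mul, map_inv, hγ, mul_comm (φ _) (φ _), mul_inv_cancel_right]
  have hγ2 : γ * γ = 1 := by
    rw [hγ, ← map_mul]
    have h1 : (⟨y b₀, hym b₀ hb₀⟩ : (pre ξ e)) * ⟨y b₀, hym b₀ hb₀⟩ = 1 := Subtype.ext (hy.sq hM hb₀.1)
    rw [h1, map_one]
  set γe := φ ⟨y e, hL.ye_mem hM hy⟩ with hγe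
  -- the character of another member
  have hconjD : ∀ (g : C) (e' : X), ξ g * e * (ξ g)⁻¹ = e' → ∀ c, ξ c * e' = e' * ξ c → g⁻¹ * c * g ∈ (pre ξ e) := by
    intro g e' hg c hc
    refine hmem.2 ?_
    simp only [map_mul, map_inv]
    calc (ξ g)⁻¹ * ξ c * ξ g * e = (ξ g)⁻¹ * (ξ c * (ξ g * e * (ξ g)⁻¹)) * ξ g := by group
      _ = (ξ g)⁻¹ * ((ξ g * e * (ξ g)⁻¹) * ξ c) * ξ g := by rw [hg, hc]
      _ = e * ((ξ g)⁻¹ * ξ c * ξ g) := by group
  have hback : ∀ (g : C) (e' : X), ξ g * e * (ξ g)⁻¹ = e' → ∀ m ∈ dperp E e', ∀ h : g⁻¹ * y m * g ∈ (pre ξ e),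
      φ ⟨g⁻¹ * y m * g, h⟩ = γ := by
    intro g e' hg m hm h
    have h1 : g⁻¹ * y m * g = y ((ξ g)⁻¹ * m * ξ g) := by
      have := hy.conj g⁻¹ m hm.1
      simpa [map_inv] using this
    have h2 : (ξ g)⁻¹ * m * ξ g ∈ dperp E e := by
      have := dperp_conj hM.group.2.1 (ξ g)⁻¹ hm
      rwa [inv_inv, ← hg, show (ξ g)⁻¹ * (ξ g * e * (ξ g)⁻¹) * ξ g = e by group] at this
    rw [show (⟨g⁻¹ * y m * g, h⟩ : (pre ξ e)) = ⟨y _, h1 ▸ h⟩ from Subtype.ext h1]
    exact hconst _ h2 _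
  have hselfc : ∀ (g : C) (e' : X), ξ g * e * (ξ g)⁻¹ = e' → g⁻¹ * y e' * g = y e := by
    intro g e' hg
    rw [← hg, ← hy.conj g e heE]
    group
  -- the two characters agree on the subplane
  have hγeq : γe = γ := by
    obtain ⟨m1, hm1, e1⟩ := hmem' 1 0 0 (by simp)
    obtain ⟨m2, hm2, e2⟩ := hmem' 0 1 0 (by simp)
    obtain ⟨m3, hm3, e3⟩ := hmem' 0 0 1 (by simp)
    obtain ⟨m4, hm4, e4⟩ := hmem' 1 1 0 (by simp)
    obtain ⟨m5, hm5, e5⟩ := hmem' 1 0 1 (by simp)
    obtain ⟨m6, hm6, e6⟩ := hmem' 0 1 1 (by simp)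
    obtain ⟨m7, hm7, e7⟩ := hmem' 1 1 1 (by simp)
    simp only [one_smul, zero_smul, add_zero, zero_add] at e1 e2 e3 e4 e5 e6 e7
    have hPD : P ∈ (pre ξ e) := (hL.sub_ker hM hy f).1
    have hA : φ ⟨P, hPD⟩ = γ := by
      have : (⟨P, hPD⟩ : (pre ξ e)) = ⟨y m1, hym _ hm1⟩ * ⟨y m2, hym _ hm2⟩ * ⟨y m3, hym _ hm3⟩ * ⟨y m4, hym _ hm4⟩ *
          ⟨y m5, hym _ hm5⟩ * ⟨y m6, hym _ hm6⟩ * ⟨y m7, hym _ hm7⟩ := Subtype.ext (by
        show P = y m1 * y m2 * y m3 * y m4 * y m5 * y m6 * y m7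
        rw [hP, UModel.subProd, e1, e2, e3, e4, e5, e6, e7])
      rw [this]
      simp only [map_mul, hconst _ hm1, hconst _ hm2, hconst _ hm3, hconst _ hm4, hconst _ hm5, hconst _ hm6,
        hconst _ hm7]
      simp [hγ2]
    obtain ⟨k₁, hk₁⟩ := class_isConj hM.cls heE hm1.1
    obtain ⟨g, rfl⟩ := hM.cov.surj k₁
    have hother : ∀ (v : V) (m : X), m ∈ dperp E e → x v = y m → (∀ i, B (f.u i) v = 0) →
        (∀ k : F, v ≠ k • f.u 0) → v ≠ 0 → m ∈ dperp E m1 := by
      intro v m hm hv hvp hvk hv0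
      refine ⟨hm.1, fun h => ?_, ?_⟩
      · obtain ⟨k, hk⟩ := hL.x_eq hM hy (by simpa using hpt 1 0 0 (by simp)) (f.uu 0 0) hv0
          (f.plane_perp hB hvp hvp) (by rw [e1, hv, h])
        exact hvk k hk
      · have h := (hL.comm (hvp 0)).map ξ
        rwa [e1, hv, hy.map m1 hm1.1, hy.map m hm.1] at h
    have hv1 : ∀ a b c : F, (b ≠ 0 ∨ c ≠ 0) → ∀ k : F, a • f.u 0 + b • f.u 1 + c • f.u 2 ≠ k • f.u 0 := by
      intro a b c h k hk
      have k1 := congrArg (B (f.v 1)) hk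
      have k2 := congrArg (B (f.v 2)) hk
      simp [f.vu] at k1 k2
      simp [k1, k2] at h
    have d2 := hother _ m2 hm2 e2 (fun i => f.uu i 1) (by simpa using hv1 0 1 0 (by simp))
      (by simpa using hpt 0 1 0 (by simp))
    have d3 := hother _ m3 hm3 e3 (fun i => f.uu i 2) (by simpa using hv1 0 0 1 (by simp))
      (by simpa using hpt 0 0 1 (by simp))
    have d4 := hother _ m4 hm4 e4 (fun i => by simp [f.uu]) (by simpa using hv1 1 1 0 (by simp))
      (by simpa using hpt 1 1 0 (by simp))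
    have d5 := hother _ m5 hm5 e5 (fun i => by simp [f.uu]) (by simpa using hv1 1 0 1 (by simp))
      (by simpa using hpt 1 0 1 (by simp))
    have d6 := hother _ m6 hm6 e6 (fun i => by simp [f.uu]) (by simpa using hv1 0 1 1 (by simp))
      (by simpa using hpt 0 1 1 (by simp))
    have d7 := hother _ m7 hm7 e7 (fun i => by simp [f.uu]) (by simpa using hv1 1 1 1 (by simp))
      (by simpa using hpt 1 1 1 (by simp))
    have hm' : ∀ m ∈ dperp E m1, g⁻¹ * y m * g ∈ (pre ξ e) := fun m hm =>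
      hconjD g m1 hk₁ _ (by rw [hy.map m hm.1]; exact hm.2.2.symm.eq)
    have hB' : φ ⟨P, hPD⟩ = γe := by
      have hgP : g⁻¹ * P * g = P := by
        rcases hξP with h | h
        · rw [h]; group
        · rw [h, ← (hM.z_comm g⁻¹).eq, mul_assoc, inv_mul_cancel, mul_one]
      have hye' : g⁻¹ * y m1 * g ∈ (pre ξ e) := by rw [hselfc g m1 hk₁]; exact hL.ye_mem hM hy
      have : (⟨P, hPD⟩ : (pre ξ e)) = ⟨g⁻¹ * y m1 * g, hye'⟩ * ⟨g⁻¹ * y m2 * g, hm' _ d2⟩ *
          ⟨g⁻¹ * y m3 * g, hm' _ d3⟩ * ⟨g⁻¹ * y m4 * g, hm' _ d4⟩ * ⟨g⁻¹ * y m5 * g, hm' _ d5⟩ *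
          ⟨g⁻¹ * y m6 * g, hm' _ d6⟩ * ⟨g⁻¹ * y m7 * g, hm' _ d7⟩ := Subtype.ext (by
        show P = g⁻¹ * y m1 * g * (g⁻¹ * y m2 * g) * (g⁻¹ * y m3 * g) * (g⁻¹ * y m4 * g) * (g⁻¹ * y m5 * g) *
          (g⁻¹ * y m6 * g) * (g⁻¹ * y m7 * g)
        conv_lhs => rw [← hgP, hP, UModel.subProd, e1, e2, e3, e4, e5, e6, e7]
        group)
      rw [this]
      simp only [map_mul, hback g m1 hk₁ _ d2, hback g m1 hk₁ _ d3, hback g m1 hk₁ _ d4, hback g m1 hk₁ _ d5,
        hback g m1 hk₁ _ d6, hback g m1 hk₁ _ d7]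
      rw [show (⟨g⁻¹ * y m1 * g, hye'⟩ : (pre ξ e)) = ⟨y e, hL.ye_mem hM hy⟩ from Subtype.ext (hselfc g m1 hk₁), ← hγe]
      simp [mul_assoc, hγ2]
    exact hB'.symm.trans hA
  -- an involution exchanging two commuting members
  obtain ⟨t, e₁, he₁, ht2, hte, hte₁⟩ : ∃ (t : C) (e₁ : X), e₁ ∈ dperp E e ∧ t * t = 1 ∧
      ξ t * e * (ξ t)⁻¹ = e₁ ∧ ξ t * e₁ * (ξ t)⁻¹ = e := by
    set gg := UModel.el hB (f.flip2 hB) w 0 2 1 with hgg
    set p := (f.flip2 hB).u 0 + (θ 1 * w) • (f.flip2 hB).u 2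
    set q := (f.flip2 hB).u 0 + (θ 1 * θ w) • (f.flip2 hB).u 2
    have hpq : B p q = 0 := by simp [p, q, (f.flip2 hB).uu]
    set gh := x p * x q
    have hgh2 : gh * gh = 1 := by
      rw [(hL.comm hpq).symm.mul_mul_mul_comm, hL.sq hM hy, hL.sq hM hy, one_mul]
    have hgu : gg.1 (f.u 2) = f.u 2 + f.u 0 := by
      rw [hgg, UModel.el_apply hB _ hw]
      simp [UModel.Frame.flip2, f.uu, f.vu]
    obtain ⟨ma, hma, ea⟩ := hxm (f.u 2) (by simpa using hpt 0 0 1 (by simp)) (f.uu 2 2)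
    obtain ⟨mb, hmb, eb⟩ := hxm (f.u 2 + f.u 0)
      (by simpa [add_comm] using hpt 1 0 1 (by simp)) (by simp [f.uu])
    have hsw : gh * y ma * gh⁻¹ = y mb := by
      rw [← ea, ← eb, hL.conj_pair hM hy, ← hgu]; rfl
    have hab : mb ∈ dperp E ma := by
      refine ⟨hmb.1, fun h => ?_, ?_⟩
      · obtain ⟨k, hk⟩ := hL.x_eq hM hy (by simpa using hpt 0 0 1 (by simp)) (f.uu 2 2)
          (by simpa [add_comm] using hpt 1 0 1 (by simp))
          (show B (f.u 2 + f.u 0) (f.u 2 + f.u 0) = 0 by simp [f.uu]) (by rw [ea, eb, h])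
        have := congrArg (B (f.v 0)) hk
        simp [f.vu] at this
      · have h := (hL.comm (show B (f.u 2) (f.u 2 + f.u 0) = 0 by simp [f.uu])).map ξ
        rwa [ea, eb, hy.map ma hma.1, hy.map mb hmb.1] at h
    have h1 : ξ gh * ma * (ξ gh)⁻¹ = mb := by
      have := congrArg ξ hsw
      rwa [map_mul, map_mul, map_inv, hy.map ma hma.1, hy.map mb hmb.1] at this
    have hxi2 : ξ gh * ξ gh = 1 := by rw [← map_mul, hgh2, map_one]
    have h2 : ξ gh * mb * (ξ gh)⁻¹ = ma := by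
      rw [← h1, inv_eq_of_mul_eq_one_left hxi2]
      calc ξ gh * (ξ gh * ma * ξ gh) * ξ gh = ξ gh * ξ gh * ma * (ξ gh * ξ gh) := by group
        _ = ma := by rw [hxi2, one_mul, mul_one]
    obtain ⟨k₁, hk₁⟩ := class_isConj hM.cls hma.1 heE
    obtain ⟨c, rfl⟩ := hM.cov.surj k₁
    refine ⟨c * gh * c⁻¹, ξ c * mb * (ξ c)⁻¹, ?_, ?_, ?_, ?_⟩
    · have := dperp_conj hM.group.2.1 (ξ c) hab
      rwa [hk₁] at this
    · rw [show c * gh * c⁻¹ * (c * gh * c⁻¹) = c * (gh * gh) * c⁻¹ by group, hgh2]; group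
    · rw [map_mul, map_mul, map_inv, ← h1, ← hk₁]; group
    · rw [map_mul, map_mul, map_inv]
      calc ξ c * ξ gh * (ξ c)⁻¹ * (ξ c * mb * (ξ c)⁻¹) * (ξ c * ξ gh * (ξ c)⁻¹)⁻¹
          = ξ c * (ξ gh * mb * (ξ gh)⁻¹) * (ξ c)⁻¹ := by group
        _ = e := by rw [h2, hk₁]
  have hti : t⁻¹ = t := inv_eq_of_mul_eq_one_left ht2
  set R0 : Subgroup C := (pre ξ e) ⊓ pre ξ e₁ with hR0
  have htD : ∀ c ∈ R0, t * c * t ∈ R0 := by
    intro c hc
    have hc1 := hconjD t e₁ hte c (mem_pre.1 hc.2)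
    rw [hti] at hc1
    refine ⟨hc1, mem_pre.2 ?_⟩
    have h0 := mem_pre.1 hc.1
    rw [show t * c * t = t * c * t⁻¹ by rw [hti], map_mul, map_mul, map_inv]
    calc ξ t * ξ c * (ξ t)⁻¹ * e₁ = ξ t * (ξ c * e) * (ξ t)⁻¹ := by rw [← hte]; group
      _ = ξ t * (e * ξ c) * (ξ t)⁻¹ := by rw [h0]
      _ = e₁ * (ξ t * ξ c * (ξ t)⁻¹) := by rw [← hte]; group
  -- the character is invariant
  have hinv : ∀ (c : C) (hc : c ∈ R0), φ ⟨t * c * t, (htD c hc).1⟩ = φ ⟨c, hc.1⟩ := by
    let ψ1 : R0 →* Abelianization (pre ξ e) := MonoidHom.mk' (fun c => φ ⟨t * c.1 * t, (htD c.1 c.2).1⟩) fun a b => by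
      show φ _ = φ _ * φ _
      rw [← map_mul]
      congr 1
      refine Subtype.ext ?_
      show t * (a.1 * b.1) * t = t * a.1 * t * (t * b.1 * t)
      simp only [mul_assoc]
      rw [← mul_assoc t t, ht2, one_mul]
    let ψ0 : R0 →* Abelianization (pre ξ e) := φ.comp (Subgroup.inclusion inf_le_left)
    suffices ψ1 = ψ0 from fun c hc => DFunLike.congr_fun this ⟨c, hc⟩
    set S : Set C := {z, y e} ∪ {c | ∃ m, m ∈ dperp E e ∧ Commute m e₁ ∧ c = y m} with hS
    have hS0 : S ⊆ R0 := by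
      rintro c ((h | h) | ⟨m, hm, hme, rfl⟩) <;> try subst c
      · exact ⟨hL.z_mem hM hy, mem_pre.2 (by rw [hM.z_map, one_mul, mul_one])⟩
      · exact ⟨hL.ye_mem hM hy, mem_pre.2 (by rw [hy.map e heE]; exact he₁.2.2.eq)⟩
      · exact ⟨hym m hm, mem_pre.2 (by rw [hy.map m hm.1]; exact hme.eq)⟩
    obtain ⟨v1, hv1'⟩ := hL.onto e₁ he₁
    have hgen : ∀ c ∈ R0, c ∈ Subgroup.closure S := by
      intro c hc
      have he1D : y e₁ ∈ (pre ξ e) := hym e₁ he₁
      have hρ1 : ρ ⟨y e₁, he1D⟩ = π (UModel.tr hB v1) := by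
        rw [← UModel.trv_pt hB v1, ← hL.rho_x hM hy v1.1]
        exact congrArg ρ (Subtype.ext hv1'.symm)
      have hcomρ : Commute (ρ ⟨c, hc.1⟩) (π (UModel.tr hB v1)) := by
        rw [← hρ1]
        refine Commute.map ?_ ρ
        exact Subtype.ext (hM.member_comm he₁.1 (hy.map e₁ he₁.1) (mem_pre.1 hc.2).symm).symm.eq
      have hpeq : ∀ a b : UModel.Pt B, π (UModel.tr hB a) = π (UModel.tr hB b) →
          UModel.tr hB a = UModel.tr hB b := by
        intro a b h
        obtain ⟨hk, hk3⟩ := hL.ker (UModel.tr hB a * UModel.tr hB b)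
          (by rw [map_mul, h, ← map_mul, UModel.tr_sq hB b, map_one])
        have hc : Commute (UModel.tr hB a) (UModel.tr hB b) := by
          have h1 := Subgroup.mem_center_iff.1 hk (UModel.tr hB a)
          rw [← mul_assoc, UModel.tr_sq hB a, one_mul] at h1
          show UModel.tr hB a * UModel.tr hB b = UModel.tr hB b * UModel.tr hB a
          conv_rhs => rw [h1]
          rw [mul_assoc, mul_assoc, UModel.tr_sq hB a, mul_one]
        have h2 : UModel.tr hB a * UModel.tr hB b * (UModel.tr hB a * UModel.tr hB b) = 1 := by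
          rw [hc.symm.mul_mul_mul_comm, UModel.tr_sq, UModel.tr_sq, one_mul]
        rw [pow_succ, pow_two, h2, one_mul] at hk3
        rw [eq_inv_of_mul_eq_one_left hk3, inv_eq_of_mul_eq_one_left (UModel.tr_sq hB b)]
      obtain ⟨s, hs, hsc⟩ := UModel.exists_fix_lift hB π hL.surj hL.cen hpeq v1 hcomρ
      have hmem2 := UModel.mem_perpGroup hB hs
      obtain ⟨c', hc', hcρ, hc'S⟩ : ∃ (c' : C) (h : c' ∈ (pre ξ e)), ρ ⟨c', h⟩ = π s ∧ c' ∈ Subgroup.closure S := by
        clear hs hsc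
        induction hmem2 using Subgroup.closure_induction with
        | mem g hg =>
          obtain ⟨u, hu, rfl⟩ := hg
          obtain ⟨m, hm, em, rm⟩ := hL.member u
          refine ⟨y m, hym m hm, rm _, Subgroup.subset_closure (Or.inr ⟨m, hm, ?_, rfl⟩)⟩
          have := (hL.comm hu).map ξ
          rw [hv1', em, hy.map e₁ he₁.1, hy.map m hm.1] at this
          exact this.symm
        | one => exact ⟨1, one_mem _, by rw [map_one]; exact map_one ρ, one_mem _⟩
        | mul a b _ _ iha ihb =>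
          obtain ⟨a', ha', ea, sa⟩ := iha
          obtain ⟨b', hb', eb, sb⟩ := ihb
          exact ⟨a' * b', mul_mem ha' hb', by
            rw [map_mul, ← ea, ← eb, ← map_mul]; rfl, mul_mem sa sb⟩
        | inv a _ iha =>
          obtain ⟨a', ha', ea, sa⟩ := iha
          exact ⟨a'⁻¹, inv_mem ha', by rw [map_inv, ← ea, ← map_inv]; rfl, inv_mem sa⟩
      have hdiff : ρ (⟨c', hc'⟩⁻¹ * ⟨c, hc.1⟩) = 1 := by rw [map_mul, map_inv, hcρ, hsc, inv_mul_cancel]
      have hk4 := hL.ker_four hM hy hdiff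
      have hkS : c'⁻¹ * c ∈ Subgroup.closure S := by
        have hz : z ∈ Subgroup.closure S := Subgroup.subset_closure (Or.inl (Or.inl rfl))
        have hye : y e ∈ Subgroup.closure S := Subgroup.subset_closure (Or.inl (Or.inr rfl))
        rcases hk4 with h | h | h | h <;> rw [show c'⁻¹ * c = _ from h]
        exacts [one_mem _, hz, hye, mul_mem hye hz]
      have := mul_mem hc'S hkS
      rwa [mul_inv_cancel_left] at this
    refine MonoidHom.ext fun c => ?_
    obtain ⟨c, hc⟩ := c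
    have hcS := hgen c hc
    induction hcS using Subgroup.closure_induction with
    | mem c hcs =>
      show φ ⟨t * c * t, _⟩ = φ ⟨c, _⟩
      rcases hcs with (h | h) | ⟨m, hm, hme, rfl⟩ <;> try subst c
      · congr 1
        refine Subtype.ext ?_
        show t * z * t = z
        rw [← (hM.z_comm t).eq, mul_assoc, ht2, mul_one]
      · have h1 : t * y e * t = y e₁ := by
          have := hy.conj t e heE
          rwa [hti, hte] at this
        rw [show (⟨t * y e * t, (htD _ hc).1⟩ : (pre ξ e)) = ⟨y e₁, hym e₁ he₁⟩ from Subtype.ext h1,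
          hconst _ he₁, ← hγe, hγeq]
      · have h1 : t * y m * t = y (ξ t * m * (ξ t)⁻¹) := by
          have := hy.conj t m hm.1
          rwa [hti] at this
        have hm2 : ξ t * m * (ξ t)⁻¹ ∈ E := hM.group.2.1 _ _ hm.1
        have hmc : Commute (ξ t * m * (ξ t)⁻¹) e := hte₁ ▸ (commute_conj (ξ t) m e₁).2 hme
        rw [hconst m hm]
        rcases eq_or_ne (ξ t * m * (ξ t)⁻¹) e with h | h
        · rw [show (⟨t * y m * t, (htD _ hc).1⟩ : (pre ξ e)) = ⟨y e, hL.ye_mem hM hy⟩ from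
            Subtype.ext (by show t * y m * t = y e; rw [h1, h]), ← hγe, hγeq]
        · have h2 : ξ t * m * (ξ t)⁻¹ ∈ dperp E e := ⟨hm2, h, hmc.symm⟩
          rw [show (⟨t * y m * t, (htD _ hc).1⟩ : (pre ξ e)) = ⟨_, hym _ h2⟩ from Subtype.ext h1]
          exact hconst _ h2 _
    | one => exact (map_one ψ1).trans (map_one ψ0).symm
    | mul a b ha hb iha ihb =>
      have ha' : a ∈ R0 := (Subgroup.closure_le R0).2 hS0 ha
      have hb' : b ∈ R0 := (Subgroup.closure_le R0).2 hS0 hb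
      exact (map_mul ψ1 ⟨a, ha'⟩ ⟨b, hb'⟩).trans ((congrArg₂ (· * ·) (iha ha') (ihb hb')).trans
        (map_mul ψ0 ⟨a, ha'⟩ ⟨b, hb'⟩).symm)
    | inv a ha iha =>
      have ha' : a ∈ R0 := (Subgroup.closure_le R0).2 hS0 ha
      exact (map_inv ψ1 ⟨a, ha'⟩).trans ((congrArg Inv.inv (iha ha')).trans (map_inv ψ0 ⟨a, ha'⟩).symm)
  -- the stabiliser of the two members
  let R : Subgroup C :=
    { carrier := {c | c ∈ R0 ∨ c * t ∈ R0}
      one_mem' := Or.inl (one_mem _)
      mul_mem' := by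
        rintro a b (ha | ha) (hb | hb)
        · exact Or.inl (mul_mem ha hb)
        · exact Or.inr (by rw [mul_assoc]; exact mul_mem ha hb)
        · refine Or.inr ?_
          rw [show a * b * t = a * t * (t⁻¹ * b * t) by group, hti]
          exact mul_mem ha (htD b hb)
        · refine Or.inl ?_
          rw [show a * b = a * t * (t⁻¹ * (b * t) * t⁻¹) by group, hti]
          exact mul_mem ha (htD _ hb)
      inv_mem' := by
        rintro a (ha | ha)
        · exact Or.inl (inv_mem ha)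
        · refine Or.inr ?_
          rw [show a⁻¹ * t = t * (a * t)⁻¹ * t by group]
          exact htD _ (inv_mem ha) }
  have htR0 : t ∉ R0 := fun h => he₁.2.1 (by rw [← hte, mem_pre.1 h.1, mul_inv_cancel_right])
  have hRcard : Nat.card R = 2 * Nat.card R0 := by
    rw [show 2 = Nat.card Bool by simp, ← Nat.card_prod]
    refine (Nat.card_congr (Equiv.ofBijective (fun p : Bool × R0 => (⟨if p.1 then p.2.1 * t else p.2.1, by
      cases p.1
      · exact Or.inl p.2.2
      · exact Or.inr (by simp [mul_assoc, ht2])⟩ : R)) ⟨?_, ?_⟩)).symm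
    · rintro ⟨i, a⟩ ⟨j, b⟩ h
      have h' := congrArg Subtype.val h
      cases i <;> cases j <;> simp at h'
      · subst h'; rfl
      · exact absurd (by rw [show t = (b.1)⁻¹ * a.1 by rw [h']; group]; exact mul_mem (inv_mem b.2) a.2) htR0
      · exact absurd (by rw [show t = (a.1)⁻¹ * b.1 by rw [← h']; group]; exact mul_mem (inv_mem a.2) b.2) htR0
      · subst h'; rfl
    · rintro ⟨c, hc | hc⟩
      · exact ⟨(false, ⟨c, hc⟩), rfl⟩
      · exact ⟨(true, ⟨c * t, hc⟩), Subtype.ext (by simp [mul_assoc, ht2])⟩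
  have hcounts := counts hM.group hM.m22
  have hyinj : Set.InjOn y E := fun a ha b hb h => by rw [← hy.map a ha, ← hy.map b hb, h]
  have hc1 : Nat.card C = 3510 * Nat.card (pre ξ e) := by
    have h := card_eq_orbit_mul (⊤ : Subgroup C) (y e) (y '' E)
      (fun g _ => ⟨_, hM.group.2.1 _ _ heE, (hy.conj g e heE).symm⟩) (by
        rintro _ ⟨m, hm, rfl⟩
        obtain ⟨k, hk⟩ := class_isConj hM.cls heE hm
        obtain ⟨g, rfl⟩ := hM.cov.surj k
        exact ⟨g, Subgroup.mem_top g, by rw [hy.conj g e heE, hk]⟩)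
    rw [Subgroup.card_top, Set.InjOn.ncard_image hyinj,
      ncard_members hM.group hM.m22.1 hF (arcs_of_M22 hM.group hM.m22) (layer_counts_M22 hM.group hM.m22)
        (fun x hx => (hcounts x hx).1) (fun x hx => (hcounts x hx).2.1) heE] at h
    rw [h]
    refine congrArg (fun S : Subgroup C => 3510 * Nat.card S) ?_
    rw [top_inf_eq]
    ext c
    refine ⟨fun hc => mem_pre.2 ?_, fun hc => Subgroup.mem_centralizer_singleton_iff.2
      (hL.ye_central hM hy hc).symm.eq⟩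
    have := congrArg ξ (Subgroup.mem_centralizer_singleton_iff.1 hc)
    rwa [map_mul, map_mul, hy.map e heE] at this
  have hc2 : Nat.card (pre ξ e) = 693 * Nat.card R0 := by
    have h := card_eq_orbit_mul (pre ξ e) (y e₁) (y '' dperp E e) (fun g hg => by
        refine ⟨_, ?_, (hy.conj g e₁ he₁.1).symm⟩
        have := dperp_conj hM.group.2.1 (ξ g) he₁
        rwa [mem_pre.1 hg, mul_inv_cancel_right] at this) (by
        rintro _ ⟨m, hm, rfl⟩
        obtain ⟨k, hk, hkm⟩ := exists_mv hM.group hF heE he₁ hm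
        obtain ⟨g, hg⟩ := hM.cov.surj k
        exact ⟨g, hDH k hk g hg, by rw [hy.conj g e₁ he₁.1, hg, hkm]⟩)
    rw [Set.InjOn.ncard_image (hyinj.mono fun m hm => hm.1), (hcounts e heE).1] at h
    rw [h]
    refine congrArg (fun S : Subgroup C => 693 * Nat.card S) ?_
    ext c
    constructor
    · rintro ⟨hc, hc'⟩
      refine ⟨hc, mem_pre.2 ?_⟩
      have := congrArg ξ (Subgroup.mem_centralizer_singleton_iff.1 hc')
      rwa [map_mul, map_mul, hy.map e₁ he₁.1] at this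
    · rintro ⟨hc, hc'⟩
      exact ⟨hc, Subgroup.mem_centralizer_singleton_iff.2
        (hM.member_comm he₁.1 (hy.map e₁ he₁.1) (mem_pre.1 hc').symm).symm.eq⟩
  have hidx : R.index = 1216215 := by
    have h := R.index_mul_card
    rw [hRcard, hc1, hc2] at h
    have hpos : 0 < Nat.card R0 := Nat.card_pos
    have h' : R.index * 2 = 2432430 := Nat.eq_of_mul_eq_mul_right hpos (by
      rw [mul_assoc, h, ← mul_assoc]; norm_num)
    omega
  let ψ : R →* Abelianization (pre ξ e) := MonoidHom.mk' (fun c =>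
      if h : (c : C) ∈ R0 then φ ⟨c, h.1⟩ else φ ⟨(c : C) * t, (c.2.resolve_left h).1⟩) fun a b => by
    obtain ⟨a, ha⟩ := a
    obtain ⟨b, hb⟩ := b
    show (dite (a * b ∈ R0) _ _) = (dite (a ∈ R0) _ _) * (dite (b ∈ R0) _ _)
    by_cases h1 : a ∈ R0 <;> by_cases h2 : b ∈ R0
    · rw [dif_pos (mul_mem h1 h2), dif_pos h1, dif_pos h2, ← map_mul]; rfl
    · rw [dif_neg (fun h => h2 (by simpa using mul_mem (inv_mem h1) h)), dif_pos h1, dif_neg h2, ← map_mul]
      exact congrArg φ (Subtype.ext (mul_assoc a b t))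
    · have h3 : a * b ∉ R0 := fun h => h1 (by simpa using mul_mem h (inv_mem h2))
      rw [dif_neg h3, dif_neg h1, dif_pos h2, ← hinv b h2, ← map_mul]
      refine congrArg φ (Subtype.ext ?_)
      show a * b * t = a * t * (t * b * t)
      simp only [mul_assoc]
      rw [← mul_assoc t t, ht2, one_mul]
    · have h4 := hb.resolve_left h2
      have h3 : a * b ∈ R0 := by
        rw [show a * b = a * t * (t⁻¹ * (b * t) * t⁻¹) by group, hti]
        exact mul_mem (ha.resolve_left h1) (htD _ h4)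
      rw [dif_pos h3, dif_neg h1, dif_neg h2, ← hinv (b * t) h4, ← map_mul]
      refine congrArg φ (Subtype.ext ?_)
      show a * b = a * t * (t * (b * t) * t)
      simp only [mul_assoc, ht2, mul_one]
      rw [← mul_assoc t t, ht2, one_mul]
  have htriv : MonoidHom.transfer ψ z = 1 := MonoidHom.mem_ker.1
    (Abelianization.commutator_subset_ker (MonoidHom.transfer ψ) (hperf ▸ Subgroup.mem_top z))
  rw [MonoidHom.transfer_eq_pow ψ z (fun n g₀ _ => by
    rw [mul_assoc, ((hM.z_comm g₀).pow_left n).eq, inv_mul_cancel_left])] at htriv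
  have hzp : z ^ R.index = z := by
    rw [hidx, show (1216215 : ℕ) = 2 * 608107 + 1 from rfl, pow_add, pow_mul, pow_two, hM.z_sq, one_pow, one_mul,
      pow_one]
  have hzR0 : z ∈ R0 := ⟨hL.z_mem hM hy, mem_pre.2 (by rw [hM.z_map, one_mul, mul_one])⟩
  apply hφz
  rw [← htriv]
  show φ zD = ψ _
  simp only [ψ, MonoidHom.mk'_apply, hzp, dif_pos hzR0]
  rfl

end Cfsg.Agent.ThreeTrans
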