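import Cfsg.Agent.ThreeTrans.CoverM22Class

/-!
# The three double covers of U₆(2) inside a double cover of type M(22)

The products of the lifts at subplanes and lines lie in a central group of order four; if each of its
three quotients is perfect, all three involutions of the group occur.
-/

set_option autoImplicit false

open Cfsg Cfsg.Agent.Classical Cfsg.Agent.Classical.Herm Module

namespace Cfsg.Agent.ThreeTrans

variable {F V : Type} [Field F] [AddCommGroup V] [Module F V] {θ : F →+* F}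
  {B : V →ₛₗ[θ] V →ₗ[F] F} {hB : UModel.Space B}
  {C X : Type*} [Group C] [Group X] {ξ : C →* X} {z : C} {E : Set X} {y : X → C} {e : X}
  {Xu : Type*} [Group Xu] {π : suG B →* Xu} {ρ : pre ξ e →* Xu} {x : V → C}
  [Finite C] [Finite X] (hM : MCover ξ z E) (hy : MemLift ξ E y) (hL : MLayer hB ξ y E e π ρ x)

/-- The product at a subplane times the product at a line. -/
def planeVal (x : V → C) (w σ : F) (a b c : V) : C :=
  UModel.subProd x a b c * UModel.lineProd x w σ a c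

include hM hy hL

theorem MLayer.x_mem (v : V) : x v ∈ pre ξ e := by
  by_cases h : v ≠ 0 ∧ B v v = 0
  · obtain ⟨m, hm, hxm, -⟩ := hL.member ⟨v, h⟩
    rw [show x v = y m from hxm, mem_pre, hy.map m hm.1]
    exact hm.2.2.symm.eq
  · rw [hL.triv v h]; exact one_mem _

theorem MLayer.rho_x (v : V) : ρ ⟨x v, hL.x_mem hM hy v⟩ = π (UModel.trv hB v) := by
  by_cases h : v ≠ 0 ∧ B v v = 0
  · obtain ⟨m, hm, hxm, hr⟩ := hL.member ⟨v, h⟩
    have hxv : x v = y m := hxm
    have hmem : y m ∈ pre ξ e := hxv ▸ hL.x_mem hM hy v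
    rw [show (⟨x v, hL.x_mem hM hy v⟩ : pre ξ e) = ⟨y m, hmem⟩ from Subtype.ext hxv, hr hmem,
      UModel.trv_pt hB ⟨v, h⟩]
  · rw [show (⟨x v, hL.x_mem hM hy v⟩ : pre ξ e) = 1 from Subtype.ext (hL.triv v h), map_one,
      UModel.trv, dif_neg h, map_one]

theorem MLayer.sq (v : V) : x v * x v = 1 := by
  by_cases h : v ≠ 0 ∧ B v v = 0
  · obtain ⟨m, hm, hxm, -⟩ := hL.member ⟨v, h⟩
    rw [show x v = y m from hxm, hy.sq hM hm.1]
  · rw [hL.triv v h, one_mul]

theorem MLayer.conj_pair (p q v : V) :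
    x p * x q * x v * (x p * x q)⁻¹ = x ((UModel.trv hB p * UModel.trv hB q).1 v) :=
  hL.conj ⟨x p * x q, mul_mem (hL.x_mem hM hy p) (hL.x_mem hM hy q)⟩ _ v (by
    rw [map_mul, ← hL.rho_x hM hy p, ← hL.rho_x hM hy q, ← map_mul]; rfl)

theorem MLayer.ye_mem : y e ∈ pre ξ e := mem_pre.2 (by rw [hy.map e hL.mem_e])

theorem MLayer.z_mem : z ∈ pre ξ e := mem_pre.2 (by rw [hM.z_map, one_mul, mul_one])

theorem MLayer.ye_ne_one : y e ≠ 1 := fun h => ne_one hM.group.1 hL.mem_e (by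
  rw [← hy.map e hL.mem_e, h, map_one])

theorem MLayer.ye_ne_z : y e ≠ z := fun h => ne_one hM.group.1 hL.mem_e (by
  rw [← hy.map e hL.mem_e, h, hM.z_map])

theorem MLayer.ye_central {c : C} (hc : c ∈ pre ξ e) : Commute (y e) c :=
  hM.member_comm hL.mem_e (hy.map e hL.mem_e) (mem_pre.1 hc).symm

/-- The kernel of the projection. -/
theorem MLayer.ker_four {c : pre ξ e} (hc : ρ c = 1) :
    (c : C) = 1 ∨ (c : C) = z ∨ (c : C) = y e ∨ (c : C) = y e * z := by
  rcases (hL.rker c).1 hc with h | h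
  · rcases hM.kern _ h with h | h
    · exact Or.inl h
    · exact Or.inr (Or.inl h)
  · obtain ⟨k, hk, ek⟩ := Lift.exists_ker hM.cov (show ξ (c : C) = ξ (y e) by rw [h, hy.map e hL.mem_e])
    rcases hM.kern k hk with rfl | rfl
    · rw [mul_one] at ek; exact Or.inr (Or.inr (Or.inl ek))
    · exact Or.inr (Or.inr (Or.inr ek))

/-- The members of the kernel are central. -/
theorem MLayer.four_props {k : C} (hk : k = z ∨ k = y e ∨ k = y e * z) :
    k ∈ pre ξ e ∧ k ≠ 1 ∧ k * k = 1 ∧ (∀ c ∈ pre ξ e, Commute k c) := by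
  have hye := hy.sq hM hL.mem_e
  rcases hk with rfl | rfl | rfl
  · exact ⟨hL.z_mem hM hy, hM.z_ne, hM.z_sq, fun c _ => hM.z_comm c⟩
  · exact ⟨hL.ye_mem hM hy, hL.ye_ne_one hM hy, hye, fun c hc => hL.ye_central hM hy hc⟩
  · refine ⟨mul_mem (hL.ye_mem hM hy) (hL.z_mem hM hy), fun h => hL.ye_ne_z hM hy ?_, ?_,
      fun c hc => (hL.ye_central hM hy hc).mul_left (hM.z_comm c)⟩
    · rw [eq_inv_of_mul_eq_one_left h, inv_eq_of_mul_eq_one_left hM.z_sq]
    · rw [(hM.z_comm (y e)).mul_mul_mul_comm, hye, hM.z_sq, one_mul]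

theorem MLayer.line_ker {w : F} (hw : w + θ w = 1) {a b : V} (haa : B a a = 0) (hbb : B b b = 0)
    (hab : B a b = 0) :
    UModel.lineProd x w (θ w) a b ∈ pre ξ e ∧
      ∀ h, ρ ⟨UModel.lineProd x w (θ w) a b, h⟩ = 1 := by
  have hm := hL.x_mem hM hy
  refine ⟨mul_mem (mul_mem (mul_mem (mul_mem (hm _) (hm _)) (hm _)) (hm _)) (hm _), fun h => ?_⟩
  have hprod : (⟨UModel.lineProd x w (θ w) a b, h⟩ : pre ξ e) = ⟨x a, hm _⟩ * ⟨x b, hm _⟩ * ⟨x (a + b), hm _⟩ *
      ⟨x (a + w • b), hm _⟩ * ⟨x (a + θ w • b), hm _⟩ := rfl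
  rw [hprod]
  simp only [map_mul, hL.rho_x hM hy]
  rw [← map_mul, ← map_mul, ← map_mul, ← map_mul, UModel.line_one hB haa hbb hab hw, map_one]

theorem MLayer.sub_ker (f : UModel.Frame B) :
    UModel.subProd x (f.u 0) (f.u 1) (f.u 2) ∈ pre ξ e ∧
      ∀ h, ρ ⟨UModel.subProd x (f.u 0) (f.u 1) (f.u 2), h⟩ = 1 := by
  have hm := hL.x_mem hM hy
  refine ⟨mul_mem (mul_mem (mul_mem (mul_mem (mul_mem (mul_mem (hm _) (hm _)) (hm _)) (hm _)) (hm _)) (hm _))
    (hm _), fun h => ?_⟩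
  have hprod : (⟨UModel.subProd x (f.u 0) (f.u 1) (f.u 2), h⟩ : pre ξ e) = ⟨x (f.u 0), hm _⟩ *
      ⟨x (f.u 1), hm _⟩ * ⟨x (f.u 2), hm _⟩ * ⟨x (f.u 0 + f.u 1), hm _⟩ * ⟨x (f.u 0 + f.u 2), hm _⟩ *
      ⟨x (f.u 1 + f.u 2), hm _⟩ * ⟨x (f.u 0 + f.u 1 + f.u 2), hm _⟩ := rfl
  rw [hprod]
  simp only [map_mul, hL.rho_x hM hy]
  rw [← map_mul, ← map_mul, ← map_mul, ← map_mul, ← map_mul, ← map_mul,
    UModel.subplane_one hB (f.uu 0 0) (f.uu 1 1) (f.uu 2 2) (f.uu 0 1) (f.uu 0 2) (f.uu 1 2), map_one]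

theorem MLayer.val_ker {w : F} (hw : w + θ w = 1) (f : UModel.Frame B) :
    planeVal x w (θ w) (f.u 0) (f.u 1) (f.u 2) = 1 ∨ planeVal x w (θ w) (f.u 0) (f.u 1) (f.u 2) = z ∨
      planeVal x w (θ w) (f.u 0) (f.u 1) (f.u 2) = y e ∨
      planeVal x w (θ w) (f.u 0) (f.u 1) (f.u 2) = y e * z := by
  obtain ⟨hP, hP1⟩ := hL.sub_ker hM hy f
  obtain ⟨hl, hl1⟩ := hL.line_ker hM hy hw (f.uu 0 0) (f.uu 2 2) (f.uu 0 2)
  exact hL.ker_four hM hy (c := ⟨_, hP⟩ * ⟨_, hl⟩) (by rw [map_mul, hP1, hl1, one_mul])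

/-- A perfect quotient has a value outside the subgroup factored out. -/
theorem MLayer.quot_unbalanced {k : C} (hk : k = z ∨ k = y e ∨ k = y e * z)
    (hperf : ∀ hm : k ∈ pre ξ e, commutator (pre ξ e) ⊔ Subgroup.zpowers ⟨k, hm⟩ = ⊤) {w : F}
    (hw : w + θ w = 1) :
    ∃ f : UModel.Frame B, planeVal x w (θ w) (f.u 0) (f.u 1) (f.u 2) ≠ 1 ∧
      planeVal x w (θ w) (f.u 0) (f.u 1) (f.u 2) ≠ k := by
  classical
  obtain ⟨hkm, hk1, hkk, hkc⟩ := hL.four_props hM hy hk
  set K : Subgroup (pre ξ e) := Subgroup.zpowers ⟨k, hkm⟩ with hK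
  have hKn : K.Normal := by
    refine ⟨fun a ha g => ?_⟩
    have hc : Commute (⟨k, hkm⟩ : pre ξ e) g := Subtype.ext (hkc g g.2).eq
    obtain ⟨n, rfl⟩ := Subgroup.mem_zpowers_iff.1 ha
    rw [((hc.zpow_left n).symm).eq, mul_inv_cancel_right]
    exact ha
  have hKmem : ∀ c : pre ξ e, c ∈ K ↔ (c : C) = 1 ∨ (c : C) = k := by
    intro c
    constructor
    · intro hc
      obtain ⟨n, rfl⟩ := Subgroup.mem_zpowers_iff.1 hc
      have h2 : (⟨k, hkm⟩ : pre ξ e) ^ (2 : ℤ) = 1 := Subtype.ext (by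
        show k ^ (2 : ℤ) = 1
        rw [zpow_two, hkk])
      rcases Int.emod_two_eq_zero_or_one n with h | h
      · left; rw [← Int.mul_ediv_add_emod n 2, h, zpow_add, zpow_mul, h2, one_zpow, zpow_zero, mul_one]; rfl
      · right; rw [← Int.mul_ediv_add_emod n 2, h, zpow_add, zpow_mul, h2, one_zpow, zpow_one, one_mul]
    · rintro (h | h)
      · rw [show c = 1 from Subtype.ext h]; exact one_mem _
      · rw [show c = ⟨k, hkm⟩ from Subtype.ext h]; exact Subgroup.mem_zpowers _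
  have hρk : ρ ⟨k, hkm⟩ = 1 := (hL.rker _).2 (by
    rcases hk with rfl | rfl | rfl
    · exact Or.inl hM.z_map
    · exact Or.inr (hy.map e hL.mem_e)
    · exact Or.inr (by show ξ (y e * z) = e; rw [map_mul, hy.map e hL.mem_e, hM.z_map, mul_one]))
  let ξ' : pre ξ e ⧸ K →* Xu := QuotientGroup.lift K ρ (by
    rw [hK, Subgroup.zpowers_le]; exact hρk)
  obtain ⟨o, hom, hoρ, ho1, hok, hall⟩ : ∃ (o : C) (hom : o ∈ pre ξ e), ρ ⟨o, hom⟩ = 1 ∧ o ≠ 1 ∧ o ≠ k ∧
      ∀ c : pre ξ e, ρ c = 1 → c ∈ K ∨ ((⟨o, hom⟩ : pre ξ e)⁻¹ * c) ∈ K := by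
    have hye := hy.sq hM hL.mem_e
    have hzy : y e * (y e * z) = z := by rw [← mul_assoc, hye, one_mul]
    have hyi := inv_eq_of_mul_eq_one_left hye
    have hzi := inv_eq_of_mul_eq_one_left hM.z_sq
    have hzye : z * y e = y e * z := (hM.z_comm (y e)).eq
    have hzyz : z * (y e * z) = y e := by rw [← mul_assoc, hzye, mul_assoc, hM.z_sq, mul_one]
    have hρz : ρ ⟨z, hL.z_mem hM hy⟩ = 1 := (hL.rker _).2 (Or.inl hM.z_map)
    have hρy : ρ ⟨y e, hL.ye_mem hM hy⟩ = 1 := (hL.rker _).2 (Or.inr (hy.map e hL.mem_e))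
    rcases hk with rfl | rfl | rfl
    · refine ⟨y e, hL.ye_mem hM hy, hρy, hL.ye_ne_one hM hy, hL.ye_ne_z hM hy, fun c hc => ?_⟩
      rcases hL.ker_four hM hy hc with h | h | h | h
      · exact Or.inl ((hKmem c).2 (Or.inl h))
      · exact Or.inl ((hKmem c).2 (Or.inr h))
      · refine Or.inr ((hKmem _).2 (Or.inl ?_))
        show (y e)⁻¹ * (c : C) = 1
        rw [h, inv_mul_cancel]
      · refine Or.inr ((hKmem _).2 (Or.inr ?_))
        show (y e)⁻¹ * (c : C) = _
        rw [h, hyi, hzy]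
    · refine ⟨z, hL.z_mem hM hy, hρz, hM.z_ne, fun h => hL.ye_ne_z hM hy h.symm, fun c hc => ?_⟩
      rcases hL.ker_four hM hy hc with h | h | h | h
      · exact Or.inl ((hKmem c).2 (Or.inl h))
      · refine Or.inr ((hKmem _).2 (Or.inl ?_))
        show z⁻¹ * (c : C) = 1
        rw [h, inv_mul_cancel]
      · exact Or.inl ((hKmem c).2 (Or.inr h))
      · refine Or.inr ((hKmem _).2 (Or.inr ?_))
        show z⁻¹ * (c : C) = _
        rw [h, hzi, hzyz]
    · refine ⟨z, hL.z_mem hM hy, hρz, hM.z_ne, fun h => hL.ye_ne_one hM hy ?_, fun c hc => ?_⟩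
      · exact (mul_eq_right.1 h.symm)
      rcases hL.ker_four hM hy hc with h | h | h | h
      · exact Or.inl ((hKmem c).2 (Or.inl h))
      · refine Or.inr ((hKmem _).2 (Or.inl ?_))
        show z⁻¹ * (c : C) = 1
        rw [h, inv_mul_cancel]
      · refine Or.inr ((hKmem _).2 (Or.inr ?_))
        show z⁻¹ * (c : C) = _
        rw [h, hzi, hzye]
      · exact Or.inl ((hKmem c).2 (Or.inr h))
  set z' : pre ξ e ⧸ K := QuotientGroup.mk ⟨o, hom⟩
  have hkern : ∀ q, ξ' q = 1 → q = 1 ∨ q = z' := fun q hq => by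
    obtain ⟨c, rfl⟩ := QuotientGroup.mk_surjective q
    rcases hall c hq with h | h
    · exact Or.inl ((QuotientGroup.eq_one_iff c).2 h)
    · exact Or.inr (QuotientGroup.eq.2 h).symm
  have hcent : ∀ c : pre ξ e, ρ c = 1 → ∀ g : pre ξ e, Commute c g := by
    intro c hc g
    refine Subtype.ext ?_
    rcases hL.ker_four hM hy hc with h | h | h | h <;> show (c : C) * g = g * c <;> rw [h]
    · rw [one_mul, mul_one]
    · exact (hM.z_comm g).eq
    · exact (hL.ye_central hM hy g.2).eq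
    · exact ((hL.ye_central hM hy g.2).mul_left (hM.z_comm g)).eq
  have hsq : ∀ c : pre ξ e, ρ c = 1 → c * c = 1 := by
    intro c hc
    refine Subtype.ext ?_
    show (c : C) * c = 1
    rcases hL.ker_four hM hy hc with h | h | h | h <;> rw [h]
    · rw [one_mul]
    · exact hM.z_sq
    · exact hy.sq hM hL.mem_e
    · exact (hL.four_props hM hy (Or.inr (Or.inr rfl))).2.2.1
  have hS : UModel.Setup hB ξ' π z' := by
    refine ⟨hL.four, ⟨fun q => ?_, fun q hq g => ?_, fun q hq => ?_⟩, hL.surj, hL.ker, hL.cen, hoρ,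
      fun h => ?_, hkern⟩
    · obtain ⟨c, rfl⟩ := hL.rsurj q
      exact ⟨c, rfl⟩
    · obtain ⟨c, rfl⟩ := QuotientGroup.mk_surjective q
      obtain ⟨g, rfl⟩ := QuotientGroup.mk_surjective g
      exact (hcent c hq g).map (QuotientGroup.mk' K)
    · obtain ⟨c, rfl⟩ := QuotientGroup.mk_surjective q
      rw [← QuotientGroup.mk_mul, hsq c hq, QuotientGroup.mk_one]
    · rcases (hKmem _).1 ((QuotientGroup.eq_one_iff _).1 h) with h' | h'
      · exact ho1 h'
      · exact hok h'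
  let x' : V → pre ξ e ⧸ K := fun v => QuotientGroup.mk ⟨x v, hL.x_mem hM hy v⟩
  have hx' : UModel.Cls hB ξ' π x' := by
    refine ⟨fun v => hL.rho_x hM hy v, fun q s v hq => ?_, fun a v ha => ?_, fun v hv => ?_⟩
    · obtain ⟨c, rfl⟩ := QuotientGroup.mk_surjective q
      show QuotientGroup.mk c * QuotientGroup.mk _ * (QuotientGroup.mk c)⁻¹ = _
      rw [← QuotientGroup.mk_inv, ← QuotientGroup.mk_mul, ← QuotientGroup.mk_mul]
      exact congrArg QuotientGroup.mk (Subtype.ext (hL.conj c s v hq))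
    · exact congrArg QuotientGroup.mk (Subtype.ext (hL.smul a v ha))
    · exact (congrArg QuotientGroup.mk (Subtype.ext (hL.triv v hv) :
        (⟨x v, hL.x_mem hM hy v⟩ : pre ξ e) = 1)).trans (QuotientGroup.mk_one K)
  have hperf' : commutator (pre ξ e ⧸ K) = ⊤ := by
    have hsurj := QuotientGroup.mk'_surjective K
    rw [commutator_def, ← Subgroup.map_top_of_surjective _ hsurj, ← Subgroup.map_commutator,
      ← commutator_def]
    have h := congrArg (Subgroup.map (QuotientGroup.mk' K)) (hperf hkm)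
    rw [Subgroup.map_sup, ← hK, (Subgroup.map_eq_bot_iff K).2 (by rw [QuotientGroup.ker_mk']), sup_bot_eq] at h
    exact h
  have : Finite (pre ξ e ⧸ K) := inferInstance
  obtain ⟨f, hf⟩ := UModel.exists_unbalanced hS hx' hperf' hL.card hw
  refine ⟨f, ?_⟩
  obtain ⟨hP, -⟩ := hL.sub_ker hM hy f
  obtain ⟨hl, hl1⟩ := hL.line_ker hM hy hw (f.uu 0 0) (f.uu 2 2) (f.uu 0 2)
  have hne : (⟨_, hP⟩ * ⟨_, hl⟩ : pre ξ e) ∉ K := fun h => by
    refine hf ?_
    show (QuotientGroup.mk (⟨_, hP⟩ : pre ξ e) : pre ξ e ⧸ K) = QuotientGroup.mk (⟨_, hl⟩ : pre ξ e)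
    rw [QuotientGroup.eq]
    have hinv : (⟨_, hP⟩ : pre ξ e)⁻¹ = ⟨_, hP⟩ :=
      inv_eq_of_mul_eq_one_left (hsq _ ((hL.sub_ker hM hy f).2 hP))
    rwa [hinv]
  exact ⟨fun h => hne ((hKmem _).2 (Or.inl h)), fun h => hne ((hKmem _).2 (Or.inr h))⟩

/-- The value is invariant under scaling. -/
theorem MLayer.val_smul {w : F} {l : F} (hl : l ≠ 0) (a b c : V) :
    planeVal x w (θ w) (l • a) (l • b) (l • c) = planeVal x w (θ w) a b c := by
  have e : ∀ u v : V, ∀ r : F, l • u + r • l • v = l • (u + r • v) := fun u v r => by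
    rw [smul_add, smul_comm]
  simp only [planeVal, UModel.subProd, UModel.lineProd, ← smul_add, e, hL.smul l _ hl]

/-- The value is invariant under isometries. -/
theorem MLayer.val_move {w : F} (hw : w + θ w = 1) (f : UModel.Frame B) (s : suG B) :
    planeVal x w (θ w) (s.1 (f.u 0)) (s.1 (f.u 1)) (s.1 (f.u 2)) =
      planeVal x w (θ w) (f.u 0) (f.u 1) (f.u 2) := by
  obtain ⟨c, hc⟩ := hL.rsurj (π s)
  have hconj : ∀ v, x (s.1 v) = MulAut.conj (c : C) (x v) := fun v => (hL.conj c s v hc).symm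
  have heq : planeVal x w (θ w) (s.1 (f.u 0)) (s.1 (f.u 1)) (s.1 (f.u 2)) =
      MulAut.conj (c : C) (planeVal x w (θ w) (f.u 0) (f.u 1) (f.u 2)) := by
    simp only [planeVal, UModel.subProd, UModel.lineProd, map_mul, ← map_add, ← map_smul, hconj]
  rw [heq]
  show (c : C) * _ * (c : C)⁻¹ = _
  have hcm : Commute (c : C) (planeVal x w (θ w) (f.u 0) (f.u 1) (f.u 2)) := by
    rcases hL.val_ker hM hy hw f with h | h
    · rw [h]; exact Commute.one_right _
    · exact ((hL.four_props hM hy h).2.2.2 c c.2).symm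
  rw [hcm.eq, mul_inv_cancel_right]

/-- All lines have the same product. -/
theorem MLayer.line_const {w : F} (hw : w + θ w = 1) {a b a' b' : V} (ha : a ≠ 0) (haa : B a a = 0)
    (hbb : B b b = 0) (hab : B a b = 0) (hind : ∀ k : F, b ≠ k • a) (ha' : a' ≠ 0) (haa' : B a' a' = 0)
    (hbb' : B b' b' = 0) (hab' : B a' b' = 0) (hind' : ∀ k : F, b' ≠ k • a') :
    UModel.lineProd x w (θ w) a b = UModel.lineProd x w (θ w) a' b' := by
  obtain ⟨s, ⟨k, hk, hsa⟩, ⟨k', hk', hsb⟩⟩ :=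
    UModel.move_pair hB ha haa hbb hab hind ha' haa' hbb' hab' hind'
  obtain ⟨c, hc⟩ := hL.rsurj (π s)
  have hconj : ∀ v, x (s.1 v) = MulAut.conj (c : C) (x v) := fun v => (hL.conj c s v hc).symm
  have e1 : UModel.lineProd x w (θ w) (s.1 a) (s.1 b) = UModel.lineProd x w (θ w) a b := by
    have heq : UModel.lineProd x w (θ w) (s.1 a) (s.1 b) =
        MulAut.conj (c : C) (UModel.lineProd x w (θ w) a b) := by
      simp only [UModel.lineProd, map_mul, ← map_add, ← map_smul, hconj]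
    rw [heq]
    obtain ⟨hm, hm1⟩ := hL.line_ker hM hy hw haa hbb hab
    have hcm : Commute (c : C) (UModel.lineProd x w (θ w) a b) := by
      rcases hL.ker_four hM hy (hm1 hm) with h | h
      · rw [show UModel.lineProd x w (θ w) a b = 1 from h]; exact Commute.one_right _
      · exact ((hL.four_props hM hy h).2.2.2 c c.2).symm
    show (c : C) * _ * (c : C)⁻¹ = _
    rw [hcm.eq, mul_inv_cancel_right]
  rw [← e1, hsa, hsb]
  -- a scalar on the second vector permutes the line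
  have hperm : ∀ r : F, r ≠ 0 → UModel.lineProd x w (θ w) a' (r • b') = UModel.lineProd x w (θ w) a' b' := by
    intro r hr
    have hw0 : w ≠ 0 := fun h => by rw [h] at hw; simp at hw
    have hn := UModel.norm_one hB hw0
    have hww : w * w = θ w := by linear_combination w * hw - hn - hw + (w - 1) * UModel.two hB
    have hss : θ w * θ w = w := by linear_combination θ w * hw - hn - hw + (θ w - 1) * UModel.two hB
    have hba' := (UModel.symm_zero hB).1 hab'
    have cm : ∀ p q : F, Commute (x (a' + p • b')) (x (a' + q • b')) := fun p q =>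
      hL.comm (by simp [haa', hbb', hab', hba'])
    have cb : ∀ p : F, Commute (x b') (x (a' + p • b')) := fun p => hL.comm (by simp [hbb', hba'])
    rcases UModel.four_cases hB hw r with h | h | h | h
    · exact absurd h hr
    · rw [h, one_smul]
    · subst h
      simp only [UModel.lineProd, smul_smul, hww, mul_comm (θ r) r, hn, one_smul, hL.smul r b' hw0]
      have c1 : Commute (x (a' + r • b')) (x (a' + b')) := by simpa using cm r 1
      have c2 : Commute (x (a' + θ r • b')) (x (a' + b')) := by simpa using cm (θ r) 1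
      simp only [mul_assoc]
      congr 2
      rw [← mul_assoc (x (a' + r • b')), mul_assoc (x (a' + r • b')), c2.eq, ← mul_assoc, c1.eq, mul_assoc]
    · subst h
      simp only [UModel.lineProd, smul_smul, hss, hn, one_smul, hL.smul _ b' hr]
      have c1 : Commute (x (a' + θ w • b')) (x (a' + b')) := by simpa using cm (θ w) 1
      have c2 : Commute (x (a' + w • b')) (x (a' + b')) := by simpa using cm w 1
      simp only [mul_assoc]
      congr 2
      rw [← mul_assoc (x (a' + θ w • b')), c1.eq, mul_assoc, (cm (θ w) w).eq]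
  have hscale : UModel.lineProd x w (θ w) (k • a') (k' • b') =
      UModel.lineProd x w (θ w) a' ((k' * k⁻¹) • b') := by
    have e : ∀ r : F, k • a' + r • k' • b' = k • (a' + r • (k' * k⁻¹) • b') := fun r => by
      rw [smul_add, smul_smul, smul_smul, smul_smul]
      congr 2
      field_simp
    simp only [UModel.lineProd]
    rw [show k • a' + k' • b' = k • (a' + (k' * k⁻¹) • b') by simpa using e 1, e w, e (θ w),
      hL.smul k _ hk, hL.smul k _ hk, hL.smul k _ hk, hL.smul k _ hk, hL.smul k' _ hk',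
      hL.smul (k' * k⁻¹) _ (mul_ne_zero hk' (inv_ne_zero hk))]
  rw [hscale, hperm _ (mul_ne_zero hk' (inv_ne_zero hk))]

end Cfsg.Agent.ThreeTrans
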