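import Cfsg.Agent.ThreeTrans.CoverM22Perfect

/-!
# Squares over the products of two or three commuting members

In a perfect double cover of a group of type M(22) every element over a product of two or three
distinct commuting members is a square.
-/

set_option autoImplicit false

open Cfsg Cfsg.Agent.Classical Cfsg.Agent.Classical.Herm Module

namespace Cfsg.Agent.ThreeTrans

/-- Three commuting values with trivial product, none the product of the two. -/
theorem line_two {G : Type*} [Group G] {p q : G} (hp : p ≠ 1) (hq : q ≠ 1) (hpq : p ≠ q) (pp : p * p = 1)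
    (qq : q * q = 1) (hc : Commute p q) (g : Fin 3 → G) (hv : ∀ i, g i = 1 ∨ g i = p ∨ g i = q)
    (hprod : g 0 * g 1 * g 2 = 1) {i : Fin 3} (hi : g i = p) :
    (∀ j, g j ≠ q) ∧ ∃ j, j ≠ i ∧ g j = p := by
  have hq' : (1 : G) ≠ q := hq.symm
  have e1 : p * q ≠ 1 := fun h => hpq (by rw [eq_inv_of_mul_eq_one_left h, inv_eq_of_mul_eq_one_left qq])
  have e2 : q * p ≠ 1 := hc.eq ▸ e1
  have e3 : p * q * p = q := by rw [hc.eq, mul_assoc, pp, mul_one]
  have e4 : q * p * q = p := by rw [← hc.eq, mul_assoc, qq, mul_one]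
  have e5 : p * q * q = p := by rw [mul_assoc, qq, mul_one]
  have e6 : q * p * p = q := by rw [mul_assoc, pp, mul_one]
  rcases hv 0 with h0 | h0 | h0 <;> rcases hv 1 with h1 | h1 | h1 <;> rcases hv 2 with h2 | h2 | h2 <;>
    rw [h0, h1, h2] at hprod <;> fin_cases i <;>
    simp_all [Fin.forall_fin_succ, Fin.exists_fin_succ]

/-- Two values cannot share a square array with trivial products along the lines. -/
theorem grid_false {G : Type*} [Group G] {p q : G} (hp : p ≠ 1) (hq : q ≠ 1) (hpq : p ≠ q) (pp : p * p = 1)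
    (qq : q * q = 1) (hc : Commute p q) (M : Fin 3 → Fin 3 → G)
    (hv : ∀ i j, M i j = 1 ∨ M i j = p ∨ M i j = q) (hrow : ∀ i, M i 0 * M i 1 * M i 2 = 1)
    (hcol : ∀ j, M 0 j * M 1 j * M 2 j = 1) {i j k l : Fin 3} (hi : M i j = p) (hk : M k l = q) : False := by
  have hv' : ∀ i j, M i j = 1 ∨ M i j = q ∨ M i j = p := fun i j => (hv i j).imp_right Or.symm
  obtain ⟨n1, j', hj', hij'⟩ := line_two hp hq hpq pp qq hc (M i) (hv i) (hrow i) hi
  obtain ⟨n2, i', hi', hi'j⟩ := line_two hp hq hpq pp qq hc (fun r => M r j) (fun r => hv r j) (hcol j) hi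
  obtain ⟨n3, -⟩ := line_two hp hq hpq pp qq hc (M i') (hv i') (hrow i') hi'j
  obtain ⟨n4, -⟩ := line_two hp hq hpq pp qq hc (fun r => M r j') (fun r => hv r j') (hcol j') hij'
  obtain ⟨-, l', hl', hkl'⟩ := line_two hq hp hpq.symm qq pp hc.symm (M k) (hv' k) (hrow k) hk
  have a1 : l ≠ j := fun h => n2 k (h ▸ hk)
  have a2 : l ≠ j' := fun h => n4 k (h ▸ hk)
  have a3 : l' ≠ j := fun h => n2 k (h ▸ hkl')
  have a4 : l' ≠ j' := fun h => n4 k (h ▸ hkl')
  omega

variable {F V : Type} [Field F] [AddCommGroup V] [Module F V] {θ : F →+* F}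
  {B : V →ₛₗ[θ] V →ₗ[F] F} {hB : UModel.Space B}
  {C X : Type*} [Group C] [Group X] {ξ : C →* X} {z : C} {E : Set X} {y : X → C} {e : X}
  {Xu : Type*} [Group Xu] {π : suG B →* Xu} {ρ : pre ξ e →* Xu} {x : V → C}
  [Finite C] [Finite X] (hM : MCover ξ z E) (hy : MemLift ξ E y) (hL : MLayer hB ξ y E e π ρ x)

include hM hy hL

/-- The product of the values along a line of the array. -/
theorem MLayer.sub_prod_line {w : F} (hw : w + θ w = 1) (f : UModel.Frame B) :
    UModel.subProd x (f.u 0) (f.u 1) (f.u 2) * UModel.subProd x (f.u 0) (f.u 1) (w • f.u 2) *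
        UModel.subProd x (f.u 0) (f.u 1) (θ w • f.u 2) =
      UModel.lineProd x w (θ w) (f.u 0) (f.u 2) := by
  have hw0 : w ≠ 0 := fun h => by rw [h] at hw; simp at hw
  have hn0 : ∀ i, f.u i ≠ 0 := fun i h => by have := f.vu i i; rw [h] at this; simp at this
  have l2 : UModel.lineProd x w (θ w) (f.u 1) (f.u 2) = UModel.lineProd x w (θ w) (f.u 0) (f.u 2) :=
    hL.line_const hM hy hw (hn0 1) (f.uu 1 1) (f.uu 2 2) (f.uu 1 2)
      (fun k h => by have := congrArg (B (f.v 2)) h; simp [f.vu] at this)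
      (hn0 0) (f.uu 0 0) (f.uu 2 2) (f.uu 0 2)
      (fun k h => by have := congrArg (B (f.v 2)) h; simp [f.vu] at this)
  have l3 : UModel.lineProd x w (θ w) (f.u 0 + f.u 1) (f.u 2) = UModel.lineProd x w (θ w) (f.u 0) (f.u 2) :=
    hL.line_const hM hy hw
      (fun h => by have := congrArg (B (f.v 0)) h; simp [f.vu] at this) (by simp [f.uu]) (f.uu 2 2)
      (by simp [f.uu]) (fun k h => by have := congrArg (B (f.v 2)) h; simp [f.vu] at this)
      (hn0 0) (f.uu 0 0) (f.uu 2 2) (f.uu 0 2)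
      (fun k h => by have := congrArg (B (f.v 2)) h; simp [f.vu] at this)
  letI : CommGroup (UModel.planeW x f) :=
    { (inferInstance : Group (UModel.planeW x f)) with
      mul_comm := fun a b => Subtype.ext (UModel.planeW_comm' (hB := hB) hL.comm f a.2 b.2).eq }
  let el' : ∀ v : V, (∀ i, B (f.u i) v = 0) → UModel.planeW x f := fun v h => ⟨x v, UModel.mem_planeW f h⟩
  have key : ∀ a b c d u1 u2 u3 v1 v2 v3 s1 s2 s3 : UModel.planeW x f,
      (a * b * c * d * u1 * v1 * s1) * (a * b * c * d * u2 * v2 * s2) * (a * b * c * d * u3 * v3 * s3) =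
        (a * c * u1 * u2 * u3) * (b * c * v1 * v2 * v3) * (d * c * s1 * s2 * s3) *
          ((a * a) * (b * b) * (d * d)) := by
    intros; ac_rfl
  have hd : ∀ i j, B (f.u i) (f.u j) = 0 := f.uu
  have k := congrArg Subtype.val (key (el' (f.u 0) (by simp [hd])) (el' (f.u 1) (by simp [hd]))
    (el' (f.u 2) (by simp [hd])) (el' (f.u 0 + f.u 1) (by simp [hd])) (el' (f.u 0 + f.u 2) (by simp [hd]))
    (el' (f.u 0 + w • f.u 2) (by simp [hd])) (el' (f.u 0 + θ w • f.u 2) (by simp [hd]))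
    (el' (f.u 1 + f.u 2) (by simp [hd])) (el' (f.u 1 + w • f.u 2) (by simp [hd]))
    (el' (f.u 1 + θ w • f.u 2) (by simp [hd])) (el' (f.u 0 + f.u 1 + f.u 2) (by simp [hd]))
    (el' (f.u 0 + f.u 1 + w • f.u 2) (by simp [hd])) (el' (f.u 0 + f.u 1 + θ w • f.u 2) (by simp [hd])))
  simp only [UModel.subProd, hL.smul w _ hw0, hL.smul (θ w) _ ((map_ne_zero θ).2 hw0)]
  refine Eq.trans k ?_
  show UModel.lineProd x w (θ w) (f.u 0) (f.u 2) * UModel.lineProd x w (θ w) (f.u 1) (f.u 2) *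
    UModel.lineProd x w (θ w) (f.u 0 + f.u 1) (f.u 2) *
      (x (f.u 0) * x (f.u 0) * (x (f.u 1) * x (f.u 1)) * (x (f.u 0 + f.u 1) * x (f.u 0 + f.u 1))) = _
  obtain ⟨hm, hm1⟩ := hL.line_ker hM hy hw (f.uu 0 0) (f.uu 2 2) (f.uu 0 2)
  have hsq : UModel.lineProd x w (θ w) (f.u 0) (f.u 2) * UModel.lineProd x w (θ w) (f.u 0) (f.u 2) = 1 := by
    rcases hL.ker_four hM hy (hm1 hm) with h | h
    · rw [show UModel.lineProd x w (θ w) (f.u 0) (f.u 2) = 1 from h, one_mul]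
    · exact (hL.four_props hM hy h).2.2.1
  rw [l2, l3, hsq, one_mul, hL.sq hM hy, hL.sq hM hy, hL.sq hM hy, one_mul, one_mul, mul_one]

/-- The second and third vector of a subplane may be exchanged. -/
theorem MLayer.sub_swap (f : UModel.Frame B) (p q : F) :
    UModel.subProd x (f.u 0) (p • f.u 1) (q • f.u 2) = UModel.subProd x (f.u 0) (q • f.u 2) (p • f.u 1) := by
  letI : CommGroup (UModel.planeW x f) :=
    { (inferInstance : Group (UModel.planeW x f)) with
      mul_comm := fun a b => Subtype.ext (UModel.planeW_comm' (hB := hB) hL.comm f a.2 b.2).eq }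
  let el' : ∀ v : V, (∀ i, B (f.u i) v = 0) → UModel.planeW x f := fun v h => ⟨x v, UModel.mem_planeW f h⟩
  have key : ∀ a b c d g h i : UModel.planeW x f, a * b * c * d * g * h * i = a * c * b * g * d * h * i := by
    intros; ac_rfl
  have k := congrArg Subtype.val (key (el' (f.u 0) (by simp [f.uu])) (el' (p • f.u 1) (by simp [f.uu]))
    (el' (q • f.u 2) (by simp [f.uu])) (el' (f.u 0 + p • f.u 1) (by simp [f.uu]))
    (el' (f.u 0 + q • f.u 2) (by simp [f.uu])) (el' (p • f.u 1 + q • f.u 2) (by simp [f.uu]))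
    (el' (f.u 0 + p • f.u 1 + q • f.u 2) (by simp [f.uu])))
  simp only [UModel.subProd, add_comm (q • f.u 2) (p • f.u 1), add_right_comm (f.u 0) (q • f.u 2) (p • f.u 1)]
  exact k

/-- Each of the three involutions occurs as a value. -/
theorem MLayer.exists_val (hperf : commutator C = ⊤) {w : F} (hw : w + θ w = 1) {r : C}
    (hr : r = z ∨ r = y e ∨ r = y e * z) :
    ∃ f : UModel.Frame B, planeVal x w (θ w) (f.u 0) (f.u 1) (f.u 2) = r := by
  classical
  by_contra hcon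
  push Not at hcon
  have hD := hL.pre_perfect hM hy hperf
  have hunb : ∀ {k : C}, k = z ∨ k = y e ∨ k = y e * z →
      ∃ f : UModel.Frame B, planeVal x w (θ w) (f.u 0) (f.u 1) (f.u 2) ≠ 1 ∧
        planeVal x w (θ w) (f.u 0) (f.u 1) (f.u 2) ≠ k := fun hk =>
    hL.quot_unbalanced hM hy hk (fun hm => by rw [hD, top_sup_eq]) hw
  obtain ⟨p, q, hp, hq, hpq, hall⟩ : ∃ p q, (p = z ∨ p = y e ∨ p = y e * z) ∧ (q = z ∨ q = y e ∨ q = y e * z) ∧
      p ≠ q ∧ ∀ c, (c = 1 ∨ c = z ∨ c = y e ∨ c = y e * z) → c ≠ r → c = 1 ∨ c = p ∨ c = q := by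
    have n1 : z ≠ y e := fun h => hL.ye_ne_z hM hy h.symm
    have n2 : z ≠ y e * z := fun h => hL.ye_ne_one hM hy (mul_eq_right.1 h.symm)
    have n3 : y e ≠ y e * z := fun h => hM.z_ne (mul_eq_left.1 h.symm)
    rcases hr with h | h | h
    · exact ⟨y e, y e * z, by tauto, by tauto, n3, fun c hc hne => by rw [h] at hne; tauto⟩
    · exact ⟨z, y e * z, by tauto, by tauto, n2, fun c hc hne => by rw [h] at hne; tauto⟩
    · exact ⟨z, y e, by tauto, by tauto, n1, fun c hc hne => by rw [h] at hne; tauto⟩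
  obtain ⟨hpD, hp1, hpp, hpc⟩ := hL.four_props hM hy hp
  obtain ⟨hqD, hq1, hqq, -⟩ := hL.four_props hM hy hq
  have hw0 : w ≠ 0 := fun h => by rw [h] at hw; simp at hw
  obtain ⟨f⟩ := UModel.exists_planeFrame hB
  set c : Fin 3 → F := ![1, w, θ w] with hc
  have hc0 : ∀ i, c i ≠ 0 := by intro i; fin_cases i <;> simp [hc, hw0]
  set g : Fin 3 → Fin 3 → UModel.Frame B := fun i j => f.scale hB ![1, c i, c j] (fun k => by
    fin_cases k <;> simp [hc0])
  set M : Fin 3 → Fin 3 → C := fun i j => planeVal x w (θ w) (f.u 0) (c i • f.u 1) (c j • f.u 2) with hMdef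
  have hg : ∀ i j, planeVal x w (θ w) ((g i j).u 0) ((g i j).u 1) ((g i j).u 2) = M i j := fun i j => by
    simp [g, M, UModel.Frame.scale]
  have hv : ∀ i j, M i j = 1 ∨ M i j = p ∨ M i j = q := fun i j =>
    hall _ (hg i j ▸ hL.val_ker hM hy hw (g i j)) (hg i j ▸ hcon (g i j))
  have hocc : ∀ f' : UModel.Frame B, ∃ i j, planeVal x w (θ w) (f'.u 0) (f'.u 1) (f'.u 2) = M i j := by
    intro f'
    have hn0 : ∀ i, f'.u i ≠ 0 := fun i h => by have := f'.vu i i; rw [h] at this; simp at this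
    obtain ⟨s, ⟨k0, h0, e0⟩, ⟨k1, h1, e1⟩, ⟨k2, h2, e2⟩⟩ :=
      UModel.move_triple hB (hn0 0) (f'.uu 0 0) (f'.uu 1 1) (f'.uu 2 2) (f'.uu 0 1) (f'.uu 0 2) (f'.uu 1 2)
        (fun k h => by have := congrArg (B (f'.v 1)) h; simp [f'.vu] at this)
        (fun k k' h => by have := congrArg (B (f'.v 2)) h; simp [f'.vu] at this) f
    have hidx : ∀ k : F, k ≠ 0 → ∃ i, k = c i := fun k hk => by
      rcases UModel.four_cases hB hw k with h | h | h | h
      exacts [absurd h hk, ⟨0, h⟩, ⟨1, h⟩, ⟨2, h⟩]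
    obtain ⟨i, hi⟩ := hidx (k0⁻¹ * k1) (mul_ne_zero (inv_ne_zero h0) h1)
    obtain ⟨j, hj⟩ := hidx (k0⁻¹ * k2) (mul_ne_zero (inv_ne_zero h0) h2)
    refine ⟨i, j, ?_⟩
    rw [← hL.val_move hM hy hw f' s, e0, e1, e2,
      show k1 • f.u 1 = k0 • (c i • f.u 1) by rw [← hi, smul_smul, mul_inv_cancel_left₀ h0],
      show k2 • f.u 2 = k0 • (c j • f.u 2) by rw [← hj, smul_smul, mul_inv_cancel_left₀ h0],
      hL.val_smul hM hy h0]
  have hline : ∀ (f' : UModel.Frame B) (i : Fin 3),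
      UModel.lineProd x w (θ w) (f'.u 0) (c i • f'.u 2) = UModel.lineProd x w (θ w) (f.u 0) (f.u 2) := by
    intro f' i
    have hn0 : ∀ (f : UModel.Frame B) i, f.u i ≠ 0 := fun f i h => by
      have := f.vu i i; rw [h] at this; simp at this
    exact hL.line_const hM hy hw (hn0 f' 0) (f'.uu 0 0) (by simp [f'.uu]) (by simp [f'.uu])
      (fun k h => by have := congrArg (B (f'.v 2)) h; simp [f'.vu, hc0] at this)
      (hn0 f 0) (f.uu 0 0) (f.uu 2 2) (f.uu 0 2)
      (fun k h => by have := congrArg (B (f.v 2)) h; simp [f.vu] at this)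
  set ℓ := UModel.lineProd x w (θ w) (f.u 0) (f.u 2) with hℓ
  obtain ⟨hm, hm1⟩ := hL.line_ker hM hy hw (f.uu 0 0) (f.uu 2 2) (f.uu 0 2)
  have hℓc : ∀ d ∈ pre ξ e, Commute ℓ d := fun d hd => by
    rcases hL.ker_four hM hy (hm1 hm) with h | h
    · rw [show ℓ = 1 from h]; exact Commute.one_left _
    · exact (hL.four_props hM hy h).2.2.2 d hd
  have hℓ2 : ℓ * ℓ = 1 := by
    rcases hL.ker_four hM hy (hm1 hm) with h | h
    · rw [show ℓ = 1 from h, one_mul]
    · exact (hL.four_props hM hy h).2.2.1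
  have hfin : ∀ P0 P1 P2 : C, P1 ∈ pre ξ e → P2 ∈ pre ξ e → P0 * P1 * P2 = ℓ →
      P0 * ℓ * (P1 * ℓ) * (P2 * ℓ) = 1 := by
    intro P0 P1 P2 m1 m2 h
    calc P0 * ℓ * (P1 * ℓ) * (P2 * ℓ) = P0 * (ℓ * P1) * (ℓ * P2) * ℓ := by group
      _ = P0 * (P1 * ℓ) * (ℓ * P2) * ℓ := by rw [(hℓc P1 m1).eq]
      _ = P0 * P1 * (ℓ * ℓ) * P2 * ℓ := by group
      _ = 1 := by rw [hℓ2, mul_one, h, hℓ2]
  have hsubm : ∀ i j, UModel.subProd x (f.u 0) (c i • f.u 1) (c j • f.u 2) ∈ pre ξ e := fun i j => by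
    have := (hL.sub_ker hM hy (g i j)).1
    simpa [g, UModel.Frame.scale] using this
  have hM' : ∀ i j, M i j = UModel.subProd x (f.u 0) (c i • f.u 1) (c j • f.u 2) * ℓ := fun i j => by
    simp only [M, planeVal, hline f j]
  have hc' : c 0 = 1 ∧ c 1 = w ∧ c 2 = θ w := ⟨rfl, rfl, rfl⟩
  have hrow : ∀ i, M i 0 * M i 1 * M i 2 = 1 := by
    intro i
    simp only [hM']
    refine hfin _ _ _ (hsubm i 1) (hsubm i 2) ?_
    have h := hL.sub_prod_line hM hy hw (f.scale hB ![1, c i, 1] (fun k => by fin_cases k <;> simp [hc0]))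
    simpa [UModel.Frame.scale, hc'.1, hc'.2.1, hc'.2.2, ← hℓ] using h
  have hcol : ∀ j, M 0 j * M 1 j * M 2 j = 1 := by
    intro j
    simp only [hM']
    refine hfin _ _ _ (hsubm 1 j) (hsubm 2 j) ?_
    simp only [hL.sub_swap hM hy f]
    set f' := (f.perm (Equiv.swap 1 2)).scale hB ![1, c j, 1] (fun k => by fin_cases k <;> simp [hc0])
    have h := hL.sub_prod_line hM hy hw f'
    rw [show UModel.lineProd x w (θ w) (f'.u 0) (f'.u 2) = ℓ by
      have := hline f' 0; rwa [hc'.1, one_smul] at this] at h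
    simpa [f', UModel.Frame.scale, UModel.Frame.perm, hc'.1, hc'.2.1, hc'.2.2,
      show (Equiv.swap (1 : Fin 3) 2) 0 = 0 by decide] using h
  have hval : ∀ k m : C, (k = z ∨ k = y e ∨ k = y e * z) → ((k = p ∧ m = q) ∨ (k = q ∧ m = p)) →
      ∃ i j, M i j = m := by
    intro k m hk hkm
    obtain ⟨f', h1, h2⟩ := hunb hk
    obtain ⟨i, j, hij⟩ := hocc f'
    refine ⟨i, j, ?_⟩
    rw [hij] at h1 h2
    rcases hkm with ⟨rfl, rfl⟩ | ⟨rfl, rfl⟩ <;>
      rcases hv i j with h | h | h <;> first | exact h | exact absurd h h1 | exact absurd h h2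
  obtain ⟨i, j, hi⟩ := hval q p hq (Or.inr ⟨rfl, rfl⟩)
  obtain ⟨k, l, hk⟩ := hval p q hp (Or.inl ⟨rfl, rfl⟩)
  exact grid_false hp1 hq1 hpq hpp hqq (hpc q hqD) M hv hrow hcol hi hk

/-- A square over each of the four multiples of a product of two members of the layer. -/
theorem MLayer.exists_square (hperf : commutator C = ⊤) {r : C}
    (hr : r = 1 ∨ r = z ∨ r = y e ∨ r = y e * z) :
    ∃ m ∈ dperp E e, ∃ m' ∈ dperp E e, m' ∈ dperp E m ∧ ∃ u : C, u * u = y m * y m' * r := by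
  obtain ⟨w, hw⟩ := UModel.exists_split hB
  have hfin : ∀ (a b : V) (u : C), a ≠ 0 → b ≠ 0 → B a a = 0 → B b b = 0 → B a b = 0 →
      (∀ k : F, b ≠ k • a) → u * u = x a * x b * r →
      ∃ m ∈ dperp E e, ∃ m' ∈ dperp E e, m' ∈ dperp E m ∧ ∃ u : C, u * u = y m * y m' * r := by
    intro a b u ha hb haa hbb hab hind hu
    obtain ⟨m, hm, em, -⟩ := hL.member ⟨a, ha, haa⟩
    obtain ⟨m', hm', em', -⟩ := hL.member ⟨b, hb, hbb⟩
    have em1 : x a = y m := em
    have em2 : x b = y m' := em'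
    refine ⟨m, hm, m', hm', ⟨hm'.1, fun h => ?_, ?_⟩, u, by rw [hu, em1, em2]⟩
    · obtain ⟨k, hk⟩ := hL.x_eq hM hy ha haa hb hbb (by rw [em1, em2, h])
      exact hind k hk
    · have h := (hL.comm hab).map ξ
      rwa [em1, em2, hy.map m hm.1, hy.map m' hm'.1] at h
  rcases hr with hr | hr
  · obtain ⟨f⟩ := UModel.exists_planeFrame hB
    obtain ⟨u, hu⟩ := UModel.square_pair (hL.sq hM hy) hL.comm (fun p q v _ => hL.conj_pair hM hy p q v) f hw
    exact hfin (f.u 2) (f.u 2 + f.u 0) u (fun h => by have := f.vu 2 2; rw [h] at this; simp at this)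
      (fun h => by have := congrArg (B (f.v 0)) h; simp [f.vu] at this) (f.uu 2 2) (by simp [f.uu])
      (by simp [f.uu]) (fun k h => by have := congrArg (B (f.v 0)) h; simp [f.vu] at this)
      (by rw [hu, hr, mul_one])
  · obtain ⟨f, hf⟩ := hL.exists_val hM hy hperf hw hr
    obtain ⟨u, hu⟩ := UModel.square_identity (hL.sq hM hy) hL.comm hL.smul
      (fun p q v _ => hL.conj_pair hM hy p q v) f hw
    exact hfin (f.u 1) (f.u 0 + f.u 1) u (fun h => by have := f.vu 1 1; rw [h] at this; simp at this)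
      (fun h => by have := congrArg (B (f.v 0)) h; simp [f.vu] at this) (f.uu 1 1) (by simp [f.uu])
      (by simp [f.uu]) (fun k h => by have := congrArg (B (f.v 0)) h; simp [f.vu] at this)
      (by rw [hu, ← hf]; rfl)

omit hy hL in
theorem MCover.pair_square (hperf : commutator C = ⊤) {a b : X} (ha : a ∈ E) (hb : b ∈ dperp E a) {c : C}
    (hc : ξ c = a * b) : ∃ u : C, u * u = c := by
  obtain ⟨y, hy⟩ := hM.exists_memLift
  obtain ⟨e, F, _, θ, hB, π, ρ, x, hL⟩ := hM.exists_layer hy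
  obtain ⟨k, hk, ek⟩ := Lift.exists_ker hM.cov (show ξ c = ξ (y a * y b) by
    rw [hc, map_mul, hy.map a ha, hy.map b hb.1])
  obtain ⟨m, hm, m', hm', hmm, u, hu⟩ := hL.exists_square hM hy hperf
    ((hM.kern k hk).imp id Or.inl)
  have hF := m22Full hM.group hM.m22
  obtain ⟨g₁, hg₁⟩ := class_isConj hM.cls hm.1 ha
  have hb₁ : g₁ * m' * g₁⁻¹ ∈ dperp E a := hg₁ ▸ dperp_conj hM.group.2.1 g₁ hmm
  obtain ⟨g₂, hg₂, hg₂b⟩ := exists_mv hM.group hF ha hb₁ hb
  obtain ⟨h, hh⟩ := hM.cov.surj (g₂ * g₁)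
  have hga : g₂ * g₁ * m * (g₂ * g₁)⁻¹ = a := by
    rw [show g₂ * g₁ * m * (g₂ * g₁)⁻¹ = g₂ * (g₁ * m * g₁⁻¹) * g₂⁻¹ by group, hg₁,
      (commute_of_mem_H (D := E) (d := a) rfl hg₂).symm.eq, mul_inv_cancel_right]
  have hgb : g₂ * g₁ * m' * (g₂ * g₁)⁻¹ = b := by rw [← hg₂b]; group
  refine ⟨h * u * h⁻¹, ?_⟩
  calc h * u * h⁻¹ * (h * u * h⁻¹) = h * (u * u) * h⁻¹ := by group
    _ = h * y m * h⁻¹ * (h * y m' * h⁻¹) * (h * k * h⁻¹) := by rw [hu]; group
    _ = c := by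
      rw [hy.conj h m hm.1, hy.conj h m' hm'.1, hh, hga, hgb, ek,
        show h * k * h⁻¹ = k by rw [← (hM.cov.comm k hk h).eq, mul_inv_cancel_right]]

omit hy hL in
theorem MCover.triple_square (hperf : commutator C = ⊤) {a b b' : X} (ha : a ∈ E) (hb : b ∈ dperp E a)
    (hb' : b' ∈ dperp (dperp E a) b) {c : C} (hc : ξ c = a * b * b') : ∃ u : C, u * u = c := by
  obtain ⟨y, hy⟩ := hM.exists_memLift
  obtain ⟨e, F, _, θ, hB, π, ρ, x, hL⟩ := hM.exists_layer hy
  obtain ⟨k, hk, ek⟩ := Lift.exists_ker hM.cov (show ξ c = ξ (y a * y b * y b') by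
    rw [hc, map_mul, map_mul, hy.map a ha, hy.map b hb.1, hy.map b' hb'.1.1])
  obtain ⟨m, hm, m', hm', hmm, u, hu⟩ := hL.exists_square hM hy hperf (r := y e * k) (by
    rcases hM.kern k hk with h | h <;> subst h
    · exact Or.inr (Or.inr (Or.inl (mul_one _)))
    · exact Or.inr (Or.inr (Or.inr rfl)))
  have he : e ∈ dperp (dperp E m) m' :=
    ⟨⟨hL.mem_e, Ne.symm hm.2.1, hm.2.2.symm⟩, Ne.symm hm'.2.1, hm'.2.2.symm⟩
  obtain ⟨g, ga, gb, gc⟩ := exists_conj_triple hM.group (m22Full hM.group hM.m22) hM.cls hm.1 hmm he ha hb hb'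
  obtain ⟨h, hh⟩ := hM.cov.surj g
  refine ⟨h * u * h⁻¹, ?_⟩
  calc h * u * h⁻¹ * (h * u * h⁻¹) = h * (u * u) * h⁻¹ := by group
    _ = h * y m * h⁻¹ * (h * y m' * h⁻¹) * (h * y e * h⁻¹) * (h * k * h⁻¹) := by rw [hu]; group
    _ = c := by
      rw [hy.conj h m hm.1, hy.conj h m' hm'.1, hy.conj h e hL.mem_e, hh, ga, gb, gc, ek,
        show h * k * h⁻¹ = k by rw [← (hM.cov.comm k hk h).eq, mul_inv_cancel_right]]

end Cfsg.Agent.ThreeTrans
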