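import Cfsg.Agent.ThreeTrans.CoverClass

/-!
# A perfect double cover of U₆(2) does not split over a radical

If no product of two commuting members of a class and the central involution is a square, the lifts
give complements over three radicals, and these give one over a Sylow 2-subgroup.
-/

set_option autoImplicit false

open Cfsg Cfsg.Agent.Classical Cfsg.Agent.Classical.Herm Module
open scoped Pointwise

namespace Cfsg.Agent.ThreeTrans.UModel

/-- A subgroup generated by commuting involutions from a list is small. -/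
theorem card_closure_list {C : Type*} [Group C] [Finite C] : ∀ l : List C, (∀ a ∈ l, a * a = 1) →
    (∀ a ∈ l, ∀ b ∈ l, Commute a b) → Nat.card (Subgroup.closure {a | a ∈ l}) ≤ 2 ^ l.length := by
  intro l
  induction l with
  | nil => intro _ _; simp
  | cons a l ih =>
    intro hsq hcomm
    set K := Subgroup.closure {b | b ∈ l}
    have hK := ih (fun b hb => hsq b (List.mem_cons_of_mem _ hb))
      fun b hb c hc => hcomm b (List.mem_cons_of_mem _ hb) c (List.mem_cons_of_mem _ hc)
    have ha : ∀ k ∈ K, Commute a k := by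
      intro k hk
      induction hk using Subgroup.closure_induction with
      | mem b hb => exact hcomm a List.mem_cons_self b (List.mem_cons_of_mem _ hb)
      | one => exact Commute.one_right _
      | mul p q _ _ hp hq => exact hp.mul_right hq
      | inv p _ hp => exact hp.inv_right
    have haa := hsq a List.mem_cons_self
    have hai := inv_eq_of_mul_eq_one_left haa
    have key : ∀ c ∈ Subgroup.closure {b | b ∈ a :: l}, ∃ p : Bool × K, (if p.1 then a else 1) * (p.2 : C) = c := by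
      intro c hc
      induction hc using Subgroup.closure_induction with
      | mem b hb =>
        rcases List.mem_cons.1 hb with rfl | hb
        · exact ⟨(true, 1), by simp⟩
        · exact ⟨(false, ⟨b, Subgroup.subset_closure hb⟩), by simp⟩
      | one => exact ⟨(false, 1), by simp⟩
      | mul p q _ _ hp hq =>
        obtain ⟨⟨i, k⟩, rfl⟩ := hp
        obtain ⟨⟨j, k'⟩, rfl⟩ := hq
        refine ⟨(xor i j, k * k'), ?_⟩
        cases i <;> cases j <;> simp [mul_assoc]
        · rw [← mul_assoc (k : C) a, ← (ha k k.2).eq, mul_assoc]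
        · rw [← mul_assoc (k : C) a, ← (ha k k.2).eq, mul_assoc, ← mul_assoc a a, haa, one_mul]
      | inv p _ hp =>
        obtain ⟨⟨i, k⟩, rfl⟩ := hp
        refine ⟨(i, k⁻¹), ?_⟩
        cases i
        · simp
        · show a * (k : C)⁻¹ = (a * k)⁻¹
          rw [mul_inv_rev, hai, (ha _ (inv_mem k.2)).eq]
    choose p hp using key
    refine (Nat.card_le_card_of_injective (fun c : Subgroup.closure {b | b ∈ a :: l} => p c c.2)
      fun c c' h => Subtype.ext ?_).trans ?_
    · rw [← hp c c.2, ← hp c' c'.2, show p c c.2 = p c' c'.2 from h]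
    · rw [Nat.card_prod, List.length_cons, pow_succ']
      simpa using hK

variable {F V : Type*} [Field F] [AddCommGroup V] [Module F V] {θ : F →+* F}
  {B : V →ₛₗ[θ] V →ₗ[F] F} {C X : Type*} [Group C] [Group X]
  {hB : Space B} {ξ : C →* X} {π : suG B →* X} {z : C} {x : V → C}

/-- The products at subplanes and lines agree. -/
def Balanced (x : V → C) (w σ : F) : Prop :=
  ∀ f : Frame B, subProd x (f.u 0) (f.u 1) (f.u 2) = lineProd x w σ (f.u 0) (f.u 2)

/-- The lines of a frame have trivial products. -/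
def GoodSides (x : V → C) (w σ : F) (f : Frame B) : Prop :=
  lineProd x w σ (f.u 0) (f.u 1) = 1 ∧ lineProd x w σ (f.u 0) (f.u 2) = 1 ∧
    lineProd x w σ (f.u 1) (f.u 2) = 1

variable (hS : Setup hB ξ π z) (hx : Cls hB ξ π x)

include hS hx

theorem subProd_eq {w : F} (hN : Balanced (B := B) x w (θ w)) (f : Frame B) :
    subProd x (f.u 0) (f.u 1) (f.u 2) = lineProd x w (θ w) (f.u 0) (f.u 2) := hN f

theorem side_eq {w : F} (hw : w + θ w = 1) (hN : Balanced (B := B) x w (θ w)) (f : Frame B) :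
    lineProd x w (θ w) (f.u 0) (f.u 1) = lineProd x w (θ w) (f.u 0) (f.u 2) ∧
    lineProd x w (θ w) (f.u 1) (f.u 2) = lineProd x w (θ w) (f.u 0) (f.u 2) := by
  letI : CommGroup (planeW x f) :=
    { (inferInstance : Group (planeW x f)) with
      mul_comm := fun a b => Subtype.ext (planeW_comm hS hx f a.2 b.2).eq }
  have hd : ∀ i j, B (f.u i) (f.u j) = 0 := f.uu
  let el' : ∀ v : V, (∀ i, B (f.u i) v = 0) → planeW x f := fun v h => ⟨x v, mem_planeW f h⟩
  constructor
  · rw [← subProd_eq hS hx hN f]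
    refine (subProd_eq hS hx hN (f.perm (Equiv.swap 1 2))).symm.trans ?_
    have key : ∀ a b c ab ac bc abc : planeW x f,
        a * c * b * ac * ab * bc * abc = a * b * c * ab * ac * bc * abc := by intros; ac_rfl
    simp only [subProd, Frame.perm, Equiv.swap_apply_of_ne_of_ne (show (0 : Fin 3) ≠ 1 by decide)
      (show (0 : Fin 3) ≠ 2 by decide), Equiv.swap_apply_left, Equiv.swap_apply_right]
    rw [add_comm (f.u 2) (f.u 1), add_right_comm (f.u 0) (f.u 2) (f.u 1)]
    exact congrArg Subtype.val (key (el' (f.u 0) (by simp [hd])) (el' (f.u 1) (by simp [hd]))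
      (el' (f.u 2) (by simp [hd])) (el' (f.u 0 + f.u 1) (by simp [hd])) (el' (f.u 0 + f.u 2) (by simp [hd]))
      (el' (f.u 1 + f.u 2) (by simp [hd])) (el' (f.u 0 + f.u 1 + f.u 2) (by simp [hd])))
  · rw [← subProd_eq hS hx hN f]
    refine (subProd_eq hS hx hN (f.perm (Equiv.swap 0 1))).symm.trans ?_
    have key : ∀ a b c ab ac bc abc : planeW x f,
        b * a * c * ab * bc * ac * abc = a * b * c * ab * ac * bc * abc := by intros; ac_rfl
    simp only [subProd, Frame.perm, Equiv.swap_apply_of_ne_of_ne (show (2 : Fin 3) ≠ 0 by decide)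
      (show (2 : Fin 3) ≠ 1 by decide), Equiv.swap_apply_left, Equiv.swap_apply_right]
    rw [add_comm (f.u 1) (f.u 0)]
    exact congrArg Subtype.val (key (el' (f.u 0) (by simp [hd])) (el' (f.u 1) (by simp [hd]))
      (el' (f.u 2) (by simp [hd])) (el' (f.u 0 + f.u 1) (by simp [hd])) (el' (f.u 0 + f.u 2) (by simp [hd]))
      (el' (f.u 1 + f.u 2) (by simp [hd])) (el' (f.u 0 + f.u 1 + f.u 2) (by simp [hd])))

theorem good_of_first {w : F} (hw : w + θ w = 1) (hN : Balanced (B := B) x w (θ w)) (f : Frame B)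
    (h : lineProd x w (θ w) (f.u 0) (f.u 1) = 1) : GoodSides x w (θ w) f := by
  obtain ⟨h1, h2⟩ := side_eq hS hx hw hN f
  exact ⟨h, h1 ▸ h, h2.trans (h1.symm.trans h)⟩

theorem good_of_second {w : F} (hw : w + θ w = 1) (hN : Balanced (B := B) x w (θ w)) (f : Frame B)
    (h : lineProd x w (θ w) (f.u 0) (f.u 2) = 1) : GoodSides x w (θ w) f := by
  obtain ⟨h1, h2⟩ := side_eq hS hx hw hN f
  exact ⟨h1.trans h, h, h2.trans h⟩

variable [Finite C]

/-- With trivial line products the lifts at a plane form a complement. -/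
theorem planeW_inj {w : F} (hw : w + θ w = 1) (hN : Balanced (B := B) x w (θ w)) (f : Frame B)
    (hG : GoodSides x w (θ w) f) : ∀ c ∈ planeW x f, ξ c = 1 → c = 1 := by
  classical
  have := hB.fin; have := hB.finF; have := finite_suG hB
  have hd : ∀ i j, B (f.u i) (f.u j) = 0 := f.uu
  let n9 : List V := [f.u 0, f.u 1, f.u 2, f.u 0 + f.u 1, f.u 0 + w • f.u 1, f.u 0 + f.u 2,
    f.u 0 + w • f.u 2, f.u 1 + f.u 2, f.u 1 + w • f.u 2]
  set K := Subgroup.closure {a | a ∈ n9.map x} with hKdef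
  have hmem : ∀ v ∈ n9, x v ∈ K := fun v hv => Subgroup.subset_closure (List.mem_map_of_mem hv)
  have hperp : ∀ v ∈ n9, ∀ i, B (f.u i) v = 0 := by
    intro v hv i
    simp only [n9, List.mem_cons, List.not_mem_nil, or_false] at hv
    rcases hv with rfl | rfl | rfl | rfl | rfl | rfl | rfl | rfl | rfl <;> simp [hd]
  have hlast : ∀ {a b : V}, lineProd x w (θ w) a b = 1 → x a ∈ K → x b ∈ K → x (a + b) ∈ K →
      x (a + w • b) ∈ K → ∀ k : F, x (a + k • b) ∈ K := by
    intro a b h ha hb hab hawb k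
    rcases four_cases hB hw k with rfl | rfl | rfl | rfl
    · rwa [zero_smul, add_zero]
    · rwa [one_smul]
    · exact hawb
    · rw [show x (a + θ w • b) = (x a * x b * x (a + b) * x (a + w • b))⁻¹ from
        eq_inv_of_mul_eq_one_right h]
      exact inv_mem (mul_mem (mul_mem (mul_mem ha hb) hab) hawb)
  have b01 := hlast hG.1 (hmem _ (by simp [n9])) (hmem _ (by simp [n9])) (hmem _ (by simp [n9]))
    (hmem _ (by simp [n9]))
  have b02 := hlast hG.2.1 (hmem _ (by simp [n9])) (hmem _ (by simp [n9])) (hmem _ (by simp [n9]))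
    (hmem _ (by simp [n9]))
  have b12 := hlast hG.2.2 (hmem _ (by simp [n9])) (hmem _ (by simp [n9])) (hmem _ (by simp [n9]))
    (hmem _ (by simp [n9]))
  have hint : ∀ a b : F, x (f.u 0 + a • f.u 1 + b • f.u 2) ∈ K := by
    intro a b
    rcases eq_or_ne a 0 with rfl | ha
    · rw [zero_smul, add_zero]; exact b02 b
    rcases eq_or_ne b 0 with rfl | hb
    · rw [zero_smul, add_zero]; exact b01 a
    have hk : ∀ i, (![1, a, b] : Fin 3 → F) i ≠ 0 := by
      intro i; fin_cases i <;> simp [ha, hb]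
    have h := subProd_eq hS hx hN (f.scale hB ![1, a, b] hk)
    simp only [subProd, lineProd, Frame.scale, Matrix.cons_val_zero, Matrix.cons_val_one,
      Matrix.cons_val_two, Matrix.head_cons, Matrix.tail_cons, one_smul, smul_smul, hx.smul a _ ha,
      hx.smul b _ hb] at h
    rw [eq_inv_mul_of_mul_eq h]
    have m0 : x (f.u 0) ∈ K := hmem _ (by simp [n9])
    have m1 : x (f.u 1) ∈ K := hmem _ (by simp [n9])
    have m2 : x (f.u 2) ∈ K := hmem _ (by simp [n9])
    have m12 : x (a • f.u 1 + b • f.u 2) ∈ K := by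
      rw [show a • f.u 1 + b • f.u 2 = a • (f.u 1 + (b * a⁻¹) • f.u 2) by
        rw [smul_add, smul_smul, mul_comm b, ← mul_assoc, mul_inv_cancel₀ ha, one_mul], hx.smul a _ ha]
      exact b12 _
    exact mul_mem (inv_mem (mul_mem (mul_mem (mul_mem (mul_mem (mul_mem m0 m1) m2) (b01 a)) (b02 b)) m12))
      (mul_mem (mul_mem (mul_mem (mul_mem m0 m2) (b02 b)) (b02 _)) (b02 _))
  have hall : ∀ v, (∀ i, B (f.u i) v = 0) → x v ∈ K := by
    intro v hv
    have hv' := f.mem_plane hB hv
    rw [Fin.sum_univ_three] at hv'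
    set α := B (f.v 0) v
    set β := B (f.v 1) v
    set γ := B (f.v 2) v
    rw [hv']
    rcases eq_or_ne α 0 with h0 | h0
    swap
    · rw [show α • f.u 0 + β • f.u 1 + γ • f.u 2 =
          α • (f.u 0 + (β * α⁻¹) • f.u 1 + (γ * α⁻¹) • f.u 2) by
        rw [smul_add, smul_add, smul_smul, smul_smul, mul_comm β, mul_comm γ, ← mul_assoc, ← mul_assoc,
          mul_inv_cancel₀ h0, one_mul, one_mul], hx.smul α _ h0]
      exact hint _ _
    rcases eq_or_ne β 0 with h1 | h1
    swap
    · rw [show α • f.u 0 + β • f.u 1 + γ • f.u 2 = β • (f.u 1 + (γ * β⁻¹) • f.u 2) by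
        rw [h0, zero_smul, zero_add, smul_add, smul_smul, mul_comm γ, ← mul_assoc, mul_inv_cancel₀ h1,
          one_mul], hx.smul β _ h1]
      exact b12 _
    rcases eq_or_ne γ 0 with h2 | h2
    · rw [h0, h1, h2, zero_smul, zero_smul, zero_smul, add_zero, add_zero, hx.triv 0 fun h => h.1 rfl]
      exact one_mem _
    · rw [h0, h1, zero_smul, zero_smul, zero_add, zero_add, hx.smul γ _ h2]
      exact hmem _ (by simp [n9])
  have hle : planeW x f ≤ K := (Subgroup.closure_le _).2 (by
    rintro _ ⟨v, hv, rfl⟩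
    exact hall v hv)
  have hK : Nat.card K ≤ 512 := by
    refine (card_closure_list (n9.map x) (fun a ha => ?_) fun a ha b hb => ?_).trans (by simp [n9])
    · obtain ⟨v, -, rfl⟩ := List.mem_map.1 ha; exact hx.sq hS v
    · obtain ⟨u, hu, rfl⟩ := List.mem_map.1 ha
      obtain ⟨v, hv, rfl⟩ := List.mem_map.1 hb
      exact planeW_comm hS hx f (mem_planeW f (hperp u hu)) (mem_planeW f (hperp v hv))
  have hlift : ∀ g : f.rad, ∃ c : planeW x f, ξ c = π g := by
    rintro ⟨g, hg⟩
    obtain ⟨l, -, -, hprod, hfix⟩ := fix_prod hB (f.rad_sq hB hg)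
    refine ⟨⟨(l.map x).prod, list_prod_mem fun c hc => ?_⟩, ?_⟩
    · obtain ⟨v, hv, rfl⟩ := List.mem_map.1 hc
      exact mem_planeW f fun i => (symm_zero hB).1 (hfix _ (hg i) v hv)
    · show ξ (l.map x).prod = π g
      rw [hprod, map_list_prod, map_list_prod, List.map_map, List.map_map]
      exact congrArg List.prod (List.map_congr_left fun v _ => hx.map v)
  choose L hL using hlift
  have hLinj : Function.Injective L := fun g g' h => by
    have h1 : π g = π g' := by rw [← hL g, ← hL g', h]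
    exact Subtype.ext (hS.inj_sq (f.rad_sq hB g.2) (f.rad_sq hB g'.2) (f.rad_comm hB g.2 g'.2) h1)
  have hbij : Function.Bijective L := by
    refine (Nat.bijective_iff_injective_and_card L).2 ⟨hLinj, le_antisymm
      (Nat.card_le_card_of_injective L hLinj) ?_⟩
    rw [f.card_rad hB]
    exact (Subgroup.card_le_of_le hle).trans hK
  intro c hc h1
  obtain ⟨g, hg⟩ := hbij.2 ⟨c, hc⟩
  obtain ⟨g1, hg1⟩ := hbij.2 1
  have e : π g = π g1 := by
    rw [← hL g, ← hL g1, hg, hg1]
    show ξ c = ξ 1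
    rw [h1, map_one]
  have hge : g = g1 := Subtype.ext
    (hS.inj_sq (f.rad_sq hB g.2) (f.rad_sq hB g1.2) (f.rad_comm hB g.2 g1.2) e)
  rw [hge, hg1] at hg
  exact (congrArg Subtype.val hg).symm

omit hS hx [Finite C] in
/-- The isometries stabilising the plane. -/
def stab (hB : Space B) (f : Frame B) : Subgroup (suG B) :=
  { carrier := {g | ∀ i j, B (f.u i) (g.1 (f.u j)) = 0}
    one_mem' := fun i j => f.uu i j
    mul_mem' := fun {g g'} hg hg' i j => by
      show B (f.u i) (g.1 (g'.1 (f.u j))) = 0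
      rw [f.mem_plane hB (x := g'.1 (f.u j)) fun k => hg' k j]
      simp [map_sum, hg i]
    inv_mem' := fun {g} hg => by
      have := hB.fin; have := hB.finF; have := finite_suG hB
      have hpow : ∀ n : ℕ, ∀ i j, B (f.u i) ((g ^ n).1 (f.u j)) = 0 := by
        intro n
        induction n with
        | zero => exact fun i j => f.uu i j
        | succ n ih =>
          intro i j
          rw [pow_succ']
          show B (f.u i) (g.1 ((g ^ n).1 (f.u j))) = 0
          rw [f.mem_plane hB (x := (g ^ n).1 (f.u j)) fun k => ih k j]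
          simp [map_sum, hg i]
      have h1 : g⁻¹ = g ^ (orderOf g - 1) := by
        refine inv_eq_of_mul_eq_one_right ?_
        rw [← pow_succ', Nat.sub_add_cancel (orderOf_pos g), pow_orderOf_eq_one]
      intro i j
      rw [h1]
      exact hpow _ i j }

omit hS hx [Finite C] in
/-- A central isometry fixing a vector of a frame is trivial. -/
theorem central_fix (hB : Space B) (f : Frame B) {s : suG B} (hs : s ∈ Subgroup.center (suG B))
    (h : s.1 (f.u 0) = f.u 0) : s = 1 := by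
  have hline : ∀ b : V, b ≠ 0 → B b b = 0 → ∃ k : F, s.1 b = k • b := by
    intro b hb hbb
    have h1 := trv_conj hB s b
    rw [← Subgroup.mem_center_iff.1 hs (trv hB b), mul_inv_cancel_right, trv, trv, dif_pos ⟨hb, hbb⟩,
      dif_pos (⟨fun e => hb (by simpa using e), by rw [s.2.1]; exact hbb⟩ : s.1 b ≠ 0 ∧ B (s.1 b) (s.1 b) = 0),
      tr_eq_iff] at h1
    exact h1
  have step : ∀ {a b p q : V}, s.1 a = a → B a a = 0 → B b b = 0 → B a b = 0 → B p a = 1 → B p b = 0 →
      B q a = 0 → B q b = 1 → s.1 b = b := by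
    intro a b p q ha haa hbb hab hpa hpb hqa hqb
    obtain ⟨k, hk⟩ := hline b (fun e => by rw [e] at hqb; simp at hqb) hbb
    obtain ⟨l, hl⟩ := hline (a + b) (fun e => by simpa [hpa, hpb] using congrArg (B p) e)
      (by simp [haa, hbb, hab, (symm_zero hB).1 hab])
    rw [map_add, ha, hk] at hl
    have e1 := congrArg (B p) hl
    have e2 := congrArg (B q) hl
    simp [hpa, hpb] at e1
    simp [hqa, hqb] at e2
    rw [hk, e2, ← e1, one_smul]
  have u1 := step (p := f.v 0) (q := f.v 1) h (f.uu 0 0) (f.uu 1 1) (f.uu 0 1) (by simp [f.vu])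
    (by simp [f.vu]) (by simp [f.vu]) (by simp [f.vu])
  have u2 := step (p := f.v 0) (q := f.v 2) h (f.uu 0 0) (f.uu 2 2) (f.uu 0 2) (by simp [f.vu])
    (by simp [f.vu]) (by simp [f.vu]) (by simp [f.vu])
  have v1 := step (p := f.v 0) (q := f.u 1) h (f.uu 0 0) (f.vv 1 1) (by simp [f.uv hB]) (by simp [f.vu])
    (f.vv 0 1) (f.uu 1 0) (by simp [f.uv hB])
  have v2 := step (p := f.v 0) (q := f.u 2) h (f.uu 0 0) (f.vv 2 2) (by simp [f.uv hB]) (by simp [f.vu])
    (f.vv 0 2) (f.uu 2 0) (by simp [f.uv hB])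
  have v0 := step (p := f.v 1) (q := f.u 0) u1 (f.uu 1 1) (f.vv 0 0) (by simp [f.uv hB]) (by simp [f.vu])
    (f.vv 1 0) (f.uu 0 1) (by simp [f.uv hB])
  refine ext_suG hB fun y => ?_
  conv_lhs => rw [f.complete hB y]
  show _ = y
  conv_rhs => rw [f.complete hB y]
  simp [Fin.sum_univ_three, h, u1, u2, v0, v1, v2]

/-- A product of lifts. -/
theorem planeW_lift (f f' : Frame B) {g : suG B} (hg : g ∈ f.rad) (hg' : g ∈ f'.rad) :
    ∃ c, c ∈ planeW x f ∧ c ∈ planeW x f' ∧ ξ c = π g := by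
  obtain ⟨l, -, -, hprod, hfix⟩ := fix_prod hB (f.rad_sq hB hg)
  refine ⟨(l.map x).prod, list_prod_mem fun c hc => ?_, list_prod_mem fun c hc => ?_, ?_⟩
  · obtain ⟨v, hv, rfl⟩ := List.mem_map.1 hc
    exact mem_planeW f fun i => (symm_zero hB).1 (hfix _ (hg i) v hv)
  · obtain ⟨v, hv, rfl⟩ := List.mem_map.1 hc
    exact mem_planeW f' fun i => (symm_zero hB).1 (hfix _ (hg' i) v hv)
  · rw [hprod, map_list_prod, map_list_prod, List.map_map, List.map_map]
    exact congrArg List.prod (List.map_congr_left fun v _ => hx.map v)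

theorem planeW_coincide (f f' : Frame B) (hinj : ∀ c ∈ planeW x f, ξ c = 1 → c = 1) {g : suG B}
    (hg : g ∈ f.rad) (hg' : g ∈ f'.rad) {c : C} (hc : c ∈ planeW x f) (he : ξ c = π g) :
    c ∈ planeW x f' := by
  obtain ⟨c', h1, h2, h3⟩ := planeW_lift hS hx f f' hg hg'
  have h := hinj _ (mul_mem (inv_mem h1) hc) (by rw [map_mul, map_inv, he, h3, inv_mul_cancel])
  rwa [← inv_mul_eq_one.1 h]

theorem planeW_conj (f : Frame B) {c : C} {s : suG B} (he : ξ c = π s) (hs : s ∈ stab hB f) :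
    c ∈ Subgroup.normalizer (planeW x f : Set C) := by
  have hle : (planeW x f).map (MulAut.conj c).toMonoidHom ≤ planeW x f := by
    rw [planeW, MonoidHom.map_closure, Subgroup.closure_le]
    rintro _ ⟨_, ⟨v, hv, rfl⟩, rfl⟩
    show c * x v * c⁻¹ ∈ _
    rw [hx.conj c s v he]
    refine mem_planeW f fun i => ?_
    rw [f.mem_plane hB hv]
    simp [map_sum, hs i]
  rw [Subgroup.mem_normalizer_iff_map_conj_eq]
  exact Subgroup.eq_of_le_of_card_ge hle (Subgroup.card_map_of_injective (MulAut.conj c).injective).ge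

theorem planeW_pgroup (f : Frame B) : IsPGroup 2 (planeW x f) := by
  rintro ⟨c, hc⟩
  refine ⟨1, Subtype.ext ?_⟩
  show c ^ 2 ^ 1 = 1
  rw [pow_one, sq]
  induction hc using Subgroup.closure_induction with
  | mem y hy => obtain ⟨v, -, rfl⟩ := hy; exact hx.sq hS v
  | one => exact one_mul 1
  | mul a b ha hb iha ihb =>
    rw [(planeW_comm hS hx f ha hb).symm.mul_mul_mul_comm, iha, ihb, one_mul]
  | inv a _ iha => rw [← mul_inv_rev, iha, inv_one]

/-- In a perfect cover the three complements are contradictory. -/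
theorem not_all_good (hperf : commutator C = ⊤) (hX : ¬ 2 ^ 16 ∣ Nat.card X) (f : Frame B)
    (hi : ∀ c ∈ planeW x f, ξ c = 1 → c = 1)
    (hi1 : ∀ c ∈ planeW x (f.flip12 hB), ξ c = 1 → c = 1)
    (hi2 : ∀ c ∈ planeW x (f.flip2 hB), ξ c = 1 → c = 1) {w : F} (hw : w + θ w = 1) : False := by
  classical
  have := hB.fin; have := hB.finF; have := finite_suG hB
  have : Finite X := Finite.of_surjective ξ hS.cov.surj
  have hfd : Fact (Nat.Prime 2) := ⟨Nat.prime_two⟩
  set f1 := f.flip12 hB with hf1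
  set f2 := f.flip2 hB with hf2
  set W := planeW x f with hW
  set E2 := f2.rad ⊓ stab hB f
  set E1 := f1.rad ⊓ stab hB f ⊓ stab hB f2
  set S2 := planeW x f2 ⊓ (E2.map π).comap ξ with hS2
  set S1 := planeW x f1 ⊓ (E1.map π).comap ξ with hS1
  have hn2 : S2 ≤ Subgroup.normalizer (W : Set C) := by
    rintro c ⟨-, s, hs, hsc⟩
    exact planeW_conj hS hx f hsc.symm hs.2
  have hn1 : S1 ≤ Subgroup.normalizer ((S2 ⊔ W : Subgroup C) : Set C) := by
    rintro c ⟨-, s, hs, hsc⟩
    refine Subgroup.normalizer_inf_normalizer_le_normalizer_sup S2 W ⟨?_, planeW_conj hS hx f hsc.symm hs.1.2⟩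
    show c ∈ Subgroup.normalizer (S2 : Set C)
    rw [Subgroup.mem_normalizer_iff_map_conj_eq]
    refine Subgroup.eq_of_le_of_card_ge ?_ (Subgroup.card_map_of_injective (MulAut.conj c).injective).ge
    rintro _ ⟨y, ⟨hy, r, hr, hry⟩, rfl⟩
    show c * y * c⁻¹ ∈ S2
    refine ⟨?_, s * r * s⁻¹, ⟨fun i => ?_, (stab hB f).mul_mem ((stab hB f).mul_mem hs.1.2 hr.2) ((stab hB f).inv_mem hs.1.2)⟩, ?_⟩
    · have := Subgroup.mem_normalizer_iff.1 (planeW_conj hS hx f2 hsc.symm hs.2) y
      exact this.1 hy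
    · show s.1 (r.1 (s.1⁻¹ (f2.u i))) = f2.u i
      have hp : ∀ k, B (f2.u k) (s.1⁻¹ (f2.u i)) = 0 := fun k => (stab hB f2).inv_mem hs.2 k i
      have hrp : r.1 (s.1⁻¹ (f2.u i)) = s.1⁻¹ (f2.u i) := by
        rw [f2.mem_plane hB hp, map_sum]
        exact Finset.sum_congr rfl fun k _ => by rw [map_smul, hr.1 k]
      rw [hrp]
      exact s.1.apply_symm_apply _
    · show π (s * r * s⁻¹) = ξ (c * y * c⁻¹)
      simp [hsc, hry]
  set H := S1 ⊔ (S2 ⊔ W) with hH
  have hmemH : ∀ c ∈ H, ∃ b ∈ S1, ∃ a ∈ S2, ∃ v ∈ W, b * (a * v) = c := by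
    intro c hc
    have h1 : c ∈ ((S1 : Set C) * ((S2 ⊔ W : Subgroup C) : Set C)) := by
      rw [← Subgroup.coe_mul_of_left_le_normalizer_right _ _ hn1]; exact hc
    obtain ⟨b, hb, k, hk, rfl⟩ := Set.mem_mul.1 h1
    have h2 : k ∈ ((S2 : Set C) * (W : Set C)) := by
      rw [← Subgroup.coe_mul_of_left_le_normalizer_right _ _ hn2]; exact hk
    obtain ⟨a, ha, v, hv, rfl⟩ := Set.mem_mul.1 h2
    exact ⟨b, hb, a, ha, v, hv, rfl⟩
  -- the kernel meets it trivially
  have hHi : ∀ c ∈ H, ξ c = 1 → c = 1 := by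
    intro c hc hc1
    obtain ⟨b, ⟨hb, e1, he1, hb'⟩, a, ⟨ha, e2, he2, ha'⟩, v, hv, rfl⟩ := hmemH c hc
    obtain ⟨r, hr, hv'⟩ : ∃ r ∈ f.rad, ξ v = π r := by
      clear hc hc1
      induction hv using Subgroup.closure_induction with
      | mem y hy =>
        obtain ⟨p, hp, rfl⟩ := hy
        refine ⟨trv hB p, ?_, hx.map p⟩
        have hp' := f.mem_plane hB hp
        exact f.trv_mem hB (by rw [hp']; exact f.plane_iso _ _) fun i => (symm_zero hB).1 (hp i)
      | one => exact ⟨1, one_mem _, by rw [map_one, map_one]⟩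
      | mul p q _ _ hp hq =>
        obtain ⟨r, hr, e⟩ := hp; obtain ⟨r', hr', e'⟩ := hq
        exact ⟨r * r', mul_mem hr hr', by rw [map_mul, map_mul, e, e']⟩
      | inv p _ hp =>
        obtain ⟨r, hr, e⟩ := hp
        exact ⟨r⁻¹, inv_mem hr, by rw [map_inv, map_inv, e]⟩
    have he1u : ∀ i, e1.1 (f1.u i) = f1.u i := he1.1.1
    have he2u : ∀ i, e2.1 (f2.u i) = f2.u i := he2.1
    have e0 : e1.1 (f.u 0) = f.u 0 := he1u 0
    have e20 : e2.1 (f.u 0) = f.u 0 := he2u 0
    have e21 : e2.1 (f.u 1) = f.u 1 := he2u 1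
    have hg : e1 * (e2 * r) = 1 := by
      refine central_fix hB f (hS.ker _ ?_).1 ?_
      · rw [map_mul, map_mul, hb', ha', ← hv', ← map_mul, ← map_mul]; exact hc1
      · show e1.1 (e2.1 (r.1 (f.u 0))) = f.u 0
        rw [hr 0, e20, e0]
    have e11 : e1.1 (f.u 1) = f.u 1 := by
      have h := congrArg (fun g : suG B => g.1 (f.u 1)) hg
      change e1.1 (e2.1 (r.1 (f.u 1))) = f.u 1 at h
      rwa [hr 1, e21] at h
    have he1' : e1 ∈ f2.rad := by
      intro i
      fin_cases i
      exacts [e0, e11, he1u 2]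
    have hb2 := planeW_coincide hS hx f1 f2 hi1 he1.1.1 he1' hb hb'.symm
    have hre : e1 * e2 = r⁻¹ := eq_inv_of_mul_eq_one_left (by rw [mul_assoc]; exact hg)
    have hba := planeW_coincide hS hx f2 f hi2 (g := e1 * e2) (mul_mem he1' he2.1)
      (by rw [hre]; exact inv_mem hr) (mul_mem hb2 ha) (by rw [map_mul, map_mul, hb', ha'])
    exact hi _ (by rw [← mul_assoc]; exact mul_mem hba hv) hc1
  -- it is large
  have hel2 : ∀ i : Fin 3, i ≠ 2 → ∀ β, el hB f2 w i 2 β ∈ E2 := fun i hi2' β =>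
    ⟨el_mem hB f2 hw _ _ _, fun k j => by
      rw [el_apply hB f2 hw]
      fin_cases i <;> fin_cases j <;> fin_cases k <;>
        simp [hf2, Frame.flip2, f.uu, f.vu, f.uv hB] at hi2' ⊢⟩
  have hel1 : ∀ α, el hB f1 w 0 1 α ∈ E1 := fun α =>
    ⟨⟨el_mem hB f1 hw _ _ _, fun k j => by
      rw [el_apply hB f1 hw]
      fin_cases j <;> fin_cases k <;> simp [hf1, Frame.flip12, f.uu, f.vu, f.uv hB]⟩,
      fun k j => by
      rw [el_apply hB f1 hw]
      fin_cases j <;> fin_cases k <;> simp [hf1, hf2, Frame.flip12, Frame.flip2, f.uu, f.vu, f.uv hB, f.vv]⟩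
  have himg : ∀ (r : f.rad) (β γ α : F),
      π (el hB f1 w 0 1 α * (el hB f2 w 0 2 β * el hB f2 w 1 2 γ * r)) ∈ H.map ξ := by
    intro r β γ α
    obtain ⟨b, hb, -, hb'⟩ := planeW_lift hS hx f1 f1 (hel1 α).1.1 (hel1 α).1.1
    obtain ⟨a, ha, -, ha'⟩ := planeW_lift hS hx f2 f2 (g := el hB f2 w 0 2 β * el hB f2 w 1 2 γ)
      (mul_mem (hel2 0 (by decide) β).1 (hel2 1 (by decide) γ).1)
      (mul_mem (hel2 0 (by decide) β).1 (hel2 1 (by decide) γ).1)
    obtain ⟨v, hv, -, hv'⟩ := planeW_lift hS hx f f r.2 r.2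
    refine ⟨b * (a * v), mul_mem (Subgroup.mem_sup_left ⟨hb, _, hel1 α, hb'.symm⟩) (Subgroup.mem_sup_right
      (mul_mem (Subgroup.mem_sup_left ⟨ha, _, mul_mem (hel2 0 (by decide) β) (hel2 1 (by decide) γ), ha'.symm⟩)
        (Subgroup.mem_sup_right hv))), ?_⟩
    simp [hb', ha', hv']
  have hcard : 2 ^ 15 ≤ Nat.card (H.map ξ) := by
    let Φ : f.rad × F × F × F → H.map ξ := fun p => ⟨_, himg p.1 p.2.1 p.2.2.1 p.2.2.2⟩
    have hΦ : Function.Injective Φ := by
      rintro ⟨r, β, γ, α⟩ ⟨r', β', γ', α'⟩ h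
      have hp := congrArg Subtype.val h
      simp only [Φ] at hp
      set g := el hB f1 w 0 1 α * (el hB f2 w 0 2 β * el hB f2 w 1 2 γ * r) with hg
      set g' := el hB f1 w 0 1 α' * (el hB f2 w 0 2 β' * el hB f2 w 1 2 γ' * r') with hg'
      have hu0 : ∀ (r : f.rad) (β γ α : F),
          (el hB f1 w 0 1 α * (el hB f2 w 0 2 β * el hB f2 w 1 2 γ * r)).1 (f.u 0) = f.u 0 := by
        intro r β γ α
        show (el hB f1 w 0 1 α).1 ((el hB f2 w 0 2 β).1 ((el hB f2 w 1 2 γ).1 (r.1.1 (f.u 0)))) = _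
        simp [r.2 0, el_apply hB _ hw, hf1, hf2, Frame.flip12, Frame.flip2, f.uu, f.vu]
      have heq : g = g' := by
        have h1 := central_fix hB f (s := g⁻¹ * g') (hS.ker _ (by rw [map_mul, map_inv, hp, inv_mul_cancel])).1
          (by
            show g.1⁻¹ (g'.1 (f.u 0)) = f.u 0
            rw [hg', hu0]
            conv_lhs => rw [← hu0 r β γ α, ← hg]
            exact Herm.inv_apply_self' _ _)
        exact inv_mul_eq_one.1 h1
      have h1 := congrArg (fun s : suG B => s.1 (f.u 1)) heq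
      have h2 := congrArg (fun s : suG B => s.1 (f.u 2)) heq
      change (el hB f1 w 0 1 α).1 ((el hB f2 w 0 2 β).1 ((el hB f2 w 1 2 γ).1 (r.1.1 (f.u 1)))) =
        (el hB f1 w 0 1 α').1 ((el hB f2 w 0 2 β').1 ((el hB f2 w 1 2 γ').1 (r'.1.1 (f.u 1)))) at h1
      change (el hB f1 w 0 1 α).1 ((el hB f2 w 0 2 β).1 ((el hB f2 w 1 2 γ).1 (r.1.1 (f.u 2)))) =
        (el hB f1 w 0 1 α').1 ((el hB f2 w 0 2 β').1 ((el hB f2 w 1 2 γ').1 (r'.1.1 (f.u 2)))) at h2
      simp [r.2 1, r'.2 1, r.2 2, r'.2 2, el_apply hB _ hw, hf1, hf2, Frame.flip12, Frame.flip2, f.uu,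
        f.vu] at h1 h2
      have hα : α = α' := by
        have := congrArg (B (f.v 0)) h1
        simpa [f.vu] using this
      have hγ : γ = γ' := by
        have := congrArg (B (f.v 1)) h2
        simpa [f.vu] using this
      subst hα hγ
      have hβ : β = β' := by
        have := congrArg (B (f.v 0)) h2
        simpa [f.vu] using this
      subst hβ
      have hr : r = r' := Subtype.ext (mul_left_cancel (mul_left_cancel heq))
      rw [hr]
    have := Nat.card_le_card_of_injective Φ hΦ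
    simpa [Nat.card_prod, f.card_rad hB, hS.four] using this
  -- it is a 2-group of odd index
  have hp2 : IsPGroup 2 H := by
    refine IsPGroup.to_sup_of_normal_right' ((planeW_pgroup hS hx f1).to_le inf_le_left) ?_ hn1
    exact IsPGroup.to_sup_of_normal_right' ((planeW_pgroup hS hx f2).to_le inf_le_left)
      (planeW_pgroup hS hx f) hn2
  obtain ⟨k, hk⟩ := IsPGroup.iff_card.1 (hp2.map ξ)
  have hodd : ¬ 2 ∣ (H.map ξ).index := by
    intro hdvd
    refine hX ?_
    rw [← Subgroup.card_mul_index (H.map ξ)]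
    have hk15 : 15 ≤ k := by
      rw [hk] at hcard
      exact (Nat.pow_le_pow_iff_right (by norm_num)).1 hcard
    rw [show (2 : ℕ) ^ 16 = 2 ^ 15 * 2 from rfl, hk]
    exact Nat.mul_dvd_mul (pow_dvd_pow 2 hk15) hdvd
  -- the transfer
  set Hb := (H.map ξ).comap ξ with hHb
  have hsec : ∀ c : Hb, ∃ h ∈ H, ξ h = ξ c := fun c => c.2
  choose sec hsec1 hsec2 using hsec
  have huniq : ∀ {h h' : C}, h ∈ H → h' ∈ H → ξ h = ξ h' → h = h' := fun {h h'} m m' e =>
    mul_inv_eq_one.1 (hHi _ (mul_mem m (inv_mem m')) (by rw [map_mul, map_inv, e, mul_inv_cancel]))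
  letI : CommGroup ξ.ker :=
    { (inferInstance : Group ξ.ker) with
      mul_comm := fun a b => Subtype.ext (hS.cov.comm a.1 a.2 b.1).eq }
  let φ : Hb →* ξ.ker :=
    MonoidHom.mk' (fun c => ⟨(c : C) * (sec c)⁻¹, by
        rw [MonoidHom.mem_ker, map_mul, map_inv, hsec2, mul_inv_cancel]⟩) fun c c' => Subtype.ext (by
      show (c : C) * c' * (sec (c * c'))⁻¹ = (c : C) * (sec c)⁻¹ * (c' * (sec c')⁻¹)
      rw [huniq (hsec1 (c * c')) (mul_mem (hsec1 c) (hsec1 c')) (by
        rw [map_mul, hsec2, hsec2, hsec2]; exact map_mul ξ _ _)]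
      have hc' : ξ ((c' : C) * (sec c')⁻¹) = 1 := by rw [map_mul, map_inv, hsec2, mul_inv_cancel]
      rw [mul_inv_rev, mul_assoc (c : C) (sec c)⁻¹, ← (hS.cov.comm _ hc' (sec c)⁻¹).eq]
      simp only [mul_assoc])
  have htriv : MonoidHom.transfer φ z = 1 := MonoidHom.mem_ker.1
    (Abelianization.commutator_subset_ker (MonoidHom.transfer φ) (hperf ▸ Subgroup.mem_top z))
  rw [MonoidHom.transfer_eq_pow φ z (fun n g₀ _ => by
    rw [mul_assoc, ((hS.z_comm g₀).pow_left n).eq, inv_mul_cancel_left])] at htriv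
  have hidx : Hb.index = (H.map ξ).index := Subgroup.index_comap_of_surjective _ hS.cov.surj
  have hzp : z ^ Hb.index = z := by
    rw [hidx, ← Nat.div_add_mod (H.map ξ).index 2, pow_add, pow_mul, sq, hS.z_sq, one_pow, one_mul,
      Nat.two_dvd_ne_zero.1 hodd, pow_one]
  have hzval := congrArg Subtype.val htriv
  change z ^ Hb.index * (sec _)⁻¹ = 1 at hzval
  rw [huniq (hsec1 _) (one_mem H) (by rw [hsec2]; simp [hS.z_map]), inv_one, mul_one, hzp] at hzval
  exact hS.z_ne hzval

/-- In a perfect cover some subplane and line have different products. -/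
theorem exists_unbalanced (hperf : commutator C = ⊤) (hX : ¬ 2 ^ 16 ∣ Nat.card X) {w : F}
    (hw : w + θ w = 1) :
    ∃ f : Frame B, subProd x (f.u 0) (f.u 1) (f.u 2) ≠ lineProd x w (θ w) (f.u 0) (f.u 2) := by
  by_contra hcon
  push Not at hcon
  have hN : Balanced (B := B) x w (θ w) := hcon
  obtain ⟨f⟩ := exists_planeFrame hB
  -- a class with trivial product at one line
  suffices ∀ y : V → C, Cls hB ξ π y → Balanced (B := B) y w (θ w) →
      lineProd y w (θ w) (f.u 0) (f.u 1) = 1 → False by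
    rcases hS.kern _ (map_lineProd hS hx hw (f.uu 0 0) (f.uu 1 1) (f.uu 0 1)) with h | h
    · exact this x hx hN h
    obtain ⟨y, hy, hyx⟩ := hx.flip hS
    have hne : ∀ (g : Frame B) (a : Fin 3 → F), a ≠ 0 → (∑ i, a i • g.u i) ≠ 0 := fun g a ha e =>
      ha (funext fun i => by rw [← g.plane_coord a i, e, map_zero, Pi.zero_apply])
    have hv : ∀ (g : Frame B) (a b c : F), a ≠ 0 ∨ b ≠ 0 ∨ c ≠ 0 →
        y (a • g.u 0 + b • g.u 1 + c • g.u 2) = x (a • g.u 0 + b • g.u 1 + c • g.u 2) * z := by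
      intro g a b c h
      refine hyx _ ?_ ?_
      · have := hne g ![a, b, c] fun e => by
          have e0 : a = 0 := by simpa using congrFun e 0
          have e1 : b = 0 := by simpa using congrFun e 1
          have e2 : c = 0 := by simpa using congrFun e 2
          simp [e0, e1, e2] at h
        simpa [Fin.sum_univ_three] using this
      · simp [g.uu]
    have zz : ∀ a b : C, a * z * (b * z) = a * b := fun a b => by
      rw [(hS.z_comm b).mul_mul_mul_comm, hS.z_sq, mul_one]
    have hP : ∀ g : Frame B, subProd y (g.u 0) (g.u 1) (g.u 2) = subProd x (g.u 0) (g.u 1) (g.u 2) * z := by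
      intro g
      have v1 := hv g 1 0 0 (by simp)
      have v2 := hv g 0 1 0 (by simp)
      have v3 := hv g 0 0 1 (by simp)
      have v4 := hv g 1 1 0 (by simp)
      have v5 := hv g 1 0 1 (by simp)
      have v6 := hv g 0 1 1 (by simp)
      have v7 := hv g 1 1 1 (by simp)
      simp only [one_smul, zero_smul, add_zero, zero_add] at v1 v2 v3 v4 v5 v6 v7
      rw [subProd, v1, v2, v3, v4, v5, v6, v7, zz, ← mul_assoc (x (g.u 0) * x (g.u 1)), zz,
        ← mul_assoc (x (g.u 0) * x (g.u 1) * x (g.u 2) * x (g.u 0 + g.u 1)), zz, ← mul_assoc]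
      rfl
    have hL : ∀ g : Frame B, ∀ i j : Fin 3, i ≠ j → lineProd y w (θ w) (g.u i) (g.u j) =
        lineProd x w (θ w) (g.u i) (g.u j) * z := by
      intro g i j hij
      have hp : ∀ a b : F, a ≠ 0 ∨ b ≠ 0 → y (a • g.u i + b • g.u j) = x (a • g.u i + b • g.u j) * z := by
        intro a b h
        refine hyx _ (fun e => ?_) (by simp [g.uu])
        have e1 := congrArg (B (g.v i)) e
        have e2 := congrArg (B (g.v j)) e
        simp [g.vu, hij, hij.symm] at e1 e2
        simp [e1, e2] at h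
      have v1 := hp 1 0 (by simp)
      have v2 := hp 0 1 (by simp)
      have v3 := hp 1 1 (by simp)
      have v4 := hp 1 w (by simp)
      have v5 := hp 1 (θ w) (by simp)
      simp only [one_smul, zero_smul, add_zero, zero_add] at v1 v2 v3 v4 v5
      rw [lineProd, v1, v2, v3, v4, v5, zz, ← mul_assoc (x (g.u i) * x (g.u j)), zz, ← mul_assoc]
      rfl
    refine this y hy (fun g => ?_) ?_
    · rw [hP g, hL g 0 2 (by decide), hN g]
    · rw [hL f 0 1 (by decide), h, hS.z_sq]
  intro y hy hNy h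
  have hG := good_of_first hS hy hw hNy f h
  have hG2 := good_of_first hS hy hw hNy (f.flip2 hB) h
  have hG1 := good_of_second hS hy hw hNy (f.flip12 hB) hG2.2.1
  exact not_all_good hS hy hperf hX f (planeW_inj hS hy hw hNy f hG)
    (planeW_inj hS hy hw hNy _ hG1) (planeW_inj hS hy hw hNy _ hG2) hw

/-- In a perfect cover some product of two members and the central involution is a square. -/
theorem exists_pair_square (hperf : commutator C = ⊤) (hX : ¬ 2 ^ 16 ∣ Nat.card X) :
    ∃ (f : Frame B) (u : C), u * u = x (f.u 1) * x (f.u 0 + f.u 1) * z := by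
  obtain ⟨w, hw⟩ := exists_split hB
  obtain ⟨f, hf⟩ := exists_unbalanced hS hx hperf hX hw
  obtain ⟨u, hu⟩ := exists_square hS hx f hw
  set P := subProd x (f.u 0) (f.u 1) (f.u 2)
  set L := lineProd x w (θ w) (f.u 0) (f.u 2)
  have hL : ξ L = 1 := map_lineProd hS hx hw (f.uu 0 0) (f.uu 2 2) (f.uu 0 2)
  rcases hS.kern (P * L) (by rw [map_mul, map_subProd hS hx, hL, one_mul]) with h | h
  · exfalso
    apply hf
    rw [eq_inv_of_mul_eq_one_left h]
    exact inv_eq_of_mul_eq_one_left (hS.cov.sq L hL)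
  · exact ⟨f, u, by rw [hu, h]⟩

end Cfsg.Agent.ThreeTrans.UModel
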