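import Cfsg.Agent.ThreeTrans.RadCount
import Cfsg.Agent.ThreeTrans.CoverNonsplit

/-!
# Invariant sets in the preimage of a radical

A conjugation invariant set of elements of a perfect double cover of U₆(2) that contains no square
meets the preimage of a radical in `1 + 21 a + 280 b` elements, if it contains the central involution.
-/

set_option autoImplicit false

open Cfsg Cfsg.Agent.Classical Cfsg.Agent.Classical.Herm Module

namespace Cfsg.Agent.ThreeTrans.UModel

variable {F V : Type*} [Field F] [AddCommGroup V] [Module F V] {θ : F →+* F}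
  {B : V →ₛₗ[θ] V →ₗ[F] F} {C X : Type*} [Group C] [Group X]
  {hB : Space B} {ξ : C →* X} {π : suG B →* X} {z : C} {x : V → C}

/-- The preimage of a radical. -/
def preRad (ξ : C →* X) (π : suG B →* X) (f : Frame B) : Subgroup C := (f.rad.map π).comap ξ

variable [Finite C] (hS : Setup hB ξ π z)

include hS

theorem preRad_sq (f : Frame B) {c : C} (hc : c ∈ preRad ξ π f) : c * c = 1 := by
  obtain ⟨x, hx⟩ := exists_cls hS
  obtain ⟨g, hg, hgc⟩ := hc
  obtain ⟨c', hc', -, hc''⟩ := planeW_lift hS hx f f hg hg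
  rw [Lift.sq_congr hS.cov (k' := c') (by rw [hc'', hgc])]
  have : ∀ y ∈ planeW x f, y * y = 1 := by
    intro y hy
    induction hy using Subgroup.closure_induction with
    | mem y hy => obtain ⟨v, -, rfl⟩ := hy; exact hx.sq hS v
    | one => exact one_mul 1
    | mul a b ha hb iha ihb => rw [(planeW_comm hS hx f ha hb).symm.mul_mul_mul_comm, iha, ihb, one_mul]
    | inv a _ iha => rw [← mul_inv_rev, iha, inv_one]
  exact this c' hc'

theorem preRad_comm (f : Frame B) {c c' : C} (hc : c ∈ preRad ξ π f) (hc' : c' ∈ preRad ξ π f) :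
    Commute c c' := by
  have h := preRad_sq hS f (mul_mem hc hc')
  have e1 := inv_eq_of_mul_eq_one_left (preRad_sq hS f hc)
  have e2 := inv_eq_of_mul_eq_one_left (preRad_sq hS f hc')
  have e3 := inv_eq_of_mul_eq_one_left h
  rw [mul_inv_rev, e1, e2] at e3
  exact e3.symm

/-- The count of an invariant set on two lifts. -/
noncomputable def cnt (P : C → Prop) (z c : C) : ℕ := by
  classical exact (if P c then 1 else 0) + (if P (c * z) then 1 else 0)

theorem cnt_congr (P : C → Prop) {c c' : C} (h : ξ c = ξ c') : cnt P z c = cnt P z c' := by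
  classical
  obtain ⟨y, hy, rfl⟩ := Lift.exists_ker hS.cov h
  rcases hS.kern y hy with rfl | rfl
  · rw [mul_one]
  · unfold cnt
    rw [mul_assoc c', hS.z_sq, mul_one, add_comm]

theorem cnt_conj (P : C → Prop) (hP : ∀ h c, P c → P (h * c * h⁻¹)) (h c : C) :
    cnt P z (h * c * h⁻¹) = cnt P z c := by
  classical
  have hiff : ∀ h c, P (h * c * h⁻¹) ↔ P c := fun h c => ⟨fun hh => by
    have h1 := hP h⁻¹ _ hh
    rwa [show h⁻¹ * (h * c * h⁻¹) * h⁻¹⁻¹ = c by group] at h1, hP h c⟩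
  have e : h * c * h⁻¹ * z = h * (c * z) * h⁻¹ := by
    simp only [mul_assoc]
    rw [(hS.z_comm h⁻¹).eq]
  unfold cnt
  simp only [e, hiff]

theorem cnt_le (P : C → Prop) (c : C) : cnt P z c ≤ 2 := by
  classical
  unfold cnt
  split_ifs <;> simp

variable (hx : Cls hB ξ π x)

include hx

theorem move_lift {s : suG B} {h : C} (hh : ξ h = π s) {a p : V} {k : F} (hk : k ≠ 0)
    (hs : s.1 a = k • p) : h * x a * h⁻¹ = x p := by
  rw [hx.conj h s a hh, hs, hx.smul k p hk]

/-- Products of two members, with or without the central involution, are squares. -/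
theorem pair_square (hperf : commutator C = ⊤) (hX : ¬ 2 ^ 16 ∣ Nat.card X) {a b : V}
    (ha : a ≠ 0) (haa : B a a = 0) (hbb : B b b = 0) (hab : B a b = 0) (hind : ∀ k : F, b ≠ k • a) :
    (∃ u : C, u * u = x a * x b) ∧ ∃ u : C, u * u = x a * x b * z := by
  obtain ⟨w, hw⟩ := exists_split hB
  have htrans : ∀ (p q : V), p ≠ 0 → B p p = 0 → B q q = 0 → B p q = 0 → (∀ k : F, q ≠ k • p) →
      ∀ r : C, r = 1 ∨ r = z → (∃ u : C, u * u = x p * x q * r) → ∃ u : C, u * u = x a * x b * r := by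
    rintro p q hp hpp hqq hpq hpqi r hr ⟨u, hu⟩
    obtain ⟨s, ⟨k, hk, hsa⟩, ⟨k', hk', hsb⟩⟩ := move_pair hB hp hpp hqq hpq hpqi ha haa hbb hab hind
    obtain ⟨h, hh⟩ := hS.cov.surj (π s)
    refine ⟨h * u * h⁻¹, ?_⟩
    have hr' : h * r * h⁻¹ = r := by
      rcases hr with rfl | rfl
      · simp
      · rw [← (hS.z_comm h).eq, mul_inv_cancel_right]
    calc h * u * h⁻¹ * (h * u * h⁻¹) = h * (u * u) * h⁻¹ := by group
      _ = h * x p * h⁻¹ * (h * x q * h⁻¹) * (h * r * h⁻¹) := by rw [hu]; group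
      _ = _ := by rw [move_lift hS hx hh hk hsa, move_lift hS hx hh hk' hsb, hr']
  have hne : ∀ (f : Frame B) (i : Fin 3), f.u i ≠ 0 := fun f i e => by
    have := f.vu i i; rw [e] at this; simp at this
  constructor
  · -- an elation exchanging the two
    obtain ⟨f⟩ := exists_planeFrame hB
    set g := el hB (f.flip2 hB) w 0 2 1 with hg
    obtain ⟨gh, hgh, -, hgh'⟩ := planeW_lift hS hx (f.flip2 hB) (f.flip2 hB) (el_mem hB _ hw 0 2 1)
      (el_mem hB _ hw 0 2 1)
    have hgg : gh * gh = 1 := preRad_sq hS (f.flip2 hB) ⟨g, el_mem hB _ hw 0 2 1, hgh'.symm⟩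
    have hgi : gh⁻¹ = gh := inv_eq_of_mul_eq_one_left hgg
    have hgu : g.1 (f.u 2) = f.u 2 + f.u 0 := by
      rw [hg, el_apply hB _ hw]
      simp [Frame.flip2, f.uu, f.vu]
    have hsq : x (f.u 2) * gh * (x (f.u 2) * gh) = x (f.u 2) * x (f.u 2 + f.u 0) := by
      rw [← hgu, ← hx.conj gh g (f.u 2) hgh', hgi]
      group
    obtain ⟨u, hu⟩ := htrans (f.u 2) (f.u 2 + f.u 0) (hne f 2) (f.uu 2 2) (by simp [f.uu]) (by simp [f.uu])
      (fun k e => by
        have := congrArg (B (f.v 0)) e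
        simp [f.vu] at this) 1 (Or.inl rfl) ⟨_, by rw [hsq, mul_one]⟩
    exact ⟨u, by rw [hu, mul_one]⟩
  · obtain ⟨f, hu⟩ := exists_pair_square hS hx hperf hX
    exact htrans (f.u 1) (f.u 0 + f.u 1) (hne f 1) (f.uu 1 1) (by simp [f.uu]) (by simp [f.uu])
      (fun k e => by
        have := congrArg (B (f.v 0)) e
        simp [f.vu] at this) z (Or.inr rfl) hu

omit hx in
/-- An invariant set without squares in the preimage of a radical. -/
theorem orbit_count (hperf : commutator C = ⊤) (hX : ¬ 2 ^ 16 ∣ Nat.card X) (f : Frame B)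
    (P : C → Prop) (hP : ∀ h c, P c → P (h * c * h⁻¹)) (hPz : P z) (hPsq : ∀ u, ¬ P (u * u)) :
    ∃ a b : ℕ, a ≤ 2 ∧ b ≤ 2 ∧ {c | c ∈ preRad ξ π f ∧ P c}.ncard = 1 + 21 * a + 280 * b ∧
      (a = 0 → b = 2 → ∀ c ∈ preRad ξ π f, P c → c ≠ z → P (c * z)) := by
  classical
  have := hB.fin; have := hB.finF; have := finite_suG hB
  have : Fintype f.rad := Fintype.ofFinite _
  obtain ⟨x, hx⟩ := exists_cls hS
  choose L hL using fun g : suG B => hS.cov.surj (π g)
  let Φ : f.rad × Bool → C := fun p => if p.2 then L p.1 * z else L p.1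
  have hΦξ : ∀ p, ξ (Φ p) = π p.1 := fun p => by
    simp only [Φ]; split_ifs <;> simp [hL, hS.z_map]
  have hΦinj : Function.Injective Φ := by
    rintro ⟨g, q⟩ ⟨g', q'⟩ h
    have e := congrArg ξ h
    rw [hΦξ, hΦξ] at e
    obtain rfl : g = g' :=
      Subtype.ext (hS.inj_sq (f.rad_sq hB g.2) (f.rad_sq hB g'.2) (f.rad_comm hB g.2 g'.2) e)
    cases q <;> cases q' <;> simp [Φ, hS.z_ne] at h ⊢
  have hset : {c | c ∈ preRad ξ π f ∧ P c} = Φ '' {p | P (Φ p)} := by
    ext c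
    constructor
    · rintro ⟨⟨g, hg, hgc⟩, hPc⟩
      obtain ⟨y, hy, e⟩ := Lift.exists_ker hS.cov (show ξ c = ξ (L g) by rw [hL, hgc])
      rcases hS.kern y hy with rfl | rfl
      · rw [mul_one] at e
        exact ⟨(⟨g, hg⟩, false), by simpa [Φ, ← e] using hPc, by simp [Φ, e]⟩
      · exact ⟨(⟨g, hg⟩, true), by simpa [Φ, ← e] using hPc, by simp [Φ, e]⟩
    · rintro ⟨p, hp, rfl⟩
      exact ⟨⟨p.1, p.1.2, (hΦξ p).symm⟩, hp⟩
  set s : Finset (suG B) := (f.rad : Set (suG B)).toFinite.toFinset with hs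
  set M : suG B → ℕ := fun g => cnt P z (L g) with hM
  have hN : {c | c ∈ preRad ξ π f ∧ P c}.ncard = ∑ g ∈ s, M g := by
    rw [hset, Set.ncard_image_of_injective _ hΦinj, Set.ncard_eq_toFinset_card', Set.toFinset_setOf,
      Finset.card_filter, Fintype.sum_prod_type]
    rw [show (∑ g ∈ s, M g) = ∑ g : f.rad, M g from
      (Finset.sum_subtype s (fun g => by simp [hs]) M)]
    refine Finset.sum_congr rfl fun g _ => ?_
    rw [Fintype.sum_bool]
    simp only [Φ, M, cnt]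
    simp [add_comm]
  set S1 : Finset (suG B) := (rankOne hB f).toFinite.toFinset
  set S2 : Finset (suG B) := (rankTwo hB f).toFinite.toFinset
  set T : Finset (suG B) := ((f.rad : Set (suG B)) \ (({1} ∪ rankOne hB f) ∪ rankTwo hB f)).toFinite.toFinset
  have hone : M 1 = 1 := by
    have h1 : M 1 = cnt P z 1 := cnt_congr hS P (by rw [hL, map_one, map_one])
    rw [h1, cnt, one_mul, if_pos hPz, if_neg (fun h => hPsq 1 (by rwa [one_mul]))]
  set a := cnt P z (x (f.u 0))
  set b := cnt P z (x (f.u 0) * x (f.u 1) * x (f.u 2))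
  have h1 : ∀ g ∈ rankOne hB f, M g = a := by
    rintro g ⟨p, hp, hpp, rfl⟩
    obtain ⟨t, k, hk, ht⟩ := move_point hB hp (f.plane_perp hB hpp hpp)
      (fun e => by have := f.vu 0 0; rw [e] at this; simp at this) (f.uu 0 0)
    obtain ⟨h, hh⟩ := hS.cov.surj (π t)
    show cnt P z (L _) = a
    rw [cnt_congr hS P (c' := x p) (by rw [hL, hx.map]), ← cnt_conj hS P hP h (x p),
      move_lift hS hx hh hk ht]
  have h2 : ∀ g ∈ rankTwo hB f, M g = 0 := by
    rintro g ⟨_, ⟨p, hp, hpp, rfl⟩, _, ⟨q, hq, hqq, rfl⟩, hne, rfl⟩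
    have hb2 := f.plane_perp hB hqq hqq
    have ha2 := f.plane_perp hB hpp hpp
    obtain ⟨⟨u, hu⟩, ⟨u', hu'⟩⟩ := pair_square hS hx hperf hX hp ha2 hb2 (f.plane_perp hB hpp hqq)
      (fun k hk => trv_indep hB hq hb2 ha2 hne.symm k hk)
    show cnt P z (L _) = 0
    rw [cnt_congr hS P (c' := x p * x q) (by rw [hL, map_mul ξ, hx.map, hx.map, map_mul]), cnt,
      if_neg (hu ▸ hPsq u), if_neg (hu' ▸ hPsq u')]
  have h3 : ∀ g ∈ (f.rad : Set (suG B)) \ (({1} ∪ rankOne hB f) ∪ rankTwo hB f), M g = b := by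
    rintro g ⟨hg, hn⟩
    simp only [Set.mem_union, Set.mem_singleton_iff, not_or] at hn
    obtain ⟨p, q, r, hp, hpp, hqq, hrr, hpq, hpr, hqr, hind, hind2, rfl⟩ :=
      rankThree_prod hB f hg hn.1.1 hn.1.2 hn.2
    obtain ⟨t, ⟨k, hk, ht⟩, ⟨k', hk', ht'⟩, ⟨k'', hk'', ht''⟩⟩ :=
      move_triple hB hp hpp hqq hrr hpq hpr hqr hind hind2 f
    obtain ⟨h, hh⟩ := hS.cov.surj (π t)
    show cnt P z (L _) = b
    rw [cnt_congr hS P (c' := x p * x q * x r) (by simp [hL, hx.map]),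
      ← cnt_conj hS P hP h (x p * x q * x r),
      show h * (x p * x q * x r) * h⁻¹ = h * x p * h⁻¹ * (h * x q * h⁻¹) * (h * x r * h⁻¹) by group,
      move_lift hS hx hh hk ht, move_lift hS hx hh hk' ht', move_lift hS hx hh hk'' ht'']
  have hsplit : ∀ g ∈ f.rad, g = 1 ∨ g ∈ rankOne hB f ∨ g ∈ rankTwo hB f ∨
      g ∈ (f.rad : Set (suG B)) \ (({1} ∪ rankOne hB f) ∪ rankTwo hB f) := fun g hg => by
    by_cases e1 : g = 1
    · exact Or.inl e1
    by_cases e2 : g ∈ rankOne hB f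
    · exact Or.inr (Or.inl e2)
    by_cases e3 : g ∈ rankTwo hB f
    · exact Or.inr (Or.inr (Or.inl e3))
    exact Or.inr (Or.inr (Or.inr ⟨hg, by simp [e1, e2, e3]⟩))
  refine ⟨a, b, cnt_le hS P _, cnt_le hS P _, ?_, ?_⟩
  · have hs' : s = (({1} ∪ S1) ∪ S2) ∪ T := by
      ext g
      simp only [hs, S1, S2, T, Finset.mem_union, Finset.mem_singleton, Set.Finite.mem_toFinset]
      constructor
      · intro hg
        rcases hsplit g hg with h | h | h | h
        exacts [Or.inl (Or.inl (Or.inl h)), Or.inl (Or.inl (Or.inr h)), Or.inl (Or.inr h), Or.inr h]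
      · rintro (((rfl | h) | h) | h)
        exacts [f.rad.one_mem, (rankOne_inv hB h).1, (rankTwo_inv hB h).1, h.1]
    have d1 : Disjoint ({1} : Finset (suG B)) S1 :=
      Finset.disjoint_singleton_left.2 fun h => (rankOne_inv hB ((Set.Finite.mem_toFinset _).1 h)).2 rfl
    have d2 : Disjoint ({1} ∪ S1) S2 := by
      rw [Finset.disjoint_left]
      intro g hg hg2
      have hg2' := (rankTwo_inv hB ((Set.Finite.mem_toFinset _).1 hg2)).2
      rcases Finset.mem_union.1 hg with h | h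
      · exact hg2'.1 (Finset.mem_singleton.1 h)
      · exact hg2'.2 ((Set.Finite.mem_toFinset _).1 h)
    have d3 : Disjoint (({1} ∪ S1) ∪ S2) T := by
      rw [Finset.disjoint_left]
      intro g hg hgT
      refine ((Set.Finite.mem_toFinset _).1 hgT).2 ?_
      simpa [S1, S2, or_assoc] using hg
    rw [hN, hs', Finset.sum_union d3, Finset.sum_union d2, Finset.sum_union d1, Finset.sum_singleton, hone,
      Finset.sum_congr rfl (fun g hg => h1 g ((Set.Finite.mem_toFinset _).1 hg)),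
      Finset.sum_congr rfl (fun g hg => h2 g ((Set.Finite.mem_toFinset _).1 hg)),
      Finset.sum_congr rfl (fun g hg => h3 g ((Set.Finite.mem_toFinset _).1 hg)),
      Finset.sum_const, Finset.sum_const, Finset.sum_const, smul_zero, add_zero,
      ← Set.ncard_eq_toFinset_card, ← Set.ncard_eq_toFinset_card,
      rankOne_card hB f hS.four, rankThree_card hB f hS.four]
    simp
  · intro ha hb c ⟨g, hg, hgc⟩ hPc hcz
    have hMc : M g = cnt P z c := cnt_congr hS P (by rw [hL, hgc])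
    rcases hsplit g hg with h | h | h | h
    · subst h
      rw [map_one] at hgc
      rcases hS.kern c hgc.symm with rfl | rfl
      · exact absurd hPc (fun h => hPsq 1 (by rwa [one_mul]))
      · exact absurd rfl hcz
    · rw [h1 g h, ha, cnt, if_pos hPc] at hMc
      omega
    · rw [h2 g h, cnt, if_pos hPc] at hMc
      omega
    · rw [h3 g h, hb, cnt, if_pos hPc] at hMc
      by_contra hcon
      rw [if_neg hcon] at hMc
      omega

omit hx in
/-- An element of order two modulo the centre has a conjugate in the preimage of a radical. -/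
theorem exists_conj_mem (f : Frame B) {c : C} (hc : ξ c * ξ c = 1) :
    ∃ h, h * c * h⁻¹ ∈ preRad ξ π f := by
  obtain ⟨g₀, hg₀⟩ := hS.surj (ξ c)
  have hgq : π (g₀ ^ 3) = ξ c := by rw [map_pow, pow_succ, sq, hg₀, hc, one_mul]
  have hg : g₀ ^ 3 * g₀ ^ 3 = 1 := by
    rw [← pow_add, show 3 + 3 = 2 * 3 from rfl, pow_mul, sq]
    exact (hS.ker _ (by rw [map_mul, hg₀, hc])).2
  suffices ∃ t : suG B, t * g₀ ^ 3 * t⁻¹ ∈ f.rad by
    obtain ⟨t, ht⟩ := this
    obtain ⟨h, hh⟩ := hS.cov.surj (π t)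
    exact ⟨h, _, ht, by simp [hgq, hh]⟩
  have hne : ∀ i : Fin 3, f.u i ≠ 0 := fun i e => by
    have := f.vu i i; rw [e] at this; simp at this
  have hmem : ∀ i, trv hB (f.u i) ∈ f.rad := fun i => f.trv_mem hB (f.uu i i) fun j => f.uu i j
  rcases involution_eq hB hg with h | ⟨a, h⟩ | ⟨a, b, hab, hba, h⟩ |
    ⟨a, b, e, hab, hae, hbe, hba, hcab, h⟩
  · exact ⟨1, by rw [h]; simp [f.rad.one_mem]⟩
  · obtain ⟨t, k, hk, ht⟩ := move_point hB a.2.1 a.2.2 (hne 0) (f.uu 0 0)
    refine ⟨t, ?_⟩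
    rw [h, ← trv_pt hB a, trv_conj, ht, trv_smul hB hk]
    exact hmem 0
  · obtain ⟨t, ⟨k, hk, ht⟩, ⟨k', hk', ht'⟩⟩ := move_pair hB a.2.1 a.2.2 b.2.2 hab hba (hne 0) (f.uu 0 0)
      (f.uu 1 1) (f.uu 0 1) (fun k e => by have := congrArg (B (f.v 1)) e; simp [f.vu] at this)
    refine ⟨t, ?_⟩
    rw [h, ← trv_pt hB a, ← trv_pt hB b,
      show t * (trv hB a.1 * trv hB b.1) * t⁻¹ = t * trv hB a.1 * t⁻¹ * (t * trv hB b.1 * t⁻¹) by group,
      trv_conj, trv_conj, ht, ht', trv_smul hB hk, trv_smul hB hk']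
    exact mul_mem (hmem 0) (hmem 1)
  · obtain ⟨t, ⟨k, hk, ht⟩, ⟨k', hk', ht'⟩, ⟨k'', hk'', ht''⟩⟩ :=
      move_triple hB a.2.1 a.2.2 b.2.2 e.2.2 hab hae hbe hba hcab f
    refine ⟨t, ?_⟩
    rw [h, ← trv_pt hB a, ← trv_pt hB b, ← trv_pt hB e,
      show t * (trv hB a.1 * trv hB b.1 * trv hB e.1) * t⁻¹ =
        t * trv hB a.1 * t⁻¹ * (t * trv hB b.1 * t⁻¹) * (t * trv hB e.1 * t⁻¹) by group,
      trv_conj, trv_conj, trv_conj, ht, ht', ht'', trv_smul hB hk, trv_smul hB hk', trv_smul hB hk'']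
    exact mul_mem (mul_mem (hmem 0) (hmem 1)) (hmem 2)

end Cfsg.Agent.ThreeTrans.UModel
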