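import Mathlib

/-!
# Lifting a Sylow 2-subgroup of the symmetric group of degree eight

If a double cover of a group of permutations of eight points has an involution over every double
transposition, a 2-subgroup of order 64 lifts without the central involution.
-/

set_option autoImplicit false

open Equiv

namespace Cfsg.Agent.ThreeTrans

namespace DoubleSwap

variable {W : Type*} [Group W] {π : W →* Perm (Fin 8)} {z : W}

/-- The hypotheses: an extension by `z` with involutions over all double transpositions. -/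
structure Lifts (π : W →* Perm (Fin 8)) (z : W) : Prop where
  ne : z ≠ 1
  ker : ∀ w, π w = 1 ↔ (w = 1 ∨ w = z)
  lift : ∀ i j k l : Fin 8, [i, j, k, l].Nodup → ∃ w, w * w = 1 ∧ π w = swap i j * swap k l

/-- A product of two disjoint transpositions. -/
def IsDouble (τ : Perm (Fin 8)) : Prop :=
  ∃ i j k l : Fin 8, [i, j, k, l].Nodup ∧ τ = swap i j * swap k l

theorem IsDouble.conj {τ : Perm (Fin 8)} (h : IsDouble τ) (r : Perm (Fin 8)) :
    IsDouble (r * τ * r⁻¹) := by
  obtain ⟨i, j, k, l, hnd, rfl⟩ := h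
  refine ⟨r i, r j, r k, r l, hnd.map (f := r) r.injective, ?_⟩
  rw [swap_apply_apply, swap_apply_apply]
  group

theorem double (i j k l : Fin 8) (h : [i, j, k, l].Nodup) : IsDouble (swap i j * swap k l) :=
  ⟨i, j, k, l, h, rfl⟩

variable (h : Lifts π z)

include h

theorem z_sq : z * z = 1 := by
  have hz : π z = 1 := (h.ker z).2 (Or.inr rfl)
  rcases (h.ker (z * z)).1 (by rw [map_mul, hz, mul_one]) with e | e
  · exact e
  · exact absurd (mul_eq_left.1 e) h.ne

theorem z_central (w : W) : Commute w z := by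
  have hz : π z = 1 := (h.ker z).2 (Or.inr rfl)
  rcases (h.ker (w * z * w⁻¹)).1 (by rw [map_mul, map_mul, hz, mul_one, map_inv, mul_inv_cancel]) with e | e
  · exact absurd (conj_eq_one_iff.1 e) h.ne
  · exact mul_inv_eq_iff_eq_mul.1 e

theorem same_image {w v : W} (hwv : π w = π v) : v = w ∨ v = w * z := by
  rcases (h.ker (w⁻¹ * v)).1 (by rw [map_mul, map_inv, hwv, inv_mul_cancel]) with e | e
  · exact Or.inl (inv_mul_eq_one.1 e).symm
  · exact Or.inr (inv_mul_eq_iff_eq_mul.1 e)

theorem sq_one {w : W} (hw : IsDouble (π w)) : w * w = 1 := by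
  obtain ⟨i, j, k, l, hnd, he⟩ := hw
  obtain ⟨v, hv, hv'⟩ := h.lift i j k l hnd
  rcases same_image h (hv'.trans he.symm) with rfl | rfl
  · exact hv
  · rw [mul_assoc, ← mul_assoc z, (z_central h v).symm.eq, mul_assoc, z_sq h, mul_one, hv]

theorem exists_over {τ : Perm (Fin 8)} (hτ : IsDouble τ) : ∃ w, π w = τ := by
  obtain ⟨i, j, k, l, hnd, rfl⟩ := hτ
  exact (h.lift i j k l hnd).imp fun w hw => hw.2

theorem commute_of_double {w v : W} (hw : IsDouble (π w)) (hv : IsDouble (π v))
    (hwv : IsDouble (π w * π v)) : Commute w v := by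
  have e := sq_one h (w := w * v) (by rwa [map_mul])
  show w * v = v * w
  rw [eq_inv_of_mul_eq_one_left e, mul_inv_rev, inv_eq_of_mul_eq_one_left (sq_one h hv),
    inv_eq_of_mul_eq_one_left (sq_one h hw)]

/-- Lifts of disjoint double transpositions commute. -/
theorem commute_disjoint (r : Perm (Fin 8)) {w v : W}
    (hw : π w = r * (swap 0 1 * swap 2 3) * r⁻¹) (hv : π v = r * (swap 4 5 * swap 6 7) * r⁻¹) :
    Commute w v := by
  set τ : Perm (Fin 8) := swap 0 1 * swap 2 3
  set σ₁ : Perm (Fin 8) := swap 4 5 * swap 6 7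
  set σ₂ : Perm (Fin 8) := swap 4 6 * swap 5 7
  set θ₁ : Perm (Fin 8) := swap 5 6 * swap 0 1
  set θ₂ : Perm (Fin 8) := swap 0 1 * swap 6 7
  obtain ⟨g₁, hg₁⟩ := exists_over h ((double 5 6 0 1 (by decide)).conj r)
  obtain ⟨g₂, hg₂⟩ := exists_over h ((double 0 1 6 7 (by decide)).conj r)
  set g := g₁ * g₂
  have hg : π g = r * (θ₁ * θ₂) * r⁻¹ := by rw [map_mul, hg₁, hg₂]; simp only [θ₁, θ₂]; group
  have e1 : θ₁ * θ₂ * τ * (θ₁ * θ₂)⁻¹ = τ := by decide
  have e2 : θ₁ * θ₂ * σ₁ * (θ₁ * θ₂)⁻¹ = σ₂ := by decide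
  have e3 : σ₁ * σ₂ = swap 4 7 * swap 5 6 := by decide
  have e4 : θ₁ * θ₂ * σ₂ * (θ₁ * θ₂)⁻¹ = swap 4 7 * swap 5 6 := by decide
  have hcj : ∀ {x : W} {ρ : Perm (Fin 8)}, π x = r * ρ * r⁻¹ →
      π (g * x * g⁻¹) = r * (θ₁ * θ₂ * ρ * (θ₁ * θ₂)⁻¹) * r⁻¹ := fun {x ρ} hx => by
    rw [map_mul, map_mul, map_inv, hg, hx]; group
  have hw' := same_image h (w := w) (v := g * w * g⁻¹) (by rw [hcj hw, e1, hw])
  have hstep : ∀ {x : W}, Commute w (g * x * g⁻¹) ↔ Commute w x := fun {x} => by
    have hk : Commute (g * w * g⁻¹) (g * x * g⁻¹) ↔ Commute w x := by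
      constructor <;> intro hh
      · have := hh.map (MulAut.conj g⁻¹).toMonoidHom
        simpa [mul_assoc] using this
      · exact hh.map (MulAut.conj g).toMonoidHom
    rw [← hk]
    rcases hw' with e | e <;> rw [e]
    refine ⟨fun hh => hh.mul_left (z_central h _).symm, fun hh => ?_⟩
    have := hh.mul_left (z_central h (g * x * g⁻¹)).symm
    rwa [mul_assoc, z_sq h, mul_one] at this
  by_contra hnc
  set v₂ := g * v * g⁻¹
  have hv₂ : π v₂ = r * σ₂ * r⁻¹ := by rw [hcj hv, e2]
  have hn2 : ¬ Commute w v₂ := fun hh => hnc (hstep.1 hh)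
  have hv₃ := same_image h (w := g * v₂ * g⁻¹) (v := v * v₂) (by
    rw [hcj hv₂, e4, map_mul, hv, hv₂, ← e3]; group)
  have hn3 : ¬ Commute w (v * v₂) := fun hh => hn2 (hstep.1 (by
    rcases hv₃ with e | e <;> rw [e] at hh
    · exact hh
    · have := hh.mul_right (z_central h w)
      rwa [mul_assoc, z_sq h, mul_one] at this))
  have hcomm : ∀ {x : W}, π w * π x = π x * π w → ¬ Commute w x → w * x = x * w * z := by
    intro x hx hnx
    rcases same_image h (w := x * w) (v := w * x) (by rw [map_mul, map_mul, hx]) with e | e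
    exacts [absurd e hnx, e]
  have k₁ := hcomm (x := v) (by
    rw [hw, hv]
    calc r * τ * r⁻¹ * (r * σ₁ * r⁻¹) = r * (τ * σ₁) * r⁻¹ := by group
      _ = r * (σ₁ * τ) * r⁻¹ := by rw [show τ * σ₁ = σ₁ * τ by decide]
      _ = r * σ₁ * r⁻¹ * (r * τ * r⁻¹) := by group) hnc
  have k₂ := hcomm (x := v₂) (by
    rw [hw, hv₂]
    calc r * τ * r⁻¹ * (r * σ₂ * r⁻¹) = r * (τ * σ₂) * r⁻¹ := by group
      _ = r * (σ₂ * τ) * r⁻¹ := by rw [show τ * σ₂ = σ₂ * τ by decide]
      _ = r * σ₂ * r⁻¹ * (r * τ * r⁻¹) := by group) hn2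
  refine hn3 ?_
  show w * (v * v₂) = v * v₂ * w
  calc w * (v * v₂) = v * w * (z * v₂) := by rw [← mul_assoc, k₁]; simp only [mul_assoc]
    _ = v * (w * v₂) * z := by rw [(z_central h v₂).symm.eq]; simp only [mul_assoc]
    _ = v * v₂ * w := by rw [k₂]; simp only [mul_assoc, z_sq h, mul_one]

/-- A lift of a 2-subgroup of order 64. -/
theorem exists_sylow_lift [Finite W] : ∃ H : Subgroup W, z ∉ H ∧ Nat.card H = 64 := by
  classical
  obtain ⟨b, hb⟩ := exists_over h (double 0 2 1 3 (by decide))
  obtain ⟨e, he⟩ := exists_over h (double 0 1 4 5 (by decide))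
  obtain ⟨ρ, hρ⟩ := exists_over h (double 0 4 1 5 (by decide))
  obtain ⟨ν, hν⟩ := exists_over h (double 2 6 3 7 (by decide))
  set f := ρ * ν
  set a := e * b * e * b
  set a' := f * a * f
  set b' := f * b * f
  have ha : π a = swap 0 1 * swap 2 3 := by
    simp only [a, map_mul, hb, he]
    decide
  have hf : π f = swap 0 4 * swap 1 5 * (swap 2 6 * swap 3 7) := by rw [map_mul, hρ, hν]
  have ha' : π a' = swap 4 5 * swap 6 7 := by
    simp only [a', map_mul, hf, ha]
    decide
  have hb' : π b' = swap 4 6 * swap 5 7 := by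
    simp only [b', map_mul, hf, hb]
    decide
  have dd : ∀ {τ : Perm (Fin 8)} (i j k l : Fin 8), [i, j, k, l].Nodup →
      swap i j * swap k l = τ → IsDouble τ := fun i j k l hnd e => e ▸ double i j k l hnd
  have qb : b * b = 1 := sq_one h (hb ▸ double 0 2 1 3 (by decide))
  have qe : e * e = 1 := sq_one h (he ▸ double 0 1 4 5 (by decide))
  have qρ : ρ * ρ = 1 := sq_one h (hρ ▸ double 0 4 1 5 (by decide))
  have qν : ν * ν = 1 := sq_one h (hν ▸ double 2 6 3 7 (by decide))
  have qa : a * a = 1 := sq_one h (ha ▸ double 0 1 2 3 (by decide))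
  -- disjoint pairs
  have cρν : Commute ρ ν := commute_disjoint h
    (swap 1 4 * swap 4 2 * (swap 3 5 * swap 5 6)) (hρ.trans (by decide)) (hν.trans (by decide))
  have ceν : Commute e ν := commute_disjoint h
    (swap 2 4 * (swap 3 5 * swap 5 6)) (he.trans (by decide)) (hν.trans (by decide))
  have caa' : Commute a a' := commute_disjoint h 1 (ha.trans (by decide)) (ha'.trans (by decide))
  have cab' : Commute a b' := commute_disjoint h (swap 5 6) (ha.trans (by decide)) (hb'.trans (by decide))
  have cba' : Commute b a' := commute_disjoint h (swap 1 2) (hb.trans (by decide)) (ha'.trans (by decide))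
  have cbb' : Commute b b' := commute_disjoint h (swap 1 2 * swap 5 6)
    (hb.trans (by decide)) (hb'.trans (by decide))
  -- pairs in a four-group
  have ceρ : Commute e ρ := commute_of_double h (he ▸ double 0 1 4 5 (by decide))
    (hρ ▸ double 0 4 1 5 (by decide)) (dd 0 5 1 4 (by decide) (by rw [he, hρ]; decide))
  have cab : Commute a b := commute_of_double h (ha ▸ double 0 1 2 3 (by decide))
    (hb ▸ double 0 2 1 3 (by decide)) (dd 0 3 1 2 (by decide) (by rw [ha, hb]; decide))
  have cea : Commute e a := commute_of_double h (he ▸ double 0 1 4 5 (by decide))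
    (ha ▸ double 0 1 2 3 (by decide)) (dd 2 3 4 5 (by decide) (by rw [he, ha]; decide))
  have qf : f * f = 1 := by
    show ρ * ν * (ρ * ν) = 1
    rw [cρν.symm.mul_mul_mul_comm, qρ, qν, mul_one]
  have cef : Commute e f := ceρ.mul_right ceν
  have cfj : ∀ x y : W, Commute x y → Commute (f * x * f) (f * y * f) := fun x y hxy => by
    have hfi : f⁻¹ = f := inv_eq_of_mul_eq_one_left qf
    have := hxy.map (MulAut.conj f).toMonoidHom
    simpa [hfi] using this
  have qa' : a' * a' = 1 := sq_one h (ha' ▸ double 4 5 6 7 (by decide))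
  have qb' : b' * b' = 1 := sq_one h (hb' ▸ double 4 6 5 7 (by decide))
  have ca'b' : Commute a' b' := cfj a b cab
  -- the rules
  have heb : e * b = a * b * e := by
    simp only [a, mul_assoc]
    rw [← mul_assoc b b, qb, one_mul, qe, mul_one]
  have hea' : Commute e a' := (cef.mul_right cea).mul_right cef
  have heb' : e * b' = a' * b' * e := by
    calc e * b' = f * (e * b) * f := by
          simp only [b', ← mul_assoc]; rw [cef.eq]
      _ = f * a * (f * f) * b * e * f := by rw [heb, qf, mul_one]; simp only [mul_assoc]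
      _ = a' * b' * e := by simp only [a', b', mul_assoc]; rw [cef.eq]
  have hfa : f * a = a' * f := by simp only [a', mul_assoc, qf, mul_one]
  have hfb : f * b = b' * f := by simp only [b', mul_assoc, qf, mul_one]
  have hfa' : f * a' = a * f := by
    simp only [a', ← mul_assoc]; rw [qf, one_mul]
  have hfb' : f * b' = b * f := by
    simp only [b', ← mul_assoc]; rw [qf, one_mul]
  let p : Bool → W → W := fun i x => cond i x 1
  let φ : Bool × Bool × Bool × Bool × Bool × Bool → W := fun v =>
    p v.1 a * (p v.2.1 b * (p v.2.2.1 a' * (p v.2.2.2.1 b' * (p v.2.2.2.2.1 e * p v.2.2.2.2.2 f))))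
  have push : ∀ {x y : W}, Commute x y → ∀ (i : Bool) (u : W), x * (p i y * u) = p i y * (x * u) := by
    intro x y hxy i u
    cases i <;> simp only [p, cond_true, cond_false, one_mul]
    rw [← mul_assoc, hxy.eq, mul_assoc]
  have tog : ∀ {x : W}, x * x = 1 → ∀ (i : Bool) (u : W), x * (p i x * u) = p (!i) x * u := by
    intro x hx i u
    cases i <;> simp only [p, cond_true, cond_false, one_mul, Bool.not_false, Bool.not_true]
    rw [← mul_assoc, hx, one_mul]
  have togl : ∀ {x : W}, x * x = 1 → ∀ (i : Bool), x * p i x = p (!i) x := by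
    intro x hx i
    cases i <;> simp [p, hx]
  have two : ∀ {x y : W}, y * y = 1 → ∀ (i j : Bool), Commute x y →
      p i x * (p j x * y) = p i x * (y * p j x) := fun {x y} _ i j hxy => by
    cases j <;> simp [p, hxy.eq]
  have sa : ∀ v, ∃ v', a * φ v = φ v' := fun v => ⟨(!v.1, v.2), tog qa _ _⟩
  have sb : ∀ v, ∃ v', b * φ v = φ v' := fun v => ⟨(v.1, !v.2.1, v.2.2), by
    simp only [φ]; rw [push cab.symm, tog qb]⟩
  have sa' : ∀ v, ∃ v', a' * φ v = φ v' := fun v => ⟨(v.1, v.2.1, !v.2.2.1, v.2.2.2), by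
    simp only [φ]; rw [push caa'.symm, push cba'.symm, tog qa']⟩
  have sb' : ∀ v, ∃ v', b' * φ v = φ v' := fun v => ⟨(v.1, v.2.1, v.2.2.1, !v.2.2.2.1, v.2.2.2.2), by
    simp only [φ]; rw [push cab'.symm, push cbb'.symm, push ca'b'.symm, tog qb']⟩
  have se : ∀ v, ∃ v', e * φ v = φ v' := by
    rintro ⟨i, j, k, l, m, n⟩
    refine ⟨(xor i j, j, xor k l, l, !m, n), ?_⟩
    have hj : ∀ u, e * (p j b * u) = p j a * (p j b * (e * u)) := fun u => by
      cases j <;> simp only [p, cond_true, cond_false, one_mul]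
      rw [← mul_assoc, heb]; simp only [mul_assoc]
    have hl : ∀ u, e * (p l b' * u) = p l a' * (p l b' * (e * u)) := fun u => by
      cases l <;> simp only [p, cond_true, cond_false, one_mul]
      rw [← mul_assoc, heb']; simp only [mul_assoc]
    simp only [φ]
    rw [push cea, hj, push hea', hl, tog qe]
    have hxa : ∀ (x : W), x * x = 1 → ∀ (i j : Bool) u, p i x * (p j x * u) = p (xor i j) x * u := by
      intro x hx i j u
      cases i <;> cases j <;> simp [p, ← mul_assoc, hx]
    rw [hxa a qa]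
    congr 2
    rw [hxa a' qa']
  have sf : ∀ v, ∃ v', f * φ v = φ v' := by
    rintro ⟨i, j, k, l, m, n⟩
    refine ⟨(k, l, i, j, m, !n), ?_⟩
    have mv : ∀ {x y : W}, f * x = y * f → ∀ (i : Bool) u, f * (p i x * u) = p i y * (f * u) := by
      intro x y hxy i u
      cases i <;> simp only [p, cond_true, cond_false, one_mul]
      rw [← mul_assoc, hxy, mul_assoc]
    simp only [φ]
    rw [mv hfa, mv hfb, mv hfa', mv hfb', push cef.symm, togl qf]
    have cp : ∀ {x y : W}, Commute x y → ∀ i j, Commute (p i x) (p j y) := fun hxy i j => by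
      cases i <;> cases j <;> simp [p, hxy]
    set R := p m e * p (!n) f
    have hc : Commute (p k a * p l b) (p i a' * p j b') :=
      ((cp caa' k i).mul_right (cp cab' k j)).mul_left ((cp cba' l i).mul_right (cp cbb' l j))
    calc p i a' * (p j b' * (p k a * (p l b * R)))
        = p i a' * p j b' * (p k a * p l b) * R := by simp only [mul_assoc]
      _ = p k a * p l b * (p i a' * p j b') * R := by rw [hc.eq]
      _ = p k a * (p l b * (p i a' * (p j b' * R))) := by simp only [mul_assoc]
  let gens : List W := [a, b, a', b', e, f]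
  set H := Subgroup.closure {x : W | x ∈ gens}
  have hinv : ∀ x ∈ gens, x⁻¹ = x := by
    intro x hx
    simp only [gens, List.mem_cons, List.not_mem_nil, or_false] at hx
    rcases hx with rfl | rfl | rfl | rfl | rfl | rfl <;> apply inv_eq_of_mul_eq_one_left <;> assumption
  have hstep : ∀ x ∈ gens, ∀ v, ∃ v', x * φ v = φ v' := by
    intro x hx
    simp only [gens, List.mem_cons, List.not_mem_nil, or_false] at hx
    rcases hx with rfl | rfl | rfl | rfl | rfl | rfl <;> assumption
  have hH : ∀ x ∈ H, ∃ v, x = φ v := by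
    intro x hx
    induction hx using Subgroup.closure_induction_left with
    | one => exact ⟨(false, false, false, false, false, false), by simp [φ, p]⟩
    | mul_left x hx y _ ih => obtain ⟨v, rfl⟩ := ih; exact hstep x hx v
    | inv_mul_cancel x hx y _ ih => obtain ⟨v, rfl⟩ := ih; rw [hinv x hx]; exact hstep x hx v
  have hφH : ∀ v, φ v ∈ H := by
    have hp : ∀ (i : Bool) x, x ∈ gens → p i x ∈ H := fun i x hx => by
      cases i
      · exact one_mem _
      · exact Subgroup.subset_closure hx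
    intro v
    simp only [φ]
    refine mul_mem (hp _ _ ?_) (mul_mem (hp _ _ ?_) (mul_mem (hp _ _ ?_) (mul_mem (hp _ _ ?_)
      (mul_mem (hp _ _ ?_) (hp _ _ ?_))))) <;> simp [gens]
  let q : Bool → Perm (Fin 8) → Perm (Fin 8) := fun i x => cond i x 1
  have hπp : ∀ i x, π (p i x) = q i (π x) := fun i x => by cases i <;> simp [p, q]
  have hinj : ∀ v w, π (φ v) = π (φ w) → v = w := by
    intro v w
    simp only [φ, map_mul, hπp, ha, hb, ha', hb', he, hf]
    revert v w
    decide +kernel
  refine ⟨H, fun hz => ?_, ?_⟩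
  · obtain ⟨v, hv⟩ := hH z hz
    have hv0 : π (φ v) = π (φ (false, false, false, false, false, false)) := by
      rw [← hv, (h.ker z).2 (Or.inr rfl)]
      simp [φ, p]
    apply h.ne
    rw [hv, hinj _ _ hv0]
    simp [φ, p]
  · have hb : Function.Bijective (fun v => (⟨φ v, hφH v⟩ : H)) := by
      refine ⟨fun v w e => hinj v w (congrArg π (congrArg Subtype.val e)), fun x => ?_⟩
      obtain ⟨v, hv⟩ := hH x x.2
      exact ⟨v, Subtype.ext hv.symm⟩
    rw [← Nat.card_eq_of_bijective _ hb]
    simp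

end DoubleSwap

end Cfsg.Agent.ThreeTrans
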