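import Cfsg.Agent.ThreeTrans.PrimeNormal
import Cfsg.Agent.S2530
import Cfsg.Agent.SymGlue.Prep

/-!
# Fixed member sets isomorphic to the transpositions of a symmetric group
-/

set_option autoImplicit false

open Cfsg

namespace Cfsg.Agent.ThreeTrans.FixedSym

open Equiv

variable {G : Type*} [Group G]

/-- A path of members gives a homomorphism from a symmetric group. -/
theorem exists_hom {D : Set G} (hT : IsThreeTranspositionSet D) {n : ℕ} (f : Fin n → G)
    (hf : ∀ i, f i ∈ D)
    (hadj : ∀ i j : Fin n, (i : ℕ) + 1 = j → ¬ Commute (f i) (f j))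
    (hfar : ∀ i j : Fin n, (i : ℕ) + 1 < j → Commute (f i) (f j)) :
    ∃ φ : Perm (Fin (n + 1)) →* G, (∀ i : Fin n, φ (swap i.castSucc i.succ) = f i) ∧
      φ.range = Subgroup.closure (Set.range f) := by
  obtain ⟨cs, hcs⟩ := Cfsg.Agent.S2530.result n
  have hlift : (CoxeterMatrix.A n).IsLiftable f := by
    intro i j
    have hM : CoxeterMatrix.A n i j =
        if i = j then 1 else (if (j : ℕ) + 1 = i ∨ (i : ℕ) + 1 = j then 3 else 2) := rfl
    rw [hM]
    split_ifs with h1 h2
    · subst h1; rw [pow_one]; exact mul_self hT (hf i)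
    · refine cube_of_not_commute hT (hf i) (hf j) ?_
      rcases h2 with h2 | h2
      exacts [fun h => hadj j i h2 h.symm, hadj i j h2]
    · have hv : (i : ℕ) ≠ j := fun h => h1 (Fin.ext h)
      refine (sq_eq_one_iff hT (hf i) (hf j)).2 ?_
      rcases Nat.lt_or_gt_of_ne hv with h | h
      exacts [hfar i j (by omega), (hfar j i (by omega)).symm]
  refine ⟨cs.lift ⟨f, hlift⟩, fun i => by rw [← hcs]; exact cs.lift_apply_simple hlift i, ?_⟩
  rw [MonoidHom.range_eq_map, ← cs.subgroup_closure_range_simple, MonoidHom.map_closure]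
  congr 1
  apply Set.ext
  intro u
  constructor
  · rintro ⟨_, ⟨i, rfl⟩, rfl⟩; exact ⟨i, (cs.lift_apply_simple hlift i).symm⟩
  · rintro ⟨i, rfl⟩; exact ⟨_, ⟨i, rfl⟩, cs.lift_apply_simple hlift i⟩

/-- Such a homomorphism is injective from degree five on. -/
theorem hom_injective {n : ℕ} (hn : 4 ≤ n) (φ : Perm (Fin (n + 1)) →* G) (f : Fin n → G)
    (hφ : ∀ i : Fin n, φ (swap i.castSucc i.succ) = f i)
    (hne : f ⟨0, by omega⟩ * f ⟨2, by omega⟩ ≠ 1) : Function.Injective φ := by
  classical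
  rw [← MonoidHom.ker_eq_bot_iff, Subgroup.eq_bot_iff_forall]
  have hA := alternatingGroup.isSimpleGroup (α := Fin (n + 1)) (by rw [Nat.card_fin]; omega)
  rcases hA.eq_bot_or_eq_top_of_normal _
      (Subgroup.Normal.subgroupOf (inferInstance : φ.ker.Normal) (alternatingGroup (Fin (n + 1)))) with h | h
  · intro k hk
    refine SymGlue.eq_one_of_comm_alt (by omega) k fun g _ => ?_
    have hmem : k * g * k⁻¹ * g⁻¹ ∈ φ.ker := by
      rw [mul_assoc, mul_assoc, ← mul_assoc g]
      exact mul_mem hk ((inferInstance : φ.ker.Normal).conj_mem _ (inv_mem hk) g)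
    have halt : k * g * k⁻¹ * g⁻¹ ∈ alternatingGroup (Fin (n + 1)) := by
      rw [Equiv.Perm.mem_alternatingGroup]
      simp only [map_mul, map_inv]
      rw [mul_comm (Equiv.Perm.sign k), mul_inv_cancel_right, mul_inv_cancel]
    have h1 : (⟨_, halt⟩ : alternatingGroup (Fin (n + 1))) ∈
        φ.ker.subgroupOf (alternatingGroup (Fin (n + 1))) := hmem
    rw [h, Subgroup.mem_bot] at h1
    have h2 : k * g * k⁻¹ * g⁻¹ = 1 := congrArg Subtype.val h1
    calc k * g = (k * g * k⁻¹ * g⁻¹) * g * k := by group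
      _ = g * k := by rw [h2, one_mul]
  · exfalso
    set i₀ : Fin n := ⟨0, by omega⟩
    set i₂ : Fin n := ⟨2, by omega⟩
    have hmem : swap i₀.castSucc i₀.succ * swap i₂.castSucc i₂.succ ∈ alternatingGroup (Fin (n + 1)) := by
      rw [Equiv.Perm.mem_alternatingGroup, map_mul, Equiv.Perm.sign_swap (Fin.ne_of_val_ne (by simp)),
        Equiv.Perm.sign_swap (Fin.ne_of_val_ne (by simp))]
      rfl
    have h1 : (⟨_, hmem⟩ : alternatingGroup (Fin (n + 1))) ∈
        φ.ker.subgroupOf (alternatingGroup (Fin (n + 1))) := h ▸ Subgroup.mem_top _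
    rw [Subgroup.mem_subgroupOf, MonoidHom.mem_ker, map_mul, hφ, hφ] at h1
    exact hne h1

/-- The set is the set of transposition images. -/
theorem closure_eq_range [Finite G] {S : Set G} (hconj : ∀ u ∈ S, ∀ v ∈ S, u * v * u⁻¹ ∈ S)
    {n : ℕ} (φ : Perm (Fin (n + 1)) →* G) (hinj : Function.Injective φ) (f : Fin n → G)
    (hφ : ∀ i : Fin n, φ (swap i.castSucc i.succ) = f i)
    (hrange : φ.range = Subgroup.closure (Set.range f)) (hf : ∀ i, f i ∈ S) (hn : 0 < n) {m : ℕ}
    (hm : (Finset.univ.filter fun p : Fin (n + 1) × Fin (n + 1) => p.1 < p.2).card = m)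
    (hcard : S.ncard ≤ m) : φ.range = Subgroup.closure S := by
  classical
  refine le_antisymm (hrange ▸ Subgroup.closure_mono (by rintro u ⟨i, rfl⟩; exact hf i)) ?_
  have hgen : ∀ g ∈ Subgroup.closure (Set.range f), ∀ u ∈ S, g * u * g⁻¹ ∈ S := by
    intro g hg
    induction hg using Subgroup.closure_induction'' with
    | mem u hu => obtain ⟨i, rfl⟩ := hu; exact fun v hv => hconj _ (hf i) v hv
    | inv_mem u hu =>
      obtain ⟨i, rfl⟩ := hu
      intro v hv
      have hsq : f i * f i = 1 := by rw [← hφ, ← map_mul, Equiv.swap_mul_self, map_one]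
      rw [inv_eq_of_mul_eq_one_right hsq]
      exact hconj _ (hf i) v hv
    | one => exact fun v hv => by simpa using hv
    | mul g g' _ _ h h' =>
      intro v hv
      rw [show g * g' * v * (g * g')⁻¹ = g * (g' * v * g'⁻¹) * g⁻¹ by group]
      exact h _ (h' v hv)
  have hsw : ∀ x y : Fin (n + 1), x ≠ y → φ (swap x y) ∈ S := by
    intro x y hxy
    set i₀ : Fin n := ⟨0, hn⟩
    obtain ⟨g, hg⟩ := isConj_iff.1 (Equiv.Perm.isConj_swap
      (show i₀.castSucc ≠ i₀.succ from Fin.ne_of_val_ne (by simp)) hxy)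
    rw [← hg, map_mul, map_mul, map_inv, hφ]
    exact hgen _ (hrange ▸ ⟨g, rfl⟩) _ (hf i₀)
  set P := Finset.univ.filter fun p : Fin (n + 1) × Fin (n + 1) => p.1 < p.2
  have himg : (fun p : Fin (n + 1) × Fin (n + 1) => φ (swap p.1 p.2)) '' (P : Set _) = S := by
    refine Set.eq_of_subset_of_ncard_le ?_ ?_ (Set.toFinite _)
    · rintro u ⟨p, hp, rfl⟩
      exact hsw _ _ (ne_of_lt (Finset.mem_filter.1 hp).2)
    · rw [Set.InjOn.ncard_image ?_, Set.ncard_coe_finset, hm]
      · exact hcard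
      intro p hp q hq h
      have hp' := (Finset.mem_filter.1 hp).2
      have hq' := (Finset.mem_filter.1 hq).2
      have h' := hinj h
      have e1 := DFunLike.congr_fun h' p.1
      rw [swap_apply_left] at e1
      by_cases h11 : p.1 = q.1
      · rw [h11, swap_apply_left] at e1
        exact Prod.ext h11 e1
      · by_cases h12 : p.1 = q.2
        · rw [h12, swap_apply_right] at e1
          exact absurd (lt_trans (h12 ▸ hp') (e1 ▸ hq')) (lt_irrefl _)
        · rw [swap_apply_of_ne_of_ne h11 h12] at e1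
          exact absurd e1 hp'.ne'
  rw [Subgroup.closure_le, ← himg]
  rintro u ⟨p, -, rfl⟩
  exact ⟨_, rfl⟩

/-- Automorphisms of the symmetric groups of degree five and seven or more are inner. -/
theorem aut_inner {n : ℕ} (hn : 5 ≤ n) (h6 : n ≠ 6) (ψ : Perm (Fin n) ≃* Perm (Fin n)) :
    ∃ s : Perm (Fin n), ∀ g, ψ g = s * g * s⁻¹ := by
  have : Nontrivial (Fin n) := Fin.nontrivial_iff_two_le.2 (by omega)
  have hs : Perm.sign.comp ψ.toMonoidHom = Perm.sign :=
    Perm.eq_sign_of_surjective_hom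
      (show Function.Surjective (Perm.sign ∘ ψ) from (Perm.sign_surjective _).comp ψ.surjective)
  have hsg : ∀ g, Perm.sign (ψ g) = Perm.sign g := fun g => DFunLike.congr_fun hs g
  let f : alternatingGroup (Fin n) →* alternatingGroup (Fin n) :=
    (ψ.toMonoidHom.comp (alternatingGroup (Fin n)).subtype).codRestrict _ fun x =>
      Perm.mem_alternatingGroup.2 ((hsg x).trans (Perm.mem_alternatingGroup.1 x.2))
  have hf : Function.Bijective f := Finite.injective_iff_bijective.1 fun x y hxy =>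
    Subtype.ext (ψ.injective (congrArg Subtype.val hxy :))
  obtain ⟨s, hs'⟩ := (S2119.result n (by omega) h6).2 (MulEquiv.ofBijective f hf)
  have hA : ∀ τ ∈ alternatingGroup (Fin n), ψ τ = s * τ * s⁻¹ := fun τ hτ => by
    have := congrArg (fun e : MulAut (alternatingGroup (Fin n)) => ((e ⟨τ, hτ⟩ : _) : Perm (Fin n))) hs'
    simpa [f, MulAut.conjNormal_apply] using this.symm
  refine ⟨s, fun g => ?_⟩
  have : g⁻¹ * (s⁻¹ * ψ g * s) = 1 := by
    refine SymGlue.eq_one_of_comm_alt (by omega) _ fun τ hτ => ?_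
    have hgt : g * τ * g⁻¹ ∈ alternatingGroup (Fin n) :=
      (inferInstance : (alternatingGroup (Fin n)).Normal).conj_mem τ hτ g
    have h1 := hA _ hgt
    rw [map_mul, map_mul, map_inv, hA τ hτ] at h1
    have h2 : s⁻¹ * (ψ g * (s * τ * s⁻¹) * (ψ g)⁻¹) * s = g * τ * g⁻¹ := by rw [h1]; group
    calc g⁻¹ * (s⁻¹ * ψ g * s) * τ
        = g⁻¹ * (s⁻¹ * (ψ g * (s * τ * s⁻¹) * (ψ g)⁻¹) * s) * (s⁻¹ * ψ g * s) := by group
      _ = τ * (g⁻¹ * (s⁻¹ * ψ g * s)) := by rw [h2]; group
  have h3 := inv_mul_eq_one.1 this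
  conv_rhs => rw [h3]
  group

/-- A group normalising a symmetric subgroup, of degree other than six, is the product of it and
the centraliser. -/
theorem card_normalizing [Finite G] {S : Set G} {m : ℕ} (hm : 5 ≤ m) (h6 : m ≠ 6)
    (φ : Perm (Fin m) →* G) (hinj : Function.Injective φ) (hr : φ.range = Subgroup.closure S)
    (M : Subgroup G) (hle : φ.range ≤ M) (hM : ∀ g ∈ M, ∀ u ∈ S, g * u * g⁻¹ ∈ S) :
    (M ⊓ Subgroup.centralizer S) ⊓ φ.range = ⊥ ∧ (M ⊓ Subgroup.centralizer S) ⊔ φ.range = M ∧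
      Nat.card M = Nat.card ↥(M ⊓ Subgroup.centralizer S) * m.factorial := by
  classical
  set Fr := M ⊓ Subgroup.centralizer S
  have hcen : ∀ g ∈ Fr, ∀ s, Commute g (φ s) := by
    intro g hg s
    have h : φ.range ≤ Subgroup.centralizer ({g} : Set G) := by
      rw [hr, Subgroup.closure_le]
      intro u hu
      exact Subgroup.mem_centralizer_singleton_iff.2 (Subgroup.mem_centralizer_iff.1 hg.2 u hu)
    exact (Subgroup.mem_centralizer_singleton_iff.1 (h ⟨s, rfl⟩)).symm
  have hbot : Fr ⊓ φ.range = ⊥ := by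
    rw [Subgroup.eq_bot_iff_forall]
    rintro z ⟨hz, s, rfl⟩
    rw [SymGlue.eq_one_of_comm_alt hm s fun τ _ => hinj (by
      rw [map_mul, map_mul]; exact (hcen _ hz τ).eq), map_one]
  have hdec : ∀ g ∈ M, ∃ s, (φ s)⁻¹ * g ∈ Fr := by
    intro g hg
    have hnorm : ∀ s, g * φ s * g⁻¹ ∈ φ.range := by
      intro s
      have h1 : φ.range.map (MulAut.conj g).toMonoidHom ≤ φ.range := by
        rw [hr, MonoidHom.map_closure]
        refine Subgroup.closure_mono ?_
        rintro _ ⟨u, hu, rfl⟩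
        exact hM g hg u hu
      exact h1 ⟨φ s, ⟨s, rfl⟩, rfl⟩
    set e := MonoidHom.ofInjective hinj
    let ψ : Perm (Fin m) →* Perm (Fin m) := e.symm.toMonoidHom.comp
      (MonoidHom.mk' (fun s => (⟨g * φ s * g⁻¹, hnorm s⟩ : φ.range)) fun s t => Subtype.ext (by
        show g * φ (s * t) * g⁻¹ = g * φ s * g⁻¹ * (g * φ t * g⁻¹)
        rw [map_mul]; group))
    have hψ : ∀ s, φ (ψ s) = g * φ s * g⁻¹ := fun s => by
      rw [← MonoidHom.ofInjective_apply hinj]
      exact congrArg Subtype.val (e.apply_symm_apply _)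
    have hψb : Function.Bijective ψ := Finite.injective_iff_bijective.1 fun s t h => hinj (by
      have := congrArg φ h
      rw [hψ, hψ] at this
      exact mul_left_cancel (mul_right_cancel this))
    obtain ⟨s, hs⟩ := aut_inner hm h6 (MulEquiv.ofBijective ψ hψb)
    refine ⟨s, M.mul_mem (M.inv_mem (hle ⟨s, rfl⟩)) hg, Subgroup.mem_centralizer_iff.2 fun u hu => ?_⟩
    obtain ⟨t, rfl⟩ : u ∈ φ.range := hr ▸ Subgroup.subset_closure hu
    have h1 : φ s * φ t * (φ s)⁻¹ = g * φ t * g⁻¹ := by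
      rw [← map_inv, ← map_mul, ← map_mul, ← hs t]; exact hψ t
    calc φ t * ((φ s)⁻¹ * g) = (φ s)⁻¹ * (φ s * φ t * (φ s)⁻¹) * g := by group
      _ = (φ s)⁻¹ * g * φ t := by rw [h1]; group
  refine ⟨hbot, le_antisymm (sup_le inf_le_left hle) fun g hg => ?_, ?_⟩
  · obtain ⟨s, hs⟩ := hdec g hg
    rw [show g = φ s * ((φ s)⁻¹ * g) by group]
    exact mul_mem (Subgroup.mem_sup_right ⟨s, rfl⟩) (Subgroup.mem_sup_left hs)
  · have hb : Function.Bijective (fun p : Fr × Perm (Fin m) =>
        (⟨φ p.2 * p.1, mul_mem (hle ⟨p.2, rfl⟩) p.1.2.1⟩ : M)) := by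
      constructor
      · rintro ⟨a, s⟩ ⟨b, t⟩ h
        have h' : φ s * (a : G) = φ t * b := congrArg Subtype.val h
        have h1 : (φ t)⁻¹ * φ s = (b : G) * (a : G)⁻¹ := by
          calc (φ t)⁻¹ * φ s = (φ t)⁻¹ * (φ s * a) * (a : G)⁻¹ := by group
            _ = (b : G) * (a : G)⁻¹ := by rw [h']; group
        have h2 : (φ t)⁻¹ * φ s = 1 := by
          have : (φ t)⁻¹ * φ s ∈ Fr ⊓ φ.range :=
            ⟨h1 ▸ Fr.mul_mem b.2 (Fr.inv_mem a.2), t⁻¹ * s, by rw [map_mul, map_inv]⟩
          rwa [hbot, Subgroup.mem_bot] at this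
        have hst : s = t := hinj (inv_mul_eq_one.1 h2).symm
        subst hst
        exact Prod.ext (Subtype.ext (mul_left_cancel h')) rfl
      · rintro ⟨g, hg⟩
        obtain ⟨s, hs⟩ := hdec g hg
        exact ⟨(⟨_, hs⟩, s), Subtype.ext (mul_inv_cancel_left _ _)⟩
    rw [← Nat.card_congr (Equiv.ofBijective _ hb), Nat.card_prod, Nat.card_perm, Nat.card_fin]

/-- The normaliser of a subgroup of prime order whose fixed members form the transpositions of a
symmetric group. -/
theorem frobenius_sym [Finite G] {D : Set G} (hD : IsThreeTranspositionGroup D) {x : G} {p k m : ℕ}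
    (hx : orderOf x = p) (hm : 5 ≤ m) (h6 : m ≠ 6) (φ : Perm (Fin m) →* G)
    (hinj : Function.Injective φ) (hr : φ.range = Subgroup.closure (fixSet D x))
    (hK : Nat.card ↥(Subgroup.centralizer ({x} : Set G)) = p * m.factorial)
    (hN : Nat.card ↥(Subgroup.normalizer ((Subgroup.zpowers x : Subgroup G) : Set G)) =
      p * k * m.factorial) :
    let X := Subgroup.zpowers x
    ∃ F : Subgroup G, Nat.card ↥F = p * k ∧ X ≤ F ∧
      F ⊓ Subgroup.centralizer ({x} : Set G) = X ∧
      F ⊓ Subgroup.closure (fixSet D x) = ⊥ ∧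
      (∀ a ∈ F, ∀ y ∈ Subgroup.closure (fixSet D x), a * y = y * a) ∧
      F ⊔ Subgroup.closure (fixSet D x) = Subgroup.normalizer ((X : Subgroup G) : Set G) ∧
      Nonempty (↥(Subgroup.closure (fixSet D x)) ≃* Perm (Fin m)) := by
  intro X
  set S := fixSet D x
  set N := Subgroup.normalizer ((X : Subgroup G) : Set G)
  set K := Subgroup.centralizer ({x} : Set G)
  have hKX : Subgroup.centralizer ((X : Subgroup G) : Set G) = K := by
    rw [show X = Subgroup.closure {x} from Subgroup.zpowers_eq_closure x, Subgroup.centralizer_closure]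
  have hTK : φ.range ≤ K := by
    rw [hr, Subgroup.closure_le]
    exact fun u hu => Subgroup.mem_centralizer_singleton_iff.2 hu.2.symm.eq
  have hKN : K ≤ N := hKX ▸ Subgroup.centralizer_le_normalizer _
  obtain ⟨hbot, hsup, hcard⟩ := card_normalizing hm h6 φ hinj hr N (hTK.trans hKN)
    fun g hg u hu => fixSet_normalizer hD.2.1 hg hu
  obtain ⟨-, -, hcardK⟩ := card_normalizing hm h6 φ hinj hr K hTK
    fun g hg u hu => fixSet_conj hD.2.1 (show Commute g x from Subgroup.mem_centralizer_singleton_iff.1 hg) hu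
  set Fr := N ⊓ Subgroup.centralizer S
  have hpos := Nat.factorial_pos m
  have hF : Nat.card Fr = p * k := by
    rw [hN] at hcard
    exact (Nat.eq_of_mul_eq_mul_right hpos hcard).symm
  have hKC : Nat.card ↥(K ⊓ Subgroup.centralizer S) = p := by
    rw [hK] at hcardK
    exact (Nat.eq_of_mul_eq_mul_right hpos hcardK).symm
  have hXF : X ≤ Fr := le_inf Subgroup.le_normalizer (Subgroup.zpowers_le.2
    (Subgroup.mem_centralizer_iff.2 fun u hu => hu.2.symm.eq))
  refine ⟨Fr, hF, hXF, ?_, hr ▸ hbot, ?_, hr ▸ hsup, ⟨((MonoidHom.ofInjective hinj).trans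
    (MulEquiv.subgroupCongr hr)).symm⟩⟩
  · refine (Subgroup.eq_of_le_of_card_ge (le_inf hXF (Subgroup.zpowers_le.2
      (Subgroup.mem_centralizer_singleton_iff.2 rfl))) ?_).symm
    rw [Nat.card_zpowers, hx, ← hKC]
    exact Nat.le_of_dvd Nat.card_pos (Subgroup.card_dvd_of_le (le_inf inf_le_right (inf_le_left.trans inf_le_right)))
  · intro a ha y hy
    have h : Subgroup.closure S ≤ Subgroup.centralizer ({a} : Set G) := by
      rw [Subgroup.closure_le]
      exact fun u hu => Subgroup.mem_centralizer_singleton_iff.2 (Subgroup.mem_centralizer_iff.1 ha.2 u hu)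
    exact (Subgroup.mem_centralizer_singleton_iff.1 (h hy)).symm

end Cfsg.Agent.ThreeTrans.FixedSym
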