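import Cfsg.Agent.ThreeTrans.CountD

/-!
# A layer which looks like a set of type M(22)

The facts about type M(22) used one level up, in a form that passes along an isomorphism of sets.
-/

set_option autoImplicit false

open Cfsg

namespace Cfsg.Agent.ThreeTrans

/-- What is used about a layer that is isomorphic to a set of type M(22). -/
structure M22Layer {G : Type*} [Group G] (S : Set G) : Prop where
  card : S.ncard = 3510
  card1 : ∀ a ∈ S, (dperp S a).ncard = 693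
  card2 : ∀ a ∈ S, ∀ b ∈ dperp S a, (dperp (dperp S a) b).ncard = 180
  common : ∀ a ∈ S, ∀ z ∈ S, ¬ Commute a z → {v | v ∈ dperp S a ∧ Commute z v}.ncard = 126
  thirty : ∀ a ∈ S, ∀ b ∈ dperp S a, ∀ z ∈ S, ¬ Commute z a → ¬ Commute z b →
    {u | u ∈ dperp (dperp S a) b ∧ Commute z u}.ncard = 30
  thirteen : ∀ a ∈ S, ∀ b ∈ dperp S a, ∀ z ∈ S, ¬ Commute z a → ¬ Commute z b →
    ∀ x ∈ dperp (dperp S a) b, Commute z x →
      {u | (u ∈ dperp (dperp S a) b ∧ Commute z u) ∧ u ≠ x ∧ Commute x u}.ncard = 13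
  lines : ∀ a ∈ S, Lines (dperp S a)
  pair : ∀ a ∈ S, ∀ p ∈ dperp S a, ∀ q ∈ dperp S a, ¬ Commute p q →
    {v | v ∈ dperp S a ∧ Commute v p ∧ Commute v q}.ncard = 45
  swap : ∀ a ∈ S, ∀ b ∈ dperp S a, ∀ w ∈ dperp (dperp S a) b, ∀ x ∈ ln (dperp S a) b w,
    x ≠ b → x ≠ w → x ∈ ln (dperp S w) a b
  width : ∀ E ⊆ S, (∀ u ∈ E, ∀ v ∈ E, Commute u v) → E.ncard ≤ 22
  width' : ∃ E ⊆ S, (∀ u ∈ E, ∀ v ∈ E, Commute u v) ∧ E.ncard = 22

variable {G K : Type*} [Group G] [Group K] {S : Set G} {T : Set K} {φ : G → K}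

/-- A description of a part of an isomorphic set. -/
theorem SetIso.ncard_sep (h : SetIso S T φ) (P : G → Prop) (Q : K → Prop)
    (hPQ : ∀ v ∈ S, P v ↔ Q (φ v)) : {v | v ∈ S ∧ P v}.ncard = {v | v ∈ T ∧ Q v}.ncard := by
  rw [← (h.bij.injOn.mono fun v hv => hv.1).ncard_image]
  congr 1
  apply Set.ext
  intro k
  constructor
  · rintro ⟨v, ⟨hv, hv'⟩, rfl⟩
    exact ⟨h.bij.mapsTo hv, (hPQ v hv).1 hv'⟩
  · rintro ⟨hk, hk'⟩
    obtain ⟨v, hv, rfl⟩ := h.bij.surjOn hk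
    exact ⟨v, ⟨hv, (hPQ v hv).2 hk'⟩, rfl⟩

theorem SetIso.m22Layer (h : SetIso S T φ) (hT : M22Layer T) : M22Layer S := by
  have hm : ∀ {x}, x ∈ S → φ x ∈ T := fun hx => h.bij.mapsTo hx
  have h1 : ∀ {a x}, a ∈ S → x ∈ dperp S a → φ x ∈ dperp T (φ a) := fun ha hx =>
    (h.restrict ha).bij.mapsTo hx
  have h2 : ∀ {a b x}, a ∈ S → b ∈ dperp S a → x ∈ dperp (dperp S a) b →
      φ x ∈ dperp (dperp T (φ a)) (φ b) := fun ha hb hx =>
    ((h.restrict ha).restrict hb).bij.mapsTo hx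
  have hn : ∀ {a b}, a ∈ S → b ∈ S → ¬ Commute a b → ¬ Commute (φ a) (φ b) := fun ha hb hab e =>
    hab ((h.comm _ ha _ hb).1 e)
  refine ⟨h.ncard_eq.trans hT.card, fun a ha => (h.restrict ha).ncard_eq.trans (hT.card1 _ (hm ha)),
    fun a ha b hb => ((h.restrict ha).restrict hb).ncard_eq.trans (hT.card2 _ (hm ha) _ (h1 ha hb)),
    fun a ha z hz haz => ?_, fun a ha b hb z hz hza hzb => ?_,
    fun a ha b hb z hz hza hzb x hx hzx => ?_, fun a ha => (h.restrict ha).lines (hT.lines _ (hm ha)),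
    fun a ha p hp q hq hpq => ?_, fun a ha b hb w hw x hx hxb hxw => ?_, fun E hE hEc => ?_, ?_⟩
  · rw [(h.restrict ha).ncard_sep _ (fun k => Commute (φ z) k) fun v hv => (h.comm z hz v hv.1).symm]
    exact hT.common _ (hm ha) _ (hm hz) (hn ha hz haz)
  · rw [((h.restrict ha).restrict hb).ncard_sep _ (fun k => Commute (φ z) k)
      fun v hv => (h.comm z hz v hv.1.1).symm]
    exact hT.thirty _ (hm ha) _ (h1 ha hb) _ (hm hz) (hn hz ha hza) (hn hz hb.1 hzb)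
  · have e := ((h.restrict ha).restrict hb).ncard_sep (fun u => Commute z u ∧ u ≠ x ∧ Commute x u)
      (fun k => Commute (φ z) k ∧ k ≠ φ x ∧ Commute (φ x) k) fun v hv => by
        rw [h.comm z hz v hv.1.1, h.comm x hx.1.1 v hv.1.1,
          h.bij.injOn.ne_iff hv.1.1 hx.1.1]
    simp only [← and_assoc] at e ⊢
    rw [e]
    have := hT.thirteen _ (hm ha) _ (h1 ha hb) _ (hm hz) (hn hz ha hza) (hn hz hb.1 hzb) _
      (h2 ha hb hx) ((h.comm z hz x hx.1.1).2 hzx)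
    simp only [← and_assoc] at this
    exact this
  · rw [(h.restrict ha).ncard_sep _ (fun k => Commute k (φ p) ∧ Commute k (φ q)) fun v hv => by
      rw [h.comm v hv.1 p hp.1, h.comm v hv.1 q hq.1]]
    exact hT.pair _ (hm ha) _ (h1 ha hp) _ (h1 ha hq) (hn hp.1 hq.1 hpq)
  · have hne : ∀ {u v}, u ∈ S → v ∈ S → u ≠ v → φ u ≠ φ v := fun hu hv huv e =>
      huv (h.bij.injOn hu hv e)
    have hxS : x ∈ S := hx.1.1
    have hx' : φ x ∈ ln (dperp T (φ a)) (φ b) (φ w) :=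
      (h.restrict ha).ln_image hb hw.1 ▸ Set.mem_image_of_mem φ hx
    have := hT.swap _ (hm ha) _ (h1 ha hb) _ (h2 ha hb hw) _ hx' (hne hxS hb.1 hxb)
      (hne hxS hw.1.1 hxw)
    have haw : a ∈ dperp S w := dperp_symm ha hw.1
    have hbw : b ∈ dperp S w := ⟨hb.1, hw.2.1.symm, hw.2.2.symm⟩
    rw [← (h.restrict hw.1.1).ln_image haw hbw] at this
    obtain ⟨y, hy, hyx⟩ := this
    rwa [← h.bij.injOn hy.1.1 hxS hyx]
  · rw [← (h.bij.injOn.mono hE).ncard_image]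
    refine hT.width _ (Set.image_subset_iff.2 fun u hu => hm (hE hu)) ?_
    rintro - ⟨u, hu, rfl⟩ - ⟨v, hv, rfl⟩
    exact (h.comm u (hE hu) v (hE hv)).2 (hEc u hu v hv)
  · obtain ⟨E, hE, hEc, hE22⟩ := hT.width'
    refine ⟨{u | u ∈ S ∧ φ u ∈ E}, fun u hu => hu.1,
      fun u hu v hv => (h.comm u hu.1 v hv.1).1 (hEc _ hu.2 _ hv.2), ?_⟩
    rw [h.ncard_sep _ (fun k => k ∈ E) fun v _ => Iff.rfl, ← hE22]
    congr 1
    ext k
    exact ⟨fun hk => hk.2, fun hk => ⟨hE hk, hk⟩⟩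

/-- Type M(22) is such a layer. -/
theorem m22Layer [Finite G] {D : Set G} (hD : IsThreeTranspositionGroup D) (h22 : IsOfTypeM22 G D) :
    M22Layer D := by
  have hF := m22Full hD h22
  have hA : ∀ t ∈ D, Arcs (dperp D t) := arcs_of_M22 hD h22
  have hC := layer_counts_M22 hD h22
  have hc := counts hD h22
  have h693 := fun x hx => (hc x hx).1
  have h180 := fun x hx => (hc x hx).2.1
  obtain ⟨-, d, hd, -⟩ := id h22
  have hw := width_22 hD h22.1 hF hA hC hd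
  have hbdd : BddAbove {n : ℕ | ∃ E : Set G, E ⊆ D ∧ E.Finite ∧
      (∀ a ∈ E, ∀ b ∈ E, Commute a b) ∧ E.ncard = n} := ⟨Nat.card G, by
    rintro n ⟨E, -, -, -, rfl⟩
    exact Set.ncard_le_card _⟩
  refine ⟨ncard_members hD h22.1 hF hA hC h693 h180 hd, h693, h180,
    fun a ha z hz => common_126 hD h22.1 hF hA hC h693 h180 ha hz,
    fun a ha b hb z hz => thirty hD h22.1 hF hA hC ha hb hz,
    fun a ha b hb z hz hza hzb x hx => nbrs_thirteen hD hF hC ha hb hz hza hzb hx,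
    hF.data.layerLines, fun a ha p hp q hq => (hC a ha).pair p hp q hq,
    fun a ha b hb w hw' x hx => mem_ln_swap hD h22.1 hF.data ha hb hw' hx,
    fun E hE hEc => hw ▸ le_csSup hbdd ⟨E, hE, Set.toFinite E, hEc, rfl⟩, ?_⟩
  obtain ⟨E, hE, -, hEc, hE22⟩ := Nat.sSup_mem (s := {n : ℕ | ∃ E : Set G, E ⊆ D ∧ E.Finite ∧
      (∀ a ∈ E, ∀ b ∈ E, Commute a b) ∧ E.ncard = n})
    ⟨0, ∅, Set.empty_subset _, Set.finite_empty, by simp, by simp⟩ hbdd
  exact ⟨E, hE, hEc, hE22.trans hw⟩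

end Cfsg.Agent.ThreeTrans
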