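import Cfsg.Agent.ThreeTrans.Basic
import Cfsg.Agent.ThreeTrans.HeisTwo
import Cfsg.Agent.Coprime.Generation
import Cfsg.Agent.Layer.FStar
import Cfsg.Agent.Invol.Pair
import Cfsg.Agent.Core.Frattini
import Cfsg.Agent.Core.PCore

/-!
# 3-transposition groups that are 3-groups extended by an involution above their largest normal 2-subgroup
-/

set_option autoImplicit false

open Cfsg Subgroup
open scoped commutatorElement

namespace Cfsg.Agent.ThreeTrans.O232

variable {H : Type*} [Group H] [Finite H] {E : Set H}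

omit [Finite H] in
theorem mem_pCore_conj {c : H} (hc : c ∈ pCore 2 H) (g : H) : g * c * g⁻¹ ∈ pCore 2 H :=
  (Core.pCore_normal (p := 2) (G := H)).conj_mem c hc g

/-- A member of `O₂` centralising a product of order three centralises the factors. -/
theorem fixed_commute (hE : IsThreeTranspositionClass E) {e f : H} (he : e ∈ E) (hf : f ∈ E)
    (hef : ¬ Commute e f) {c : H} (hc : c ∈ pCore 2 H) (hcu : Commute c (e * f)) : Commute c e := by
  have hT := hE.1
  set u := e * f with hu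
  have heu : e * u * e⁻¹ = u⁻¹ := by
    rw [hu, mul_inv_rev, inv_eq hT he, inv_eq hT hf, mul_self_mul hT he]
  set s := c * (e * c⁻¹ * e⁻¹) with hs
  have hsO : s ∈ pCore 2 H := mul_mem hc (mem_pCore_conj (inv_mem hc) e)
  have hsu : Commute s u := by
    refine hcu.mul_left ?_
    have h := (commute_conj e c⁻¹ u⁻¹).2 hcu.inv_left.inv_right
    rwa [show e * u⁻¹ * e⁻¹ = u by
      rw [show e * u⁻¹ * e⁻¹ = (e * u * e⁻¹)⁻¹ by group, heu, inv_inv]] at h
  have he' : c * e * c⁻¹ ∈ E := class_conj hE c e he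
  have hprod : c * e * c⁻¹ * f = s * u := by
    rw [hs, hu]; simp only [inv_eq hT he, mul_assoc, mul_self_mul hT he]
  have hu3 : u ^ 3 = 1 := cube_of_not_commute hT he hf hef
  have hs1 : s = 1 := by
    rcases hT.2 _ he' f hf with h | h
    · exfalso
      rw [hprod, hsu.mul_pow] at h
      have h2 : u ^ 2 ∈ pCore 2 H := by
        rw [eq_inv_of_mul_eq_one_right h]; exact inv_mem (pow_mem hsO 2)
      have := eq_one_of_mem_pGroup Core.pCore_isPGroup h2 (n := 3)
        (by rw [← pow_mul, mul_comm, pow_mul, hu3, one_pow]) (by norm_num)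
      exact hef ((sq_eq_one_iff hT he hf).1 this)
    · rw [hprod, hsu.mul_pow, hu3, mul_one] at h
      exact eq_one_of_mem_pGroup Core.pCore_isPGroup hsO h (by norm_num)
  show c * e = e * c
  rw [hs, mul_eq_one_iff_eq_inv] at hs1
  conv_lhs => rw [hs1]
  simp only [mul_inv_rev, inv_inv, inv_eq hT he, mul_assoc, mul_self hT he, mul_one]

theorem mem_zpowers_isPGroup {u : H} (hu : u ^ 3 = 1) : IsPGroup 3 (zpowers u) := by
  intro w
  obtain ⟨i, hi⟩ := mem_zpowers_iff.1 w.2
  refine ⟨1, Subtype.ext ?_⟩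
  rw [pow_one, SubmonoidClass.coe_pow, OneMemClass.coe_one, ← hi, ← zpow_natCast, ← zpow_mul,
    mul_comm, zpow_mul, zpow_natCast, hu, one_zpow]

/-- When commuting members agree modulo `O₂`, a member normalises a Sylow 3-subgroup. -/
theorem exists_sylow (hE : IsThreeTranspositionClass E)
    (hq : ∀ e ∈ E, ∀ f ∈ E, Commute e f → e * f ∈ pCore 2 H) {d : H} (hd : d ∈ E)
    (hne : ∃ f ∈ E, ¬ Commute d f) :
    ∃ P : Sylow 3 H, ∀ x ∈ (P : Subgroup H), d * x * d ∈ (P : Subgroup H) := by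
  have : Fact (Nat.Prime 3) := ⟨Nat.prime_three⟩
  have hT := hE.1
  have hc := class_conj hE
  obtain ⟨e, he, hde⟩ := hne
  set u := d * e with hu
  have hu3 : u ^ 3 = 1 := cube_of_not_commute hT hd he hde
  set S : Set (Subgroup H) := {P | IsPGroup 3 P ∧ u ∈ P ∧ ∀ x ∈ P, d * x * d ∈ P} with hS
  have hne : Subgroup.zpowers u ∈ S := by
    refine ⟨mem_zpowers_isPGroup hu3, Subgroup.mem_zpowers u, ?_⟩
    intro x hx
    obtain ⟨i, rfl⟩ := Subgroup.mem_zpowers_iff.1 hx
    refine ⟨-i, ?_⟩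
    have h : d * u * d⁻¹ = u⁻¹ := by
      rw [hu, mul_inv_rev, inv_eq hT hd, inv_eq hT he, mul_self_mul hT hd]
    show u ^ (-i) = d * u ^ i * d
    calc u ^ (-i) = (d * u * d⁻¹) ^ i := by rw [h, inv_zpow, zpow_neg]
      _ = d * u ^ i * d⁻¹ := conj_zpow
      _ = d * u ^ i * d := by rw [inv_eq hT hd]
  obtain ⟨P, ⟨hP, huP, hPd⟩, hmax⟩ := (Set.toFinite S).exists_maximal ⟨_, hne⟩
  obtain ⟨Q, hPQ⟩ := hP.exists_le_sylow
  by_cases hPe : P = Q
  · exact ⟨Q, fun x hx => by rw [← hPe] at hx ⊢; exact hPd x hx⟩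
  exfalso
  have hdN : d ∈ Subgroup.normalizer (P : Set H) := by
    rw [Subgroup.mem_normalizer_iff]
    intro y
    rw [inv_eq hT hd]
    refine ⟨hPd y, fun hy => ?_⟩
    have h := hPd _ hy
    rwa [show d * (d * y * d) * d = y by
      simp only [mul_assoc, mul_self hT hd, mul_one]
      exact mul_self_mul hT hd y] at h
  obtain ⟨n, hnQ, hnN, hnP⟩ :
      ∃ n ∈ (Q : Subgroup H), n ∈ Subgroup.normalizer (P : Set H) ∧ n ∉ P := by
    have hnil := Q.isPGroup'.isNilpotent
    have hlt' : P.subgroupOf (Q : Subgroup H) < ⊤ := by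
      rw [lt_top_iff_ne_top, ne_eq, Subgroup.subgroupOf_eq_top]
      exact fun h => hPe (le_antisymm hPQ h)
    have h1 := Group.normalizerCondition_of_isNilpotent (G := (Q : Subgroup H)) _ hlt'
    obtain ⟨n, hn, hn'⟩ := SetLike.exists_of_lt h1
    refine ⟨n, n.2, ?_, fun h => hn' h⟩
    rw [Subgroup.mem_normalizer_iff]
    intro y
    constructor
    · intro hy
      exact (Subgroup.mem_normalizer_iff.1 hn ⟨y, hPQ hy⟩).1 hy
    · intro hy
      have hyQ : y ∈ (Q : Subgroup H) := by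
        have h2 := (Q : Subgroup H).mul_mem
          ((Q : Subgroup H).mul_mem ((Q : Subgroup H).inv_mem n.2) (hPQ hy)) n.2
        simpa [mul_assoc] using h2
      exact (Subgroup.mem_normalizer_iff.1 hn ⟨y, hyQ⟩).2 hy
  have key : ∀ m : H, m ∈ Subgroup.normalizer (P : Set H) → IsPGroup 3 (Subgroup.zpowers m) →
      d * m * d ∈ P ⊔ Subgroup.zpowers m → m ∈ P := by
    intro m hmN hm3 hma
    have h3 : IsPGroup 3 (P ⊔ Subgroup.zpowers m : Subgroup H) :=
      hP.to_sup_of_normal_left' hm3 (by rwa [Subgroup.zpowers_le])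
    have hinv : ∀ x ∈ P ⊔ Subgroup.zpowers m, d * x * d ∈ P ⊔ Subgroup.zpowers m := by
      have hsub : P ⊔ Subgroup.zpowers m ≤
          (P ⊔ Subgroup.zpowers m).comap (MulAut.conj d).toMonoidHom := by
        refine sup_le (fun x hx => ?_) ?_
        · rw [Subgroup.mem_comap, MulEquiv.coe_toMonoidHom, MulAut.conj_apply, inv_eq hT hd]
          exact le_sup_left (a := P) (hPd x hx)
        · rw [Subgroup.zpowers_le, Subgroup.mem_comap, MulEquiv.coe_toMonoidHom, MulAut.conj_apply,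
            inv_eq hT hd]
          exact hma
      intro x hx
      have h := hsub hx
      rwa [Subgroup.mem_comap, MulEquiv.coe_toMonoidHom, MulAut.conj_apply, inv_eq hT hd] at h
    exact hmax ⟨h3, le_sup_left (a := P) huP, hinv⟩ le_sup_left
      (le_sup_right (a := P) (Subgroup.mem_zpowers m))
  set d' := n * d * n⁻¹ with hd'
  have hd'D : d' ∈ E := hc n d hd
  set q := d * d' with hqdef
  have hqN : q ∈ Subgroup.normalizer (P : Set H) :=
    mul_mem hdN (mul_mem (mul_mem hnN hdN) (inv_mem hnN))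
  have hdn : d * n * d = q * n := by rw [hqdef, hd']; group
  have hcyc : IsPGroup 3 (Subgroup.zpowers n) :=
    Q.isPGroup'.to_le (by rwa [Subgroup.zpowers_le])
  by_cases hdd' : Commute d d'
  · -- then `n` centralises `d`
    have hqO : q ∈ pCore 2 H := hq d hd d' hd'D hdd'
    have hqu : Commute q u := by
      have h1 : q * u * q⁻¹ * u⁻¹ ∈ P :=
        mul_mem ((Subgroup.mem_normalizer_iff.1 hqN u).1 huP) (inv_mem huP)
      have h2 : q * u * q⁻¹ * u⁻¹ ∈ pCore 2 H := by
        rw [show q * u * q⁻¹ * u⁻¹ = q * (u * q⁻¹ * u⁻¹) by group]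
        exact mul_mem hqO (mem_pCore_conj (inv_mem hqO) u)
      obtain ⟨k, hk⟩ := hP ⟨_, h1⟩
      have := eq_one_of_mem_pGroup Core.pCore_isPGroup h2
        (n := 3 ^ k) (by simpa using congrArg Subtype.val hk)
        (Nat.Coprime.pow_left k (by norm_num : Nat.Coprime 3 2))
      rw [mul_inv_eq_one, mul_inv_eq_iff_eq_mul] at this
      exact this
    have hqd : Commute q d := fixed_commute hE hd he hde hqO (by rw [← hu]; exact hqu)
    have hq1 : q = 1 := by
      have hqe : Commute q e := by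
        have := hqd.mul_right hqu
        rwa [hu, mul_self_mul hT hd] at this
      have hprod : d' * e = q * u := by
        rw [hu, show d' = d * q by rw [hqdef, mul_self_mul hT hd], ← hqd.eq, mul_assoc]
      rcases hT.2 d' hd'D e he with h | h
      · exfalso
        rw [hprod, hqu.mul_pow, (sq_eq_one_iff hT hd hd'D).2 hdd', one_mul] at h
        exact hde ((sq_eq_one_iff hT hd he).1 h)
      · rw [hprod, hqu.mul_pow, hu3, mul_one] at h
        exact eq_one_of_mem_pGroup Core.pCore_isPGroup hqO h (by norm_num)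
    refine hnP (key n hnN hcyc ?_)
    rw [hdn, hq1, one_mul]
    exact le_sup_right (a := P) (Subgroup.mem_zpowers n)
  · by_cases hqP : q ∈ P
    · refine hnP (key n hnN hcyc ?_)
      rw [hdn]
      exact mul_mem (le_sup_left (a := P) hqP) (le_sup_right (a := P) (Subgroup.mem_zpowers n))
    · refine hqP (key q hqN (mem_zpowers_isPGroup (cube_of_not_commute hT hd hd'D hdd')) ?_)
      rw [show d * q * d = q⁻¹ by
        rw [hqdef, mul_inv_rev, inv_eq hT hd, inv_eq hT hd'D, mul_self_mul hT hd]]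
      exact inv_mem (le_sup_right (a := P) (Subgroup.mem_zpowers q))

/-! ### Two automorphisms of order three -/

section TwoAut

variable {K : Type*} [Group K] [Finite K]

/-- Commuting automorphisms of order dividing three: the fixed points generate. -/
theorem le_of_fixed {α β : MulAut K} (hαβ : Commute α β) (hα : α ^ 3 = 1) (hβ : β ^ 3 = 1)
    (hK : (3 : ℕ).Coprime (Nat.card K)) (W : Subgroup K) (hWα : ∀ x, α x = x → x ∈ W)
    (hWk : ∀ k : ℕ, ∀ x, (α ^ k * β) x = x → x ∈ W) : W = ⊤ := by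
  let φ : MulAut K →* MulAut K := MonoidHom.id _
  let S := K ⋊[φ] MulAut K
  have : Finite (MulAut K) :=
    Finite.of_injective (fun f : MulAut K => (f : K → K)) DFunLike.coe_injective
  have : Finite S := Finite.of_equiv _ SemidirectProduct.equivProd.symm
  let i : K →* S := SemidirectProduct.inl
  set a : S := SemidirectProduct.inr α with ha
  set b : S := SemidirectProduct.inr β with hb
  have hconj : ∀ (γ : MulAut K) x, (SemidirectProduct.inr γ : S) * i x * (SemidirectProduct.inr γ)⁻¹ = i (γ x) := by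
    intro γ x
    rw [← map_inv]
    exact (SemidirectProduct.inl_aut (φ := φ) γ x).symm
  have hnorm : ∀ γ : MulAut K, (SemidirectProduct.inr γ : S) ∈ normalizer ((i.range : Subgroup S) : Set S) := by
    intro γ
    rw [mem_normalizer_iff]
    intro y
    constructor
    · rintro ⟨x, rfl⟩
      exact ⟨γ x, (hconj γ x).symm⟩
    · rintro ⟨x, hx⟩
      refine ⟨γ.symm x, ?_⟩
      have h := hconj γ (γ.symm x)
      rw [MulEquiv.apply_symm_apply, hx] at h
      exact mul_left_cancel (mul_right_cancel h)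
  have hfix : ∀ (γ : MulAut K) x, i x ∈ centralizer {(SemidirectProduct.inr γ : S)} → γ x = x := by
    intro γ x hx
    rw [mem_centralizer_singleton_iff] at hx
    have h := hconj γ x
    rw [← hx, mul_inv_cancel_right] at h
    exact (SemidirectProduct.inl_injective h).symm
  have hcab : Commute a b := hαβ.map _
  have ha3 : a ^ 3 = 1 := by rw [ha, ← map_pow, hα, map_one]
  have hb3 : b ^ 3 = 1 := by rw [hb, ← map_pow, hβ, map_one]
  have hcard : Nat.card (i.range : Subgroup S) = Nat.card K :=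
    Nat.card_congr (Equiv.ofInjective _ SemidirectProduct.inl_injective).symm
  have hA : IsPGroup 3 (closure {a, b} : Subgroup S) := by
    have := Fact.mk Nat.prime_three
    have hz : ∀ {g : S}, g ^ 3 = 1 → IsPGroup 3 (zpowers g) := fun hg => mem_zpowers_isPGroup hg
    refine ((hz ha3).to_sup_of_normal_left' (hz hb3) ?_).to_le ?_
    · rw [zpowers_le, mem_normalizer_iff]
      intro y
      constructor
      · rintro ⟨n, rfl⟩
        refine ⟨n, ?_⟩
        show a ^ n = b * a ^ n * b⁻¹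
        rw [← (hcab.zpow_left n).eq, mul_inv_cancel_right]
      · rintro ⟨n, hn⟩
        refine ⟨n, ?_⟩
        show a ^ n = y
        have hn' : a ^ n = b * y * b⁻¹ := hn
        calc a ^ n = b⁻¹ * (b * a ^ n) := (inv_mul_cancel_left _ _).symm
          _ = b⁻¹ * (a ^ n * b) := by rw [(hcab.zpow_left n).eq]
          _ = y := by rw [hn', inv_mul_cancel_right, inv_mul_cancel_left]
    · rw [closure_le]
      rintro x (rfl | rfl)
      · exact le_sup_left (b := zpowers b) (mem_zpowers a)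
      · exact le_sup_right (a := zpowers a) (mem_zpowers b)
  have h := Coprime.le_of_centralizers_le (K := i.range) (W := W.map i) (a := a) (b := b) (r := 3)
    hcab (hnorm α) (hnorm β) Nat.prime_three (by rw [ha3]; exact one_mem _)
    (by rw [hb3]; exact one_mem _) (by rwa [hcard]) (by
      obtain ⟨k, hk⟩ := (Fact.mk Nat.prime_three : Fact (Nat.Prime 3)) |> fun _ => hA.exists_card_eq
      rw [hk, hcard]
      exact Nat.Coprime.pow_left k hK)
    (by rintro _ ⟨⟨x, rfl⟩, hx⟩; exact mem_map_of_mem _ (hWα x (hfix α x hx)))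
    (by
      rintro k _ ⟨⟨x, rfl⟩, hx⟩
      refine mem_map_of_mem _ (hWk k x (hfix (α ^ k * β) x ?_))
      rwa [map_mul, map_pow])
  rw [eq_top_iff]
  intro x _
  obtain ⟨y, hy, hyx⟩ := h ⟨x, rfl⟩
  rwa [← SemidirectProduct.inl_injective hyx]

end TwoAut

/-- Two elements acting commutingly with order three on a normalised subgroup. -/
theorem le_centralizer_of_fixed {K : Subgroup H} {a b c : H} (ha : a ∈ normalizer (K : Set H))
    (hb : b ∈ normalizer (K : Set H)) (ha3 : a ^ 3 = 1) (hb3 : b ^ 3 = 1)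
    (hab : Commute (a * b * a⁻¹ * b⁻¹) a ∧ ∀ x ∈ K, Commute x (a * b * a⁻¹ * b⁻¹))
    (hK : (3 : ℕ).Coprime (Nat.card K)) (hca : ∀ x ∈ K, Commute x a → Commute x c)
    (hck : ∀ k : ℕ, ∀ x ∈ K, Commute x (a ^ k * b) → Commute x c) :
    ∀ x ∈ K, Commute x c := by
  set f := K.normalizerMonoidHom
  set α := f ⟨a, ha⟩
  set β := f ⟨b, hb⟩
  have happ : ∀ (g : normalizer (K : Set H)) (x : K), (f g x : H) = g * x * (g : H)⁻¹ := fun g x => rfl
  have hcomm : Commute α β := by
    show f ⟨a, ha⟩ * f ⟨b, hb⟩ = f ⟨b, hb⟩ * f ⟨a, ha⟩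
    rw [← map_mul, ← map_mul]
    refine MulEquiv.ext fun x => Subtype.ext ?_
    rw [happ, happ]
    show a * b * (x : H) * (a * b)⁻¹ = b * a * x * (b * a)⁻¹
    set z := a * b * a⁻¹ * b⁻¹ with hz
    have hbax : Commute (b * a * (x : H) * (b * a)⁻¹) z :=
      hab.2 _ ((mem_normalizer_iff.1 (mul_mem hb ha) (x : H)).1 x.2)
    calc a * b * (x : H) * (a * b)⁻¹ = z * (b * a * x * (b * a)⁻¹) * z⁻¹ := by rw [hz]; group
      _ = _ := by rw [← hbax.eq, mul_inv_cancel_right]
  have h3 : ∀ (g : normalizer (K : Set H)), (g : H) ^ 3 = 1 → f g ^ 3 = 1 := fun g hg => by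
    rw [← map_pow, show g ^ 3 = 1 from Subtype.ext hg, map_one]
  have h := le_of_fixed hcomm (h3 _ ha3) (h3 _ hb3) hK ((centralizer ({c} : Set H)).subgroupOf K)
    (fun x hx => by
      rw [mem_subgroupOf, mem_centralizer_singleton_iff]
      refine (hca x x.2 ?_).eq
      have := congrArg Subtype.val hx
      rw [happ] at this
      exact ((mul_inv_eq_iff_eq_mul.1 this).symm : (x : H) * a = a * x))
    (fun k x hx => by
      rw [mem_subgroupOf, mem_centralizer_singleton_iff]
      refine (hck k x x.2 ?_).eq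
      rw [← map_pow, ← map_mul] at hx
      have := congrArg Subtype.val hx
      rw [happ] at this
      exact ((mul_inv_eq_iff_eq_mul.1 this).symm : (x : H) * (a ^ k * b) = a ^ k * b * x))
  intro x hx
  have hmem : (⟨x, hx⟩ : K) ∈ (centralizer ({c} : Set H)).subgroupOf K := h ▸ mem_top _
  rw [mem_subgroupOf, mem_centralizer_singleton_iff] at hmem
  exact hmem

/-! ### The frame -/

/-- A member with a Sylow 3-subgroup it normalises, complementing `O₂` in index two. -/
structure Frame (E : Set H) (d : H) (P : Subgroup H) : Prop where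
  hE : IsThreeTranspositionClass E
  hd : d ∈ E
  p3 : IsPGroup 3 P
  norm : ∀ x ∈ P, d * x * d ∈ P
  self : centralizer (pCore 2 H : Set H) ≤ pCore 2 H
  dO : d ∉ pCore 2 H
  mem : ∀ e ∈ E, ∃ x ∈ P, d * x * d = x⁻¹ ∧
    QuotientGroup.mk' (pCore 2 H) e = QuotientGroup.mk' (pCore 2 H) (d * x)

namespace Frame

variable {d : H} {P : Subgroup H} (F : Frame E d P)
include F

theorem eq_one_of_mem {x : H} (hx : x ∈ P) (hxO : x ∈ pCore 2 H) : x = 1 := by
  obtain ⟨k, hk⟩ := F.p3 ⟨x, hx⟩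
  exact eq_one_of_mem_pGroup Core.pCore_isPGroup hxO (n := 3 ^ k)
    (by simpa using congrArg Subtype.val hk) (Nat.Coprime.pow_left k (by norm_num : Nat.Coprime 3 2))

omit [Finite H] in
theorem dmul (x : H) : d * (d * x) = x := mul_self_mul F.hE.1 F.hd x

omit [Finite H] in
theorem dnotMem : d ∉ P := by
  intro h
  obtain ⟨k, hk⟩ := F.p3 ⟨d, h⟩
  have hdvd : orderOf d ∣ 3 ^ k := orderOf_dvd_of_pow_eq_one (by simpa using congrArg Subtype.val hk)
  rw [F.hE.1.1 d F.hd] at hdvd
  have := Nat.Prime.dvd_of_dvd_pow Nat.prime_two hdvd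
  omega

/-- The inverted elements give members. -/
theorem member {x : H} (hx : x ∈ P) (hinv : d * x * d = x⁻¹) :
    d * x ∈ E ∧ (x ≠ 1 → ¬ Commute d (d * x) ∧ x ^ 3 = 1) := by
  have hT := F.hE.1
  have hdd := mul_self hT F.hd
  have hsq : d * x * (d * x) = 1 := by rw [← mul_assoc, hinv, inv_mul_cancel]
  have h1 : d * x ≠ 1 := fun h => F.dnotMem (by
    rw [mul_eq_one_iff_eq_inv.1 h]; exact inv_mem hx)
  have ho : orderOf (d * x) = 2 := orderOf_eq_prime (by rw [sq, hsq]) h1
  have hodd : Odd (orderOf (d * (d * x))) := by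
    rw [F.dmul]
    obtain ⟨k, hk⟩ := F.p3.exists_orderOf_dvd_pow ⟨x, hx⟩
    rw [Subgroup.orderOf_mk] at hk
    exact Odd.of_dvd_nat (Odd.pow (by decide)) hk
  obtain ⟨g, -, hg⟩ := Invol.exists_conj_of_odd (hT.1 d F.hd) ho hodd
  have hmem : d * x ∈ E := hg ▸ class_conj F.hE g d F.hd
  refine ⟨hmem, fun hx1 => ?_⟩
  have hnc : ¬ Commute d (d * x) := by
    intro h
    have h2 := (sq_eq_one_iff hT F.hd hmem).2 h
    rw [F.dmul] at h2
    obtain ⟨k, hk⟩ := F.p3 ⟨x, hx⟩
    have hx' : orderOf x ∣ 3 ^ k := orderOf_dvd_of_pow_eq_one (by simpa using congrArg Subtype.val hk)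
    exact hx1 (orderOf_eq_one_iff.1 (Nat.eq_one_of_dvd_coprimes
      (Nat.Coprime.pow_left k (by norm_num : Nat.Coprime 3 2)) hx' (orderOf_dvd_of_pow_eq_one h2)))
  refine ⟨hnc, ?_⟩
  have h := cube_of_not_commute hT F.hd hmem hnc
  rwa [F.dmul] at h

theorem cube {x : H} (hx : x ∈ P) (hinv : d * x * d = x⁻¹) : x ^ 3 = 1 := by
  rcases eq_or_ne x 1 with rfl | h
  · rw [one_pow]
  · exact ((F.member hx hinv).2 h).2

/-- An element of `O₂` centralising a conjugate of an inverted element centralises that of `d`. -/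
theorem fixed {x g : H} (hx : x ∈ P) (hinv : d * x * d = x⁻¹) (hx1 : x ≠ 1) {c : H}
    (hc : c ∈ pCore 2 H) (hcx : Commute c (g * x * g⁻¹)) : Commute c (g * d * g⁻¹) := by
  obtain ⟨hm, hn⟩ := F.member hx hinv
  refine fixed_commute F.hE (class_conj F.hE g d F.hd) (class_conj F.hE g _ hm)
    (fun h => (hn hx1).1 ((commute_conj g d _).1 h)) hc ?_
  rwa [show g * d * g⁻¹ * (g * (d * x) * g⁻¹) = g * (d * (d * x)) * g⁻¹ by group, F.dmul]

omit [Finite H] in
theorem inv_mem' {x : H} (hinv : d * x * d = x⁻¹) : d * x⁻¹ * d = x⁻¹⁻¹ := by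
  rw [show d * x⁻¹ * d = (d * x * d)⁻¹ by simp only [mul_inv_rev, inv_eq F.hE.1 F.hd, mul_assoc], hinv]

omit [Finite H] in
theorem conj_mul' (a b : H) : d * (a * b) * d = d * a * d * (d * b * d) := by
  simp only [mul_assoc, mul_self_mul F.hE.1 F.hd]

omit [Finite H] in
theorem pow_mem' {x : H} (hinv : d * x * d = x⁻¹) (k : ℕ) : d * x ^ k * d = (x ^ k)⁻¹ := by
  induction k with
  | zero => simp [mul_self F.hE.1 F.hd]
  | succ k ih => rw [pow_succ, F.conj_mul', ih, hinv, ← mul_inv_rev, ← pow_succ', ← pow_succ]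

omit [Finite H] in
theorem palindrome {x y : H} (hx : d * x * d = x⁻¹) (hy : d * y * d = y⁻¹) :
    d * (x * y * x) * d = (x * y * x)⁻¹ := by
  rw [F.conj_mul', F.conj_mul', hx, hy]; group

/-- Commuting inverted elements generate a cyclic group. -/
theorem mem_zpowers_of_commute {p q : H} (hp : p ∈ P) (hpi : d * p * d = p⁻¹) (hp1 : p ≠ 1)
    (hq : q ∈ P) (hqi : d * q * d = q⁻¹) (hpq : Commute p q) : q ∈ zpowers p := by
  by_contra hqp
  have fixq : ∀ x ∈ P, d * x * d = x⁻¹ → x ≠ 1 → Commute x q → ∀ c ∈ pCore 2 H, Commute c x →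
      Commute c q := by
    intro x hx hxi hx1 hxq c hc hcx
    have h1 : Commute c d := by
      have := F.fixed hx hxi hx1 hc (g := 1) (by simpa using hcx)
      simpa using this
    have h2 : Commute c (d * q) := by
      have hgx : d * (q * x) * d = (q * x)⁻¹ := by
        rw [F.conj_mul', hqi, hxi, ← mul_inv_rev, hxq.eq]
      obtain ⟨hm, -⟩ := F.member hq hqi
      obtain ⟨hm', -⟩ := F.member (mul_mem hq hx) hgx
      have hprod : d * q * (d * (q * x)) = x := by
        rw [← mul_assoc (d * q), hqi, inv_mul_cancel_left]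
      refine fixed_commute F.hE hm hm' (fun h => ?_) hc (by rwa [hprod])
      have h2 := (sq_eq_one_iff F.hE.1 hm hm').2 h
      rw [hprod] at h2
      obtain ⟨k, hk⟩ := F.p3 ⟨x, hx⟩
      have hx' : orderOf x ∣ 3 ^ k := orderOf_dvd_of_pow_eq_one (by simpa using congrArg Subtype.val hk)
      exact hx1 (orderOf_eq_one_iff.1 (Nat.eq_one_of_dvd_coprimes
        (Nat.Coprime.pow_left k (by norm_num : Nat.Coprime 3 2)) hx' (orderOf_dvd_of_pow_eq_one h2)))
    have := h1.mul_right h2
    rwa [F.dmul] at this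
  have hN : ∀ g : H, g ∈ normalizer ((pCore 2 H : Subgroup H) : Set H) := fun g => by
    rw [normalizer_eq_top_iff.2 (Core.pCore_normal (p := 2) (G := H))]; trivial
  have hall : ∀ c ∈ pCore 2 H, Commute c q := by
    refine le_centralizer_of_fixed (a := p) (b := q) (hN p) (hN q) (F.cube hp hpi) (F.cube hq hqi)
      ?_ ?_ (fun c hc h => fixq p hp hpi hp1 hpq c hc h) fun k c hc h => ?_
    · rw [show p * q * p⁻¹ * q⁻¹ = 1 by rw [hpq.eq, mul_inv_cancel_right, mul_inv_cancel]]
      exact ⟨Commute.one_left p, fun x _ => Commute.one_right x⟩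
    · have := Fact.mk Nat.prime_two
      obtain ⟨n, hn⟩ := (Core.pCore_isPGroup (p := 2) (G := H)).exists_card_eq
      rw [hn]
      exact Nat.Coprime.pow_right n (by norm_num)
    · refine fixq (p ^ k * q) (mul_mem (pow_mem hp k) hq) ?_ ?_ ((hpq.pow_left k).mul_left (Commute.refl q)) c hc h
      · rw [F.conj_mul', F.pow_mem' hpi, hqi, ← mul_inv_rev, (hpq.pow_left k).eq]
      · intro h1
        refine hqp ?_
        rw [eq_inv_of_mul_eq_one_right h1]
        exact inv_mem (pow_mem (mem_zpowers p) k)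
  have h1 := F.eq_one_of_mem hq (F.self (mem_centralizer_iff.2 fun c hc => (hall c hc).eq))
  exact hqp (h1 ▸ one_mem _)

/-- The fixed points of a central commutator centralise its entries. -/
theorem commute_of_commute_comm {p v : H} (hp : p ∈ P) (hpi : d * p * d = p⁻¹) (hv : v ∈ P)
    (hvi : d * v * d = v⁻¹) (hzp : Commute (p * v * p⁻¹ * v⁻¹) p)
    (hzv : Commute (p * v * p⁻¹ * v⁻¹) v) (hz : p * v * p⁻¹ * v⁻¹ ≠ 1) :
    ∀ c ∈ pCore 2 H, Commute c (p * v * p⁻¹ * v⁻¹) → Commute c p := by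
  set z := p * v * p⁻¹ * v⁻¹ with hzdef
  have hp1 : p ≠ 1 := fun h => hz (by rw [hzdef, h]; group)
  have hp3 := F.cube hp hpi
  set K := pCore 2 H ⊓ centralizer ({z} : Set H) with hKdef
  have hN : ∀ g : H, Commute z g → g ∈ normalizer (K : Set H) := by
    intro g hg
    rw [mem_normalizer_iff]
    intro y
    have hn := (Core.pCore_normal (p := 2) (G := H))
    constructor
    · rintro ⟨h1, h2⟩
      refine ⟨hn.conj_mem y h1 g, mem_centralizer_singleton_iff.2 ?_⟩
      exact (((hg.symm.mul_left (mem_centralizer_singleton_iff.1 h2)).mul_left hg.symm.inv_left)).eq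
    · rintro ⟨h1, h2⟩
      refine ⟨?_, mem_centralizer_singleton_iff.2 ?_⟩
      · have := hn.conj_mem _ h1 g⁻¹
        simpa [mul_assoc] using this
      · have := ((hg.symm.inv_left.mul_left (mem_centralizer_singleton_iff.1 h2)).mul_left hg.symm).eq
        simpa [mul_assoc] using this
  intro c hc hcz
  refine le_centralizer_of_fixed (K := K) (a := p) (b := v) (c := p) (hN p hzp) (hN v hzv) hp3
    (F.cube hv hvi) ⟨hzp, fun x hx => mem_centralizer_singleton_iff.1 hx.2⟩ ?_ (fun x _ h => h) ?_ c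
    ⟨hc, mem_centralizer_singleton_iff.2 hcz.eq⟩
  · have := Fact.mk Nat.prime_two
    obtain ⟨n, hn⟩ := ((Core.pCore_isPGroup (p := 2) (G := H)).to_le (inf_le_left : K ≤ _)).exists_card_eq
    rw [hn]
    exact Nat.Coprime.pow_right n (by norm_num)
  intro k y hy hyk
  set w := p ^ k with hw
  have hwi : d * w * d = w⁻¹ := F.pow_mem' hpi k
  have hwz : Commute z w := hzp.pow_right k
  set x := w⁻¹ * v * w⁻¹ with hx
  have hxi : d * x * d = x⁻¹ := F.palindrome (F.inv_mem' hwi) hvi
  have hxP : x ∈ P := mul_mem (mul_mem (inv_mem (pow_mem hp k)) hv) (inv_mem (pow_mem hp k))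
  have hyz : Commute y z := mem_centralizer_singleton_iff.1 hy.2
  have hpv : ∀ j : ℕ, p ^ j * v * (p ^ j)⁻¹ = z ^ j * v := by
    intro j
    induction j with
    | zero => simp
    | succ j ih =>
      rw [pow_succ', show p * p ^ j * v * (p * p ^ j)⁻¹ = p * (p ^ j * v * (p ^ j)⁻¹) * p⁻¹ by group,
        ih, ← mul_assoc, ← (hzp.pow_left j).eq, mul_assoc (z ^ j), mul_assoc (z ^ j),
        show p * v * p⁻¹ = z * v by rw [hzdef]; group, ← mul_assoc, ← pow_succ]
  have hw3 : w ^ 3 = 1 := by rw [hw, ← pow_mul, mul_comm, pow_mul, hp3, one_pow]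
  have hxe : x = z ^ k * (w⁻¹ * w⁻¹ * v) := by
    have h1 : v * w⁻¹ = w⁻¹ * (z ^ k * v) := by
      rw [← hpv k, ← hw]
      simp only [mul_assoc, inv_mul_cancel_left]
    rw [hx, mul_assoc, h1, ← mul_assoc, ← mul_assoc, ← mul_assoc,
      ((hwz.pow_left k).symm.inv_left.mul_left (hwz.pow_left k).symm.inv_left).eq]
  have hww : w⁻¹ * w⁻¹ = w := by
    rw [← mul_inv_rev, inv_eq_iff_mul_eq_one, mul_assoc, ← hw3, pow_succ, sq, mul_assoc]
  rw [hww] at hxe
  have hyx : Commute y x := by rw [hxe]; exact (hyz.pow_right k).mul_right hyk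
  have hx1 : x ≠ 1 := by
    intro h
    have hwx : v = w * w := by
      calc v = w * x * w := by rw [hx]; group
        _ = w * w := by rw [h, mul_one]
    refine hz ?_
    rw [hzdef, hwx, ((((Commute.refl p).pow_right k).mul_right ((Commute.refl p).pow_right k))).eq,
      mul_inv_cancel_right, mul_inv_cancel]
  have h1 : Commute y d := by simpa using F.fixed hxP hxi hx1 hy.1 (g := 1) (by simpa using hyx)
  have h2 : Commute y (p * d * p⁻¹) := by
    refine F.fixed hxP hxi hx1 hy.1 ?_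
    have e : p * x * p⁻¹ = z * x := by
      rw [hxe, show p * (z ^ k * (w * v)) * p⁻¹ = p * z ^ k * p⁻¹ * ((p * w * p⁻¹) * (p * v * p⁻¹)) by group,
        ← (hzp.pow_left k).eq, mul_inv_cancel_right, ((Commute.refl p).pow_right k : Commute p w).eq,
        mul_inv_cancel_right, show p * v * p⁻¹ = z * v by rw [hzdef]; group, ← mul_assoc w z v, ← hwz.eq,
        ← mul_assoc, ← mul_assoc, ((Commute.refl z).pow_left k).eq]
      simp only [mul_assoc]
    rw [e]
    exact hyz.mul_right hyx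
  have h3 : Commute y (p * p) := by
    have := h2.mul_right h1
    rwa [show p * d * p⁻¹ * d = p * (d * p⁻¹ * d) by simp only [mul_assoc], F.inv_mem' hpi, inv_inv] at this
  have := h3.mul_right h3
  rwa [show p * p * (p * p) = p ^ 3 * p by rw [pow_succ, sq]; simp only [mul_assoc], hp3, one_mul] at this

/-- The inverted elements generate `P`. -/
theorem eq_closure : P = closure {x | x ∈ P ∧ d * x * d = x⁻¹} := by
  set M := closure {x | x ∈ P ∧ d * x * d = x⁻¹} with hM
  have hMP : M ≤ P := (closure_le _).2 fun x hx => hx.1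
  refine le_antisymm (fun p hp => ?_) hMP
  have hdM : ∀ m ∈ M, d * m * d ∈ M := by
    intro m hm
    induction hm using Subgroup.closure_induction with
    | mem x hx => rw [hx.2]; exact inv_mem (subset_closure hx)
    | one => simp [mul_self F.hE.1 F.hd]
    | mul a b _ _ ha hb => rw [F.conj_mul']; exact mul_mem ha hb
    | inv a _ ha =>
      rw [show d * a⁻¹ * d = (d * a * d)⁻¹ by
        simp only [mul_inv_rev, inv_eq F.hE.1 F.hd, mul_assoc]]
      exact inv_mem ha
  set π := QuotientGroup.mk' (pCore 2 H)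
  have key : ∀ g : H, ∃ m ∈ M, π g = π m ∨ π g = π (d * m) := by
    intro g
    have hg : g ∈ Subgroup.closure E := F.hE.2.2 ▸ Subgroup.mem_top g
    have step : ∀ e ∈ E, ∀ m ∈ M, ∀ g, (π g = π m ∨ π g = π (d * m)) →
        ∃ m' ∈ M, π (e * g) = π m' ∨ π (e * g) = π (d * m') := by
      intro e he m hm g hg
      obtain ⟨x, hx, hxi, hex⟩ := F.mem e he
      have hxM : x ∈ M := subset_closure ⟨hx, hxi⟩
      rcases hg with hg | hg
      · exact ⟨x * m, mul_mem hxM hm, Or.inr (by rw [map_mul, hex, hg, ← map_mul, mul_assoc])⟩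
      · refine ⟨x⁻¹ * m, mul_mem (inv_mem hxM) hm, Or.inl ?_⟩
        rw [map_mul, hex, hg, ← map_mul, ← mul_assoc, hxi]
    induction hg using Subgroup.closure_induction_left with
    | one => exact ⟨1, one_mem _, Or.inl rfl⟩
    | mul_left s hs g _ ih => obtain ⟨m, hm, h⟩ := ih; exact step s hs m hm g h
    | inv_mul_cancel s hs g _ ih =>
      obtain ⟨m, hm, h⟩ := ih
      rw [inv_eq F.hE.1 hs]
      exact step s hs m hm g h
  obtain ⟨m, hm, h | h⟩ := key p
  · have h1 := F.eq_one_of_mem (mul_mem (inv_mem (hMP hm)) hp) (QuotientGroup.eq.1 h.symm)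
    rwa [← eq_of_inv_mul_eq_one h1]
  · exfalso
    have hO : (d * m)⁻¹ * p ∈ pCore 2 H := QuotientGroup.eq.1 h.symm
    have hy : m⁻¹ * d * p ∈ pCore 2 H := by rwa [mul_inv_rev, inv_eq F.hE.1 F.hd] at hO
    -- then `d` is in `P O₂`, so in the kernel
    obtain ⟨o, ho, hde⟩ : ∃ o ∈ pCore 2 H, d = m * p⁻¹ * o :=
      ⟨p * (m⁻¹ * d), by
        have := mem_pCore_conj hy p
        rwa [show p * (m⁻¹ * d * p) * p⁻¹ = p * (m⁻¹ * d) by group] at this, by group⟩
    obtain ⟨k, hk⟩ := F.p3 ⟨_, mul_mem (hMP hm) (inv_mem hp)⟩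
    have hk' : (m * p⁻¹) ^ (3 ^ k) = 1 := by simpa using congrArg Subtype.val hk
    have h1 : π d = π (m * p⁻¹) := by
      rw [hde, map_mul _ _ o, show π o = 1 from (QuotientGroup.eq_one_iff o).2 ho, mul_one]
    have h2 : (π d) ^ (3 ^ k) = 1 := by rw [h1, ← map_pow, hk', map_one]
    obtain ⟨a, ha⟩ : Odd (3 ^ k) := Odd.pow (by decide)
    rw [ha, pow_succ, pow_mul, sq, ← map_mul, mul_self F.hE.1 F.hd, map_one, one_pow, one_mul] at h2
    exact F.dO ((QuotientGroup.eq_one_iff d).1 h2)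

omit [Finite H] in
theorem conj_mem_P {x : H} (hx : x ∈ P) : d * x * d ∈ P := F.norm x hx

/-- An element inverted by `d` built from any element of `P`. -/
theorem twist (x : H) : d * (x⁻¹ * (d * x * d)) * d = (x⁻¹ * (d * x * d))⁻¹ := by
  have hdi := inv_eq F.hE.1 F.hd
  simp only [mul_inv_rev, hdi, mul_assoc, mul_self_mul F.hE.1 F.hd, mul_self F.hE.1 F.hd, mul_one, inv_inv]

set_option maxHeartbeats 1000000 in
/-- Either `P` has order three, or it is the nonabelian group of order 27. -/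
theorem cases (hP : P ≠ ⊥) :
    (∃ u ∈ P, d * u * d = u⁻¹ ∧ u ≠ 1 ∧ P = zpowers u) ∨
      ∃ u v, u ∈ P ∧ v ∈ P ∧ d * u * d = u⁻¹ ∧ d * v * d = v⁻¹ ∧
        Commute (u * v * u⁻¹ * v⁻¹) u ∧ Commute (u * v * u⁻¹ * v⁻¹) v ∧
        u * v * u⁻¹ * v⁻¹ ≠ 1 ∧ P = closure {u, v} := by
  have := Fact.mk Nat.prime_three
  set S := {x | x ∈ P ∧ d * x * d = x⁻¹}
  have hPS : P = closure S := F.eq_closure
  by_cases hab : ∀ p ∈ S, ∀ q ∈ S, Commute p q
  · left
    obtain ⟨u, hu, hu1⟩ : ∃ u ∈ S, u ≠ 1 := by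
      by_contra hc
      push Not at hc
      refine hP (eq_bot_iff.2 (hPS ▸ (closure_le _).2 fun x hx => mem_bot.2 (hc x hx)))
    refine ⟨u, hu.1, hu.2, hu1, le_antisymm ?_ (zpowers_le.2 hu.1)⟩
    rw [hPS, closure_le]
    exact fun q hq => F.mem_zpowers_of_commute hu.1 hu.2 hu1 hq.1 hq.2 (hab u hu q hq)
  right
  push Not at hab
  -- the centre of `P` is fixed by `d`
  have hS : ∀ g : H, (∀ s ∈ S, Commute g s) → ∀ y ∈ P, Commute g y := by
    intro g hg y hy
    have : P ≤ centralizer {g} := by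
      rw [hPS, closure_le]
      exact fun s hs => mem_centralizer_singleton_iff.2 (hg s hs).symm.eq
    exact (mem_centralizer_singleton_iff.1 (this hy) : y * g = g * y).symm
  have hdconj : ∀ g ∈ P, (∀ s ∈ S, Commute g s) → ∀ s ∈ S, Commute (d * g * d) s := by
    intro g _ hg s hs
    have h := (commute_conj d g s⁻¹).2 (hg s hs).inv_right
    rwa [inv_eq F.hE.1 F.hd, show d * s⁻¹ * d = s by rw [F.inv_mem' hs.2, inv_inv]] at h
  have hfix : ∀ g ∈ P, (∀ s ∈ S, Commute g s) → d * g * d = g := by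
    intro g hg hgS
    set y := g⁻¹ * (d * g * d) with hy
    have hyP : y ∈ P := mul_mem (inv_mem hg) (F.norm g hg)
    by_contra hne
    have hy1 : y ≠ 1 := fun h => hne (by rw [hy, inv_mul_eq_one] at h; exact h.symm)
    have hyS : ∀ s ∈ S, Commute y s := fun s hs => (hgS s hs).inv_left.mul_left (hdconj g hg hgS s hs)
    obtain ⟨p, hp, q, hq, hpq⟩ := hab
    obtain ⟨i, rfl⟩ := mem_zpowers_iff.1 (F.mem_zpowers_of_commute hyP (F.twist g) hy1 hp.1 hp.2 (hyS p hp))
    exact hpq ((hyS q hq).zpow_left i)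
  -- an inverted element of the second centre
  have hPc : ∃ u ∈ S, (∃ s ∈ S, ¬ Commute u s) ∧
      ∀ g ∈ P, ∀ s ∈ S, Commute (u * g * u⁻¹ * g⁻¹) s := by
    obtain ⟨p₀, hp₀, q₀, hq₀, hpq₀⟩ := hab
    have hne : (center P : Subgroup P) ≠ ⊤ := by
      intro h
      exact hpq₀ (congrArg Subtype.val
        (mem_center_iff.1 (h ▸ mem_top (⟨p₀, hp₀.1⟩ : P)) ⟨q₀, hq₀.1⟩) : q₀ * p₀ = p₀ * q₀).symm
    have hnt : Nontrivial (P ⧸ center P) := QuotientGroup.nontrivial_iff.2 hne
    have := IsPGroup.center_nontrivial (F.p3.to_quotient (center P))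
    obtain ⟨⟨q, hqc⟩, hq1⟩ := exists_ne (1 : center (P ⧸ center P))
    obtain ⟨x, rfl⟩ := QuotientGroup.mk_surjective q
    have hxz : ∀ g ∈ P, ∀ s ∈ S, Commute ((x : H) * g * (x : H)⁻¹ * g⁻¹) s := by
      intro g hg s hs
      have h1 := mem_center_iff.1 hqc (⟨g, hg⟩ : P)
      have h2 : x * ⟨g, hg⟩ * x⁻¹ * (⟨g, hg⟩ : P)⁻¹ ∈ center P := by
        rw [← QuotientGroup.eq_one_iff, QuotientGroup.mk_mul, QuotientGroup.mk_mul, QuotientGroup.mk_mul,
          QuotientGroup.mk_inv, QuotientGroup.mk_inv, ← h1, mul_inv_cancel_right, mul_inv_cancel]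
      exact (congrArg Subtype.val (mem_center_iff.1 h2 ⟨s, hs.1⟩) : s * _ = _ * s).symm
    have hxnc : ∃ s ∈ S, ¬ Commute (x : H) s := by
      by_contra hc
      push Not at hc
      refine hq1 (Subtype.ext ((QuotientGroup.eq_one_iff x).2 (mem_center_iff.2 fun y => Subtype.ext ?_)))
      exact (hS x hc y y.2).symm.eq
    set u := (x : H)⁻¹ * (d * (x : H) * d) with hu
    have huP : u ∈ P := mul_mem (inv_mem x.2) (F.norm x x.2)
    have hui : d * u * d = u⁻¹ := F.twist x
    have huz : ∀ g ∈ P, ∀ s ∈ S, Commute (u * g * u⁻¹ * g⁻¹) s := by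
      intro g hg s hs
      -- commutators with the two factors
      have h1 : ∀ g ∈ P, ∀ t ∈ P, Commute ((x : H)⁻¹ * g * (x : H) * g⁻¹) t := by
        intro g hg t ht
        have h := hS _ (hxz ((x : H)⁻¹ * g * x) (mul_mem (mul_mem (inv_mem x.2) hg) x.2))
        have h' := h t ht
        rw [show (x : H) * ((x : H)⁻¹ * g * x) * (x : H)⁻¹ * ((x : H)⁻¹ * g * x)⁻¹ =
          ((x : H)⁻¹ * g * x * g⁻¹)⁻¹ by group] at h'
        simpa using h'.inv_left
      have h2 : ∀ g ∈ P, ∀ t ∈ P, Commute (d * (x : H) * d * g * (d * (x : H) * d)⁻¹ * g⁻¹) t := by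
        intro g hg t ht
        have h := (commute_conj d _ _).2 (hS _ (hxz (d * g * d) (F.norm g hg)) _ (F.norm t ht))
        simpa [inv_eq F.hE.1 F.hd, mul_assoc, mul_self_mul F.hE.1 F.hd, mul_self F.hE.1 F.hd] using h
      set y := d * (x : H) * d with hy
      have hyP : y ∈ P := F.norm x x.2
      rw [show u * g * u⁻¹ * g⁻¹ =
        ((x : H)⁻¹ * (y * g * y⁻¹ * g⁻¹) * x) * ((x : H)⁻¹ * g * x * g⁻¹) by rw [hu]; group]
      refine Commute.mul_left ?_ (h1 g hg s hs.1)
      rw [mul_assoc, (h2 g hg x x.2).eq, inv_mul_cancel_left]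
      exact h2 g hg s hs.1
    refine ⟨u, ⟨huP, hui⟩, ?_, huz⟩
    by_contra hc
    push Not at hc
    have hu1 : u = 1 := by
      by_contra hne'
      obtain ⟨i, hi⟩ := mem_zpowers_iff.1 (F.mem_zpowers_of_commute huP hui hne' hp₀.1 hp₀.2 (hc p₀ hp₀))
      exact hpq₀ (hi ▸ (hc q₀ hq₀).zpow_left i)
    rw [hu, inv_mul_eq_one] at hu1
    obtain ⟨s, hs, hxs⟩ := hxnc
    set z := (x : H) * s * (x : H)⁻¹ * s⁻¹ with hz
    have hzP : z ∈ P := mul_mem (mul_mem (mul_mem x.2 hs.1) (inv_mem x.2)) (inv_mem hs.1)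
    have hzx : Commute z x := hS z (hxz s hs.1) x x.2
    have hzs : Commute z s := hxz s hs.1 s hs
    have h1 : d * z * d = z := hfix z hzP (hxz s hs.1)
    have h2 : d * z * d = (x : H) * s⁻¹ * (x : H)⁻¹ * s := by
      rw [hz, F.conj_mul', F.conj_mul', F.conj_mul', ← hu1, hs.2, F.inv_mem' hs.2, inv_inv,
        show d * (x : H)⁻¹ * d = (x : H)⁻¹ by
          conv_rhs => rw [hu1]
          simp only [mul_inv_rev, inv_eq F.hE.1 F.hd, mul_assoc]]
    -- so the commutator is its own inverse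
    have h3 : (x : H) * s⁻¹ * (x : H)⁻¹ * s = z⁻¹ := by
      have e : s⁻¹ * z⁻¹ * s = z⁻¹ := by rw [mul_assoc, hzs.inv_left.eq, inv_mul_cancel_left]
      rw [← e, hz]; group
    rw [h1, h3] at h2
    have hz2 : z ^ 2 = 1 := by rw [sq]; nth_rw 1 [h2]; rw [inv_mul_cancel]
    obtain ⟨k, hk⟩ := F.p3 ⟨z, hzP⟩
    have hz3 : orderOf z ∣ 3 ^ k := orderOf_dvd_of_pow_eq_one (by simpa using congrArg Subtype.val hk)
    have hz1 : z = 1 := orderOf_eq_one_iff.1 (Nat.eq_one_of_dvd_coprimes
      (Nat.Coprime.pow_left k (by norm_num : Nat.Coprime 3 2)) hz3 (orderOf_dvd_of_pow_eq_one hz2))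
    refine hxs ?_
    rw [hz, mul_inv_eq_one, mul_inv_eq_iff_eq_mul] at hz1
    exact hz1
  obtain ⟨u, ⟨hu, hui⟩, ⟨v, ⟨hv, hvi⟩, huv⟩, huz⟩ := hPc
  have hu3 := F.cube hu hui
  -- commutation with `u` is additive
  let φ : H → H := fun g => u * g * u⁻¹ * g⁻¹
  have hφc : ∀ a ∈ P, ∀ b ∈ P, Commute (φ a) b := fun a ha b hb => hS _ (huz a ha) b hb
  have hφP : ∀ a ∈ P, φ a ∈ P := fun a ha => mul_mem (mul_mem (mul_mem hu ha) (inv_mem hu)) (inv_mem ha)
  have hφu : ∀ a, u * a * u⁻¹ = φ a * a := fun a => by simp only [φ]; group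
  have hφm : ∀ a ∈ P, ∀ b ∈ P, φ (a * b) = φ a * φ b := by
    intro a ha b hb
    calc φ (a * b) = (u * a * u⁻¹) * (u * b * u⁻¹) * b⁻¹ * a⁻¹ := by simp only [φ]; group
      _ = φ a * (a * φ b) * a⁻¹ := by rw [hφu, hφu]; group
      _ = φ a * φ b := by
          rw [← (hφc b hb a ha).eq, mul_assoc (φ a), mul_inv_cancel_right]
  set z := φ v with hzdef
  have hz1 : z ≠ 1 := fun h => huv (by
    show u * v = v * u
    have := hφu v
    rw [show φ v = 1 from h, one_mul, mul_inv_eq_iff_eq_mul] at this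
    exact this)
  have hpow : ∀ a ∈ P, ∀ k : ℕ, φ (a ^ k) = φ a ^ k := by
    intro a ha k
    induction k with
    | zero => simp [φ]
    | succ k ih => rw [pow_succ, pow_succ, hφm _ (pow_mem ha k) _ ha, ih]
  have hz3 : z ^ 3 = 1 := by
    rw [hzdef, ← hpow v hv 3, F.cube hv hvi]; simp [φ]
  have hv3 := F.cube hv hvi
  have hline : ∀ s ∈ S, φ s ∈ zpowers z := by
    rintro s ⟨hs, hsi⟩
    by_contra hsz
    set z₂ := φ s with hz₂
    have hz₂3 : z₂ ^ 3 = 1 := by rw [hz₂, ← hpow s hs 3, F.cube hs hsi]; simp [φ]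
    have hN : ∀ g : H, g ∈ normalizer ((pCore 2 H : Subgroup H) : Set H) := fun g => by
      rw [normalizer_eq_top_iff.2 (Core.pCore_normal (p := 2) (G := H))]; trivial
    have hall : ∀ c ∈ pCore 2 H, Commute c u := by
      refine le_centralizer_of_fixed (a := z) (b := z₂) (hN z) (hN z₂) hz3 hz₂3 ?_ ?_
        (fun c hc h => F.commute_of_commute_comm hu hui hv hvi (hφc v hv u hu) (hφc v hv v hv) hz1 c hc h)
        fun k c hc h => ?_
      · rw [show z * z₂ * z⁻¹ * z₂⁻¹ = 1 by
          rw [(hφc v hv z₂ (hφP s hs)).eq, mul_inv_cancel_right, mul_inv_cancel]]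
        exact ⟨Commute.one_left z, fun x _ => Commute.one_right x⟩
      · have := Fact.mk Nat.prime_two
        obtain ⟨n, hn⟩ := (Core.pCore_isPGroup (p := 2) (G := H)).exists_card_eq
        rw [hn]
        exact Nat.Coprime.pow_right n (by norm_num)
      · set w := v ^ (2 * k) with hw
        have hwP : w ∈ P := pow_mem hv _
        set s' := w * s * w with hs'
        have hsP : s' ∈ P := mul_mem (mul_mem hwP hs) hwP
        have hsi' : d * s' * d = s'⁻¹ := F.palindrome (F.pow_mem' hvi _) hsi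
        have he : φ s' = z ^ k * z₂ := by
          rw [hs', hφm _ (mul_mem hwP hs) _ hwP, hφm _ hwP _ hs, hw, hpow v hv, ← hzdef, ← hz₂,
            mul_assoc, ← ((hφc v hv z₂ (hφP s hs)).pow_left (2 * k)).eq, ← mul_assoc, ← pow_add,
            show 2 * k + 2 * k = 3 * k + k by ring, pow_add, pow_mul, hz3, one_pow, one_mul]
        have hne : φ s' ≠ 1 := by
          rw [he]
          intro h1
          refine hsz ?_
          rw [eq_inv_of_mul_eq_one_right h1]
          exact inv_mem (pow_mem (mem_zpowers z) k)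
        refine F.commute_of_commute_comm hu hui hsP hsi' (hφc s' hsP u hu) (hφc s' hsP s' hsP) hne c hc ?_
        show Commute c (φ s')
        rwa [he]
    have h1 := F.eq_one_of_mem hu (F.self (mem_centralizer_iff.2 fun c hc => (hall c hc).eq))
    exact huv (h1 ▸ Commute.one_left v)
  refine ⟨u, v, hu, hv, hui, hvi, hφc v hv u hu, hφc v hv v hv, hz1, le_antisymm ?_ ?_⟩
  · conv_lhs => rw [hPS]
    rw [closure_le]
    rintro s ⟨hs, hsi⟩
    obtain ⟨n, hn⟩ := mem_zpowers_iff.1 (hline s ⟨hs, hsi⟩)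
    obtain ⟨j, hj⟩ : ∃ j : ℕ, φ s = z ^ j := by
      refine ⟨(n % 3).toNat, ?_⟩
      rw [← hn, ← zpow_natCast, Int.toNat_of_nonneg (Int.emod_nonneg n (by norm_num))]
      conv_lhs => rw [← Int.emod_add_mul_ediv n 3, zpow_add, zpow_mul]
      rw [show z ^ (3 : ℤ) = 1 by exact_mod_cast hz3, one_zpow, mul_one]
    set w := v ^ j with hw
    have hwP : w ∈ P := pow_mem hv j
    have hsP : w * s * w ∈ P := mul_mem (mul_mem hwP hs) hwP
    have hsi' : d * (w * s * w) * d = (w * s * w)⁻¹ := F.palindrome (F.pow_mem' hvi j) hsi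
    have he : φ (w * s * w) = 1 := by
      rw [hφm _ (mul_mem hwP hs) _ hwP, hφm _ hwP _ hs, hw, hpow v hv, hj, ← hzdef, ← pow_add, ← pow_add,
        show j + j + j = 3 * j by ring, pow_mul, hz3, one_pow]
    have hu1 : u ≠ 1 := fun h => huv (h ▸ Commute.one_left v)
    have hc : Commute u (w * s * w) := by
      show u * (w * s * w) = w * s * w * u
      have := hφu (w * s * w)
      rw [he, one_mul, mul_inv_eq_iff_eq_mul] at this
      exact this
    have hin : w * s * w ∈ closure {u, v} :=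
      (zpowers_le.2 (subset_closure (Set.mem_insert u _)))
        (F.mem_zpowers_of_commute hu hui hu1 hsP hsi' hc)
    have hvin : v ∈ closure ({u, v} : Set H) :=
      subset_closure (Set.mem_insert_of_mem u (Set.mem_singleton v))
    have hwin : w ∈ closure ({u, v} : Set H) := by
      rw [hw]
      exact pow_mem hvin j
    rw [SetLike.mem_coe, show s = w⁻¹ * (w * s * w) * w⁻¹ from
      (by rw [mul_assoc w s w, inv_mul_cancel_left, mul_inv_cancel_right])]
    exact mul_mem (mul_mem (inv_mem hwin) hin) (inv_mem hwin)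
  · rw [closure_le]
    rintro y (rfl | rfl)
    · exact hu
    · exact hv

end Frame

/-- The hypotheses give a frame. -/
theorem exists_frame (hE : IsThreeTranspositionClass E) (hE2 : ∃ a ∈ E, ∃ b ∈ E, a ≠ b)
    (hF : generalizedFittingSubgroup H = pCore 2 H)
    (h232 : ∃ P : Sylow 3 (H ⧸ pCore 2 H), (P : Subgroup (H ⧸ pCore 2 H)).Normal ∧
      ∃ k : ℕ, (P : Subgroup (H ⧸ pCore 2 H)).index = 2 ^ k) :
    ∃ (d : H) (P : Subgroup H), Frame E d P ∧ P ≠ ⊥ := by
  have := Fact.mk Nat.prime_three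
  have := Fact.mk Nat.prime_two
  obtain ⟨P₀, hP₀, k, hk⟩ := h232
  obtain ⟨d, hd, -⟩ := id hE2
  have hT := hE.1
  set π := QuotientGroup.mk' (pCore 2 H)
  have hall : ∀ e ∈ E, e ∉ pCore 2 H := by
    intro e he heO
    have hsub : E ⊆ pCore 2 H := by
      intro f hf
      obtain ⟨g, rfl⟩ := class_isConj hE he hf
      exact mem_pCore_conj heO g
    obtain ⟨f, hf, hef⟩ := exists_not_commute hE hE2 he
    exact hef (commute_of_mem_two hT Core.pCore_isPGroup he hf (hsub he) (hsub hf))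
  -- outside the Sylow subgroup
  have hout : ∀ e ∈ E, π e ∉ (P₀ : Subgroup (H ⧸ pCore 2 H)) := by
    intro e he hmem
    obtain ⟨m, hm⟩ := P₀.isPGroup'.exists_orderOf_dvd_pow ⟨_, hmem⟩
    rw [Subgroup.orderOf_mk] at hm
    have h2 : orderOf (π e) ∣ 2 := orderOf_dvd_of_pow_eq_one (by rw [sq, ← map_mul, mul_self hT he, map_one])
    refine hall e he ((QuotientGroup.eq_one_iff e).1 (orderOf_eq_one_iff.1 (Nat.eq_one_of_dvd_coprimes
      (Nat.Coprime.pow_left m (by norm_num : Nat.Coprime 3 2)) hm h2)))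
  -- the quotient by it has order two
  set ψ := QuotientGroup.mk' (P₀ : Subgroup (H ⧸ pCore 2 H)) with hψ
  set χ := ψ.comp π with hχ
  have hB : IsPGroup 2 ((H ⧸ pCore 2 H) ⧸ (P₀ : Subgroup (H ⧸ pCore 2 H))) :=
    IsPGroup.of_card (n := k) hk
  have hχs : Function.Surjective χ :=
    (QuotientGroup.mk'_surjective _).comp (QuotientGroup.mk'_surjective _)
  have hgen : ∀ g : H, χ g ∈ zpowers (χ d) := by
    have := hB.isNilpotent
    set B := (H ⧸ pCore 2 H) ⧸ (P₀ : Subgroup (H ⧸ pCore 2 H))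
    have htop : zpowers (χ d) = ⊤ := by
      refine Core.eq_top_of_sup_frattini Core.commutator_le_frattini ?_
      rw [eq_top_iff]
      intro b _
      obtain ⟨g, rfl⟩ := hχs b
      have : g ∈ (zpowers (χ d) ⊔ commutator B).comap χ := by
        refine (Subgroup.closure_le _).2 ?_ (hE.2.2 ▸ Subgroup.mem_top g)
        intro e he
        obtain ⟨c, rfl⟩ := class_isConj hE hd he
        rw [SetLike.mem_coe, mem_comap,
          show χ (c * d * c⁻¹) = ⁅χ c, χ d⁆ * χ d by rw [commutatorElement_def]; simp [map_mul]]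
        exact mul_mem (le_sup_right (a := zpowers (χ d))
          (commutator_mem_commutator (mem_top _) (mem_top _))) (le_sup_left (b := commutator B) (mem_zpowers _))
      exact this
    exact fun g => htop ▸ mem_top _
  have hcases : ∀ g : H, π g ∈ (P₀ : Subgroup (H ⧸ pCore 2 H)) ∨
      π (d * g) ∈ (P₀ : Subgroup (H ⧸ pCore 2 H)) := by
    intro g
    obtain ⟨n, hn⟩ := mem_zpowers_iff.1 (hgen g)
    have hd2 : χ d * χ d = 1 := by rw [← map_mul, mul_self hT hd, map_one]
    rcases Int.even_or_odd' n with ⟨i, rfl | rfl⟩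
    · left
      rw [zpow_mul, zpow_two, hd2, one_zpow] at hn
      exact (QuotientGroup.eq_one_iff _).1 hn.symm
    · right
      rw [zpow_add_one, zpow_mul, zpow_two, hd2, one_zpow, one_mul] at hn
      exact (QuotientGroup.eq_one_iff _).1 (show χ (d * g) = 1 by rw [map_mul, ← hn, hd2])
  have hmulP : ∀ e ∈ E, ∀ f ∈ E, π (e * f) ∈ (P₀ : Subgroup (H ⧸ pCore 2 H)) := by
    intro e he f hf
    have h1 := (hcases e).resolve_left (hout e he)
    have h2 := (hcases f).resolve_left (hout f hf)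
    have := mul_mem (inv_mem h1) h2
    rwa [← map_inv, ← map_mul, mul_inv_rev, inv_eq hT hd, inv_eq hT he, mul_assoc, mul_self_mul hT hd] at this
  have hq : ∀ e ∈ E, ∀ f ∈ E, Commute e f → e * f ∈ pCore 2 H := by
    intro e he f hf hef
    obtain ⟨m, hm⟩ := P₀.isPGroup'.exists_orderOf_dvd_pow ⟨_, hmulP e he f hf⟩
    rw [Subgroup.orderOf_mk] at hm
    have h2 : orderOf (π (e * f)) ∣ 2 :=
      orderOf_dvd_of_pow_eq_one (by rw [← map_pow, (sq_eq_one_iff hT he hf).2 hef, map_one])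
    exact (QuotientGroup.eq_one_iff _).1 (orderOf_eq_one_iff.1 (Nat.eq_one_of_dvd_coprimes
      (Nat.Coprime.pow_left m (by norm_num : Nat.Coprime 3 2)) hm h2))
  obtain ⟨f₀, hf₀, hdf⟩ := exists_not_commute hE hE2 hd
  obtain ⟨P, hP⟩ := exists_sylow hE hq hd ⟨f₀, hf₀, hdf⟩
  have hmap : (P : Subgroup H).map π = P₀ :=
    P₀.is_maximal' (P.isPGroup'.map π)
      (P₀.isPGroup'.le_sylow_of_normal (P.mapSurjective (QuotientGroup.mk'_surjective _)))
  have hinj : ∀ x ∈ (P : Subgroup H), π x = 1 → x = 1 := by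
    intro x hx h
    obtain ⟨m, hm⟩ := P.isPGroup' ⟨x, hx⟩
    exact eq_one_of_mem_pGroup Core.pCore_isPGroup ((QuotientGroup.eq_one_iff x).1 h) (n := 3 ^ m)
      (by simpa using congrArg Subtype.val hm) (Nat.Coprime.pow_left m (by norm_num : Nat.Coprime 3 2))
  refine ⟨d, P, ⟨hE, hd, P.isPGroup', hP, ?_, hall d hd, ?_⟩, ?_⟩
  · have h := Layer.centralizer_generalizedFitting_le (G := H)
    rwa [hF] at h
  · intro e he
    obtain ⟨x, hx, hxe⟩ : π (d * e) ∈ (P : Subgroup H).map π := by rw [hmap]; exact hmulP d hd e he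
    refine ⟨x, hx, ?_, by rw [map_mul, hxe, ← map_mul, mul_self_mul hT hd]⟩
    have h1 : π (d * x * d * x) = 1 := by
      rw [map_mul, map_mul, map_mul, hxe, ← map_mul, ← map_mul, ← map_mul, mul_self_mul hT hd,
        mul_assoc, mul_self_mul hT hd, mul_self hT he, map_one]
    exact eq_inv_of_mul_eq_one_left (hinj _ (mul_mem (hP x hx) hx) h1)
  · intro hbot
    have h1 := hmulP d hd f₀ hf₀
    rw [← hmap, hbot, Subgroup.map_bot, mem_bot] at h1
    have := eq_one_of_mem_pGroup Core.pCore_isPGroup ((QuotientGroup.eq_one_iff _).1 h1)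
      (cube_of_not_commute hT hd hf₀ hdf) (by norm_num)
    exact hdf (by rw [eq_inv_of_mul_eq_one_right this, inv_eq hT hd])

end Cfsg.Agent.ThreeTrans.O232
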