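import Cfsg.Agent.ThreeTrans.OctadM24

/-!
# Type M(24): relations between pairwise commuting members
-/

set_option autoImplicit false

open Cfsg

namespace Cfsg.Agent.ThreeTrans

universe u

/-- Commuting list of elements: a permutation does not change the product. -/
theorem prod_perm_of_comm {M : Type*} [Monoid M] {l l' : List M}
    (hc : ∀ x ∈ l, ∀ y ∈ l, Commute x y) (hp : l.Perm l') : l.prod = l'.prod :=
  hp.prod_eq' (List.pairwise_of_forall_mem_list hc)

variable {G : Type u} [Group G] [Finite G] {D : Set G} {X : Type u} [Group X] [Finite X] {E : Set X}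
  (hD : IsThreeTranspositionGroup D) (hZ : Subgroup.center G = ⊥) (hB : M24Base D E)

include hD hB

omit hZ in
/-- A product of three commuting members is no member. -/
theorem triple_ne_member24 {a b c e : G} (ha : a ∈ D) (hb : b ∈ D) (hc : c ∈ D) (he : e ∈ D)
    (hab : Commute a b) (hac : Commute a c) (hbc : Commute b c) (nab : a ≠ b) (nac : a ≠ c)
    (nbc : b ≠ c) : a * b * c ≠ e := by
  intro h
  have hae : a ≠ e := by
    intro e'
    rw [← e', mul_assoc, mul_eq_left, mul_eq_one_iff_eq_inv, inv_eq hD.1 hc] at h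
    exact nbc h
  have hsub : insert e (dperp D e) ⊆ insert a (dperp D a) := by
    intro v hv
    have hvD : v ∈ D := hv.elim (fun h' => h' ▸ he) fun h' => h'.1
    have hve : Commute v e := hv.elim (fun h' => h' ▸ Commute.refl e) fun h' => h'.2.2.symm
    have := ((commute_triple_iff hD.1 ha hb hc hvD hab hac hbc nab nac nbc).1 (h ▸ hve)).1
    rcases eq_or_ne v a with rfl | hne
    · exact Set.mem_insert _ _
    · exact Set.mem_insert_of_mem _ ⟨hvD, hne, this.symm⟩
  have hcard : ∀ {u : G}, u ∈ D → (insert u (dperp D u)).ncard = 31671 + 1 := fun hu => by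
    rw [Set.ncard_insert_of_notMem (fun h => h.2.1 rfl) (Set.toFinite _), (layer_counts24 hB hu).1]
  have heq := Set.eq_of_subset_of_ncard_le hsub (by rw [hcard ha, hcard he]) (Set.toFinite _)
  refine hae (hB.noTwins a ha e he fun v hv => ?_)
  have k : ∀ {u : G}, Commute u v ↔ v ∈ insert u (dperp D u) := fun {u} => by
    constructor
    · intro huv
      rcases eq_or_ne v u with rfl | hne
      · exact Set.mem_insert _ _
      · exact Set.mem_insert_of_mem _ ⟨hv, hne, huv⟩
    · rintro (rfl | h)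
      exacts [Commute.refl _, h.2.2]
  rw [k, k, heq]

omit hZ in
/-- Five distinct pairwise commuting members lie in an octad. -/
theorem exists_octad_five {a b c p q : G} (hnd : [a, b, c, p, q].Nodup)
    (hmem : ∀ x ∈ [a, b, c, p, q], x ∈ D)
    (hco : ∀ x ∈ [a, b, c, p, q], ∀ y ∈ [a, b, c, p, q], Commute x y) :
    ∃ O, IsOctad D O ∧ ∀ x ∈ [a, b, c, p, q], x ∈ O := by
  simp only [List.nodup_cons, List.mem_cons, List.not_mem_nil, or_false, not_or, List.nodup_nil,
    not_false_iff, and_true] at hnd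
  obtain ⟨⟨nab, nac, nap, naq⟩, ⟨nbc, nbp, nbq⟩, ⟨ncp, ncq⟩, npq⟩ := hnd
  have h1 : ∀ {x}, x ∈ [a, b, c, p, q] → x ≠ a → x ∈ dperp D a := fun hx e =>
    ⟨hmem _ hx, e, hco _ (by simp) _ hx⟩
  have h2 : ∀ {x}, x ∈ [a, b, c, p, q] → x ≠ a → x ≠ b → x ∈ dperp (dperp D a) b := fun hx e e' =>
    ⟨h1 hx e, e', hco _ (by simp) _ hx⟩
  obtain ⟨O, hO, k1, k2, k3, k4, k5⟩ := exists_octad hD hB (hmem a (by simp))
    (h1 (x := b) (by simp) (Ne.symm nab)) (h2 (x := c) (by simp) (Ne.symm nac) (Ne.symm nbc))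
    (⟨h2 (by simp) (Ne.symm nap) (Ne.symm nbp), Ne.symm ncp, hco _ (by simp) _ (by simp)⟩ :
      p ∈ dperp (dperp (dperp D a) b) c)
    (⟨⟨h2 (by simp) (Ne.symm naq) (Ne.symm nbq), Ne.symm ncq, hco _ (by simp) _ (by simp)⟩,
      Ne.symm npq, hco _ (by simp) _ (by simp)⟩ : q ∈ dperp (dperp (dperp (dperp D a) b) c) p)
  refine ⟨O, hO, fun x hx => ?_⟩
  simp only [List.mem_cons, List.not_mem_nil, or_false] at hx
  rcases hx with rfl | rfl | rfl | rfl | rfl <;> assumption

include hZ

/-- Five members of an octad multiply to a product of some of the other three. -/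
theorem octad_five_prod {O : Set G} (hO : IsOctad D O) {a b c : G} (ha : a ∈ O) (hb : b ∈ O)
    (hc : c ∈ O) (nab : a ≠ b) (nac : a ≠ c) (nbc : b ≠ c) :
    ∃ l₅ : List G, (a :: b :: c :: l₅).Nodup ∧ (∀ x ∈ l₅, x ∈ O) ∧ l₅.length = 5 ∧
      ∃ t : List G, t.Sublist [a, b, c] ∧ l₅.prod = t.prod := by
  classical
  have hT := hD.1
  have hb' : b ∈ dperp D a := ⟨hO.sub hb, Ne.symm nab, hO.comm _ ha _ hb⟩
  have hc' : c ∈ dperp (dperp D a) b :=
    ⟨⟨hO.sub hc, Ne.symm nac, hO.comm _ ha _ hc⟩, Ne.symm nbc, hO.comm _ hb _ hc⟩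
  set S := dperp (dperp (dperp D a) b) c
  have hS := layer693 hD hB (hO.sub ha) hb' hc'
  have hsub : ∀ {y}, y ∈ O \ {a, b, c} → y ∈ S := fun {y} hy => by
    obtain ⟨hyO, hy'⟩ := hy
    simp only [Set.mem_insert_iff, Set.mem_singleton_iff, not_or] at hy'
    exact ⟨⟨⟨hO.sub hyO, hy'.1, hO.comm _ ha _ hyO⟩, hy'.2.1, hO.comm _ hb _ hyO⟩, hy'.2.2,
      hO.comm _ hc _ hyO⟩
  have h5 : (O \ {a, b, c}).ncard = 5 := by
    rw [Set.ncard_sdiff (by rintro x (rfl | rfl | rfl) <;> assumption) (Set.toFinite _), hO.card,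
      Set.ncard_eq_three.2 ⟨a, b, c, nab, nac, nbc, rfl⟩]
  obtain ⟨p, hp⟩ : (O \ {a, b, c}).Nonempty := Set.nonempty_of_ncard_ne_zero (by omega)
  obtain ⟨q, hq, hqp⟩ : ∃ q ∈ O \ {a, b, c}, q ≠ p :=
    Set.exists_ne_of_one_lt_ncard (by omega) p
  have hq' : q ∈ dperp S p := ⟨hsub hq, hqp, hO.comm _ hp.1 _ hq.1⟩
  obtain ⟨x₁, x₂, x₃, hl, hw⟩ := hS.prod p (hsub hp) q hq'
  -- the line is the rest of the octad
  have hline : O \ {a, b, c} = ln S p q := by
    refine Set.eq_of_subset_of_ncard_le (fun y hy => ⟨hsub hy, fun v hv k1 k2 => ?_⟩)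
      (by rw [h5, hS.lines.five p (hsub hp) q hq']) (Set.toFinite _)
    have hF : ({a, b, c, p, q} : Set G) ⊆ O := by
      rintro y (rfl | rfl | rfl | rfl | rfl)
      exacts [ha, hb, hc, hp.1, hq.1]
    have hF5 : ({a, b, c, p, q} : Set G).ncard = 5 := by
      have hp' := hsub hp
      have hq'' := hsub hq
      rw [Set.ncard_insert_of_notMem, Set.ncard_insert_of_notMem, Set.ncard_insert_of_notMem,
        Set.ncard_pair hqp.symm] <;>
        simp [nab, nac, nbc, hp'.1.1.2.1.symm, hp'.1.2.1.symm, hp'.2.1.symm, hq''.1.1.2.1.symm,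
          hq''.1.2.1.symm, hq''.2.1.symm]
    refine hO.closed _ hF hF5 v hv.1.1.1 ?_ y hy.1
    rintro z (rfl | rfl | rfl | rfl | rfl)
    exacts [hv.1.1.2.2.symm, hv.1.2.2.symm, hv.2.2.symm, k1, k2]
  have hlO : ∀ x ∈ [p, q, x₁, x₂, x₃], x ∈ O \ {a, b, c} := fun x hx => by
    rw [hline, hl]
    simpa using hx
  have hnd5 : [p, q, x₁, x₂, x₃].Nodup := by
    have hset : (([p, q, x₁, x₂, x₃] : List G).toFinset : Set G) = O \ {a, b, c} := by
      rw [hline, hl]
      ext x
      simp
    have := congrArg Set.ncard hset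
    rw [Set.ncard_coe_finset, h5] at this
    rw [← List.dedup_eq_self]
    refine (List.dedup_sublist _).eq_of_length ?_
    rw [← List.card_toFinset, this]
    rfl
  have hcm : ∀ x ∈ [p, q, x₁, x₂, x₃], ∀ y ∈ [p, q, x₁, x₂, x₃], Commute x y := fun x hx y hy =>
    hO.comm _ (hlO x hx).1 _ (hlO y hy).1
  refine ⟨[p, q, x₁, x₂, x₃], ?_, fun x hx => (hlO x hx).1, rfl, ?_⟩
  · refine List.nodup_cons.2 ⟨?_, List.nodup_cons.2 ⟨?_, List.nodup_cons.2 ⟨?_, hnd5⟩⟩⟩
    · simp only [List.mem_cons]
      rintro (h | h | h)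
      exacts [nab h, nac h, (hlO a (by simpa using h)).2 (by simp)]
    · simp only [List.mem_cons]
      rintro (h | h)
      exacts [nbc h, (hlO b (by simpa using h)).2 (by simp)]
    · exact fun h => (hlO c h).2 (by simp)
  set g := [p, q, x₁, x₂, x₃].prod with hg
  have hself : ∀ x ∈ [p, q, x₁, x₂, x₃], x * x = 1 := fun x hx => mul_self hT (hO.sub (hlO x hx).1)
  have hrev : [p, q, x₁, x₂, x₃].reverse.prod = g :=
    prod_perm_of_comm (fun x hx y hy => hcm x (List.mem_reverse.1 hx) y (List.mem_reverse.1 hy))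
      (List.reverse_perm _)
  have hgg : g * g = 1 := by
    conv_lhs => arg 2; rw [← hrev]
    simp only [hg, List.reverse_cons, List.reverse_nil, List.nil_append, List.cons_append,
      List.prod_cons, List.prod_nil, mul_one, mul_assoc]
    simp only [List.mem_cons, List.not_mem_nil, or_false, forall_eq_or_imp, forall_eq] at hself
    obtain ⟨e1, e2, e3, e4, e5⟩ := hself
    rw [← mul_assoc x₃ x₃, e5, one_mul, ← mul_assoc x₂ x₂, e4, one_mul, ← mul_assoc x₁ x₁, e3,
      one_mul, ← mul_assoc q q, e2, one_mul, e1]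
  have hcom : ∀ y ∈ O, Commute g y := fun y hy =>
    (Commute.list_prod_right _ y fun x hx => hO.comm _ hy _ (hlO x hx).1).symm
  have hgS : ∀ w ∈ S, Commute g w := fun w hw' => by
    have h := hw w hw'
    have e : g * w * g = w := by
      conv_lhs => arg 2; rw [← hrev]
      simpa [hg, mul_assoc] using h
    show g * w = w * g
    calc g * w = g * w * (g * g) := by rw [hgg, mul_one]
      _ = w * g := by rw [← mul_assoc, e]
  exact eq_sub_product hD hZ hB (hO.sub ha) hb' hc' hgg (hcom _ ha) (hcom _ hb) (hcom _ hc) hgS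

/-- The product of an octad is 1. -/
theorem octad_prod {O : Set G} (hO : IsOctad D O) {l : List G} (hnd : l.Nodup) (hlen : l.length = 8)
    (hl : ∀ x ∈ l, x ∈ O) : l.prod = 1 := by
  classical
  have hT := hD.1
  match l, hlen with
  | [a, b, c, p, q, r, x, y], _ =>
  have hm : ∀ {z}, z ∈ [a, b, c, p, q, r, x, y] → z ∈ O := fun hz => hl _ hz
  simp only [List.nodup_cons, List.mem_cons, List.not_mem_nil, or_false, not_or, List.nodup_nil,
    not_false_iff, and_true] at hnd
  have hcomm : ∀ (m : List G), (∀ z ∈ m, z ∈ O) → ∀ z ∈ m, ∀ w ∈ m, Commute z w := fun m hm z hz w hw =>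
    hO.comm _ (hm z hz) _ (hm w hw)
  -- the product equals a product of part of any triple
  have key : ∀ {a' b' c' : G}, a' ∈ O → b' ∈ O → c' ∈ O → a' ≠ b' → a' ≠ c' → b' ≠ c' →
      ∃ t : List G, t.Sublist [a', b', c'] ∧ [a, b, c, p, q, r, x, y].prod = t.prod := by
    intro a' b' c' ha' hb' hc' n1 n2 n3
    obtain ⟨l₅, hnd₅, hlO, hlen₅, t, ht, hprod⟩ := octad_five_prod hD hZ hB hO ha' hb' hc' n1 n2 n3
    have hsubO : ∀ z ∈ a' :: b' :: c' :: l₅, z ∈ O := by
      simp only [List.mem_cons]
      rintro z (rfl | rfl | rfl | h)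
      exacts [ha', hb', hc', hlO z h]
    have hperm : [a, b, c, p, q, r, x, y].Perm (a' :: b' :: c' :: l₅) := by
      rw [List.perm_ext_iff_of_nodup (by simp [hnd]) hnd₅]
      have e : ∀ m : List G, m.Nodup → m.length = 8 → (∀ z ∈ m, z ∈ O) → ∀ z, z ∈ m ↔ z ∈ O := by
        intro m h1 h2 h3 z
        refine ⟨h3 z, fun hz => ?_⟩
        have hE : (m.toFinset : Set G) = O := Set.eq_of_subset_of_ncard_le
          (fun w hw => h3 w (List.mem_toFinset.1 hw))
          (by rw [Set.ncard_coe_finset, List.toFinset_card_of_nodup h1, h2, hO.card]) (Set.toFinite _)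
        rw [← hE] at hz
        exact List.mem_toFinset.1 hz
      intro z
      rw [e _ (by simp [hnd]) rfl hl z, e _ hnd₅ (by simp [hlen₅]) hsubO z]
    rw [prod_perm_of_comm (hcomm _ hl) hperm]
    have hh : ([a', b', c'] ++ t).prod = (a' :: b' :: c' :: l₅).prod := by
      simp [List.prod_append, hprod, mul_assoc]
    rw [← hh]
    -- cancel the repeated members
    have ea := mul_self hT (hO.sub ha')
    have eb := mul_self hT (hO.sub hb')
    have ec := mul_self hT (hO.sub hc')
    have cab := hO.comm _ ha' _ hb'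
    have cac := hO.comm _ ha' _ hc'
    have cbc := hO.comm _ hb' _ hc'
    have ht' : t ∈ [a', b', c'].sublists := List.mem_sublists.2 ht
    rw [show [a', b', c'].sublists = [[], [a'], [b'], [a', b'], [c'], [a', c'], [b', c'], [a', b', c']]
      from rfl] at ht'
    simp only [List.mem_cons, List.not_mem_nil, or_false] at ht'
    have d0 : a' * (b' * (c' * (a' * (b' * c')))) = 1 := by
      rw [← mul_assoc c' a', cac.symm.eq, mul_assoc, ← mul_assoc b' a', cab.symm.eq, mul_assoc,
        mul_self_mul hT (hO.sub ha'), ← mul_assoc c' b', cbc.symm.eq, mul_assoc, ec, mul_one, eb]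
    rcases ht' with rfl | rfl | rfl | rfl | rfl | rfl | rfl | rfl
    · exact ⟨[a', b', c'], List.Sublist.refl _, by simp⟩
    · refine ⟨[b', c'], by simp, ?_⟩
      simp only [List.cons_append, List.nil_append, List.prod_cons, List.prod_nil, mul_one]
      rw [cac.symm.eq, ← mul_assoc b' a', cab.symm.eq, mul_assoc, mul_self_mul hT (hO.sub ha')]
    · refine ⟨[a', c'], by simp, ?_⟩
      simp only [List.cons_append, List.nil_append, List.prod_cons, List.prod_nil, mul_one]
      rw [cbc.symm.eq, mul_self_mul hT (hO.sub hb')]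
    · refine ⟨[c'], by simp, ?_⟩
      simp only [List.cons_append, List.nil_append, List.prod_cons, List.prod_nil, mul_one]
      conv_rhs => rw [← mul_one c', ← ec, ← mul_assoc, ec, one_mul]
      rw [← mul_assoc c' a', cac.symm.eq, mul_assoc, ← mul_assoc b' a', cab.symm.eq, mul_assoc,
        mul_self_mul hT (hO.sub ha'), cbc.symm.eq, mul_self_mul hT (hO.sub hb')]
    · exact ⟨[a', b'], by simp, by simp [ec]⟩
    · refine ⟨[b'], by simp, ?_⟩
      simp only [List.cons_append, List.nil_append, List.prod_cons, List.prod_nil, mul_one]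
      rw [← mul_assoc c' a', cac.symm.eq, mul_assoc, ec, mul_one, cab.symm.eq, mul_self_mul hT (hO.sub ha')]
    · refine ⟨[a'], by simp, ?_⟩
      simp only [List.cons_append, List.nil_append, List.prod_cons, List.prod_nil, mul_one]
      rw [← mul_assoc c' b', cbc.symm.eq, mul_assoc, ec, mul_one, eb, mul_one]
    · refine ⟨[], by simp, ?_⟩
      simp only [List.cons_append, List.nil_append, List.prod_cons, List.prod_nil, mul_one]
      exact d0
  obtain ⟨⟨nab, nac, nap, naq, nar, -⟩, ⟨nbc, nbp, nbq, nbr, -⟩, ⟨ncp, ncq, ncr, -⟩,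
    ⟨npq, npr, -⟩, ⟨nqr, -⟩, -⟩ := hnd
  obtain ⟨t, ht, hP⟩ := key (hm (z := a) (by simp)) (hm (z := b) (by simp)) (hm (z := c) (by simp))
    nab nac nbc
  obtain ⟨s, hs, hP'⟩ := key (hm (z := p) (by simp)) (hm (z := q) (by simp)) (hm (z := r) (by simp))
    npq npr nqr
  rw [hP]
  by_contra hne
  have htne : t ≠ [] := fun h => hne (by rw [h, List.prod_nil])
  obtain ⟨o, ho⟩ := List.exists_mem_of_ne_nil t htne
  have hoabc := ht.subset ho
  -- a member commuting with the second triple and moving `o`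
  have hp' : p ∈ D := hO.sub (hm (by simp))
  have hqp : q ∈ dperp D p := ⟨hO.sub (hm (by simp)), Ne.symm npq, hO.comm _ (hm (by simp)) _ (hm (by simp))⟩
  have hrq : r ∈ dperp (dperp D p) q := ⟨⟨hO.sub (hm (by simp)), Ne.symm npr,
    hO.comm _ (hm (by simp)) _ (hm (by simp))⟩, Ne.symm nqr, hO.comm _ (hm (by simp)) _ (hm (by simp))⟩
  have hSp := layer693 hD hB hp' hqp hrq
  set S := dperp (dperp (dperp D p) q) r
  have hoO : o ∈ O := by
    simp only [List.mem_cons, List.not_mem_nil, or_false] at hoabc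
    rcases hoabc with rfl | rfl | rfl <;> exact hm (by simp)
  have hoS : o ∈ S := by
    have h1 : o ≠ p ∧ o ≠ q ∧ o ≠ r := by
      simp only [List.mem_cons, List.not_mem_nil, or_false] at hoabc
      rcases hoabc with rfl | rfl | rfl
      exacts [⟨nap, naq, nar⟩, ⟨nbp, nbq, nbr⟩, ⟨ncp, ncq, ncr⟩]
    exact ⟨⟨⟨hO.sub hoO, h1.1, hO.comm _ (hm (by simp)) _ hoO⟩, h1.2.1,
      hO.comm _ (hm (by simp)) _ hoO⟩, h1.2.2, hO.comm _ (hm (by simp)) _ hoO⟩
  obtain ⟨v, hv, hvo⟩ : ∃ v ∈ S, ¬ Commute v o := by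
    by_contra hcon
    push Not at hcon
    have h := Set.ncard_le_ncard (show S ⊆ insert o (dperp S o) from fun v hv => by
      rcases eq_or_ne v o with rfl | hne
      · exact Set.mem_insert _ _
      · exact Set.mem_insert_of_mem _ ⟨hv, hne, (hcon v hv).symm⟩) (Set.toFinite _)
    have h' := Set.ncard_insert_le o (dperp S o)
    rw [hSp.card] at h
    rw [hSp.card1 o hoS] at h'
    omega
  have hvs : Commute v s.prod := Commute.list_prod_right _ v fun z hz => by
    have := hs.subset hz
    simp only [List.mem_cons, List.not_mem_nil, or_false] at this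
    rcases this with rfl | rfl | rfl
    exacts [hv.1.1.2.2.symm, hv.1.2.2.symm, hv.2.2.symm]
  have hvt : Commute v t.prod := by rw [← hP, hP']; exact hvs
  have hab := hO.comm _ (hm (z := a) (by simp)) _ (hm (z := b) (by simp))
  have hac := hO.comm _ (hm (z := a) (by simp)) _ (hm (z := c) (by simp))
  have hbc := hO.comm _ (hm (z := b) (by simp)) _ (hm (z := c) (by simp))
  have haD := hO.sub (hm (z := a) (by simp))
  have hbD := hO.sub (hm (z := b) (by simp))
  have hcD := hO.sub (hm (z := c) (by simp))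
  have hvD : v ∈ D := hv.1.1.1
  have ht' : t ∈ [a, b, c].sublists := List.mem_sublists.2 ht
  rw [show [a, b, c].sublists = [[], [a], [b], [a, b], [c], [a, c], [b, c], [a, b, c]] from rfl] at ht'
  simp only [List.mem_cons, List.not_mem_nil, or_false] at ht'
  rcases ht' with rfl | rfl | rfl | rfl | rfl | rfl | rfl | rfl <;>
    simp only [List.mem_cons, List.not_mem_nil, or_false] at ho <;>
    simp only [List.prod_cons, List.prod_nil, mul_one] at hvt
  · subst ho; exact hvo hvt
  · subst ho; exact hvo hvt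
  · obtain ⟨k1, k2⟩ := (commute_pair_iff hT haD hbD hvD hab nab).1 hvt
    rcases ho with rfl | rfl
    exacts [hvo k1, hvo k2]
  · subst ho; exact hvo hvt
  · obtain ⟨k1, k2⟩ := (commute_pair_iff hT haD hcD hvD hac nac).1 hvt
    rcases ho with rfl | rfl
    exacts [hvo k1, hvo k2]
  · obtain ⟨k1, k2⟩ := (commute_pair_iff hT hbD hcD hvD hbc nbc).1 hvt
    rcases ho with rfl | rfl
    exacts [hvo k1, hvo k2]
  · rw [← mul_assoc] at hvt
    obtain ⟨k1, k2, k3⟩ := (commute_triple_iff hT haD hbD hcD hvD hab hac hbc nab nac nbc).1 hvt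
    rcases ho with rfl | rfl | rfl
    exacts [hvo k1, hvo k2, hvo k3]

/-- Five members of an octad can be replaced in a product by the other three. -/
theorem five_to_three {a b c p q : G} (hnd : [a, b, c, p, q].Nodup)
    (hmem : ∀ x ∈ [a, b, c, p, q], x ∈ D)
    (hco : ∀ x ∈ [a, b, c, p, q], ∀ y ∈ [a, b, c, p, q], Commute x y) :
    ∃ O, IsOctad D O ∧ (∀ x ∈ [a, b, c, p, q], x ∈ O) ∧ ∃ r x y : G,
      r ∈ O ∧ x ∈ O ∧ y ∈ O ∧ [a, b, c, p, q, r, x, y].Nodup ∧
      [a, b, c, p, q].prod = r * x * y := by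
  classical
  obtain ⟨O, hO, hin⟩ := exists_octad_five hD hB hnd hmem hco
  have hc : (([a, b, c, p, q].toFinset : Finset G) : Set G).ncard = 5 := by
    rw [Set.ncard_coe_finset, List.toFinset_card_of_nodup hnd]; rfl
  have h3 : (O \ ([a, b, c, p, q].toFinset : Set G)).ncard = 3 := by
    rw [Set.ncard_sdiff (fun z hz => hin z (List.mem_toFinset.1 hz)) (Set.toFinite _), hO.card, hc]
  obtain ⟨r, x, y, nrx, nry, nxy, he⟩ := Set.ncard_eq_three.1 h3
  have hm : ∀ z ∈ ({r, x, y} : Set G), z ∈ O ∧ z ∉ [a, b, c, p, q] := fun z hz => by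
    rw [← he] at hz
    exact ⟨hz.1, fun h => hz.2 (List.mem_toFinset.2 h)⟩
  have hr := hm r (by simp)
  have hx := hm x (by simp)
  have hy := hm y (by simp)
  have hnd8 : ([a, b, c, p, q] ++ [r, x, y]).Nodup := by
    rw [List.nodup_append]
    refine ⟨hnd, by simp [nrx, nry, nxy], fun z hz w hw e => ?_⟩
    simp only [List.mem_cons, List.not_mem_nil, or_false] at hw
    subst e
    rcases hw with rfl | rfl | rfl
    exacts [hr.2 hz, hx.2 hz, hy.2 hz]
  refine ⟨O, hO, hin, r, x, y, hr.1, hx.1, hy.1, hnd8, ?_⟩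
  have h1 : ([a, b, c, p, q] ++ [r, x, y]).prod = 1 := by
    refine octad_prod hD hZ hB hO hnd8 rfl fun z hz => ?_
    rcases List.mem_append.1 hz with h | h
    · exact hin z h
    · simp only [List.mem_cons, List.not_mem_nil, or_false] at h
      rcases h with rfl | rfl | rfl
      exacts [hr.1, hx.1, hy.1]
  rw [List.prod_append] at h1
  rw [eq_inv_of_mul_eq_one_left h1]
  simp only [List.prod_cons, List.prod_nil, mul_one, mul_inv_rev, inv_eq hD.1 (hO.sub hr.1),
    inv_eq hD.1 (hO.sub hx.1), inv_eq hD.1 (hO.sub hy.1)]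
  rw [(hO.comm _ hy.1 _ hx.1).eq, mul_assoc, (hO.comm _ hy.1 _ hr.1).eq, ← mul_assoc,
    (hO.comm _ hx.1 _ hr.1).eq]

/-- A product of an odd number of pairwise commuting members is not 1. -/
theorem no_odd_rel : ∀ l : List G, (∀ x ∈ l, x ∈ D) → (∀ x ∈ l, ∀ y ∈ l, Commute x y) →
    Odd l.length → l.prod ≠ 1 := by
  classical
  intro l
  induction hn : l.length using Nat.strong_induction_on generalizing l with
  | _ n ih =>
  intro hmem hco hodd h1
  subst hn
  by_cases hnd : l.Nodup
  · match l, hodd with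
    | [], h => simp at h
    | [a], _ => exact ne_one hD.1 (hmem a (by simp)) (by simpa using h1)
    | [_, _], h => simp [Nat.odd_iff] at h
    | [a, b, c], _ =>
      simp only [List.prod_cons, List.prod_nil, mul_one] at h1
      have hne : a ≠ b := by simp at hnd; exact hnd.1.1
      have hcD := hmem c (by simp)
      have hab : c = a * b := by
        rw [← mul_assoc] at h1
        rw [eq_inv_of_mul_eq_one_left h1, inv_eq hD.1 hcD]
      have hac : a ≠ c := by simp at hnd; exact hnd.1.2
      refine hac (hB.noTwins a (hmem a (by simp)) c hcD fun v hv => ?_)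
      have hcb := hco c (by simp) b (by simp)
      have hbD := hmem b (by simp)
      have hca : a = c * b := by rw [hab, mul_assoc, mul_self hD.1 hbD, mul_one]
      have hcbne : c ≠ b := by simp at hnd; exact Ne.symm hnd.2
      refine ⟨fun h => ?_, fun h => ?_⟩
      · rw [hca] at h
        exact (((commute_pair_iff hD.1 hcD hbD hv hcb hcbne).1 h.symm).1).symm
      · rw [hab] at h
        exact (((commute_pair_iff hD.1 (hmem a (by simp)) hbD hv (hco a (by simp) b (by simp)) hne).1
          h.symm).1).symm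
    | [_, _, _, _], h => simp [Nat.odd_iff] at h
    | a :: b :: c :: p :: q :: rest, hodd =>
      have hsub : ∀ z ∈ [a, b, c, p, q], z ∈ a :: b :: c :: p :: q :: rest := fun z hz => by
        simp only [List.mem_cons, List.not_mem_nil, or_false] at hz ⊢
        tauto
      have hnd5 : [a, b, c, p, q].Nodup := (List.nodup_append.1
        (show ([a, b, c, p, q] ++ rest).Nodup from hnd)).1
      obtain ⟨O, hO, hin, r, x, y, hr, hx, hy, -, hprod⟩ := five_to_three hD hZ hB hnd5
        (fun z hz => hmem z (hsub z hz)) fun z hz w hw => hco z (hsub z hz) w (hsub w hw)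
      have hrest : ∀ z ∈ rest, z ∈ a :: b :: c :: p :: q :: rest := fun z hz => by simp [hz]
      have hfive : ((([a, b, c, p, q] : List G).toFinset : Finset G) : Set G).ncard = 5 := by
        rw [Set.ncard_coe_finset, List.toFinset_card_of_nodup hnd5]; rfl
      have hcross : ∀ z ∈ rest, ∀ w ∈ O, Commute z w := fun z hz w hw =>
        hO.closed _ (fun u hu => hin u (List.mem_toFinset.1 hu)) hfive z (hmem z (hrest z hz))
          (fun u hu => hco z (hrest z hz) u (hsub u (List.mem_toFinset.1 hu))) w hw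
      refine ih _ (by simp) (r :: x :: y :: rest) rfl ?_ ?_ ?_ ?_
      · simp only [List.mem_cons]
        rintro z (rfl | rfl | rfl | h)
        exacts [hO.sub hr, hO.sub hx, hO.sub hy, hmem z (hrest z h)]
      · have hcase : ∀ {z}, z ∈ r :: x :: y :: rest → z ∈ O ∨ z ∈ rest := fun {z} hz => by
          simp only [List.mem_cons] at hz
          rcases hz with rfl | rfl | rfl | h
          exacts [Or.inl hr, Or.inl hx, Or.inl hy, Or.inr h]
        intro z hz w hw
        rcases hcase hz with hz | hz <;> rcases hcase hw with hw | hw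
        exacts [hO.comm _ hz _ hw, (hcross w hw z hz).symm, hcross z hz w hw,
          hco z (hrest z hz) w (hrest w hw)]
      · simpa [Nat.odd_add, parity_simps] using hodd
      · rw [show a :: b :: c :: p :: q :: rest = [a, b, c, p, q] ++ rest from rfl, List.prod_append,
          hprod] at h1
        simpa [mul_assoc] using h1
  · obtain ⟨z, hz⟩ := List.exists_duplicate_iff_not_nodup.2 hnd
    have hperm : l.Perm (z :: z :: (l.erase z).erase z) := by
      have h2 : z ∈ l.erase z := by
        rw [List.duplicate_iff_two_le_count] at hz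
        rw [← List.count_pos_iff, List.count_erase_self]
        omega
      exact (List.perm_cons_erase hz.mem).trans ((List.perm_cons_erase h2).cons z)
    have hin : ∀ w ∈ (l.erase z).erase z, w ∈ l := fun w hw => hperm.mem_iff.2 (by simp [hw])
    have hlen := hperm.length_eq
    simp only [List.length_cons] at hlen
    refine ih _ (by omega) ((l.erase z).erase z) rfl (fun w hw => hmem w (hin w hw))
      (fun w hw v hv => hco w (hin w hw) v (hin v hv)) ?_ ?_
    · rw [hlen] at hodd
      rw [Nat.odd_iff] at hodd ⊢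
      omega
    · rw [prod_perm_of_comm hco hperm, List.prod_cons, List.prod_cons,
        mul_self_mul hD.1 (hmem z hz.mem)] at h1
      exact h1

/-- Four members have no product 1. -/
theorem no_four_rel {a b c e : G} (hnd : [a, b, c, e].Nodup) (hmem : ∀ x ∈ [a, b, c, e], x ∈ D)
    (hco : ∀ x ∈ [a, b, c, e], ∀ y ∈ [a, b, c, e], Commute x y) : [a, b, c, e].prod ≠ 1 := by
  intro h
  simp only [List.prod_cons, List.prod_nil, mul_one, ← mul_assoc] at h
  have h' := eq_inv_of_mul_eq_one_left h
  rw [inv_eq hD.1 (hmem e (by simp))] at h'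
  simp only [List.nodup_cons, List.mem_cons, List.not_mem_nil, or_false, not_or] at hnd
  exact triple_ne_member24 hD hB (hmem a (by simp)) (hmem b (by simp)) (hmem c (by simp))
    (hmem e (by simp)) (hco a (by simp) b (by simp)) (hco a (by simp) c (by simp))
    (hco b (by simp) c (by simp)) hnd.1.1 hnd.1.2.1 hnd.2.1.1 h'

end Cfsg.Agent.ThreeTrans
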