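import Cfsg.Agent.ThreeTrans.PartsM24
import Cfsg.Agent.ThreeTrans.DoubleSwapLift

/-!
# Type M(24): the members are odd

A group of type M(24) has a homomorphism to the group of order two that is non-trivial on every
member.  A subgroup of index twice an odd number without members is found inside the stabiliser of
an octad and of one of the three bases through it.
-/

set_option autoImplicit false

open Cfsg Equiv

namespace Cfsg.Agent.ThreeTrans

universe u

/-- An involution without fixed points on a set of size twice an odd number is odd. -/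
theorem sign_neg_one_of_free {α : Type*} [DecidableEq α] [Fintype α] {σ : Perm α} (h2 : σ ^ 2 = 1)
    (hfree : ∀ x, σ x ≠ x) (h4 : ¬ 4 ∣ Fintype.card α) :
    Perm.sign σ = -1 ∧ 2 ∣ Fintype.card α := by
  have hsupp : σ.support = Finset.univ := Finset.eq_univ_of_forall fun x => Perm.mem_support.2 (hfree x)
  have hdvd : 2 ∣ Fintype.card α := by
    have : Fact (Nat.Prime 2) := ⟨Nat.prime_two⟩
    have h := Perm.card_compl_support_modEq (p := 2) (n := 1) (σ := σ) (by rw [pow_one]; exact h2)
    rw [hsupp, Finset.compl_univ, Finset.card_empty] at h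
    exact Nat.dvd_of_mod_eq_zero h.symm
  refine ⟨?_, hdvd⟩
  rw [Perm.sign_of_pow_two_eq_one h2]
  have : Fintype.card (Function.fixedPoints σ) = 0 :=
    Fintype.card_eq_zero_iff.2 ⟨fun x => hfree x x.2⟩
  rw [this, Nat.sub_zero]
  refine Odd.neg_one_pow ?_
  rw [Nat.odd_iff]
  omega

section Stab

variable {G : Type u} [Group G]

/-- The elements conjugating a set onto itself. -/
def setStab (S : Set G) : Subgroup G where
  carrier := {g | (fun x => g * x * g⁻¹) '' S = S}
  one_mem' := by simp
  mul_mem' {g h} hg hh := by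
    show (fun x => g * h * x * (g * h)⁻¹) '' S = S
    rw [show (fun x => g * h * x * (g * h)⁻¹) = (fun x => g * x * g⁻¹) ∘ fun x => h * x * h⁻¹ from
      funext fun x => by simp [mul_assoc], Set.image_comp, hh, hg]
  inv_mem' {g} hg := by
    show (fun x => g⁻¹ * x * g⁻¹⁻¹) '' S = S
    conv_lhs => rw [← show (fun x => g * x * g⁻¹) '' S = S from hg]
    rw [← Set.image_comp, show ((fun x => g⁻¹ * x * g⁻¹⁻¹) ∘ fun x => g * x * g⁻¹) = id from
      funext fun x => by simp [mul_assoc], Set.image_id]

theorem mem_setStab [Finite G] {S : Set G} {g : G} :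
    g ∈ setStab S ↔ ∀ x ∈ S, g * x * g⁻¹ ∈ S := by
  refine ⟨fun h x hx => h ▸ ⟨x, hx, rfl⟩, fun h => ?_⟩
  refine Set.eq_of_subset_of_ncard_le (Set.image_subset_iff.2 h) ?_ (Set.toFinite _)
  rw [Set.ncard_image_of_injective _ fun p q e => mul_left_cancel (mul_right_cancel e)]

/-- The subgroup generated by the products of two elements of a set. -/
def pairSub (C : Set G) : Subgroup G := Subgroup.closure {g | ∃ x ∈ C, ∃ y ∈ C, g = x * y}

theorem pair_mem_pairSub {C : Set G} {x y : G} (hx : x ∈ C) (hy : y ∈ C) : x * y ∈ pairSub C :=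
  Subgroup.subset_closure ⟨x, hx, y, hy, rfl⟩

theorem exists_list_of_pairSub {C : Set G} (hC : ∀ x ∈ C, x * x = 1) {g : G} (hg : g ∈ pairSub C) :
    ∃ l : List G, (∀ x ∈ l, x ∈ C) ∧ Even l.length ∧ l.prod = g := by
  induction hg using Subgroup.closure_induction_left with
  | one => exact ⟨[], by simp, by simp, rfl⟩
  | mul_left x hx y _ ih =>
    obtain ⟨u, hu, v, hv, rfl⟩ := hx
    obtain ⟨l, hl, he, rfl⟩ := ih
    refine ⟨u :: v :: l, ?_, by simpa [parity_simps] using he, by simp [mul_assoc]⟩
    simp only [List.mem_cons]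
    rintro w (rfl | rfl | h)
    exacts [hu, hv, hl w h]
  | inv_mul_cancel x hx y _ ih =>
    obtain ⟨u, hu, v, hv, rfl⟩ := hx
    obtain ⟨l, hl, he, rfl⟩ := ih
    refine ⟨v :: u :: l, ?_, by simpa [parity_simps] using he, ?_⟩
    · simp only [List.mem_cons]
      rintro w (rfl | rfl | h)
      exacts [hv, hu, hl w h]
    · rw [List.prod_cons, List.prod_cons, mul_inv_rev, inv_eq_of_mul_eq_one_left (hC u hu),
        inv_eq_of_mul_eq_one_left (hC v hv), mul_assoc]

theorem pairSub_fixed {C : Set G} {g : G} (hg : g ∈ pairSub C) {x : G}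
    (h : ∀ c ∈ C, Commute c x) : Commute g x := by
  induction hg using Subgroup.closure_induction with
  | mem _ he => obtain ⟨u, hu, v, hv, rfl⟩ := he; exact (h u hu).mul_left (h v hv)
  | one => exact Commute.one_left _
  | mul _ _ _ _ h1 h2 => exact h1.mul_left h2
  | inv _ _ h1 => exact h1.inv_left

/-- Elements moving `x` differently lie in different cosets of a subgroup fixing `x`. -/
theorem card_moves_mul_le [Finite G] {H K : Subgroup G} (hHK : H ≤ K) {x : G}
    (hfix : ∀ k ∈ H, Commute k x) {ι : Type*} [Finite ι] (g : ι → G) (hg : ∀ i, g i ∈ K)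
    (hinj : Function.Injective fun i => g i * x * (g i)⁻¹) :
    Nat.card ι * Nat.card H ≤ Nat.card K := by
  rw [← Nat.card_prod]
  refine Nat.card_le_card_of_injective
    (fun p : ι × H => (⟨g p.1 * p.2, mul_mem (hg _) (hHK p.2.2)⟩ : K)) ?_
  rintro ⟨i, k⟩ ⟨j, k'⟩ e
  have e' : g i * (k : G) = g j * (k' : G) := congrArg Subtype.val e
  have hij : i = j := hinj (by
    have h1 : ∀ (i : ι) (k : H), g i * x * (g i)⁻¹ = g i * k * x * (g i * k)⁻¹ := fun i k => by
      rw [mul_inv_rev, mul_assoc (g i) (k : G), (hfix k k.2).eq]; group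
    show g i * x * (g i)⁻¹ = g j * x * (g j)⁻¹
    rw [h1 i k, h1 j k', e'])
  subst hij
  exact Prod.ext rfl (Subtype.ext (mul_left_cancel e'))

end Stab

/-- An octad with two classes of its common partners. -/
structure OctFrame {G : Type*} [Group G] (D O : Set G) (y z : G) : Prop where
  oct : IsOctad D O
  hy : y ∈ oPerp D O
  hz : z ∈ oPerp D O
  nc : ¬ Commute y z

/-- The class of a common partner. -/
def part {G : Type*} [Group G] (D O : Set G) (z : G) : Set G :=
  {v | v ∈ oPerp D O ∧ Commute v z}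

/-- The base of an octad and a class. -/
def baseSet {G : Type*} [Group G] (D O : Set G) (z : G) : Set G := O ∪ part D O z

/-- The even part of two bases. -/
def evenCore {G : Type*} [Group G] (D O : Set G) (y z : G) : Subgroup G :=
  pairSub (baseSet D O z) ⊔ pairSub (part D O y)

variable {G : Type u} [Group G] [Finite G] {D : Set G} {X : Type u} [Group X] [Finite X] {E : Set X}
  (hD : IsThreeTranspositionGroup D) (hZ : Subgroup.center G = ⊥) (hB : M24Base D E)

include hD hB

omit hZ in
theorem base_clique {O : Set G} (hO : IsOctad D O) {z : G} (hz : z ∈ oPerp D O) :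
    ∀ u ∈ baseSet D O z, u ∈ D ∧ ∀ v ∈ baseSet D O z, Commute u v := by
  rintro u (hu | hu)
  · refine ⟨hO.sub hu, fun v hv => ?_⟩
    rcases hv with hv | hv
    exacts [hO.comm _ hu _ hv, (hv.1.2.2 u hu).symm]
  · refine ⟨hu.1.1, fun v hv => ?_⟩
    rcases hv with hv | hv
    exacts [hu.1.2.2 v hv, oPerp_trans hD hB hO hu.1 hz hv.1 hu.2 hv.2.symm]

omit hZ in
/-- Conjugation by a common partner moves another one to a common partner. -/
theorem conj_oPerp {O : Set G} {x v : G} (hx : x ∈ oPerp D O) (hv : v ∈ oPerp D O) :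
    x * v * x ∈ oPerp D O := by
  refine ⟨by rw [conj_involution hD.1 hx.1]; exact hD.2.1 x v hv.1, fun h => hv.2.1 ?_,
    fun o ho => ((hx.2.2 o ho).mul_left (hv.2.2 o ho)).mul_left (hx.2.2 o ho)⟩
  have e := conj_self_of_commute hD.1 hx.1 (hx.2.2 _ h)
  rw [show x * (x * v * x) * x = v from conj_twice (mul_self hD.1 hx.1)] at e
  rw [e]; exact h

omit hZ in
/-- Two members of one class keep the other classes. -/
theorem conj_pair_part {O : Set G} {u v w : G} (hu : u ∈ oPerp D O) (hv : v ∈ oPerp D O)
    (hw : w ∈ oPerp D O) (huv : Commute u v) (h1 : ¬ Commute w u) (h2 : ¬ Commute w v) :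
    u * v * w * (u * v)⁻¹ ∈ oPerp D O ∧ Commute (u * v * w * (u * v)⁻¹) w := by
  have e : (u * v)⁻¹ = u * v := by
    rw [mul_inv_rev, inv_eq hD.1 hu.1, inv_eq hD.1 hv.1, huv.eq]
  have h' := commute_conj_pair hD.1 hu.1 hv.1 hw.1 huv h1 h2
  rw [e]
  refine ⟨?_, h'.symm⟩
  have := conj_oPerp hD hB hu (conj_oPerp hD hB hv hw)
  rwa [show u * (v * w * v) * u = u * v * w * (v * u) by simp only [mul_assoc], ← huv.eq] at this

omit hZ in
/-- The pairs of a class other than that of `z`. -/
theorem pair_mem_core {O : Set G} {y z u v : G} (F : OctFrame D O y z) (hu : u ∈ oPerp D O)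
    (hv : v ∈ oPerp D O) (huv : Commute u v) (hnu : ¬ Commute u z) :
    u * v ∈ evenCore D O y z := by
  have hO := F.oct
  have hT := hD.1
  have hnv : ¬ Commute v z := fun h => hnu (oPerp_trans hD hB hO hu hv F.hz huv h)
  by_cases huy : Commute u y
  · exact Subgroup.mem_sup_right (pair_mem_pairSub ⟨hu, huy⟩
      ⟨hv, oPerp_trans hD hB hO hv hu F.hy huv.symm huy⟩)
  have hzyz := conj_oPerp hD hB F.hz F.hy
  set w := z * y * z
  have hwz : ¬ Commute w z := fun h => F.nc (by
    have := (commute_conj z w z).2 h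
    rwa [← conj_involution hT F.hz.1, ← conj_involution hT F.hz.1,
      conj_twice (mul_self hT F.hz.1), mul_self hT F.hz.1, one_mul] at this)
  have hwy : ¬ Commute w y := fun h => commute_conj_mem hT F.hy.1 F.hz.1 F.nc h.symm
  have huw : Commute u w := by
    refine oPerp_three hD hB hO F.hy F.hz hu hzyz F.nc (fun h => huy h.symm) (fun h => hwy h.symm)
      (fun h => hnu h.symm) fun h => hwz h.symm
  have move : ∀ {x}, x ∈ oPerp D O → Commute x w → z * x * z ∈ part D O y := fun {x} hx hxw => by
    refine ⟨conj_oPerp hD hB F.hz hx, ?_⟩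
    have h := (commute_conj z x w).2 hxw
    rwa [← conj_involution hT F.hz.1, ← conj_involution hT F.hz.1,
      show z * w * z = y from conj_twice (mul_self hT F.hz.1)] at h
  have h1 := move hu huw
  have h2 := move hv (oPerp_trans hD hB hO hv hu hzyz huv.symm huw)
  set u' := z * u * z
  set v' := z * v * z
  have hb : u' * v' ∈ evenCore D O y z := Subgroup.mem_sup_right (pair_mem_pairSub h1 h2)
  have hc : Commute u' v' := oPerp_trans hD hB hO h1.1 F.hy h2.1 h1.2 h2.2.symm
  have hn : ∀ {x}, x ∈ part D O y → ¬ Commute z x := fun hx h =>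
    F.nc (oPerp_trans hD hB hO F.hy hx.1 F.hz hx.2.symm h.symm)
  have h3 := conj_pair_part hD hB h2.1 h1.1 F.hz hc.symm (hn h2) (hn h1)
  set z' := v' * u' * z * (v' * u')⁻¹
  have hz' : z' * z ∈ evenCore D O y z := Subgroup.mem_sup_left
    (pair_mem_pairSub (Or.inr ⟨h3.1, h3.2⟩) (Or.inr ⟨F.hz, Commute.refl z⟩))
  have e : u * v = u' * v' * (z' * z) := by
    have ea : u' * v' * (v' * u') = 1 := by
      rw [mul_assoc, mul_self_mul hT h2.1.1, mul_self hT h1.1.1]
    have eb : (v' * u')⁻¹ = u' * v' := by rw [mul_inv_rev, inv_eq hT h1.1.1, inv_eq hT h2.1.1]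
    calc u * v = z * (u' * v') * z := by
          simp only [u', v', mul_assoc, mul_self_mul hT F.hz.1, mul_self hT F.hz.1, mul_one]
      _ = u' * v' * (v' * u') * (z * (u' * v') * z) := by rw [ea, one_mul]
      _ = u' * v' * (z' * z) := by simp only [z', eb, mul_assoc]
  rw [e]
  exact mul_mem hb hz'

omit hZ in
/-- The stabiliser of the octad and a base normalises the even part. -/
theorem core_normalised {O : Set G} {y z g : G} (F : OctFrame D O y z) (hgO : g ∈ setStab O)
    (hg : g ∈ setStab (baseSet D O z)) {a : G} (ha : a ∈ evenCore D O y z) :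
    g * a * g⁻¹ ∈ evenCore D O y z := by
  have hgp : ∀ v ∈ oPerp D O, g * v * g⁻¹ ∈ oPerp D O := by
    intro v hv
    refine ⟨hD.2.1 g v hv.1, fun h => hv.2.1 ?_, fun o ho => ?_⟩
    · have := mem_setStab.1 (inv_mem hgO) _ h
      simpa [mul_assoc] using this
    · have h' := mem_setStab.1 (inv_mem hgO) o ho
      have := (commute_conj g v _).2 (hv.2.2 _ h')
      simpa [mul_assoc] using this
  suffices evenCore D O y z ≤ (evenCore D O y z).comap (MulAut.conj g).toMonoidHom from this ha
  refine sup_le ?_ ?_ <;> rw [pairSub, Subgroup.closure_le] <;> rintro - ⟨u, hu, v, hv, rfl⟩ <;>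
    simp only [SetLike.mem_coe, Subgroup.mem_comap, MulEquiv.coe_toMonoidHom, MulAut.conj_apply] <;>
    rw [show g * (u * v) * g⁻¹ = g * u * g⁻¹ * (g * v * g⁻¹) by group]
  · exact Subgroup.mem_sup_left (pair_mem_pairSub (mem_setStab.1 hg u hu) (mem_setStab.1 hg v hv))
  · refine pair_mem_core hD hB F (hgp u hu.1) (hgp v hv.1)
      ((commute_conj g u v).2 (oPerp_trans hD hB F.oct hu.1 F.hy hv.1 hu.2 hv.2.symm)) fun h => ?_
    have h' := (commute_conj g⁻¹ _ _).2 h
    have hzm : g⁻¹ * z * g⁻¹⁻¹ ∈ baseSet D O z :=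
      mem_setStab.1 (inv_mem hg) z (Or.inr ⟨F.hz, Commute.refl z⟩)
    simp only [inv_inv, show g⁻¹ * (g * u * g⁻¹) * g = u by group] at h' hzm
    rcases hzm with hzm | hzm
    · exact F.hz.2.1 (by
        have := mem_setStab.1 hgO _ hzm
        simpa [mul_assoc] using this)
    · exact F.nc (oPerp_trans hD hB F.oct F.hy hu.1 F.hz hu.2.symm
        (oPerp_trans hD hB F.oct hu.1 hzm.1 F.hz h' hzm.2))

omit hZ in
/-- The class of the first partner stabilises the base of the second. -/
theorem part_le_stab {O : Set G} {y z : G} (F : OctFrame D O y z) :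
    pairSub (part D O y) ≤ setStab O ⊓ setStab (baseSet D O z) := by
  rw [pairSub, Subgroup.closure_le]
  rintro - ⟨u, hu, v, hv, rfl⟩
  have hO := F.oct
  have huv := oPerp_trans hD hB hO hu.1 F.hy hv.1 hu.2 hv.2.symm
  have hfix : ∀ o ∈ O, u * v * o * (u * v)⁻¹ = o := fun o ho => by
    rw [((hu.1.2.2 o ho).mul_left (hv.1.2.2 o ho)).eq, mul_inv_cancel_right]
  refine ⟨mem_setStab.2 fun o ho => (hfix o ho).symm ▸ ho, mem_setStab.2 ?_⟩
  rintro w (hw | hw)
  · exact Or.inl ((hfix w hw).symm ▸ hw)
  have hn : ∀ {x}, x ∈ part D O y → ¬ Commute w x := fun hx h =>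
    F.nc (oPerp_trans hD hB hO F.hy hx.1 F.hz hx.2.symm
      (oPerp_trans hD hB hO hx.1 hw.1 F.hz h.symm hw.2))
  obtain ⟨h1, h2⟩ := conj_pair_part hD hB hu.1 hv.1 hw.1 huv (hn hu) (hn hv)
  exact Or.inr ⟨h1, oPerp_trans hD hB hO h1 hw.1 F.hz h2 hw.2⟩

omit hZ in
theorem part_norm_base {O : Set G} {y z : G} (F : OctFrame D O y z) :
    pairSub (part D O y) ≤ Subgroup.normalizer (pairSub (baseSet D O z) : Set G) := by
  intro g hg
  have hs := part_le_stab hD hB F hg
  have key : ∀ g ∈ setStab (baseSet D O z), ∀ a ∈ pairSub (baseSet D O z),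
      g * a * g⁻¹ ∈ pairSub (baseSet D O z) := by
    intro g hg a ha
    suffices pairSub (baseSet D O z) ≤ (pairSub (baseSet D O z)).comap (MulAut.conj g).toMonoidHom
      from this ha
    conv_lhs => rw [pairSub]
    rw [Subgroup.closure_le]
    rintro - ⟨u, hu, v, hv, rfl⟩
    simp only [SetLike.mem_coe, Subgroup.mem_comap, MulEquiv.coe_toMonoidHom, MulAut.conj_apply]
    rw [show g * (u * v) * g⁻¹ = g * u * g⁻¹ * (g * v * g⁻¹) by group]
    exact pair_mem_pairSub (mem_setStab.1 hg u hu) (mem_setStab.1 hg v hv)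
  rw [Subgroup.mem_normalizer_iff]
  refine fun a => ⟨key g hs.2 a, fun ha => ?_⟩
  have := key g⁻¹ (inv_mem hs.2) _ ha
  simpa [mul_assoc] using this

omit hZ in
theorem mem_core_iff {O : Set G} {y z g : G} (F : OctFrame D O y z) : g ∈ evenCore D O y z ↔
    ∃ b ∈ pairSub (baseSet D O z), ∃ v ∈ pairSub (part D O y), b * v = g := by
  have h := Subgroup.coe_mul_of_right_le_normalizer_left (pairSub (baseSet D O z))
    (pairSub (part D O y)) (part_norm_base hD hB F)
  rw [← SetLike.mem_coe, evenCore, h, Set.mem_mul]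
  rfl

omit hZ in
/-- The even part is a 2-group of exponent dividing four. -/
theorem core_pow_four {O : Set G} {y z g : G} (F : OctFrame D O y z) (hg : g ∈ evenCore D O y z) :
    g ^ 4 = 1 := by
  have sq : ∀ C : Set G, (∀ u ∈ C, u ∈ D ∧ ∀ v ∈ C, Commute u v) → ∀ a ∈ pairSub C,
      a * a = 1 ∧ ∀ b ∈ pairSub C, Commute a b := by
    intro C hC a ha
    refine ⟨?_, fun b hb => pairSub_fixed ha fun c hc => (pairSub_fixed hb fun c' hc' =>
      ((hC c' hc').2 c hc)).symm⟩
    induction ha using Subgroup.closure_induction with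
    | mem _ he =>
      obtain ⟨u, hu, v, hv, rfl⟩ := he
      rw [mul_assoc, ← mul_assoc v, ((hC v hv).2 u hu).eq, mul_assoc, mul_self hD.1 (hC v hv).1,
        mul_one, mul_self hD.1 (hC u hu).1]
    | one => simp
    | mul a b ha hb h1 h2 =>
      have hab : Commute a b := pairSub_fixed ha fun c hc => (pairSub_fixed hb fun c' hc' =>
        ((hC c' hc').2 c hc)).symm
      rw [hab.symm.mul_mul_mul_comm, h1, h2, mul_one]
    | inv a _ h1 => rw [← mul_inv_rev, h1, inv_one]
  have hC1 := base_clique hD hB F.oct F.hz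
  have hC2 : ∀ u ∈ part D O y, u ∈ D ∧ ∀ v ∈ part D O y, Commute u v := fun u hu =>
    ⟨hu.1.1, fun v hv => oPerp_trans hD hB F.oct hu.1 F.hy hv.1 hu.2 hv.2.symm⟩
  obtain ⟨b, hb, v, hv, rfl⟩ := (mem_core_iff hD hB F).1 hg
  have hv' := (Subgroup.mem_normalizer_iff.1 (part_norm_base hD hB F hv) b).1 hb
  have h1 : b * v * (b * v) = b * (v * b * v⁻¹) := by
    rw [inv_eq_of_mul_eq_one_left (sq _ hC2 v hv).1]; simp only [mul_assoc]
  have h2 := (sq _ hC1 _ (mul_mem hb hv')).1
  rw [← h1] at h2
  rw [show (4 : ℕ) = 2 + 2 from rfl, pow_add, pow_two]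
  exact h2

include hZ

/-- A member of the octad is outside the even part. -/
theorem oct_notMem_core {O : Set G} {y z o : G} (F : OctFrame D O y z) (ho : o ∈ O) :
    o ∉ evenCore D O y z := by
  intro h
  have hT := hD.1
  have hO := F.oct
  have hC1 := base_clique hD hB hO F.hz
  obtain ⟨b, hb, v, hv, hbv⟩ := (mem_core_iff hD hB F).1 h
  obtain ⟨l₂, hl₂, he₂, rfl⟩ := exists_list_of_pairSub (fun u hu => mul_self hT (hC1 u hu).1) hb
  obtain ⟨l₁, hl₁, he₁, rfl⟩ := exists_list_of_pairSub (fun u hu => mul_self hT hu.1.1) hv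
  -- an element of both bases
  set m₂ := l₂.reverse ++ [o] with hm₂
  have e12 : l₁.prod = m₂.prod := by
    have hrev : l₂.reverse.prod = l₂.prod⁻¹ := by
      rw [List.prod_inv_reverse]
      congr 1
      rw [List.map_congr_left fun u hu => show u⁻¹ = id u from inv_eq hT (hC1 u (hl₂ u hu)).1,
        List.map_id]
    rw [hm₂, List.prod_append, hrev, List.prod_singleton, ← hbv, inv_mul_cancel_left]
  have hl₁' : ∀ u ∈ l₁, u ∈ baseSet D O y := fun u hu => Or.inr (hl₁ u hu)
  have hm₂' : ∀ u ∈ m₂, u ∈ baseSet D O z := by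
    intro u hu
    rw [hm₂, List.mem_append, List.mem_reverse, List.mem_singleton] at hu
    rcases hu with hu | rfl
    exacts [hl₂ u hu, Or.inl ho]
  have cy : ∀ {x : G}, x ∈ D → ∀ l : List G,
      x * l.prod * x = (l.map fun u => x * u * x).prod := fun {x} hx l => by
    induction l with
    | nil => simpa using mul_self hT hx
    | cons u l ih =>
      rw [List.prod_cons, List.map_cons, List.prod_cons, ← ih]
      simp only [mul_assoc, mul_self_mul hT hx]
  -- conjugate by `y` and by `z`
  have hy' : y * l₁.prod * y = l₁.prod := by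
    refine conj_self_of_commute hT F.hy.1 (Commute.list_prod_right _ _ fun u hu => ?_)
    exact (base_clique hD hB hO F.hy y (Or.inr ⟨F.hy, Commute.refl y⟩)).2 u (hl₁' u hu)
  have hz' : z * m₂.prod * z = m₂.prod := by
    refine conj_self_of_commute hT F.hz.1 (Commute.list_prod_right _ _ fun u hu => ?_)
    exact (hC1 z (Or.inr ⟨F.hz, Commute.refl z⟩)).2 u (hm₂' u hu)
  set A := m₂.map fun u => y * u * y
  set B := l₁.map fun u => z * u * z
  have hAB : A.prod = B.prod := by
    rw [← cy F.hy.1, ← cy F.hz.1, e12, hz', ← e12, hy']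
  have hwp := conj_oPerp hD hB F.hy F.hz
  set w := y * z * y
  have hmap : ∀ {x x' : G}, x ∈ oPerp D O → x * x' * x = w → ∀ u ∈ baseSet D O x',
      x * u * x ∈ baseSet D O w := by
    intro x x' hx hxw u hu
    rcases hu with hu | hu
    · rw [conj_self_of_commute hT hx.1 (hx.2.2 u hu)]; exact Or.inl hu
    · refine Or.inr ⟨conj_oPerp hD hB hx hu.1, ?_⟩
      rw [← hxw, conj_involution hT hx.1, conj_involution hT hx.1]
      exact (commute_conj x u x').2 hu.2
  have hwb : z * y * z = w := by
    have := braid hT F.hy.1 F.hz.1 F.nc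
    exact this.symm
  have hA : ∀ u ∈ A, u ∈ baseSet D O w := fun u hu => by
    obtain ⟨u', hu', rfl⟩ := List.mem_map.1 hu
    exact hmap F.hy rfl u' (hm₂' u' hu')
  have hBm : ∀ u ∈ B, u ∈ baseSet D O w := fun u hu => by
    obtain ⟨u', hu', rfl⟩ := List.mem_map.1 hu
    exact hmap F.hz hwb u' (hl₁' u' hu')
  have hCw := base_clique hD hB hO hwp
  refine no_odd_rel hD hZ hB (A ++ B.reverse) (fun u hu => ?_) (fun u hu u' hu' => ?_) ?_ ?_
  · rw [List.mem_append, List.mem_reverse] at hu
    exact (hCw u (hu.elim (hA u) (hBm u))).1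
  · rw [List.mem_append, List.mem_reverse] at hu hu'
    exact (hCw u (hu.elim (hA u) (hBm u))).2 u' (hu'.elim (hA u') (hBm u'))
  · simp only [List.length_append, List.length_reverse, A, B, List.length_map, hm₂,
      List.length_singleton]
    rw [Nat.odd_iff]
    rw [Nat.even_iff] at he₁ he₂
    omega
  · have hrevB : B.reverse.prod = B.prod⁻¹ := by
      rw [List.prod_inv_reverse]
      congr 1
      rw [List.map_congr_left fun u hu => show u⁻¹ = id u from inv_eq hT (hCw u (hBm u hu)).1,
        List.map_id]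
    rw [List.prod_append, hrevB, hAB, mul_inv_cancel]

/-- The even part has at least 2^15 elements. -/
theorem core_card {O : Set G} {y z : G} (F : OctFrame D O y z) :
    2 ^ 15 ≤ Nat.card ↥(evenCore D O y z) := by
  classical
  have hT := hD.1
  have hO := F.oct
  have hC1 := base_clique hD hB hO F.hz
  obtain ⟨l, hnd, hlen, hl⟩ : ∃ l : List G, l.Nodup ∧ l.length = 8 ∧ ∀ x ∈ l, x ∈ O :=
    ⟨(Set.toFinite O).toFinset.toList, Finset.nodup_toList _, by
      rw [Finset.length_toList, ← Set.ncard_eq_toFinset_card, hO.card], fun x hx => by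
      simpa using hx⟩
  let o : Fin 8 → G := fun i => l[i.val]'(by rw [hlen]; exact i.2)
  have ho : ∀ i, o i ∈ O := fun i => hl _ (List.getElem_mem _)
  have hoinj : Function.Injective o := fun i j e =>
    Fin.ext ((List.Nodup.getElem_inj_iff hnd).1 e)
  have hco : ∀ i j, Commute (o i) (o j) := fun i j => hO.comm _ (ho i) _ (ho j)
  let P : List (Fin 8) → G := fun L => (L.map o).prod
  have hmemP : ∀ L : List (Fin 8), Even L.length → P L ∈ pairSub O := by
    intro L
    induction L using List.twoStepInduction with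
    | nil => exact fun _ => one_mem _
    | singleton _ => intro h; simp at h
    | cons_cons a b L ih _ =>
      intro h
      simp only [P, List.map_cons, List.prod_cons, ← mul_assoc]
      refine mul_mem (pair_mem_pairSub (ho a) (ho b)) (ih ?_)
      simpa [parity_simps] using h
  have hrel : ∀ L : List (Fin 8), L.Nodup → Even L.length → 0 < L.length → L.length < 8 → P L ≠ 1 := by
    intro L hL he h0 h8 h1
    have hmapnd : (L.map o).Nodup := hL.map hoinj
    have hmapO : ∀ u ∈ L.map o, u ∈ O := fun u hu => by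
      obtain ⟨i, -, rfl⟩ := List.mem_map.1 hu
      exact ho i
    have hD' : ∀ u ∈ L.map o, u ∈ D := fun u hu => hO.sub (hmapO u hu)
    have hC' : ∀ u ∈ L.map o, ∀ v ∈ L.map o, Commute u v := fun u hu v hv =>
      hO.comm _ (hmapO u hu) _ (hmapO v hv)
    rw [Nat.even_iff] at he
    have two : ∀ u v : G, u ∈ O → v ∈ O → u ≠ v → [u, v].prod ≠ 1 := fun u v hu hv hne e => by
      simp only [List.prod_cons, List.prod_nil, mul_one] at e
      exact hne (by rw [eq_inv_of_mul_eq_one_left e, inv_eq hT (hO.sub hv)])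
    rcases (show L.length = 2 ∨ L.length = 4 ∨ L.length = 6 by omega) with hlen' | hlen' | hlen'
    · obtain ⟨i, j, rfl⟩ := List.length_eq_two.1 hlen'
      exact two _ _ (ho i) (ho j) (by simpa using hmapnd) h1
    · match L, hlen' with
      | [i, j, k, m], _ => exact no_four_rel hD hZ hB hmapnd hD' hC' h1
    · -- six: the other two
      set R := (List.finRange 8).filter fun i => decide (i ∉ L) with hR
      have hRnd : R.Nodup := (List.nodup_finRange 8).filter _
      have hperm : (L ++ R).Perm (List.finRange 8) := by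
        rw [List.perm_ext_iff_of_nodup (List.nodup_append.2 ⟨hL, hRnd, fun a ha b hb e => by
          subst e; simp [hR] at hb; exact hb ha⟩) (List.nodup_finRange 8)]
        intro i
        simp [hR, em]
      have hRlen : R.length = 2 := by
        have := hperm.length_eq
        simp only [List.length_append, List.length_finRange] at this
        omega
      obtain ⟨i, j, hij⟩ := List.length_eq_two.1 hRlen
      rw [hij] at hRnd
      refine two _ _ (ho i) (ho j) (fun e => by simp [hoinj e] at hRnd) ?_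
      have h8' : P (L ++ R) = 1 := by
        refine octad_prod hD hZ hB hO ((hperm.nodup_iff.2 (List.nodup_finRange 8)).map hoinj)
          (by rw [List.length_map, hperm.length_eq, List.length_finRange]) fun u hu => ?_
        obtain ⟨i, -, rfl⟩ := List.mem_map.1 hu
        exact ho i
      simp only [P, List.map_append, List.prod_append] at h8'
      rw [show (L.map o).prod = 1 from h1, one_mul, hij] at h8'
      simpa using h8'
  have hxor : ∀ (L : List (Fin 8)) (s t : Fin 8 → Bool),
      P (L.filter fun i => xor (s i) (t i)) = P (L.filter s) * P (L.filter t) := by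
    intro L s t
    induction L with
    | nil => simp [P]
    | cons a L ih =>
      have hca : Commute (o a) (P (L.filter s)) := Commute.list_prod_right _ _ fun u hu => by
        obtain ⟨i, -, rfl⟩ := List.mem_map.1 hu
        exact hco a i
      simp only [List.filter_cons]
      cases hs : s a <;> cases ht : t a <;>
        simp only [Bool.xor_false, Bool.xor_true, Bool.not_true, Bool.not_false, if_true,
          Bool.false_eq_true, if_false, P, List.map_cons, List.prod_cons] at ih hca ⊢ <;> rw [ih]
      · rw [← mul_assoc, hca.eq, mul_assoc]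
      · rw [mul_assoc]
      · rw [mul_assoc, ← mul_assoc (List.prod _) (o a), hca.symm.eq, mul_assoc,
          mul_self_mul hT (hO.sub (ho a))]
  -- sixty four elements of the octad part
  let full : (Fin 6 → Bool) → Fin 8 → Bool := fun w i =>
    if h : i.val < 6 then w ⟨i.val, h⟩ else
      if i.val = 7 then (List.finRange 6).foldl (fun acc j => xor acc (w j)) false else false
  have hfe : ∀ w, Even ((List.finRange 8).filter (full w)).length := by decide +kernel
  have hfz : ∀ w, ((List.finRange 8).filter (full w)).length < 8 ∧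
      (((List.finRange 8).filter (full w)).length = 0 → w = fun _ => false) := by decide +kernel
  have hfx : ∀ w w' : Fin 6 → Bool, ∀ i,
      full (fun j => xor (w j) (w' j)) i = xor (full w i) (full w' i) := by
    intro w w' i
    simp only [full]
    split_ifs with h1 h2
    · rfl
    · have : ∀ (L : List (Fin 6)) (a b : Bool),
          L.foldl (fun acc j => xor acc (xor (w j) (w' j))) (xor a b) =
            xor (L.foldl (fun acc j => xor acc (w j)) a) (L.foldl (fun acc j => xor acc (w' j)) b) := by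
        intro L
        induction L with
        | nil => simp
        | cons x L ih =>
          intro a b
          simp only [List.foldl_cons]
          rw [← ih]
          congr 1
          cases a <;> cases b <;> cases w x <;> cases w' x <;> rfl
      simpa using this (List.finRange 6) false false
    · rfl
  have h64 : 2 ^ 6 ≤ Nat.card ↥(pairSub O) := by
    have hle := Nat.card_le_card_of_injective
      (fun w : Fin 6 → Bool => (⟨_, hmemP _ (hfe w)⟩ : pairSub O)) (fun w w' e => ?_)
    · simpa using hle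
    have e' : P ((List.finRange 8).filter (full w)) = P ((List.finRange 8).filter (full w')) :=
      congrArg Subtype.val e
    set d : Fin 6 → Bool := fun j => xor (w j) (w' j)
    have hd1 : P ((List.finRange 8).filter (full d)) = 1 := by
      rw [show full d = fun i => xor (full w i) (full w' i) from funext (hfx w w'), hxor, ← e']
      rw [← hxor]
      simp [P]
    have hlen0 : ((List.finRange 8).filter (full d)).length = 0 := by
      by_contra h
      exact hrel _ ((List.nodup_finRange 8).filter _) (hfe d) (Nat.pos_of_ne_zero h) (hfz d).1 hd1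
    funext j
    have := congrFun ((hfz d).2 hlen0) j
    revert this
    simp only [d]
    cases w j <;> cases w' j <;> simp
  -- thirty two cosets in the base
  have hOsub : pairSub O ≤ pairSub (baseSet D O z) := by
    rw [pairSub, Subgroup.closure_le]
    rintro - ⟨u, hu, v, hv, rfl⟩
    exact pair_mem_pairSub (Or.inl hu) (Or.inl hv)
  have hP2 : (part D O z).ncard = 16 := oPerp_class hD hB hO F.hz
  have hP1 : (part D O y).ncard = 16 := oPerp_class hD hB hO F.hy
  have hself : z ∈ part D O z := ⟨F.hz, Commute.refl z⟩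
  have hself1 : y ∈ part D O y := ⟨F.hy, Commute.refl y⟩
  have hn2 : ∀ {x}, x ∈ part D O z → ¬ Commute y x := fun hx h =>
    F.nc (oPerp_trans hD hB hO F.hy hx.1 F.hz h hx.2)
  have hn1 : ∀ {x}, x ∈ part D O y → ¬ Commute x z := fun hx h =>
    F.nc (oPerp_trans hD hB hO F.hy hx.1 F.hz hx.2.symm h)
  have hx_inj : ∀ {x x' w : G}, x ∈ oPerp D O → x' ∈ oPerp D O → w ∈ oPerp D O → ¬ Commute x' w →
      x * w * x⁻¹ = x' * w * x'⁻¹ → x = x' := fun {x x' w} hx hx' hw hn e => by
    rw [inv_eq hT hx.1, inv_eq hT hx'.1] at e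
    exact eq_of_conj_eq hT hx.1 hx'.1 hw.1 (fun hh => hn (commute_of_conj_eq hT hx'.1 hh)) e
  have h32 : 32 * Nat.card ↥(pairSub O) ≤ Nat.card ↥(pairSub (baseSet D O z)) := by
    let g : (part D O z) ⊕ (part D O z) → G := Sum.elim (fun x => o 0 * x) fun x => z * x
    have hg : ∀ i, g i ∈ pairSub (baseSet D O z) := by
      rintro (x | x)
      exacts [pair_mem_pairSub (Or.inl (ho 0)) (Or.inr x.2), pair_mem_pairSub (Or.inr hself) (Or.inr x.2)]
    have hev : ∀ (u : G) (x : part D O z), u * (x : G) * y * (u * x)⁻¹ = u * ((x : G) * y * (x : G)⁻¹) * u⁻¹ :=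
      fun u x => by group
    have h := card_moves_mul_le hOsub (x := y)
      (fun k hk => pairSub_fixed hk fun c hc => (F.hy.2.2 c hc).symm) g hg ?_
    · rwa [Nat.card_sum, Nat.card_coe_set_eq, hP2] at h
    have hmv : ∀ x : part D O z, x.1 * y * x.1⁻¹ ∈ oPerp D O ∧ ¬ Commute (x.1 * y * x.1⁻¹) y :=
      fun x => by
      refine ⟨by rw [inv_eq hT x.2.1.1]; exact conj_oPerp hD hB x.2.1 F.hy, fun h => ?_⟩
      rw [inv_eq hT x.2.1.1] at h
      exact commute_conj_mem hT F.hy.1 x.2.1.1 (hn2 x.2) h.symm
    have hz0 : ∀ x : part D O z, Commute (z * (x : G) * y * (z * (x : G))⁻¹) y := fun x =>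
      (conj_pair_part hD hB F.hz x.2.1 F.hy
        (oPerp_trans hD hB hO F.hz F.hz x.2.1 (Commute.refl z) x.2.2.symm) F.nc (hn2 x.2)).2
    have h0 : ∀ x : part D O z,
        o 0 * (x : G) * y * (o 0 * (x : G))⁻¹ = (x : G) * y * (x : G)⁻¹ := fun x => by
      rw [hev, ((hmv x).1.2.2 _ (ho 0)).symm.eq, mul_inv_cancel_right]
    rintro (x | x) (x' | x') e <;> simp only [g, Sum.elim_inl, Sum.elim_inr] at e
    · rw [h0, h0] at e
      exact congrArg Sum.inl (Subtype.ext (hx_inj x.2.1 x'.2.1 F.hy (fun h => hn2 x'.2 h.symm) e))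
    · exact absurd (e ▸ hz0 x') (by rw [h0]; exact (hmv x).2)
    · exact absurd (e.symm ▸ hz0 x) (by rw [h0]; exact (hmv x').2)
    · rw [hev, hev] at e
      exact congrArg Sum.inr (Subtype.ext (hx_inj x.2.1 x'.2.1 F.hy (fun h => hn2 x'.2 h.symm)
        (mul_left_cancel (mul_right_cancel e))))
  have h16 : 16 * Nat.card ↥(pairSub (baseSet D O z)) ≤ Nat.card ↥(evenCore D O y z) := by
    have h := card_moves_mul_le (le_sup_left : pairSub (baseSet D O z) ≤ evenCore D O y z) (x := z)
      (fun k hk => pairSub_fixed hk fun c hc => (hC1 c hc).2 z (Or.inr hself))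
      (fun x : part D O y => y * (x : G))
      (fun x => Subgroup.mem_sup_right (pair_mem_pairSub hself1 x.2)) ?_
    · rwa [Nat.card_coe_set_eq, hP1] at h
    intro x x' e
    simp only [mul_inv_rev, mul_assoc] at e
    refine Subtype.ext (hx_inj x.2.1 x'.2.1 F.hz (hn1 x'.2) ?_)
    have := mul_left_cancel e
    simp only [← mul_assoc] at this
    exact mul_right_cancel this
  omega

end Cfsg.Agent.ThreeTrans
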