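import Cfsg.Agent.ThreeTrans.OctadRelM24

/-!
# Type M(24): the three bases through an octad
-/

set_option autoImplicit false

open Cfsg

namespace Cfsg.Agent.ThreeTrans

universe u

/-- In a layer of 693 members: the members commuting with two given ones, outside their line, fall
into three classes of sixteen. -/
theorem Layer693.parts {G : Type*} [Group G] [Finite G] {S : Set G} (h : Layer693 S) {p q : G}
    (hp : p ∈ S) (hq : q ∈ dperp S p) :
    (∀ z ∈ S, Commute z p → Commute z q → z ∉ ln S p q →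
      (∃ w ∈ S, Commute w p ∧ Commute w q ∧ w ∉ ln S p q ∧ ¬ Commute w z) ∧
      {v | v ∈ S ∧ Commute v p ∧ Commute v q ∧ v ∉ ln S p q ∧ Commute v z}.ncard = 16) ∧
    ∀ w : Fin 4 → G, (∀ i, w i ∈ S ∧ Commute (w i) p ∧ Commute (w i) q ∧ w i ∉ ln S p q) →
      (∀ i j, i ≠ j → ¬ Commute (w i) (w j)) → False := by
  obtain ⟨e, he, hep, heq⟩ := exists_nc_both (h.card1 p hp) (h.card1 q hq.1) (by rw [h.card]; norm_num)
  have h13 := h.counts.triple p hp q hq e he hep heq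
  set W := {v | v ∈ S ∧ Commute v p ∧ Commute v q ∧ Commute v e}
  set L := ln S p q with hL
  have hLp : ∀ u ∈ L, Commute u p ∧ Commute u q := fun u hu =>
    ⟨(hu.2 p hp (Commute.refl p) hq.2.2).symm, (hu.2 q hq.1 hq.2.2.symm (Commute.refl q)).symm⟩
  -- the plane of `z`
  have hpl : ∀ z ∈ S, Commute z p → Commute z q → z ∉ L → ∀ v ∈ S, Commute v p → Commute v q →
      Commute v z → v ∈ pl S p q z := fun z hz k1 k2 k3 v hv l1 l2 l3 => ⟨hv, fun y hy m1 m2 m3 =>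
    h.planes.trans p hp q hq y hy z hz v hv m1 m2 k1 k2 l1 l2 k3 m3 l3.symm⟩
  have hplc : ∀ z ∈ S, Commute z p → Commute z q → ∀ v ∈ pl S p q z, ∀ v' ∈ pl S p q z,
      Commute v v' := fun z hz k1 k2 v hv v' hv' => by
    obtain ⟨l1, l2, l3⟩ := commute_pl hp hq hz k1 k2 hv
    exact hv'.2 v hv.1 l1.symm l2.symm l3.symm
  have hLpl : ∀ z ∈ S, L ⊆ pl S p q z := fun z _ u hu => ⟨hu.1, fun y hy m1 m2 _ => hu.2 y hy m1 m2⟩
  have hb : ∀ z ∈ S, Commute z p → Commute z q →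
      {u | u ∈ pl S p q z ∧ Commute e u}.ncard ≤ 5 := fun z hz k1 k2 =>
    h.planes.bound _ (fun u hu => hu.1) (hplc z hz k1 k2) e he p
      (hLpl z hz (mem_ln_left hp)) hep
  have hL1 : {u | u ∈ L ∧ Commute e u}.ncard ≤ 1 := by
    rw [Set.ncard_le_one_iff]
    intro u v hu hv
    by_contra hne
    obtain ⟨-, hl⟩ := h.lines.pair p hp q hq u hu.1 v hv.1 hne
    have : p ∈ ln S u v := by rw [hl]; exact mem_ln_left hp
    exact hep (this.2 e he hu.2 hv.2)
  refine ⟨fun z hz k1 k2 k3 => ⟨?_, ?_⟩, fun w hw hnc => ?_⟩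
  · by_contra hcon
    push Not at hcon
    have hsub : W ⊆ {u | u ∈ pl S p q z ∧ Commute e u} := fun v hv => by
      refine ⟨?_, hv.2.2.2.symm⟩
      by_cases hvL : v ∈ L
      · exact hLpl z hz hvL
      · exact hpl z hz k1 k2 k3 v hv.1 hv.2.1 hv.2.2.1 (hcon v hv.1 hv.2.1 hv.2.2.1 hvL)
    have := (Set.ncard_le_ncard hsub (Set.toFinite _)).trans (hb z hz k1 k2)
    omega
  · have e' : {v | v ∈ S ∧ Commute v p ∧ Commute v q ∧ v ∉ L ∧ Commute v z} = pl S p q z \ L := by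
      ext v
      constructor
      · rintro ⟨hv, l1, l2, l3, l4⟩
        exact ⟨hpl z hz k1 k2 k3 v hv l1 l2 l4, l3⟩
      · rintro ⟨hv, hvL⟩
        obtain ⟨l1, l2, l3⟩ := commute_pl hp hq hz k1 k2 hv
        exact ⟨hv.1, l1.symm, l2.symm, hvL, l3.symm⟩
    rw [e', Set.ncard_sdiff (hLpl z hz) (Set.toFinite _), h.lines.five p hp q hq,
      le_antisymm (h.planes.size p hp q hq z hz k1 k2 k3) (h.counts.plane p hp q hq z hz k1 k2 k3)]
  · classical
    let P : Fin 4 → Set G := fun i => {u | (u ∈ pl S p q (w i) ∧ Commute e u) ∧ u ∉ L}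
    have h4 : ∀ i, 4 ≤ (P i).ncard := fun i => by
      have h5 := h.planes.five p hp q hq (w i) (hw i).1 (hw i).2.1 (hw i).2.2.1 (hw i).2.2.2 e he
      have hu := Set.ncard_le_ncard (show {u | u ∈ pl S p q (w i) ∧ Commute e u} ⊆
          P i ∪ {u | u ∈ L ∧ Commute e u} from fun u hu => by
        by_cases huL : u ∈ L
        · exact Or.inr ⟨huL, hu.2⟩
        · exact Or.inl ⟨hu, huL⟩) (Set.toFinite _)
      have := Set.ncard_union_le (P i) {u | u ∈ L ∧ Commute e u}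
      omega
    have hdis : ∀ i j, i ≠ j → Disjoint (P i) (P j) := fun i j hij => Set.disjoint_left.2 fun u hi hj => by
      obtain ⟨l1, l2, l3⟩ := commute_pl hp hq (hw i).1 (hw i).2.1 (hw i).2.2.1 hi.1.1
      obtain ⟨-, -, l6⟩ := commute_pl hp hq (hw j).1 (hw j).2.1 (hw j).2.2.1 hj.1.1
      exact hnc i j hij (h.planes.trans p hp q hq (w i) (hw i).1 u hi.1.1.1 (w j) (hw j).1 (hw i).2.1
        (hw i).2.2.1 l1.symm l2.symm (hw j).2.1 (hw j).2.2.1 hi.2 l3 l6.symm)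
    have hsub : P 0 ∪ P 1 ∪ (P 2 ∪ P 3) ⊆ W := by
      have key : ∀ i, P i ⊆ W := fun i u hu => by
        obtain ⟨l1, l2, -⟩ := commute_pl hp hq (hw i).1 (hw i).2.1 (hw i).2.2.1 hu.1.1
        exact ⟨hu.1.1.1, l1.symm, l2.symm, hu.1.2.symm⟩
      exact Set.union_subset (Set.union_subset (key 0) (key 1)) (Set.union_subset (key 2) (key 3))
    have hd : Disjoint (P 0 ∪ P 1) (P 2 ∪ P 3) :=
      Set.disjoint_union_left.2 ⟨Set.disjoint_union_right.2 ⟨hdis _ _ (by decide), hdis _ _ (by decide)⟩,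
        Set.disjoint_union_right.2 ⟨hdis _ _ (by decide), hdis _ _ (by decide)⟩⟩
    have := Set.ncard_le_ncard hsub (Set.toFinite _)
    rw [Set.ncard_union_eq hd (Set.toFinite _) (Set.toFinite _),
      Set.ncard_union_eq (hdis _ _ (by decide)) (Set.toFinite _) (Set.toFinite _),
      Set.ncard_union_eq (hdis _ _ (by decide)) (Set.toFinite _) (Set.toFinite _)] at this
    have := h4 0
    have := h4 1
    have := h4 2
    have := h4 3
    omega

/-- The members outside an octad commuting with all of it. -/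
def oPerp {G : Type*} [Group G] (D O : Set G) : Set G :=
  {v | v ∈ D ∧ v ∉ O ∧ ∀ o ∈ O, Commute v o}

variable {G : Type u} [Group G] [Finite G] {D : Set G} {X : Type u} [Group X] [Finite X] {E : Set X}
  (hD : IsThreeTranspositionGroup D) (hB : M24Base D E)

include hD hB

/-- An octad seen from five of its members. -/
theorem IsOctad.frame {O : Set G} (hO : IsOctad D O) :
    ∃ a b c p q : G, b ∈ dperp D a ∧ c ∈ dperp (dperp D a) b ∧
      p ∈ dperp (dperp (dperp D a) b) c ∧ q ∈ dperp (dperp (dperp (dperp D a) b) c) p ∧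
      a ∈ D ∧ ∀ v, v ∈ oPerp D O ↔ v ∈ dperp (dperp (dperp D a) b) c ∧ Commute v p ∧ Commute v q ∧
        v ∉ ln (dperp (dperp (dperp D a) b) c) p q := by
  classical
  obtain ⟨l, hnd, hlen, hl⟩ : ∃ l : List G, l.Nodup ∧ l.length = 8 ∧ ∀ x ∈ l, x ∈ O :=
    ⟨(Set.toFinite O).toFinset.toList, Finset.nodup_toList _, by
      rw [Finset.length_toList, ← Set.ncard_eq_toFinset_card, hO.card], fun x hx => by
      simpa using hx⟩
  match l, hlen with
  | [a, b, c, p, q, r, x, y], _ =>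
  simp only [List.nodup_cons, List.mem_cons, List.not_mem_nil, or_false, not_or, List.nodup_nil,
    not_false_iff, and_true] at hnd
  obtain ⟨⟨nab, nac, nap, naq, -⟩, ⟨nbc, nbp, nbq, -⟩, ⟨ncp, ncq, -⟩, ⟨npq, -⟩, -⟩ := hnd
  have ha : a ∈ O := hl _ (by simp)
  have hb : b ∈ O := hl _ (by simp)
  have hc : c ∈ O := hl _ (by simp)
  have hp : p ∈ O := hl _ (by simp)
  have hq : q ∈ O := hl _ (by simp)
  have hm : ∀ {y}, y ∈ O → y ≠ a → y ≠ b → y ≠ c → y ∈ dperp (dperp (dperp D a) b) c := fun hy e1 e2 e3 =>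
    ⟨⟨⟨hO.sub hy, e1, hO.comm _ ha _ hy⟩, e2, hO.comm _ hb _ hy⟩, e3, hO.comm _ hc _ hy⟩
  have hb' : b ∈ dperp D a := ⟨hO.sub hb, Ne.symm nab, hO.comm _ ha _ hb⟩
  have hc' : c ∈ dperp (dperp D a) b :=
    ⟨⟨hO.sub hc, Ne.symm nac, hO.comm _ ha _ hc⟩, Ne.symm nbc, hO.comm _ hb _ hc⟩
  have hp' := hm hp (Ne.symm nap) (Ne.symm nbp) (Ne.symm ncp)
  have hq' : q ∈ dperp (dperp (dperp (dperp D a) b) c) p :=
    ⟨hm hq (Ne.symm naq) (Ne.symm nbq) (Ne.symm ncq), Ne.symm npq, hO.comm _ hp _ hq⟩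
  refine ⟨a, b, c, p, q, hb', hc', hp', hq', hO.sub ha, fun v => ?_⟩
  set S := dperp (dperp (dperp D a) b) c
  have hS := layer693 hD hB (hO.sub ha) hb' hc'
  have hF5 : ({a, b, c, p, q} : Set G).ncard = 5 := by
    rw [Set.ncard_insert_of_notMem, Set.ncard_insert_of_notMem, Set.ncard_insert_of_notMem,
      Set.ncard_pair npq] <;>
      simp [nab, nac, nap, naq, nbc, nbp, nbq, ncp, ncq]
  have hF : ({a, b, c, p, q} : Set G) ⊆ O := by
    rintro w (rfl | rfl | rfl | rfl | rfl) <;> assumption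
  have hmem : ∀ w ∈ D, w ∈ O ↔ w = a ∨ w = b ∨ w = c ∨ w ∈ ln S p q := fun w hw => by
    rw [← mem_line_iff24 hD hB (hO.sub ha) hb' hc' hp' hq' hw]
    refine ⟨fun h v hv hvF => hO.closed _ hF hF5 v hv hvF w h, fun h => ?_⟩
    exact hO.mem_of_centralised hD hB (a := a) (b := b) (c := c) (p := p) (q := q)
      (by simp [nab, nac, nap, naq, nbc, nbp, nbq, ncp, ncq, npq])
      (fun z hz => by
        simp only [List.mem_cons, List.not_mem_nil, or_false] at hz
        rcases hz with rfl | rfl | rfl | rfl | rfl <;> assumption)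
      hw fun v hv hvO => h v hv fun z hz => hvO z (hF hz)
  constructor
  · rintro ⟨hv, hvO, hvc⟩
    refine ⟨⟨⟨⟨hv, fun e => hvO (e ▸ ha), (hvc a ha).symm⟩, fun e => hvO (e ▸ hb), (hvc b hb).symm⟩,
      fun e => hvO (e ▸ hc), (hvc c hc).symm⟩, hvc p hp, hvc q hq, fun h => hvO ?_⟩
    exact (hmem v hv).2 (Or.inr (Or.inr (Or.inr h)))
  · rintro ⟨hv, k1, k2, k3⟩
    refine ⟨hv.1.1.1, fun h => ?_, hO.closed _ hF hF5 v hv.1.1.1 ?_⟩
    · rcases (hmem v hv.1.1.1).1 h with e | e | e | e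
      exacts [hv.1.1.2.1 e, hv.1.2.1 e, hv.2.1 e, k3 e]
    · rintro z (rfl | rfl | rfl | rfl | rfl)
      exacts [hv.1.1.2.2.symm, hv.1.2.2.symm, hv.2.2.symm, k1, k2]

/-- Two classes among the common partners. -/
theorem oPerp_trans {O : Set G} (hO : IsOctad D O) {x y z : G} (hx : x ∈ oPerp D O)
    (hy : y ∈ oPerp D O) (hz : z ∈ oPerp D O) (hxy : Commute x y) (hyz : Commute y z) :
    Commute x z := by
  obtain ⟨a, b, c, p, q, hb, hc, hp, hq, ha, hiff⟩ := hO.frame hD hB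
  rw [hiff] at hx hy hz
  exact (layer693 hD hB ha hb hc).planes.trans p hp q hq x hx.1 y hy.1 z hz.1 hx.2.1 hx.2.2.1
    hy.2.1 hy.2.2.1 hz.2.1 hz.2.2.1 hy.2.2.2 hxy hyz

/-- Another class. -/
theorem oPerp_other {O : Set G} (hO : IsOctad D O) {z : G} (hz : z ∈ oPerp D O) :
    ∃ w ∈ oPerp D O, ¬ Commute w z := by
  obtain ⟨a, b, c, p, q, hb, hc, hp, hq, ha, hiff⟩ := hO.frame hD hB
  rw [hiff] at hz
  obtain ⟨w, h1, h2, h3, h4, h5⟩ :=
    (((layer693 hD hB ha hb hc).parts hp hq).1 z hz.1 hz.2.1 hz.2.2.1 hz.2.2.2).1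
  exact ⟨w, (hiff w).2 ⟨h1, h2, h3, h4⟩, h5⟩

/-- A class has sixteen members. -/
theorem oPerp_class {O : Set G} (hO : IsOctad D O) {z : G} (hz : z ∈ oPerp D O) :
    {v | v ∈ oPerp D O ∧ Commute v z}.ncard = 16 := by
  obtain ⟨a, b, c, p, q, hb, hc, hp, hq, ha, hiff⟩ := hO.frame hD hB
  rw [hiff] at hz
  refine Eq.trans ?_
    (((layer693 hD hB ha hb hc).parts hp hq).1 z hz.1 hz.2.1 hz.2.2.1 hz.2.2.2).2
  congr 1
  ext v
  simp only [Set.mem_setOf_eq, hiff, and_assoc]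

/-- There are at most three classes. -/
theorem oPerp_three {O : Set G} (hO : IsOctad D O) {x y z w : G} (hx : x ∈ oPerp D O)
    (hy : y ∈ oPerp D O) (hz : z ∈ oPerp D O) (hw : w ∈ oPerp D O) (nxy : ¬ Commute x y)
    (nxz : ¬ Commute x z) (nxw : ¬ Commute x w) (nyz : ¬ Commute y z) (nyw : ¬ Commute y w) :
    Commute z w := by
  by_contra nzw
  obtain ⟨a, b, c, p, q, hb, hc, hp, hq, ha, hiff⟩ := hO.frame hD hB
  rw [hiff] at hx hy hz hw
  refine ((layer693 hD hB ha hb hc).parts hp hq).2 ![x, y, z, w] (fun i => ?_) fun i j hij => ?_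
  · fin_cases i <;> assumption
  · fin_cases i <;> fin_cases j <;>
      first
        | exact absurd rfl hij
        | exact nxy | exact nxz | exact nxw | exact nyz | exact nyw | exact nzw
        | exact fun h => nxy h.symm | exact fun h => nxz h.symm | exact fun h => nxw h.symm
        | exact fun h => nyz h.symm | exact fun h => nyw h.symm | exact fun h => nzw h.symm

/-- The common partners are not empty. -/
theorem oPerp_nonempty {O : Set G} (hO : IsOctad D O) : (oPerp D O).Nonempty := by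
  obtain ⟨a, b, c, p, q, hb, hc, hp, hq, ha, hiff⟩ := hO.frame hD hB
  have hS := layer693 hD hB ha hb hc
  obtain ⟨r, hr, k1, k2, k3⟩ := hS.planes.ext p hp q hq
  exact ⟨r, (hiff r).2 ⟨hr, k1, k2, k3⟩⟩

/-- An octad is determined by five of its members. -/
theorem octad_eq_of_five {O O' : Set G} (hO : IsOctad D O) (hO' : IsOctad D O')
    {a b c p q : G} (hnd : [a, b, c, p, q].Nodup) (h : ∀ x ∈ [a, b, c, p, q], x ∈ O)
    (h' : ∀ x ∈ [a, b, c, p, q], x ∈ O') : O = O' := by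
  classical
  refine Set.eq_of_subset_of_ncard_le (fun o ho => hO'.mem_of_centralised hD hB hnd h' (hO.sub ho)
    fun v hv hvO => ?_) (by rw [hO.card, hO'.card]) (Set.toFinite _)
  refine hO.closed (([a, b, c, p, q] : List G).toFinset : Set G)
    (fun x hx => h x (List.mem_toFinset.1 hx)) ?_ v hv
    (fun x hx => hvO x (h' x (List.mem_toFinset.1 hx))) o ho
  rw [Set.ncard_coe_finset, List.toFinset_card_of_nodup hnd]
  rfl

/-- A member commuting with four of an octad and one more common partner, but with no other of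
the octad. -/
theorem exists_mover {O : Set G} (hO : IsOctad D O) {f₁ f₂ f₃ f₄ z : G}
    (hnd : [f₁, f₂, f₃, f₄].Nodup) (hf : ∀ x ∈ [f₁, f₂, f₃, f₄], x ∈ O) (hz : z ∈ oPerp D O) :
    ∃ s ∈ D, (∀ x ∈ [f₁, f₂, f₃, f₄], Commute s x) ∧ Commute s z ∧
      ∀ o ∈ O, o ∉ [f₁, f₂, f₃, f₄] → ¬ Commute s o := by
  classical
  obtain ⟨q, hqO, hq⟩ : ∃ q ∈ O, q ∉ [f₁, f₂, f₃, f₄] := by
    by_contra hcon
    push Not at hcon
    have := Set.ncard_le_ncard (show O ⊆ (([f₁, f₂, f₃, f₄] : List G).toFinset : Set G) from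
      fun o ho => List.mem_toFinset.2 (hcon o ho)) (Set.toFinite _)
    rw [hO.card, Set.ncard_coe_finset, List.toFinset_card_of_nodup hnd] at this
    simp at this
  have hnd5 : [f₁, f₂, f₃, f₄, z].Nodup := by
    rw [show [f₁, f₂, f₃, f₄, z] = [f₁, f₂, f₃, f₄] ++ [z] from rfl, List.nodup_append]
    refine ⟨hnd, List.nodup_singleton z, fun a ha b hb e => ?_⟩
    rw [List.mem_singleton] at hb
    exact hz.2.1 (hb ▸ e ▸ hf a ha)
  have hmem5 : ∀ x ∈ [f₁, f₂, f₃, f₄, z], x ∈ D ∧ (x ∈ O ∨ x = z) := fun x hx => by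
    rw [show [f₁, f₂, f₃, f₄, z] = [f₁, f₂, f₃, f₄] ++ [z] from rfl, List.mem_append,
      List.mem_singleton] at hx
    rcases hx with hx | rfl
    exacts [⟨hO.sub (hf x hx), Or.inl (hf x hx)⟩, ⟨hz.1, Or.inr rfl⟩]
  obtain ⟨O', hO', hin⟩ := exists_octad_five hD hB hnd5 (fun x hx => (hmem5 x hx).1)
    fun x hx y hy => by
      rcases (hmem5 x hx).2 with h1 | rfl <;> rcases (hmem5 y hy).2 with h2 | rfl
      exacts [hO.comm _ h1 _ h2, (hz.2.2 _ h1).symm, hz.2.2 _ h2, Commute.refl _]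
  have hsub4 : ∀ {x}, x ∈ [f₁, f₂, f₃, f₄] → x ∈ [f₁, f₂, f₃, f₄, z] := fun hx => by
    simp only [List.mem_cons, List.not_mem_nil, or_false] at hx ⊢
    tauto
  have hnd5' : [f₁, f₂, f₃, f₄, q].Nodup := by
    rw [show [f₁, f₂, f₃, f₄, q] = [f₁, f₂, f₃, f₄] ++ [q] from rfl, List.nodup_append]
    refine ⟨hnd, List.nodup_singleton q, fun a ha b hb e => ?_⟩
    rw [List.mem_singleton] at hb
    exact hq (hb ▸ e ▸ ha)
  have hm5 : ∀ (P : G → Prop), (∀ x ∈ [f₁, f₂, f₃, f₄], P x) → P q →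
      ∀ x ∈ [f₁, f₂, f₃, f₄, q], P x := fun P h1 h2 x hx => by
    rw [show [f₁, f₂, f₃, f₄, q] = [f₁, f₂, f₃, f₄] ++ [q] from rfl, List.mem_append,
      List.mem_singleton] at hx
    rcases hx with hx | rfl
    exacts [h1 x hx, h2]
  have hqO' : q ∈ oPerp D O' := by
    refine ⟨hO.sub hqO, fun h => hz.2.1 ?_, hO'.closed _ (fun x hx => hin x (List.mem_toFinset.1 hx)) ?_
      q (hO.sub hqO) fun x hx => ?_⟩
    · have e := octad_eq_of_five hD hB hO hO' hnd5' (hm5 _ hf hqO)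
        (hm5 _ (fun x hx => hin x (hsub4 hx)) h)
      rw [e]
      exact hin z (by simp)
    · rw [Set.ncard_coe_finset, List.toFinset_card_of_nodup hnd5]
      rfl
    · rcases (hmem5 x (List.mem_toFinset.1 hx)).2 with h | rfl
      exacts [hO.comm _ hqO _ h, (hz.2.2 _ hqO).symm]
  obtain ⟨s, hs, hsq⟩ := oPerp_other hD hB hO' hqO'
  refine ⟨s, hs.1, fun x hx => hs.2.2 x (hin x (hsub4 hx)), hs.2.2 z (hin z (by simp)),
    fun o ho ho4 hso => hsq ?_⟩
  have hnd5o : [f₁, f₂, f₃, f₄, o].Nodup := by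
    rw [show [f₁, f₂, f₃, f₄, o] = [f₁, f₂, f₃, f₄] ++ [o] from rfl, List.nodup_append]
    refine ⟨hnd, List.nodup_singleton o, fun a ha b hb e => ?_⟩
    rw [List.mem_singleton] at hb
    exact ho4 (hb ▸ e ▸ ha)
  refine hO.closed (([f₁, f₂, f₃, f₄, o] : List G).toFinset : Set G) (fun x hx => ?_) ?_ s hs.1
    (fun x hx => ?_) q hqO
  · rw [List.coe_toFinset] at hx
    simp only [List.mem_cons, List.not_mem_nil, or_false, Set.mem_setOf_eq] at hx
    rcases hx with rfl | rfl | rfl | rfl | rfl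
    exacts [hf _ (by simp), hf _ (by simp), hf _ (by simp), hf _ (by simp), ho]
  · rw [Set.ncard_coe_finset, List.toFinset_card_of_nodup hnd5o]
    rfl
  · rw [List.coe_toFinset] at hx
    simp only [List.mem_cons, List.not_mem_nil, or_false, Set.mem_setOf_eq] at hx
    rcases hx with rfl | rfl | rfl | rfl | rfl
    exacts [hs.2.2 _ (hin _ (by simp)), hs.2.2 _ (hin _ (by simp)), hs.2.2 _ (hin _ (by simp)),
      hs.2.2 _ (hin _ (by simp)), hso]

end Cfsg.Agent.ThreeTrans
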