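import Cfsg.Agent.ThreeTrans.TypeM22
import Cfsg.Agent.ThreeTrans.UnitaryPlane

/-!
# Planes in the layers of a set of type M(22)
-/

set_option autoImplicit false

open Cfsg

namespace Cfsg.Agent.ThreeTrans

variable {G K : Type*} [Group G] [Group K] {S : Set G} {T : Set K} {φ : G → K} {p q r : G}

theorem SetIso.pl_image (h : SetIso S T φ) (hp : p ∈ S) (hq : q ∈ S) (hr : r ∈ S) :
    φ '' pl S p q r = pl T (φ p) (φ q) (φ r) := by
  apply Set.ext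
  intro k
  constructor
  · rintro ⟨e, ⟨he, he'⟩, rfl⟩
    refine ⟨h.bij.mapsTo he, fun l hl h1 h2 h3 => ?_⟩
    obtain ⟨y, hy, rfl⟩ := h.bij.surjOn hl
    exact (h.comm y hy e he).2 (he' y hy ((h.comm y hy p hp).1 h1) ((h.comm y hy q hq).1 h2)
      ((h.comm y hy r hr).1 h3))
  · rintro ⟨hk, hk'⟩
    obtain ⟨e, he, rfl⟩ := h.bij.surjOn hk
    refine ⟨e, ⟨he, fun y hy h1 h2 h3 => ?_⟩, rfl⟩
    exact (h.comm y hy e he).1 (hk' _ (h.bij.mapsTo hy) ((h.comm y hy p hp).2 h1)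
      ((h.comm y hy q hq).2 h2) ((h.comm y hy r hr).2 h3))

theorem SetIso.planes (h : SetIso S T φ) (hT : Planes T) : Planes S := by
  have hm : ∀ {x}, x ∈ S → φ x ∈ T := fun hx => h.bij.mapsTo hx
  have hq' : ∀ {p q}, p ∈ S → q ∈ dperp S p → φ q ∈ dperp T (φ p) := fun hp hq =>
    (h.restrict hp).bij.mapsTo hq
  have hc : ∀ {x y}, x ∈ S → y ∈ S → Commute x y → Commute (φ x) (φ y) := fun hx hy hxy =>
    (h.comm _ hx _ hy).2 hxy
  have hl : ∀ {p q x}, p ∈ S → q ∈ S → x ∈ S → φ x ∈ ln T (φ p) (φ q) → x ∈ ln S p q :=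
    fun {p q x} hp hq hx hh => by
      rw [← h.ln_image hp hq] at hh
      obtain ⟨e, he, heq⟩ := hh
      rwa [← h.bij.injOn he.1 hx heq]
  refine ⟨?_, ?_, ?_, ?_, ?_, ?_⟩
  · intro p hp q hq
    obtain ⟨k, hk, h1, h2, h3⟩ := hT.ext _ (hm hp) _ (hq' hp hq)
    obtain ⟨r, hr, rfl⟩ := h.bij.surjOn hk
    exact ⟨r, hr, (h.comm r hr p hp).1 h1, (h.comm r hr q hq.1).1 h2, fun hh => h3 (by
      rw [← h.ln_image hp hq.1]; exact ⟨r, hh, rfl⟩)⟩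
  · intro p hp q hq x hx y hy z hz h1 h2 h3 h4 h5 h6 h7 h8 h9
    exact (h.comm x hx z hz).1 (hT.trans _ (hm hp) _ (hq' hp hq) _ (hm hx) _ (hm hy) _ (hm hz)
      (hc hx hp h1) (hc hx hq.1 h2) (hc hy hp h3) (hc hy hq.1 h4) (hc hz hp h5) (hc hz hq.1 h6)
      (fun hh => h7 (hl hp hq.1 hy hh)) (hc hx hy h8) (hc hy hz h9))
  · intro C hC hcl e he c hcC hec
    have := hT.bound (φ '' C) (Set.image_subset_iff.2 fun x hx => hm (hC hx))
      (by rintro - ⟨u, hu, rfl⟩ - ⟨v, hv, rfl⟩; exact hc (hC hu) (hC hv) (hcl u hu v hv))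
      (φ e) (hm he) (φ c) ⟨c, hcC, rfl⟩ fun hh => hec ((h.comm e he c (hC hcC)).1 hh)
    rw [show {u | u ∈ φ '' C ∧ Commute (φ e) u} = φ '' {u | u ∈ C ∧ Commute e u} from ?_,
      (h.bij.injOn.mono fun u hu => hC hu.1).ncard_image] at this
    · exact this
    apply Set.ext
    intro k
    constructor
    · rintro ⟨⟨u, hu, rfl⟩, hh⟩
      exact ⟨u, ⟨hu, (h.comm e he u (hC hu)).1 hh⟩, rfl⟩
    · rintro ⟨u, ⟨hu, hh⟩, rfl⟩
      exact ⟨⟨u, hu, rfl⟩, hc he (hC hu) hh⟩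
  all_goals intro p hp q hq r hr h1 h2 h3
  all_goals
    have hTr : φ r ∉ ln T (φ p) (φ q) := fun hh => h3 (hl hp hq.1 hr hh)
    have himg := h.pl_image hp hq.1 hr
  · have := hT.size _ (hm hp) _ (hq' hp hq) _ (hm hr) (hc hr hp h1) (hc hr hq.1 h2) hTr
    rwa [← himg, (h.bij.injOn.mono fun u hu => hu.1).ncard_image] at this
  · intro e he
    have := hT.five _ (hm hp) _ (hq' hp hq) _ (hm hr) (hc hr hp h1) (hc hr hq.1 h2) hTr _ (hm he)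
    rw [← himg, show {u | u ∈ φ '' pl S p q r ∧ Commute (φ e) u} =
      φ '' {u | u ∈ pl S p q r ∧ Commute e u} from ?_,
      (h.bij.injOn.mono fun u hu => hu.1.1).ncard_image] at this
    · exact this
    apply Set.ext
    intro k
    constructor
    · rintro ⟨⟨u, hu, rfl⟩, hh⟩
      exact ⟨u, ⟨hu, (h.comm e he u hu.1).1 hh⟩, rfl⟩
    · rintro ⟨u, ⟨hu, hh⟩, rfl⟩
      exact ⟨⟨u, hu, rfl⟩, hc he hu.1 hh⟩
  · obtain ⟨d, hd, hd'⟩ := hT.traces _ (hm hp) _ (hq' hp hq) _ (hm hr) (hc hr hp h1) (hc hr hq.1 h2) hTr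
    choose f hf hfe using fun i => h.bij.surjOn (hd i).1
    refine ⟨f, fun i => ⟨hf i, fun hh => (hd i).2 (hfe i ▸ hc (hf i) hp hh)⟩, ?_⟩
    intro i j hij u hu v hv k1 k2 k3 k4
    refine h.bij.injOn hu.1 hv.1 (hd' i j hij _ (himg ▸ ⟨u, hu, rfl⟩) _ (himg ▸ ⟨v, hv, rfl⟩)
      ?_ ?_ ?_ ?_)
    all_goals rw [← hfe]
    exacts [hc (hf i) hu.1 k1, hc (hf i) hv.1 k2, hc (hf j) hu.1 k3, hc (hf j) hv.1 k4]

theorem planes_layer {X : Type*} [Group X] [Finite X] {D₀ : Set X}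
    (hD : IsThreeTranspositionGroup (D₀ \ {1})) (h : IsOfTypeM22 X D₀) :
    ∀ t ∈ D₀ \ {1}, Planes (dperp (D₀ \ {1}) t) := by
  obtain ⟨⟨hcls, -, hN⟩, -, -⟩ := layerData_of_M22 hD h
  obtain ⟨-, d, hd0, c, -, hdc, ⟨F, hFld, hFt, hF, ⟨e⟩⟩, -, -, -⟩ := h
  have hd : d ∈ D₀ \ {1} := ⟨hd0, fun hh => hdc (by rw [hh]; exact Commute.one_left c)⟩
  set H := Subgroup.closure {y : X | y ∈ D₀ ∧ y ≠ d ∧ Commute d y}
  have hH : H = Subgroup.closure (dperp (D₀ \ {1}) d) := closure_congr_one (dperp_diff_iff d)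
  have hcard : 2 ^ 15 ∣ Nat.card (H ⧸ Subgroup.center H) := by
    rw [Nat.card_congr e.toEquiv]
    exact two_pow_dvd_psu hF
  have : IsSimpleGroup (H ⧸ Subgroup.center H) :=
    (MulEquiv.isSimpleGroup_congr e).2 (Cfsg.Agent.S0283.result
      (by rw [hF]; norm_num : Fintype.card F = 2 ^ 2) 6 (by norm_num) (by norm_num))
  have hgrp := lowImage_group hD hH
  have hG := good_of_simple (not_isMulCommutative_of_two_pow_dvd hgrp hcard) hgrp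
  obtain ⟨q, hq, -⟩ := hG.2.1
  obtain ⟨θ, tp, hB, hM⟩ := psu_model hF e hgrp ⟨q, hq⟩
  intro t ht
  obtain ⟨φ, hφ⟩ := exists_layer_iso hD hd hH hcls hG hN ht
  exact hφ.planes (UModel.planes hB hM (by rw [Nat.card_eq_fintype_card, hF]))

end Cfsg.Agent.ThreeTrans
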