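import Cfsg.Agent.ThreeTrans.PrimeLemmas
import Cfsg.Agent.ThreeTrans.WidthOne

/-!
# Large primes: generic lemmas about invariant sets of members
-/

set_option autoImplicit false

open Cfsg

namespace Cfsg.Agent.ThreeTrans

variable {G : Type*} [Group G] [Finite G] {D : Set G}

/-- A conjugation-closed set of pairwise noncommuting members has 3-power size. -/
theorem ncard_noncommuting_pow (hD : IsThreeTranspositionSet D) {F : Set G} (hFD : F ⊆ D)
    (hne : F.Nonempty) (hcl : ∀ a ∈ F, ∀ b ∈ F, a * b * a⁻¹ ∈ F)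
    (hnc : ∀ a ∈ F, ∀ b ∈ F, a ≠ b → ¬ Commute a b) : ∃ j, F.ncard = 3 ^ j := by
  have : Fact (Nat.Prime 3) := ⟨Nat.prime_three⟩
  set H := Subgroup.closure F with hH
  have hmem : ∀ a ∈ F, a ∈ H := fun a ha => Subgroup.subset_closure ha
  have hconj : ∀ g ∈ H, ∀ u ∈ F, g * u * g⁻¹ ∈ F := by
    intro g hg
    induction hg using Subgroup.closure_induction_left with
    | one => intro u hu; simpa using hu
    | mul_left s hs y _ ih =>
      intro u hu
      rw [show s * y * u * (s * y)⁻¹ = s * (y * u * y⁻¹) * s⁻¹ by group]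
      exact hcl s hs _ (ih u hu)
    | inv_mul_cancel s hs y _ ih =>
      intro u hu
      rw [inv_eq hD (hFD hs), show s * y * u * (s * y)⁻¹ = s * (y * u * y⁻¹) * s⁻¹ by group]
      exact hcl s hs _ (ih u hu)
  have hT : IsCubeSet {t : H | (t : G) ∈ F} :=
    { conj := fun g t ht => hconj g g.2 t ht
      ord := fun t ht => by rw [← Subgroup.orderOf_coe]; exact hD.1 _ (hFD ht)
      cube := fun s hs t ht => Subtype.ext (by
        rcases eq_or_ne (s : G) t with e | e
        · rw [Subgroup.coe_pow, Subgroup.coe_mul, ← e, mul_self hD (hFD hs), one_pow,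
            OneMemClass.coe_one]
        · exact cube_of_not_commute hD (hFD hs) (hFD ht) (hnc _ hs _ ht e)) }
  obtain ⟨a, ha⟩ := hne
  set N := (pCore 3 H).map H.subtype
  have horb := card_eq_orbit_mul N a F (fun g hg => by
      obtain ⟨g, -, rfl⟩ := hg
      exact hconj g g.2 a ha) fun b hb => by
    refine ⟨a * b, ⟨_, hT.mul_mem_pCore (a := ⟨a, hmem a ha⟩) (b := ⟨b, hmem b hb⟩) ha hb, rfl⟩, ?_⟩
    rcases eq_or_ne a b with rfl | hne'
    · rw [mul_self hD (hFD ha), one_mul, inv_one, mul_one]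
    · rw [mul_inv_rev, inv_eq hD (hFD ha), inv_eq hD (hFD hb)]
      simp only [mul_assoc]
      rw [show b * (a * (b * a)) = b * a * b * a by simp only [mul_assoc],
        braid hD (hFD hb) (hFD ha) fun h => hnc a ha b hb hne' h.symm]
      simp only [mul_assoc, mul_self_mul hD (hFD ha), mul_self hD (hFD ha), mul_one]
  have hN : IsPGroup 3 N := (Core.pCore_isPGroup (p := 3) (G := H)).map _
  obtain ⟨n, hn⟩ := IsPGroup.iff_card.1 hN
  rw [hn] at horb
  obtain ⟨j, -, hj⟩ := (Nat.dvd_prime_pow Nat.prime_three).1 (Dvd.intro _ horb.symm)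
  exact ⟨j, hj⟩

/-- An element of prime order moving every member leaves no nonempty set of members of size less
than that prime invariant. -/
theorem false_of_small_invariant {x : G} {p : ℕ} (hp : p.Prime) (hx : orderOf x = p)
    (hfp : ∀ u ∈ D, ¬ Commute x u) {S : Set G} (hS : S ⊆ D) (hne : S.Nonempty)
    (hinv : ∀ u ∈ S, x * u * x⁻¹ ∈ S) (hlt : S.ncard < p) : False := by
  obtain ⟨u, hu, hc⟩ := exists_fixed_of_pow hinv hp (hx ▸ pow_orderOf_eq_one x) fun h =>
    hlt.not_ge (Nat.le_of_dvd ((Set.ncard_pos (Set.toFinite _)).2 hne) h)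
  exact hfp u (hS hu) hc

/-- If an element of prime order other than 3 moves every member and commutes with each element of
a set, the members fixed by that set include a commuting pair. -/
theorem exists_commuting_pair_of_centralized (hD : IsThreeTranspositionGroup D) {x : G} {p : ℕ}
    (hp : p.Prime) (hp3 : p ≠ 3) (hx : orderOf x = p) (hfp : ∀ u ∈ D, ¬ Commute x u)
    {Y : Set G} (hY : ∀ y ∈ Y, Commute x y) {u : G} (hu : u ∈ D) (huY : ∀ y ∈ Y, Commute y u) :
    ∃ a b, a ∈ D ∧ b ∈ dperp D a ∧ (∀ y ∈ Y, Commute y a) ∧ ∀ y ∈ Y, Commute y b := by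
  by_contra hcon
  push Not at hcon
  set F : Set G := {e | e ∈ D ∧ ∀ y ∈ Y, Commute y e}
  have hnc : ∀ a ∈ F, ∀ b ∈ F, a ≠ b → ¬ Commute a b := fun a ha b hb hne hab => by
    obtain ⟨y, hy, hyb⟩ := hcon a b ha.1 ⟨hb.1, hne.symm, hab⟩ ha.2
    exact hyb (hb.2 y hy)
  obtain ⟨j, hj⟩ := ncard_noncommuting_pow hD.1 (F := F) (fun e he => he.1) ⟨u, hu, huY⟩
    (fun a ha b hb => ⟨hD.2.1 a b hb.1, fun y hy =>
      ((ha.2 y hy).mul_right (hb.2 y hy)).mul_right (ha.2 y hy).inv_right⟩) hnc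
  have h := ncard_fixed_modEq (S := F) (x := x) (fun e he => ⟨hD.2.1 x e he.1, fun y hy =>
    ((hY y hy).symm.mul_right (he.2 y hy)).mul_right (hY y hy).symm.inv_right⟩) hp
    (hx ▸ pow_orderOf_eq_one x)
  rw [show {e | e ∈ F ∧ Commute x e} = (∅ : Set G) from
    Set.eq_empty_of_forall_notMem fun e he => hfp e he.1.1 he.2, Set.ncard_empty, Nat.zero_mod,
    hj] at h
  exact hp3 ((Nat.prime_dvd_prime_iff_eq hp Nat.prime_three).1
    (hp.dvd_of_dvd_pow (Nat.dvd_of_mod_eq_zero h.symm)))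

/-- A 3-group permuting a set whose size has 3-part at most `3 ^ k` has a stabiliser of small
index. -/
theorem exists_small_orbit {P : Subgroup G} {a k : ℕ} (hP : Nat.card P = 3 ^ a) {S : Set G}
    (hS : ∀ g ∈ P, ∀ u ∈ S, g * u * g⁻¹ ∈ S) (hk : ¬ 3 ^ (k + 1) ∣ S.ncard) :
    ∃ u ∈ S, 3 ^ (a - k) ∣ Nat.card ↥(P ⊓ Subgroup.centralizer ({u} : Set G)) := by
  classical
  letI : MulAction P S :=
    { smul := fun g u => ⟨(g : G) * u * (g : G)⁻¹, hS g g.2 u u.2⟩
      one_smul := fun u => Subtype.ext (show (1 : G) * u * 1⁻¹ = u by group)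
      mul_smul := fun g h u => Subtype.ext (show (g : G) * h * u * ((g : G) * h)⁻¹ =
        g * (h * u * (h : G)⁻¹) * (g : G)⁻¹ by group) }
  have : Fintype S := Fintype.ofFinite S
  by_contra hcon
  push Not at hcon
  apply hk
  rw [← Nat.card_coe_set_eq, Nat.card_congr (MulAction.selfEquivSigmaOrbitsQuotientStabilizer P S),
    Nat.card_sigma]
  refine Finset.dvd_sum fun ω _ => ?_
  set u := ω.out
  have hle : (MulAction.stabilizer P u).map P.subtype = P ⊓ Subgroup.centralizer ({(u : G)} : Set G) := by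
    apply Subgroup.ext
    intro g
    rw [Subgroup.mem_inf, Subgroup.mem_centralizer_singleton_iff]
    constructor
    · rintro ⟨g, hg, rfl⟩
      exact ⟨g.2, mul_inv_eq_iff_eq_mul.1 (congrArg Subtype.val (MulAction.mem_stabilizer_iff.1 hg))⟩
    · rintro ⟨hg, hc⟩
      exact ⟨⟨g, hg⟩, MulAction.mem_stabilizer_iff.2 (Subtype.ext (mul_inv_eq_iff_eq_mul.2 hc)), rfl⟩
  have hcard := Subgroup.card_eq_card_quotient_mul_card_subgroup (MulAction.stabilizer P u)
  rw [← Subgroup.card_map_of_injective P.subtype_injective (K := MulAction.stabilizer P u), hle,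
    hP] at hcard
  obtain ⟨j, -, hj⟩ := (Nat.dvd_prime_pow Nat.prime_three).1 (Dvd.intro _ hcard.symm)
  rw [hj] at hcard ⊢
  refine pow_dvd_pow 3 (not_lt.1 fun hlt => hcon u u.2 ?_)
  rcases le_or_gt a k with h | h
  · rw [Nat.sub_eq_zero_of_le h, pow_zero]; exact one_dvd _
  · refine Nat.dvd_of_mul_dvd_mul_left (pow_pos (Nat.succ_pos 2) j) ?_
    rw [← hcard, ← pow_add]
    exact pow_dvd_pow 3 (by omega)

end Cfsg.Agent.ThreeTrans
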