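import Cfsg.Agent.ThreeTrans.UnitaryPrime
import Mathlib.GroupTheory.Sylow
import Mathlib.GroupTheory.SpecificGroups.Cyclic

/-!
# Centralisers of elements of order 7 and 11 in PSU(6, 2), and normalisers of subgroups of prime order
-/

set_option autoImplicit false

open Cfsg Cfsg.Agent.Classical Cfsg.Agent.Classical.Herm Module

namespace Cfsg.Agent.ThreeTrans

/-- A subgroup of prime order whose square does not divide the group order: its normaliser. -/
theorem normalizer_prime {H : Type*} [Group H] [Finite H] {X : Subgroup H} {p : ℕ}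
    (hp : p.Prime) (hX : Nat.card X = p) (hH : ¬ p ^ 2 ∣ Nat.card H) {c : ℕ}
    (hc : Nat.card ↥(Subgroup.centralizer (X : Set H)) = c) :
    ∃ k n, k ∣ p - 1 ∧ Nat.card ↥(Subgroup.normalizer (X : Set H)) = c * k ∧
      Nat.card H = c * k * n ∧ n % p = 1 := by
  have := Fact.mk hp
  have hdvd : p ∣ Nat.card H := hX ▸ X.card_subgroup_dvd_card
  have hfac : (Nat.card H).factorization p = 1 := by
    have h1 := hp.pow_dvd_iff_le_factorization (k := 2) (Nat.card_pos (α := H)).ne'
    have h2 := hp.factorization_pos_of_dvd (Nat.card_pos (α := H)).ne' hdvd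
    by_contra hne
    exact hH (h1.2 (by omega))
  set P : Sylow p H := Sylow.ofCard X (by rw [hX, hfac, pow_one])
  have hn : (Subgroup.normalizer (X : Set H)).index % p = 1 := by
    have h1 := card_sylow_modEq_one p H
    rw [Sylow.card_eq_index_normalizer P] at h1
    exact Eq.trans h1 (Nat.one_mod_eq_one.2 hp.one_lt.ne')
  set C := Subgroup.centralizer (X : Set H)
  have hCN : C ≤ Subgroup.normalizer (X : Set H) := Subgroup.centralizer_le_normalizer _
  obtain ⟨k, hk⟩ : Nat.card C ∣ Nat.card ↥(Subgroup.normalizer (X : Set H)) :=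
    Subgroup.card_dvd_of_le hCN
  refine ⟨k, (Subgroup.normalizer (X : Set H)).index, ?_, by rw [hk, hc], ?_, hn⟩
  · have : IsCyclic X := isCyclic_of_prime_card hX
    have haut : Nat.card (MulAut X) = p - 1 := by
      rw [IsCyclic.card_mulAut, hX, Nat.totient_prime hp]
    set φ := Subgroup.normalizerMonoidHom X
    have h1 : Nat.card φ.ker = Nat.card C := by
      rw [Subgroup.normalizerMonoidHom_ker]
      exact Nat.card_congr (Subgroup.subgroupOfEquivOfLe hCN).toEquiv
    have h2 := Subgroup.card_eq_card_quotient_mul_card_subgroup φ.ker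
    rw [Nat.card_congr (QuotientGroup.quotientKerEquivRange φ).toEquiv, h1, hk, mul_comm] at h2
    have h3 : k = Nat.card φ.range := Nat.eq_of_mul_eq_mul_right Nat.card_pos h2
    rw [h3, ← haut]
    exact Subgroup.card_subgroup_dvd_card _
  · rw [← hc, ← hk, Subgroup.card_mul_index]

/-- The primes dividing the order of PSU(6, 2). -/
theorem prime_dvd_psu {r : ℕ} (hr : r.Prime) (h : r ∣ 9196830720) :
    r = 2 ∨ r = 3 ∨ r = 5 ∨ r = 7 ∨ r = 11 := by
  rw [show 9196830720 = 2 ^ 15 * 3 ^ 6 * 5 * 7 * 11 by norm_num] at h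
  have hq : ∀ q : ℕ, q.Prime → r ∣ q → r = q := fun q hq hd => (Nat.prime_dvd_prime_iff_eq hr hq).1 hd
  rcases (Nat.Prime.dvd_mul hr).1 h with h | h
  · rcases (Nat.Prime.dvd_mul hr).1 h with h | h
    · rcases (Nat.Prime.dvd_mul hr).1 h with h | h
      · rcases (Nat.Prime.dvd_mul hr).1 h with h | h
        · exact Or.inl (hq 2 (by norm_num) (hr.dvd_of_dvd_pow h))
        · exact Or.inr (Or.inl (hq 3 (by norm_num) (hr.dvd_of_dvd_pow h)))
      · exact Or.inr (Or.inr (Or.inl (hq 5 (by norm_num) h)))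
    · exact Or.inr (Or.inr (Or.inr (Or.inl (hq 7 (by norm_num) h))))
  · exact Or.inr (Or.inr (Or.inr (Or.inr (hq 11 (by norm_num) h))))

namespace UModel

variable {F V : Type*} [Field F] [AddCommGroup V] [Module F V] {θ : F →+* F}
  {B : V →ₛₗ[θ] V →ₗ[F] F}

theorem apply_scalar {g : suG B} {c : F} (hg : ∀ v, (g ^ 3).1 v = c • v) (v : V) :
    g.1 (g.1 (g.1 v)) = c • v := by
  rw [← hg v]
  simp only [pow_succ_apply, pow_zero, OneMemClass.coe_one]
  rfl

end UModel

/-- An element of order 11, or one of order 7 commuting with no transvection, generates its own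
centraliser. -/
theorem psu_centralizer_prime {F : Type*} [Field F] [Fintype F] (hF : Fintype.card F = 4)
    {X : Type*} [Group X] [Finite X] (e : X ≃* Cfsg.PSU 6 F 2) {E : Set X}
    (hE : IsThreeTranspositionGroup E) (hne : E.Nonempty) :
    (∀ x : X, orderOf x = 11 → Subgroup.centralizer ({x} : Set X) = Subgroup.zpowers x) ∧
      (∀ x : X, orderOf x = 7 → (∀ q ∈ E, ¬ Commute x q) →
        Subgroup.centralizer ({x} : Set X) = Subgroup.zpowers x) := by
  classical
  have hcard : Nat.card X = 9196830720 := (Nat.card_congr e.toEquiv).trans (card_psu_six hF)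
  obtain ⟨θ, hB, π, hsurj, hcen, hpeq, hM⟩ := psu_hom hF e hE hne
  have := hB.fin
  have := hB.finF
  have hF4 : Nat.card F = 4 := by rw [Nat.card_eq_fintype_card, hF]
  have hker : ∀ g, π g = 1 → ∃ c : F, ∀ v, g.1 v = c • v := by
    intro g hg
    refine Herm.scalar_of_fix_iso hB.herm (by rw [hB.rank]; norm_num) fun p => ?_
    obtain ⟨u, hu0, hu, rfl⟩ := Herm.exists_pt p
    obtain ⟨u', hu'⟩ := UModel.exists_image hB g ⟨u, hu0, hu⟩
    have h1 := UModel.tr_conj hB g hu'
    have h2 : π (UModel.tr hB u') = π (UModel.tr hB ⟨u, hu0, hu⟩) := by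
      rw [← h1, map_mul, map_mul, map_inv, hg]; simp
    obtain ⟨k, hk⟩ := (UModel.tr_eq_iff hB u' _).1 (hpeq _ _ h2)
    rw [Herm.smul_pt, Herm.pt_eq_iff]
    change u = k • u'.1 at hk
    rw [hu'] at hk
    have hk0 : k ≠ 0 := fun h => hu0 (by rw [hk, h, zero_smul])
    exact ⟨k⁻¹, by nth_rw 1 [hk]; rw [inv_smul_smul₀ hk0]⟩
  have hker1 : ∀ (g : suG (hermB 6 θ)) (a : F), (∀ v, g.1 v = a • v) → π g = 1 := fun g a ha =>
    hcen g (Herm.scalar_mem_center hB.herm ha)
  have hz3 : ∀ z, π z = 1 → z ^ 3 = 1 := by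
    intro z hz
    obtain ⟨c, hc⟩ := hker z hz
    refine UModel.ext_suG hB fun v => ?_
    simp only [UModel.pow_succ_apply, pow_zero, OneMemClass.coe_one, LinearEquiv.coe_one, id_eq, hc,
      smul_smul]
    rcases eq_or_ne v 0 with rfl | hv
    · simp
    have hc0 : c ≠ 0 := fun h => hv (z.1.map_eq_zero_iff.1 (by rw [hc, h, zero_smul]))
    rw [show c * (c * c) = 1 by linear_combination UModel.cube_one hB hF4 hc0, one_smul]
  -- lifts of the same order
  have hlift : ∀ (p m : ℕ), m % 3 = 0 → m % p = 1 → ∀ y : X, y ^ p = 1 →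
      ∃ g, π g = y ∧ g ^ p = 1 := by
    intro p m h3 h1 y hy
    obtain ⟨g₀, rfl⟩ := hsurj y
    refine ⟨g₀ ^ m, ?_, ?_⟩
    · rw [map_pow, ← Nat.div_add_mod m p, h1, pow_add, pow_mul, hy, one_pow, one_mul, pow_one]
    · obtain ⟨j, rfl⟩ := Nat.dvd_of_mod_eq_zero h3
      rw [← pow_mul, show 3 * j * p = p * 3 * j by ring, pow_mul, pow_mul,
        hz3 (g₀ ^ p) (by rw [map_pow, hy]), one_pow]
  have hcomm : ∀ (p : ℕ), p.Coprime 3 → ∀ {g h : suG (hermB 6 θ)}, g ^ p = 1 →
      Commute (π g) (π h) → Commute g h := by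
    intro p hp g h hg hgh
    set z := h * g * h⁻¹ * g⁻¹ with hz
    have hπz : π z = 1 := by
      rw [hz, map_mul, map_mul, map_mul, map_inv, map_inv, ← hgh.eq]; group
    have hzc : ∀ w, Commute z w := fun w => by
      obtain ⟨c, hc⟩ := hker z hπz
      exact (Subgroup.mem_center_iff.1 (Herm.scalar_mem_center hB.herm hc) w).symm
    have h1 : h * g * h⁻¹ = z * g := by rw [hz]; group
    have h2 : z ^ p = 1 := by
      have := congrArg (· ^ p) h1
      simp only [conj_pow, hg, (hzc g).mul_pow, mul_one, mul_inv_cancel] at this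
      exact this.symm
    have h4 : orderOf z ∣ Nat.gcd p 3 :=
      Nat.dvd_gcd (orderOf_dvd_of_pow_eq_one h2) (orderOf_dvd_of_pow_eq_one (hz3 z hπz))
    rw [hp, Nat.dvd_one, orderOf_eq_one_iff] at h4
    rw [h4, one_mul, mul_inv_eq_iff_eq_mul] at h1
    exact h1.symm
  -- the only primes of the centraliser
  have hfin : ∀ (p : ℕ), p.Prime → ¬ p ^ 2 ∣ 9196830720 → ∀ x : X, orderOf x = p →
      (∀ r, r = 2 ∨ r = 3 ∨ r = 5 ∨ r = 7 ∨ r = 11 → r ≠ p → ∀ y, Commute x y → y ^ r = 1 → y = 1) →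
      Subgroup.centralizer ({x} : Set X) = Subgroup.zpowers x := by
    intro p hp h2 x hx hkill
    have := Fact.mk hp
    set C := Subgroup.centralizer ({x} : Set X)
    have hle : Subgroup.zpowers x ≤ C :=
      Subgroup.zpowers_le.2 (Subgroup.mem_centralizer_singleton_iff.2 rfl)
    have hdC : Nat.card C ∣ 9196830720 := hcard ▸ C.card_subgroup_dvd_card
    have hP : IsPGroup p C := by
      intro y
      have hC0 : Nat.card C ≠ 0 := Nat.card_pos.ne'
      obtain ⟨n, -, hn⟩ : ∃ n, n ≤ (Nat.card C).factorization p ∧ Nat.card C = p ^ n := by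
        refine ⟨(Nat.card C).factorization p, le_rfl, ?_⟩
        refine Nat.eq_pow_of_factorization_eq_single hC0 ?_
        ext r
        rcases eq_or_ne r p with rfl | hrp
        · simp
        · rw [Finsupp.single_eq_of_ne hrp]
          by_contra hne
          have hr := Nat.prime_of_mem_primeFactors (Nat.support_factorization (Nat.card C) ▸
            Finsupp.mem_support_iff.2 hne)
          have hrd := Nat.dvd_of_mem_primeFactors (Nat.support_factorization (Nat.card C) ▸
            Finsupp.mem_support_iff.2 hne)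
          have := Fact.mk hr
          obtain ⟨y, hy⟩ := exists_prime_orderOf_dvd_card' r hrd
          have h1 : (y : X) = 1 := hkill r (prime_dvd_psu hr (hrd.trans hdC)) hrp y
            (show Commute x y from (Subgroup.mem_centralizer_singleton_iff.1 y.2).symm)
            (by rw [← SubgroupClass.coe_pow, ← hy, pow_orderOf_eq_one, Subgroup.coe_one])
          rw [show y = 1 from Subtype.ext h1, orderOf_one] at hy
          exact hr.one_lt.ne hy
      exact ⟨n, by rw [← hn]; exact pow_card_eq_one'⟩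
    obtain ⟨n, hn⟩ := IsPGroup.iff_card.1 hP
    refine (Subgroup.eq_of_le_of_card_ge hle ?_).symm
    rw [Nat.card_zpowers, hx, hn]
    have : n ≤ 1 := by
      by_contra hlt
      push Not at hlt
      exact h2 ((pow_dvd_pow p hlt).trans (hn ▸ hdC))
    calc p ^ n ≤ p ^ 1 := Nat.pow_le_pow_right hp.pos this
      _ = p := pow_one p
  have h11 : ∀ x : X, orderOf x = 11 → Subgroup.centralizer ({x} : Set X) = Subgroup.zpowers x := by
    intro x hx
    refine hfin 11 (by norm_num) (by norm_num) x hx ?_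
    obtain ⟨g, rfl, hg⟩ := hlift 11 12 (by norm_num) (by norm_num) x (hx ▸ pow_orderOf_eq_one x)
    have hg1 : g ≠ 1 := fun h => by rw [h, map_one, orderOf_one] at hx; omega
    intro r hr hne y hy hyr
    rcases hr with rfl | rfl | rfl | rfl | rfl
    · obtain ⟨k, rfl, hk⟩ := hlift 2 3 (by norm_num) (by norm_num) y hyr
      rw [(UModel.eleven_scalar hB hF4 hg hg1 (hcomm 11 (by norm_num) hg hy)).1 2 (by simp) hk, map_one]
    · obtain ⟨k, rfl⟩ := hsurj y
      obtain ⟨c, hc⟩ := hker (k ^ 3) (by rw [map_pow, hyr])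
      obtain ⟨a, ha⟩ := (UModel.eleven_scalar hB hF4 hg hg1 (hcomm 11 (by norm_num) hg hy)).2 c
        (UModel.apply_scalar hc)
      exact hker1 k a ha
    · obtain ⟨k, rfl, hk⟩ := hlift 5 6 (by norm_num) (by norm_num) y hyr
      rw [(UModel.eleven_scalar hB hF4 hg hg1 (hcomm 11 (by norm_num) hg hy)).1 5 (by simp) hk, map_one]
    · obtain ⟨k, rfl, hk⟩ := hlift 7 15 (by norm_num) (by norm_num) y hyr
      rw [(UModel.eleven_scalar hB hF4 hg hg1 (hcomm 11 (by norm_num) hg hy)).1 7 (by simp) hk, map_one]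
    · exact absurd rfl hne
  refine ⟨h11, fun x hx hfree => ?_⟩
  refine hfin 7 (by norm_num) (by norm_num) x hx ?_
  obtain ⟨g, rfl, hg⟩ := hlift 7 15 (by norm_num) (by norm_num) x (hx ▸ pow_orderOf_eq_one x)
  have hiso : ∀ v, v ≠ 0 → hermB 6 θ v v = 0 → g.1 v ≠ v := fun v hv0 hvv hgv =>
    hfree _ (UModel.tp_mem hM ⟨v, hv0, hvv⟩)
      ((UModel.commute_of_fix hB g ⟨v, hv0, hvv⟩ hgv).map π)
  have hcount : ¬ 5 ∣ {v : Fin 6 → F | v ≠ 0 ∧ hermB 6 θ v v = 0}.ncard := by
    have hσ : IsInvol θ := hB.herm.toIsInvol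
    have hq : Nat.card (fixField θ) = 2 := by
      have h := card_eq_fix_sq (F := F) hσ
      rw [hF4] at h
      nlinarith [h]
    have h := card_herm_isotropic (σ := θ) hσ hq 6
    have e : {v : Fin 6 → F | v ≠ 0 ∧ hermB 6 θ v v = 0} = {v | hermB 6 θ v v = 0} \ {0} := by
      ext v; exact ⟨fun h => ⟨h.2, h.1⟩, fun h => ⟨h.2, h.1⟩⟩
    rw [e, Set.ncard_sdiff_singleton_of_mem (show (0 : Fin 6 → F) ∈ {v | hermB 6 θ v v = 0} by simp), ← Nat.card_coe_set_eq,
      show Nat.card ↑{v : Fin 6 → F | hermB 6 θ v v = 0} = _ from h]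
    norm_num
  intro r hr hne y hy hyr
  rcases hr with rfl | rfl | rfl | rfl | rfl
  · obtain ⟨k, rfl, hk⟩ := hlift 2 3 (by norm_num) (by norm_num) y hyr
    rw [(UModel.seven_scalar hB hF4 hcount hg hiso (hcomm 7 (by norm_num) hg hy)).1 2 (by simp) hk,
      map_one]
  · obtain ⟨k, rfl⟩ := hsurj y
    obtain ⟨c, hc⟩ := hker (k ^ 3) (by rw [map_pow, hyr])
    obtain ⟨a, ha⟩ := (UModel.seven_scalar hB hF4 hcount hg hiso (hcomm 7 (by norm_num) hg hy)).2 c
      (UModel.apply_scalar hc)
    exact hker1 k a ha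
  · obtain ⟨k, rfl, hk⟩ := hlift 5 6 (by norm_num) (by norm_num) y hyr
    rw [(UModel.seven_scalar hB hF4 hcount hg hiso (hcomm 7 (by norm_num) hg hy)).1 5 (by simp) hk,
      map_one]
  · exact absurd rfl hne
  · by_contra hy1
    have := Fact.mk (by norm_num : (11).Prime)
    have h : orderOf y = 11 := orderOf_eq_prime hyr hy1
    have hm : π g ∈ Subgroup.centralizer ({y} : Set X) :=
      Subgroup.mem_centralizer_singleton_iff.2 hy.eq
    rw [h11 y h] at hm
    have := (hx ▸ orderOf_dvd_of_mem_zpowers hm : 7 ∣ orderOf y)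
    rw [h] at this
    norm_num at this

end Cfsg.Agent.ThreeTrans
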