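import Cfsg.Agent.ThreeTrans.Connected
import Cfsg.Agent.ThreeTrans.Relations
import Cfsg.Agent.ThreeTrans.Fischer

/-!
# Products of commuting transpositions, twins

`NoTwins D` says that two members of `D` with the same commuting partners are equal. Conditions on
products of two and three commuting transpositions are elementary; the uniqueness of the factors
of a product follows from the absence of twins.
-/

set_option autoImplicit false

open Cfsg

namespace Cfsg.Agent.ThreeTrans

variable {G : Type*} [Group G] {D : Set G} {a b c d e x y z : G}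

/-- Members with the same commuting partners are equal. -/
def NoTwins (D : Set G) : Prop := ∀ x ∈ D, ∀ y ∈ D, Tau D x y → x = y

theorem conj_pair_eq (hD : IsThreeTranspositionSet D) (ha : a ∈ D) (hb : b ∈ D) (hd : d ∈ D)
    (hab : Commute a b) (hdb : ¬ Commute d b) :
    a * b * d * (a * b) = (a * d * a) * b * (a * d * a) := by
  calc a * b * d * (a * b) = a * b * d * (b * a) := by rw [hab.eq]
    _ = a * (b * d * b) * a := by simp only [mul_assoc]
    _ = a * (d * b * d) * a := by rw [braid hD hb hd fun h => hdb h.symm]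
    _ = a * d * (a * b * a) * d * a := by
        rw [conj_self_of_commute hD ha hab]; simp only [mul_assoc]
    _ = (a * d * a) * b * (a * d * a) := by simp only [mul_assoc]

/-- If `d` moves two commuting members, conjugating `d` by their product gives a member
commuting with `d`. -/
theorem commute_conj_pair (hD : IsThreeTranspositionSet D) (ha : a ∈ D) (hb : b ∈ D) (hd : d ∈ D)
    (hab : Commute a b) (hda : ¬ Commute d a) (hdb : ¬ Commute d b) :
    Commute d (a * b * d * (a * b)) := by
  have hbr := braid hD ha hd fun h => hda h.symm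
  have hbb := braid hD hb hd fun h => hdb h.symm
  have h1 : a * b * d * (a * b) = d * a * d * b * (d * a * d) := by
    rw [conj_pair_eq hD ha hb hd hab hdb, hbr]
  show d * (a * b * d * (a * b)) = a * b * d * (a * b) * d
  calc d * (a * b * d * (a * b)) = d * (d * a * d * b * (d * a * d)) := by rw [h1]
    _ = a * (d * b * d) * a * d := by
        simp only [mul_assoc, mul_self_mul hD hd]
    _ = a * (b * d * b) * a * d := by rw [hbb]
    _ = a * b * d * (b * a) * d := by simp only [mul_assoc]
    _ = a * b * d * (a * b) * d := by rw [hab.eq]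

theorem commute_mul_left_iff (hD : IsThreeTranspositionSet D) (ha : a ∈ D) (hda : Commute d a)
    (u : G) : Commute d (a * u) ↔ Commute d u := by
  refine ⟨fun h => ?_, hda.mul_right⟩
  have := hda.mul_right h
  rwa [mul_self_mul hD ha] at this

/-- A member commutes with a product of two commuting members only if it commutes with both. -/
theorem commute_pair_iff (hD : IsThreeTranspositionSet D) (ha : a ∈ D) (hb : b ∈ D) (hd : d ∈ D)
    (hab : Commute a b) (hne : a ≠ b) : Commute d (a * b) ↔ Commute d a ∧ Commute d b := by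
  refine ⟨fun h => ?_, fun h => h.1.mul_right h.2⟩
  by_cases hda : Commute d a
  · exact ⟨hda, (commute_mul_left_iff hD ha hda b).1 h⟩
  by_cases hdb : Commute d b
  · exact absurd ((commute_mul_left_iff hD hb hdb a).1 (hab.eq ▸ h)) hda
  exfalso
  have h1 : a * d * a = b * d * b := by
    have h2 : a * (d * (a * b)) * b = a * ((a * b) * d) * b := by rw [h.eq]
    simpa only [mul_assoc, mul_self hD hb, mul_self_mul hD ha, mul_one] using h2
  rw [braid hD ha hd fun h => hda h.symm, braid hD hb hd fun h => hdb h.symm] at h1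
  exact hne (mul_left_cancel (mul_right_cancel h1))

/-- A member commutes with a product of three commuting members only if it commutes with all. -/
theorem commute_triple_iff (hD : IsThreeTranspositionSet D) (ha : a ∈ D) (hb : b ∈ D) (hc : c ∈ D)
    (hd : d ∈ D) (hab : Commute a b) (hac : Commute a c) (hbc : Commute b c) (nab : a ≠ b)
    (nac : a ≠ c) (nbc : b ≠ c) :
    Commute d (a * b * c) ↔ Commute d a ∧ Commute d b ∧ Commute d c := by
  refine ⟨fun h => ?_, fun h => (h.1.mul_right h.2.1).mul_right h.2.2⟩
  by_cases hda : Commute d a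
  · have h' : Commute d (b * c) :=
      (commute_mul_left_iff hD ha hda (b * c)).1 (by rwa [← mul_assoc])
    exact ⟨hda, (commute_pair_iff hD hb hc hd hbc nbc).1 h'⟩
  by_cases hdb : Commute d b
  · have h' : Commute d (a * c) :=
      (commute_mul_left_iff hD hb hdb (a * c)).1 (by rwa [← mul_assoc, ← hab.eq])
    exact absurd ((commute_pair_iff hD ha hc hd hac nac).1 h').1 hda
  by_cases hdc : Commute d c
  · have h' : Commute d (a * b) :=
      (commute_mul_left_iff hD hc hdc (a * b)).1 (by rwa [← (hac.mul_left hbc).eq])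
    exact absurd ((commute_pair_iff hD ha hb hd hab nab).1 h').1 hda
  exfalso
  have he : a * b * d * (a * b) = c * d * c := by
    have hs : (a * b) * (a * b) = 1 := by
      rw [mul_assoc, ← mul_assoc b a b, hab.symm.eq, mul_assoc a b b, mul_self hD hb, mul_one,
        mul_self hD ha]
    have hcs : (a * b) * c = c * (a * b) := (hac.mul_left hbc).eq
    calc a * b * d * (a * b) = (a * b) * (d * (a * b * c)) * c := by
          simp only [mul_assoc, mul_self hD hc, mul_one]
      _ = (a * b) * ((a * b * c) * d) * c := by rw [h.eq]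
      _ = ((a * b) * (a * b)) * c * d * c := by simp only [mul_assoc]
      _ = c * d * c := by rw [hs, one_mul]
  have h1 := commute_conj_pair hD ha hb hd hab hda hdb
  rw [he] at h1
  exact commute_conj_mem hD hd hc hdc h1

/-- Without twins a product of two distinct commuting members determines the factors. -/
theorem pair_unique (hD : IsThreeTranspositionSet D) (hN : NoTwins D) (ha : a ∈ D) (hb : b ∈ D)
    (hc : c ∈ D) (he : e ∈ D) (hab : Commute a b) (nab : a ≠ b) (hce : Commute c e) (nce : c ≠ e)
    (h : a * b = c * e) : c = a ∨ c = b := by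
  by_contra hcon
  push Not at hcon
  obtain ⟨hca, hcb⟩ := hcon
  have hea : e ≠ a := fun hh => by
    subst hh
    exact hcb (mul_left_cancel (h.trans hce.eq)).symm
  have heb : e ≠ b := fun hh => by
    subst hh
    exact hca (mul_right_cancel h).symm
  have hcj := (commute_pair_iff hD ha hb hc hab nab).1
    (h.symm ▸ (Commute.refl c).mul_right hce)
  have hej := (commute_pair_iff hD ha hb he hab nab).1
    (h.symm ▸ hce.symm.mul_right (Commute.refl e))
  have hac : a * c = b * e := by
    calc a * c = a * (c * e) * e := by simp only [mul_assoc, mul_self hD he, mul_one]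
      _ = b * e := by rw [← h, mul_self_mul hD ha]
  have hae : a * e = b * c := by
    calc a * e = a * (e * c) * c := by simp only [mul_assoc, mul_self hD hc, mul_one]
      _ = b * c := by rw [← hce.eq, ← h, mul_self_mul hD ha]
  have key : ∀ d ∈ D, ∀ p q : G, p ∈ D → q ∈ D → Commute p q → p ≠ q →
      Commute d p → p * q = c * e → p * c = q * e → p * e = q * c → Commute q c → Commute q e →
      q ≠ c → q ≠ e → Commute d q := by
    intro d hd p q hp hq hpq npq hdp h1 h2 h3 hqc hqe nqc nqe
    by_contra hdq
    have hdc : ¬ Commute d c := fun hh => hdq ((commute_pair_iff hD hq he hd hqe nqe).1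
      (h2 ▸ hdp.mul_right hh)).1
    have hde : ¬ Commute d e := fun hh => hdq ((commute_pair_iff hD hq hc hd hqc nqc).1
      (h3 ▸ hdp.mul_right hh)).1
    have h4 := commute_conj_pair hD hc he hd hce hdc hde
    rw [← h1, hpq.eq] at h4
    have h5 : q * p * d * (q * p) = q * d * q := by
      calc q * p * d * (q * p) = q * (p * d) * (q * p) := by simp only [mul_assoc]
        _ = q * (d * p) * (p * q) := by rw [hdp.eq, hpq.eq]
        _ = q * d * q := by simp only [mul_assoc, mul_self_mul hD hp]
    rw [h5] at h4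
    exact commute_conj_mem hD hd hq hdq h4
  refine nab (hN a ha b hb fun d hd => ⟨fun hh => ?_, fun hh => ?_⟩)
  · exact (key d hd a b ha hb hab nab hh.symm h hac hae hcj.2.symm hej.2.symm hcb.symm
      heb.symm).symm
  · refine (key d hd b a hb ha hab.symm nab.symm hh.symm (hab.eq ▸ h) ?_ ?_ hcj.1.symm hej.1.symm
      hca.symm hea.symm).symm
    · exact hae.symm
    · exact hac.symm

/-- Without twins, also among the members commuting with two given ones, a product of three
distinct commuting members determines the factors. -/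
theorem triple_unique (hD : IsThreeTranspositionSet D) (hN : NoTwins D)
    (hN2 : ∀ a ∈ D, ∀ b ∈ dperp D a, NoTwins (dperp (dperp D a) b))
    (ha : a ∈ D) (hb : b ∈ D) (hc : c ∈ D) (hx : x ∈ D) (hy : y ∈ D) (hz : z ∈ D)
    (hab : Commute a b) (hac : Commute a c) (hbc : Commute b c) (nab : a ≠ b) (nac : a ≠ c)
    (nbc : b ≠ c) (hxy : Commute x y) (hxz : Commute x z) (hyz : Commute y z) (nxy : x ≠ y)
    (nxz : x ≠ z) (nyz : y ≠ z) (h : a * b * c = x * y * z) : x = a ∨ x = b ∨ x = c := by
  by_contra hcon
  push Not at hcon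
  obtain ⟨hxa, hxb, hxc⟩ := hcon
  -- no shared factor
  have shared : ∀ y z : G, y ∈ D → z ∈ D → Commute x y → Commute x z → Commute y z → x ≠ z →
      a * b * c = x * y * z → y ≠ a ∧ y ≠ b ∧ y ≠ c := by
    intro y z hy hz hxy hxz hyz nxz h
    have hsplit : a * b * c = y * (x * z) := by rw [h, hxy.eq, mul_assoc]
    refine ⟨?_, ?_, ?_⟩ <;> rintro rfl
    · rcases pair_unique hD hN hb hc hx hz hbc nbc hxz nxz
        (mul_left_cancel (by rw [← mul_assoc]; exact hsplit)) with h' | h' <;> contradiction
    · rcases pair_unique hD hN ha hc hx hz hac nac hxz nxz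
        (mul_left_cancel (by rw [← mul_assoc, ← hab.eq]; exact hsplit)) with h' | h' <;> contradiction
    · rcases pair_unique hD hN ha hb hx hz hab nab hxz nxz
        (mul_left_cancel (by rw [← (hac.mul_left hbc).eq]; exact hsplit)) with h' | h' <;>
        contradiction
  obtain ⟨hya, hyb, hyc⟩ := shared y z hy hz hxy hxz hyz nxz h
  obtain ⟨hza, hzb, hzc⟩ := shared z y hz hy hxz hxy hyz.symm nxy
    (by rw [h, mul_assoc, hyz.eq, mul_assoc])
  have hJ : ∀ d ∈ D, (Commute d a ∧ Commute d b ∧ Commute d c) ↔
      (Commute d x ∧ Commute d y ∧ Commute d z) := fun d hd => by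
    rw [← commute_triple_iff hD ha hb hc hd hab hac hbc nab nac nbc, h,
      commute_triple_iff hD hx hy hz hd hxy hxz hyz nxy nxz nyz]
  obtain ⟨hxa', hxb', hxc'⟩ := (hJ x hx).2 ⟨Commute.refl x, hxy, hxz⟩
  obtain ⟨hya', hyb', hyc'⟩ := (hJ y hy).2 ⟨hxy.symm, Commute.refl y, hyz⟩
  obtain ⟨hza', hzb', hzc'⟩ := (hJ z hz).2 ⟨hxz.symm, hyz.symm, Commute.refl z⟩
  have h2 : a * b * x = c * y * z := by
    have hcx : x * c = c * x := hxc'.eq
    calc a * b * x = a * b * c * (c * x) := by simp only [mul_assoc, mul_self_mul hD hc]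
      _ = x * y * z * (x * c) := by rw [h, hcx]
      _ = x * ((y * z) * x) * c := by simp only [mul_assoc]
      _ = x * (x * (y * z)) * c := by rw [(hxy.mul_right hxz).eq]
      _ = (y * z) * c := by rw [mul_self_mul hD hx]
      _ = c * y * z := by rw [← (hyc'.symm.mul_right hzc'.symm).eq, mul_assoc]
  have hbA : b ∈ dperp D a := ⟨hb, nab.symm, hab⟩
  have hcM : c ∈ dperp (dperp D a) b := ⟨⟨hc, nac.symm, hac⟩, nbc.symm, hbc⟩
  have hxM : x ∈ dperp (dperp D a) b := ⟨⟨hx, hxa, hxa'.symm⟩, hxb, hxb'.symm⟩
  refine hxc (hN2 a ha b hbA x hxM c hcM fun e he => ?_)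
  obtain ⟨⟨heD, -, hea⟩, -, heb⟩ := he
  constructor
  · intro hex
    have := (commute_triple_iff hD hc hy hz heD hyc'.symm hzc'.symm hyz hyc.symm hzc.symm nyz).1
      (h2 ▸ (hea.symm.mul_right heb.symm).mul_right hex.symm)
    exact this.1.symm
  · intro hec
    exact ((hJ e heD).1 ⟨hea.symm, heb.symm, hec.symm⟩).1.symm

/-- A class on which the group acts primitively has no twins. -/
theorem noTwins_of_primitive (hc : ∀ g : G, ∀ d ∈ D, g * d * g⁻¹ ∈ D)
    (hprim : IsPrimitiveUnderConj D) (hnc : ∃ d ∈ D, ∃ c ∈ D, ¬ Commute d c) : NoTwins D := by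
  intro x hx y hy hxy
  set B : Set G := {v | v ∈ D ∧ Tau D x v} with hB
  have hblock : ∀ g : G, (fun v => g * v * g⁻¹) '' B = B ∨
      Disjoint ((fun v => g * v * g⁻¹) '' B) B := by
    intro g
    refine or_iff_not_imp_right.2 fun hnd => ?_
    obtain ⟨w, hw1, hw2⟩ := Set.not_disjoint_iff.1 hnd
    obtain ⟨v, hv, rfl⟩ := hw1
    have hgx : Tau D x (g * x * g⁻¹) := tau_trans hw2.2 (tau_symm (tau_conj hc g hv.2))
    apply Set.ext
    intro u
    constructor
    · rintro ⟨u, hu, rfl⟩
      exact ⟨hc g u hu.1, tau_trans hgx (tau_conj hc g hu.2)⟩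
    · intro hu
      refine ⟨g⁻¹ * u * g, ⟨by simpa using hc g⁻¹ u hu.1, ?_⟩, by group⟩
      have h1 := tau_conj hc g⁻¹ (tau_trans (tau_symm hgx) hu.2)
      simpa [mul_assoc] using h1
  rcases hprim.2.2 B (fun v hv => hv.1) hblock with hs | hall
  · exact hs ⟨hx, tau_refl x⟩ ⟨hy, hxy⟩
  · obtain ⟨d, hd, c', hc', hdc⟩ := hnc
    have hd' : d ∈ B := hall ▸ hd
    have hc'' : c' ∈ B := hall ▸ hc'
    exact absurd (commute_of_tau hd (tau_trans (tau_symm hd'.2) hc''.2)) hdc

/-- A group with twins-free class: the data passed between the layers. -/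
def GoodClass (D : Set G) : Prop :=
  IsThreeTranspositionClass D ∧ (∃ a ∈ D, ∃ b ∈ D, a ≠ b) ∧ NoTwins D

theorem isConj_of_not_commute (hD : IsThreeTranspositionSet D) (ha : a ∈ D) (hb : b ∈ D)
    (h : ¬ Commute a b) : IsConj a b := by
  refine isConj_iff.2 ⟨a * b, ?_⟩
  rw [mul_inv_rev, inv_eq hD ha, inv_eq hD hb, braid hD ha hb h]
  simp only [mul_assoc, mul_self_mul hD hb, mul_self hD ha, mul_one]

/-- Generating 3-transpositions of a nonabelian simple group form a class without twins. -/
theorem good_of_simple [Finite G] [IsSimpleGroup G] (hna : ¬ IsMulCommutative G)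
    (hD : IsThreeTranspositionGroup D) : GoodClass D := by
  classical
  have hnot : ∃ a ∈ D, ∃ b ∈ D, ¬ Commute a b := by
    by_contra hcon
    push Not at hcon
    exact hna ⟨⟨fun u v => (commute_all hD.2.2 (a := u) (fun e he =>
      (commute_all hD.2.2 (a := e) (fun f hf => hcon e he f hf) u).symm) v).eq⟩⟩
  obtain ⟨a, ha, b, hb, hab⟩ := hnot
  have hcl : D = conjugatesOf a := by
    refine Set.Subset.antisymm (fun f hf => ?_) fun f hf => ?_
    · by_contra hfa
      have hS : ∀ g : G, ∀ s ∈ conjugatesOf a, g * s * g⁻¹ ∈ conjugatesOf a := fun g s hs =>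
        IsConj.trans hs (isConj_iff.2 ⟨g, rfl⟩)
      have := closure_normal hS
      rcases IsSimpleGroup.eq_bot_or_eq_top_of_normal (Subgroup.closure (conjugatesOf a)) this
        with h | h
      · exact ne_one hD.1 ha
          (by simpa [h] using Subgroup.subset_closure (mem_conjugatesOf_self : a ∈ conjugatesOf a))
      · have hmem : f ∈ Subgroup.center G := Subgroup.mem_center_iff.2 fun g =>
          (commute_all h (a := f) (fun s hs => by
            by_contra hne
            have hsD : s ∈ D := by
              obtain ⟨g, rfl⟩ := isConj_iff.1 hs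
              exact hD.2.1 g a ha
            exact hfa (IsConj.trans hs (isConj_of_not_commute hD.1 hsD hf
              fun hh => hne hh.symm))) g).eq.symm
        rcases IsSimpleGroup.eq_bot_or_eq_top_of_normal (Subgroup.center G) inferInstance
          with hz | hz
        · exact ne_one hD.1 hf (by simpa [hz] using hmem)
        · exact hna ⟨⟨fun u v => Subgroup.mem_center_iff.1 (hz ▸ Subgroup.mem_top v) u⟩⟩
    · obtain ⟨g, rfl⟩ := isConj_iff.1 hf
      exact hD.2.1 g a ha
  refine ⟨⟨hD.1, ⟨a, ha, hcl⟩, hD.2.2⟩, ⟨a, ha, b, hb, fun h => hab (h ▸ Commute.refl a)⟩, ?_⟩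
  intro x hx y hy hxy
  have : Fact (Nat.Prime 2) := ⟨Nat.prime_two⟩
  have h1 := tau_mem_pCore hD.1 hD.2.1 hx hy hxy
  rcases IsSimpleGroup.eq_bot_or_eq_top_of_normal (pCore 2 G) inferInstance with h | h
  · rw [h, Subgroup.mem_bot] at h1
    rw [mul_eq_one_iff_eq_inv.1 h1, inv_eq hD.1 hy]
  · exact absurd (commute_of_mem_two hD.1 (h ▸ Core.pCore_isPGroup (p := 2) (G := G)) ha hb
      (Subgroup.mem_top a) (Subgroup.mem_top b)) hab

end Cfsg.Agent.ThreeTrans
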