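import Cfsg.Agent.ThreeTrans.UnitFrame

/-!
# The elements of a radical by rank

The radical of a plane contains 21 transvections, 210 products of two, and 280 other elements
different from one; these are products of three independent commuting transvections.
-/

set_option autoImplicit false

open Cfsg Cfsg.Agent.Classical Cfsg.Agent.Classical.Herm Module

namespace Cfsg.Agent.ThreeTrans.UModel

variable {F V : Type*} [Field F] [AddCommGroup V] [Module F V] {θ : F →+* F}
  {B : V →ₛₗ[θ] V →ₗ[F] F}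

/-- The transvections of the plane. -/
def rankOne (hB : Space B) (f : Frame B) : Set (suG B) :=
  {g | ∃ a, a ≠ 0 ∧ (∀ i, B (f.u i) a = 0) ∧ g = trv hB a}

/-- The products of two transvections of the plane. -/
def rankTwo (hB : Space B) (f : Frame B) : Set (suG B) :=
  {g | ∃ h ∈ rankOne hB f, ∃ h' ∈ rankOne hB f, h ≠ h' ∧ g = h * h'}

variable (hB : Space B)

include hB

theorem Frame.plane_perp (f : Frame B) {a b : V} (ha : ∀ i, B (f.u i) a = 0) (hb : ∀ i, B (f.u i) b = 0) :
    B a b = 0 := by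
  rw [f.mem_plane hB ha, f.mem_plane hB hb]
  exact f.plane_iso _ _

/-- Distinct transvections of a plane belong to independent vectors. -/
theorem trv_indep {a b : V} (ha : a ≠ 0) (haa : B a a = 0) (hbb : B b b = 0)
    (h : trv hB a ≠ trv hB b) (k : F) (hk : a = k • b) : False := by
  subst hk
  exact h (trv_smul hB (fun e => ha (by rw [e, zero_smul])) b)

theorem rankOne_card (f : Frame B) (hF : Nat.card F = 4) : (rankOne hB f).ncard = 21 := by
  classical
  have := hB.fin; have := hB.finF; have := finite_suG hB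
  let vec : (F × F) ⊕ F ⊕ Unit → Fin 3 → F :=
    Sum.elim (fun p => ![1, p.1, p.2]) (Sum.elim (fun b => ![0, 1, b]) fun _ => ![0, 0, 1])
  let pt : (F × F) ⊕ F ⊕ Unit → V := fun i => ∑ k, vec i k • f.u k
  have hne : ∀ i, pt i ≠ 0 := by
    intro i h
    have h0 := fun j => (f.plane_coord (vec i) j).symm.trans (by show B (f.v j) (pt i) = 0; rw [h, map_zero])
    rcases i with p | b | u
    · simpa [vec] using h0 0
    · simpa [vec] using h0 1
    · simpa [vec] using h0 2
  have hperp : ∀ i j, B (f.u j) (pt i) = 0 := fun i j => by simp [pt, map_sum, f.uu]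
  have hiso : ∀ i, B (pt i) (pt i) = 0 := fun i => f.plane_iso _ _
  have hinj : Function.Injective fun i => trv hB (pt i) := by
    intro i j h
    dsimp only at h
    rw [trv, trv, dif_pos ⟨hne i, hiso i⟩, dif_pos ⟨hne j, hiso j⟩, tr_eq_iff] at h
    obtain ⟨k, hk⟩ := h
    have hk' := fun l => congrArg (B (f.v l)) hk
    simp only [map_smul, pt, f.plane_coord] at hk'
    have h0 := hk' 0
    have h1 := hk' 1
    have h2 := hk' 2
    rcases i with p | b | u <;> rcases j with p' | b' | u' <;> simp [vec] at h0 h1 h2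
    · subst h0; simp at h1 h2; rw [Prod.ext h1.symm h2.symm]
    · simp [← h0] at h1
    · simp [← h0] at h2
    · subst h1; simp at h2; rw [h2]
    · simp [← h1] at h2
    · rfl
  have hrange : rankOne hB f = Set.range fun i => trv hB (pt i) := by
    ext g
    constructor
    · rintro ⟨a, ha, hp, rfl⟩
      have hm := f.mem_plane hB hp
      rw [Fin.sum_univ_three] at hm
      set α := B (f.v 0) a
      set β := B (f.v 1) a
      set γ := B (f.v 2) a
      rcases eq_or_ne α 0 with h0 | h0
      swap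
      · refine ⟨Sum.inl (β * α⁻¹, γ * α⁻¹), ?_⟩
        show trv hB (pt _) = _
        rw [hm, ← trv_smul hB h0 (pt _)]
        congr 1
        simp [pt, vec, Fin.sum_univ_three, smul_add, smul_smul, mul_comm β, mul_comm γ, h0]
      rcases eq_or_ne β 0 with h1 | h1
      swap
      · refine ⟨Sum.inr (Sum.inl (γ * β⁻¹)), ?_⟩
        show trv hB (pt _) = _
        rw [hm, ← trv_smul hB h1 (pt _)]
        congr 1
        simp [pt, vec, Fin.sum_univ_three, smul_add, smul_smul, mul_comm γ, h0, h1]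
      have h2 : γ ≠ 0 := fun h2 => ha (by rw [hm, h0, h1, h2]; simp)
      refine ⟨Sum.inr (Sum.inr ()), ?_⟩
      show trv hB (pt _) = _
      rw [hm, ← trv_smul hB h2 (pt _)]
      congr 1
      simp [pt, vec, Fin.sum_univ_three, h0, h1]
    · rintro ⟨i, rfl⟩
      exact ⟨pt i, hne i, hperp i, rfl⟩
  rw [hrange, ← Set.image_univ, Set.ncard_image_of_injective _ hinj, Set.ncard_univ, Nat.card_sum,
    Nat.card_sum, Nat.card_prod, hF]
  simp

/-- A pair determines its members. -/
theorem pair_member {a b c e : V} (haa : B a a = 0) (hbb : B b b = 0) (hab : B a b = 0) (ha : a ≠ 0)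
    (hind : ∀ k : F, a ≠ k • b) (hcc : B c c = 0) (hee : B e e = 0) (hce : B c e = 0)
    (h : trv hB a * trv hB b = trv hB c * trv hB e) :
    trv hB a = trv hB c ∨ trv hB a = trv hB e := by
  obtain ⟨y, hyy, hya, hyb⟩ : ∃ y, B y y = 0 ∧ B y a = 1 ∧ B y b = 0 := by
    by_cases hb : b = 0
    · obtain ⟨y, hyy, hy⟩ := Herm.exists_hyp_partner hB.herm ha haa
      exact ⟨y, hyy, symm_one hB hy, by rw [hb, map_zero]⟩
    · exact exists_dual hB hb haa hab hind
  have hg := congrArg (fun g : suG B => B y (g.1 y)) h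
  change B y ((trv hB a).1 ((trv hB b).1 y)) = B y ((trv hB c).1 ((trv hB e).1 y)) at hg
  have hay : B a y = 1 := symm_one hB hya
  simp [trv_apply hB haa, trv_apply hB hbb, trv_apply hB hcc, trv_apply hB hee, hab, hce, hyy, hya, hyb,
    hay] at hg
  have hN : ∀ p : V, B p y ≠ 0 → B p y * B y p = 1 := fun p hp => by
    rw [← hB.herm.symm p y]; exact norm_one hB hp
  have hgy := congrArg (fun g : suG B => g.1 y) h
  change (trv hB a).1 ((trv hB b).1 y) = (trv hB c).1 ((trv hB e).1 y) at hgy
  have hby : B b y = 0 := (symm_zero hB).1 hyb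
  simp [trv_apply hB haa, trv_apply hB hbb, trv_apply hB hcc, trv_apply hB hee, hce, hay, hby,
    add_assoc] at hgy
  by_cases hc : B c y = 0
  · by_cases he : B e y = 0
    · simp [hc, he] at hgy
      exact absurd hgy ha
    · simp [hc] at hgy
      exact Or.inr (by rw [hgy, trv_smul hB he])
  · by_cases he : B e y = 0
    · simp [he] at hgy
      exact Or.inl (by rw [hgy, trv_smul hB hc])
    · exfalso
      rw [hN c hc, hN e he, two hB] at hg
      exact one_ne_zero hg

theorem rankOne_inv {f : Frame B} {g : suG B} (hg : g ∈ rankOne hB f) : g ∈ f.rad ∧ g ≠ 1 := by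
  obtain ⟨a, ha, hp, rfl⟩ := hg
  have haa := f.plane_perp hB hp hp
  refine ⟨f.trv_mem hB haa fun i => (symm_zero hB).1 (hp i), fun h => ?_⟩
  obtain ⟨y, hy⟩ := exists_pair hB ha
  have h1 := congrArg (fun g : suG B => g.1 y) h
  change (trv hB a).1 y = y at h1
  rw [trv_apply hB haa, symm_one hB hy, one_smul, add_eq_left] at h1
  exact ha h1

theorem rankTwo_inv {f : Frame B} {g : suG B} (hg : g ∈ rankTwo hB f) :
    g ∈ f.rad ∧ g ≠ 1 ∧ g ∉ rankOne hB f := by
  obtain ⟨h, hh, h', hh', hne, rfl⟩ := hg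
  obtain ⟨hr, -⟩ := rankOne_inv hB hh
  obtain ⟨hr', -⟩ := rankOne_inv hB hh'
  refine ⟨mul_mem hr hr', fun e => hne ?_, ?_⟩
  · rw [eq_inv_of_mul_eq_one_left e, inv_eq_of_mul_eq_one_left (f.rad_sq hB hr')]
  rintro ⟨c, hc0, hc, e⟩
  obtain ⟨a, ha, hpa, rfl⟩ := hh
  obtain ⟨b, hb, hpb, rfl⟩ := hh'
  have e' : trv hB a * trv hB b = trv hB c * trv hB 0 := by
    rw [e, trv, trv, dif_neg (fun h => h.1 rfl : ¬ ((0 : V) ≠ 0 ∧ B (0 : V) 0 = 0)), mul_one]
  have haa := f.plane_perp hB hpa hpa
  have hbb := f.plane_perp hB hpb hpb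
  have hab := f.plane_perp hB hpa hpb
  have hcc := f.plane_perp hB hc hc
  have h1 : ∀ {p q : V}, p ≠ 0 → B p p = 0 → B q q = 0 → B p q = 0 → trv hB p ≠ trv hB q →
      trv hB p * trv hB q = trv hB c * trv hB 0 → trv hB p = trv hB c := by
    intro p q hp hpp hqq hpq hne he
    refine (pair_member hB hpp hqq hpq hp (fun k hk => trv_indep hB hp hpp hqq hne k hk) hcc
      (by simp) (by simp) he).resolve_right fun h0 => ?_
    obtain ⟨y, hy⟩ := exists_pair hB hp
    have h2 := congrArg (fun g : suG B => g.1 y) h0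
    simp [trv_apply hB hpp, trv_apply hB (show B (0 : V) 0 = 0 by simp), symm_one hB hy] at h2
    exact hp h2
  refine hne ((h1 ha haa hbb hab hne e').trans (h1 hb hbb haa ((symm_zero hB).1 hab) hne.symm ?_).symm)
  rw [← (trv_comm hB hab).eq]
  exact e'

theorem rankTwo_card (f : Frame B) (hF : Nat.card F = 4) : (rankTwo hB f).ncard = 210 := by
  classical
  have := hB.fin; have := hB.finF; have := finite_suG hB
  let O := ↥(rankOne hB f)
  have hcom : ∀ h h' : O, (h : suG B) * h' = h' * h := fun h h' =>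
    (f.rad_comm hB (rankOne_inv hB h.2).1 (rankOne_inv hB h'.2).1).eq
  let Φ : {s : Sym2 O // ¬ s.IsDiag} → suG B := fun s =>
    Sym2.lift (⟨fun h h' => (h : suG B) * h', hcom⟩ : {φ : O → O → suG B // ∀ a b, φ a b = φ b a}) s.1
  have hrange : rankTwo hB f = Set.range Φ := by
    ext g
    constructor
    · rintro ⟨h, hh, h', hh', hne, rfl⟩
      exact ⟨⟨s(⟨h, hh⟩, ⟨h', hh'⟩), fun hd => hne (congrArg Subtype.val (Sym2.mk_isDiag_iff.1 hd))⟩, rfl⟩
    · rintro ⟨⟨s, hs⟩, rfl⟩
      induction s using Sym2.ind with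
      | h h h' => exact ⟨h, h.2, h', h'.2, fun e => hs (by simpa using Subtype.ext e), rfl⟩
  have hinj : Function.Injective Φ := by
    rintro ⟨s, hs⟩ ⟨t, ht⟩ h
    refine Subtype.ext ?_
    induction s using Sym2.ind with
    | h p q =>
    induction t using Sym2.ind with
    | h p' q' =>
    change (p : suG B) * q = p' * q' at h
    have hne : (p : suG B) ≠ q := fun e => hs (by simpa using Subtype.ext e)
    have hmem : ∀ a b : O, (a : suG B) ≠ b → (a : suG B) * b = p' * q' → a = p' ∨ a = q' := by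
      intro a b hab e
      obtain ⟨va, ha0, hap, hae⟩ := a.2
      obtain ⟨vb, -, hbp, hbe⟩ := b.2
      obtain ⟨vc, -, hcp, hce⟩ := p'.2
      obtain ⟨ve, -, hep, hee⟩ := q'.2
      rw [hae, hbe, hce, hee] at e
      rcases pair_member hB (f.plane_perp hB hap hap) (f.plane_perp hB hbp hbp) (f.plane_perp hB hap hbp) ha0
        (fun k hk => trv_indep hB ha0 (f.plane_perp hB hap hap) (f.plane_perp hB hbp hbp)
          (by rwa [← hae, ← hbe]) k hk)
        (f.plane_perp hB hcp hcp) (f.plane_perp hB hep hep) (f.plane_perp hB hcp hep) e with h1 | h1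
      · exact Or.inl (Subtype.ext (by rw [hae, hce, h1]))
      · exact Or.inr (Subtype.ext (by rw [hae, hee, h1]))
    have hp := hmem p q hne h
    have hq := hmem q p hne.symm (by rw [hcom q p]; exact h)
    rcases hp with rfl | rfl <;> rcases hq with rfl | rfl
    · exact absurd rfl hne
    · rfl
    · exact Sym2.eq_swap
    · exact absurd rfl hne
  have : Fintype O := Fintype.ofFinite _
  rw [hrange, ← Set.image_univ, Set.ncard_image_of_injective _ hinj, Set.ncard_univ,
    Nat.card_eq_fintype_card, Sym2.card_subtype_not_diag, ← Nat.card_eq_fintype_card,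
    Nat.card_coe_set_eq, rankOne_card hB f hF]
  rfl

/-- The elements of rank three. -/
theorem rankThree_card (f : Frame B) (hF : Nat.card F = 4) :
    ((f.rad : Set (suG B)) \ (({1} ∪ rankOne hB f) ∪ rankTwo hB f)).ncard = 280 := by
  classical
  have := hB.fin; have := hB.finF; have := finite_suG hB
  have hsub : ({1} ∪ rankOne hB f) ∪ rankTwo hB f ⊆ (f.rad : Set (suG B)) := by
    rintro g ((hg | hg) | hg)
    · rw [Set.mem_singleton_iff.1 hg]; exact f.rad.one_mem
    · exact (rankOne_inv hB hg).1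
    · exact (rankTwo_inv hB hg).1
  have d1 : Disjoint ({1} : Set (suG B)) (rankOne hB f) :=
    Set.disjoint_singleton_left.2 fun h => (rankOne_inv hB h).2 rfl
  have d2 : Disjoint ({1} ∪ rankOne hB f) (rankTwo hB f) := by
    rw [Set.disjoint_left]
    rintro g (hg | hg) h2
    · exact (rankTwo_inv hB h2).2.1 (Set.mem_singleton_iff.1 hg)
    · exact (rankTwo_inv hB h2).2.2 hg
  rw [Set.ncard_sdiff hsub, Set.ncard_union_eq d2, Set.ncard_union_eq d1, Set.ncard_singleton,
    rankOne_card hB f hF, rankTwo_card hB f hF]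
  have h512 : (f.rad : Set (suG B)).ncard = 512 := by
    rw [← Nat.card_coe_set_eq]; exact f.card_rad hB
  rw [h512]

/-- Every other element is a product of three independent transvections. -/
theorem rankThree_prod (f : Frame B) {g : suG B} (hg : g ∈ f.rad) (h0 : g ≠ 1)
    (h1 : g ∉ rankOne hB f) (h2 : g ∉ rankTwo hB f) :
    ∃ a b c : V, a ≠ 0 ∧ B a a = 0 ∧ B b b = 0 ∧ B c c = 0 ∧ B a b = 0 ∧ B a c = 0 ∧ B b c = 0 ∧
      (∀ k : F, b ≠ k • a) ∧ (∀ α β : F, c ≠ α • a + β • b) ∧
      g = trv hB a * trv hB b * trv hB c := by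
  rcases involution_eq hB (f.rad_sq hB hg) with h | ⟨a, h⟩ | ⟨a, b, hab, hba, h⟩ |
    ⟨a, b, c, hab, hac, hbc, hba, hcab, h⟩
  · exact absurd h h0
  · refine absurd ⟨a.1, a.2.1, fun i => ?_, by rw [h, trv_pt]⟩ h1
    have hz := hg i
    rw [h, tr_apply, add_eq_left] at hz
    exact (symm_zero hB).1 ((smul_eq_zero.1 hz).resolve_right a.2.1)
  · have hp : ∀ i, B a.1 (f.u i) = 0 ∧ B b.1 (f.u i) = 0 := fun i => by
      have hz := hg i
      rw [h] at hz
      change (tr hB a).1 ((tr hB b).1 (f.u i)) = f.u i at hz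
      simp only [tr_apply, map_add, map_smul, hab, smul_zero, add_zero, add_assoc, add_eq_left] at hz
      by_cases hb : B b.1 (f.u i) = 0
      · simp only [hb, zero_smul, zero_add, add_zero] at hz
        exact ⟨(smul_eq_zero.1 hz).resolve_right a.2.1, hb⟩
      · exfalso
        refine hba (-(B b.1 (f.u i))⁻¹ * B a.1 (f.u i)) ?_
        rw [neg_mul, neg_smul, mul_smul, eq_neg_iff_add_eq_zero]
        have := congrArg (fun x => (B b.1 (f.u i))⁻¹ • x) hz
        simpa [smul_add, smul_smul, inv_mul_cancel₀ hb, add_comm] using this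
    refine absurd ⟨_, ⟨a.1, a.2.1, fun i => (symm_zero hB).1 (hp i).1, rfl⟩, _,
      ⟨b.1, b.2.1, fun i => (symm_zero hB).1 (hp i).2, rfl⟩, fun e => ?_, by rw [h, trv_pt, trv_pt]⟩ h2
    rw [trv_pt, trv_pt, tr_eq_iff] at e
    obtain ⟨k, hk⟩ := e
    exact hba k hk
  · exact ⟨a.1, b.1, c.1, a.2.1, a.2.2, b.2.2, c.2.2, hab, hac, hbc, hba, hcab,
      by rw [h, trv_pt, trv_pt, trv_pt]⟩

end Cfsg.Agent.ThreeTrans.UModel
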