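import Cfsg.Agent.ThreeTrans.Layers

/-!
# Symmetries of a set of 3-transpositions

`Rigid S` says that an involutive symmetry of `S` under which two commuting members exchanged by it
have all their common partners fixed is induced by a member or trivial. This passes from the layers
`dperp S t` to `S`.
-/

set_option autoImplicit false

open Cfsg

namespace Cfsg.Agent.ThreeTrans

variable {G K : Type*} [Group G] [Group K] {S : Set G} {T : Set K} {a b c d e p q s t u x y z : G}

/-- A set of 3-transpositions closed under conjugation by its members. -/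
structure ClosedSet (S : Set G) : Prop where
  tri : IsThreeTranspositionSet S
  conj : ∀ x ∈ S, ∀ y ∈ S, x * y * x ∈ S

/-- An involutive symmetry. -/
structure Sym (S : Set G) (σ : G → G) : Prop where
  mem : ∀ x ∈ S, σ x ∈ S
  inv : ∀ x ∈ S, σ (σ x) = x
  comm : ∀ x ∈ S, ∀ y ∈ S, Commute x y → Commute (σ x) (σ y)
  conj : ∀ x ∈ S, ∀ y ∈ S, σ (x * y * x) = σ x * σ y * σ x

/-- Common partners of two commuting members exchanged by the symmetry are fixed. -/
def Star (S : Set G) (σ : G → G) : Prop :=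
  ∀ c ∈ S, Commute c (σ c) → σ c ≠ c → ∀ a ∈ dperp S c, a ∈ dperp S (σ c) → σ a = a

/-- Partners of a member are separated by it. -/
def Sep (S : Set G) : Prop := ∀ a ∈ S, ∀ s ∈ dperp S a, ∃ x ∈ dperp S a, ¬ Commute x s

/-- Every member has a partner. -/
def Rich (S : Set G) : Prop := ∀ a ∈ S, (dperp S a).Nonempty

/-- Members that do not commute have a common partner. -/
def Diam (S : Set G) : Prop := ∀ a ∈ S, ∀ b ∈ S, ¬ Commute a b → ∃ u ∈ dperp S a, Commute u b

/-- The symmetries with the property `Star` are inner or trivial. -/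
def Rigid (S : Set G) : Prop :=
  ∀ σ : G → G, Sym S σ → Star S σ → (∀ x ∈ S, σ x = x) ∨ ∃ s ∈ S, ∀ x ∈ S, σ x = s * x * s

/-- The four properties together. -/
structure Nice (S : Set G) : Prop where
  sep : Sep S
  rich : Rich S
  diam : Diam S
  rigid : Rigid S

theorem dperp_symm {a x : G} (ha : a ∈ S) (hx : x ∈ dperp S a) : a ∈ dperp S x :=
  ⟨ha, Ne.symm hx.2.1, hx.2.2.symm⟩

theorem ClosedSet.dperp (hS : ClosedSet S) (t : G) : ClosedSet (dperp S t) := by
  refine ⟨⟨fun d hd => hS.tri.1 d hd.1, fun d hd e he => hS.tri.2 d hd.1 e he.1⟩, fun x hx y hy => ?_⟩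
  refine ⟨hS.conj x hx.1 y hy.1, fun h => hy.2.1 ?_, (hx.2.2.mul_right hy.2.2).mul_right hx.2.2⟩
  calc y = x * (x * y * x) * x := by
        simp only [mul_assoc, mul_self_mul hS.tri hx.1, mul_self hS.tri hx.1, mul_one]
    _ = t := by rw [h, conj_self_of_commute hS.tri hx.1 hx.2.2.symm]

/-- Members moving a member alike are equal. -/
theorem eq_of_conj_eq (hS : IsThreeTranspositionSet S) (hu : u ∈ S) (hs : s ∈ S) (hx : x ∈ S)
    (hne : s * x * s ≠ x) (h : u * x * u = s * x * s) : u = s := by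
  have hsx : ¬ Commute s x := fun hh => hne (conj_self_of_commute hS hs hh)
  have hux : ¬ Commute u x := fun hh => hne (by rw [← h, conj_self_of_commute hS hu hh])
  rw [braid hS hu hx hux, braid hS hs hx hsx] at h
  exact mul_left_cancel (mul_right_cancel h)

theorem commute_of_conj_eq (hS : IsThreeTranspositionSet S) (hu : u ∈ S) (h : u * x * u = x) :
    Commute u x := by
  show u * x = x * u
  calc u * x = u * x * u * u := (mul_mul_self hS hu _).symm
    _ = x * u := by rw [h]

/-! ### Transfer along an isomorphism of sets -/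

/-- A bijection of sets of 3-transpositions respecting commutation and conjugation. -/
structure SetIso (S : Set G) (T : Set K) (φ : G → K) : Prop where
  bij : Set.BijOn φ S T
  comm : ∀ x ∈ S, ∀ y ∈ S, (Commute (φ x) (φ y) ↔ Commute x y)
  conj : ∀ x ∈ S, ∀ y ∈ S, φ (x * y * x) = φ x * φ y * φ x

theorem SetIso.restrict {φ : G → K} (h : SetIso S T φ) (ha : a ∈ S) :
    SetIso (ThreeTrans.dperp S a) (ThreeTrans.dperp T (φ a)) φ := by
  refine ⟨⟨?_, h.bij.injOn.mono fun x hx => hx.1, ?_⟩, fun x hx y hy => h.comm x hx.1 y hy.1,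
    fun x hx y hy => h.conj x hx.1 y hy.1⟩
  · intro x hx
    exact ⟨h.bij.mapsTo hx.1, fun e => hx.2.1 (h.bij.injOn hx.1 ha e), (h.comm a ha x hx.1).2 hx.2.2⟩
  · rintro y ⟨hy, hya, hc⟩
    obtain ⟨x, hx, rfl⟩ := h.bij.surjOn hy
    exact ⟨x, ⟨hx, fun e => hya (by rw [e]), (h.comm a ha x hx).1 hc⟩, rfl⟩

theorem SetIso.nice {φ : G → K} (h : SetIso S T φ) (hS : ClosedSet S) (hT : Nice T) : Nice S := by
  have hmem : ∀ {x}, x ∈ S → φ x ∈ T := fun hx => h.bij.mapsTo hx
  refine ⟨?_, ?_, ?_, ?_⟩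
  · intro a ha s hs
    obtain ⟨y, hy, hys⟩ := hT.sep (φ a) (hmem ha) (φ s) ((h.restrict ha).bij.mapsTo hs)
    obtain ⟨x, hx, rfl⟩ := (h.restrict ha).bij.surjOn hy
    exact ⟨x, hx, fun hh => hys ((h.comm x hx.1 s hs.1).2 hh)⟩
  · intro a ha
    obtain ⟨y, hy⟩ := hT.rich (φ a) (hmem ha)
    obtain ⟨x, hx, -⟩ := (h.restrict ha).bij.surjOn hy
    exact ⟨x, hx⟩
  · intro a ha b hb hab
    obtain ⟨y, hy, hyb⟩ := hT.diam (φ a) (hmem ha) (φ b) (hmem hb) fun hh => hab ((h.comm a ha b hb).1 hh)
    obtain ⟨x, hx, rfl⟩ := (h.restrict ha).bij.surjOn hy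
    exact ⟨x, hx, (h.comm x hx.1 b hb).1 hyb⟩
  · intro σ hσ hstar
    set ψ := Function.invFunOn φ S with hψ
    have hl : ∀ x ∈ S, ψ (φ x) = x := fun x hx => h.bij.injOn.leftInvOn_invFunOn hx
    have hr : ∀ k ∈ T, ψ k ∈ S ∧ φ (ψ k) = k := fun k hk =>
      ⟨Function.invFunOn_mem (h.bij.surjOn hk), Function.invFunOn_eq (h.bij.surjOn hk)⟩
    have hev : ∀ x ∈ S, (fun k => φ (σ (ψ k))) (φ x) = φ (σ x) := fun x hx => by
      show φ (σ (ψ (φ x))) = _
      rw [hl x hx]
    have key : (∀ k ∈ T, φ (σ (ψ k)) = k) ∨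
        ∃ r ∈ T, ∀ k ∈ T, φ (σ (ψ k)) = r * k * r := by
      refine hT.rigid (fun k => φ (σ (ψ k))) ⟨?_, ?_, ?_, ?_⟩ ?_
      · exact fun k hk => hmem (hσ.mem _ (hr k hk).1)
      · intro k hk
        show φ (σ (ψ (φ (σ (ψ k))))) = k
        rw [hl _ (hσ.mem _ (hr k hk).1), hσ.inv _ (hr k hk).1, (hr k hk).2]
      · intro k hk l hl' hc
        rw [← (hr k hk).2, ← (hr l hl').2, h.comm _ (hr k hk).1 _ (hr l hl').1] at hc
        exact (h.comm _ (hσ.mem _ (hr k hk).1) _ (hσ.mem _ (hr l hl').1)).2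
          (hσ.comm _ (hr k hk).1 _ (hr l hl').1 hc)
      · intro k hk l hl'
        obtain ⟨hk1, hk2⟩ := hr k hk
        obtain ⟨hl1, hl2⟩ := hr l hl'
        have e : ψ (k * l * k) = ψ k * ψ l * ψ k := by
          conv_lhs => rw [← hk2, ← hl2, ← h.conj _ hk1 _ hl1]
          exact hl _ (hS.conj _ hk1 _ hl1)
        show φ (σ (ψ (k * l * k))) = φ (σ (ψ k)) * φ (σ (ψ l)) * φ (σ (ψ k))
        rw [e, hσ.conj _ hk1 _ hl1, h.conj _ (hσ.mem _ hk1) _ (hσ.mem _ hl1)]
      · intro k hk hc hne l hl1 hl2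
        obtain ⟨x, hx, rfl⟩ := h.bij.surjOn hk
        obtain ⟨a, ha, rfl⟩ := h.bij.surjOn hl1.1
        simp only [hev x hx] at hc hne hl2
        have hσx := hσ.mem x hx
        show φ (σ (ψ (φ a))) = φ a
        rw [hl a ha, hstar x hx ((h.comm x hx _ hσx).1 hc) (fun e => hne (by rw [e])) a
          ⟨ha, fun e => hl1.2.1 (by rw [e]), (h.comm x hx a ha).1 hl1.2.2⟩
          ⟨ha, fun e => hl2.2.1 (by rw [e]), (h.comm _ hσx a ha).1 hl2.2.2⟩]
    rcases key with h1 | ⟨r, hr', h1⟩
    · refine Or.inl fun x hx => h.bij.injOn (hσ.mem x hx) hx ?_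
      rw [← hev x hx]
      exact h1 _ (hmem hx)
    · obtain ⟨s, hs, rfl⟩ := h.bij.surjOn hr'
      refine Or.inr ⟨s, hs, fun x hx => h.bij.injOn (hσ.mem x hx) (hS.conj s hs x hx) ?_⟩
      rw [← hev x hx, h.conj s hs x hx]
      exact h1 _ (hmem hx)

/-! ### From the layers to the set -/

section Lift

variable (hS : ClosedSet S) (hsep : Sep S) (hrich : Rich S) (hdiam : Diam S)
  (hloc : ∀ t ∈ S, Nice (dperp S t))

include hS hsep hrich hdiam hloc

/-- `Rigid` passes from the layers to the set. -/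
theorem rigid_of_layers : Rigid S := by
  intro σ hσ hstar
  have hT := hS.tri
  by_cases hall : ∀ x ∈ S, σ x = x
  · exact Or.inl hall
  push Not at hall
  obtain ⟨c, hc, hc'⟩ := hall
  -- a fixed member
  obtain ⟨t, ht, htfix⟩ : ∃ t ∈ S, σ t = t := by
    by_cases hcc : Commute c (σ c)
    · obtain ⟨a, ha⟩ := (hloc c hc).rich (σ c) ⟨hσ.mem c hc, hc', hcc⟩
      exact ⟨a, ha.1.1, hstar c hc hcc hc' a ha.1 ⟨ha.1.1, ha.2.1, ha.2.2⟩⟩
    · refine ⟨c * σ c * c, hS.conj c hc _ (hσ.mem c hc), ?_⟩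
      rw [hσ.conj c hc _ (hσ.mem c hc), hσ.inv c hc]
      exact (braid hT hc (hσ.mem c hc) hcc).symm
  -- what the layer of a fixed member gives
  have hlayer : ∀ a ∈ S, σ a = a → (∀ x ∈ dperp S a, σ x = x) ∨
      ∃ s ∈ dperp S a, ∀ x ∈ dperp S a, σ x = s * x * s := by
    intro a ha hfix
    refine (hloc a ha).rigid σ ⟨fun x hx => ⟨hσ.mem x hx.1, fun e => hx.2.1 ?_, ?_⟩,
      fun x hx => hσ.inv x hx.1, fun x hx y hy => hσ.comm x hx.1 y hy.1,
      fun x hx y hy => hσ.conj x hx.1 y hy.1⟩ ?_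
    · rw [← hσ.inv x hx.1, e, hfix]
    · have := hσ.comm a ha x hx.1 hx.2.2
      rwa [hfix] at this
    · intro v hv hcv hvne w hw hw'
      exact hstar v hv.1 hcv hvne w ⟨hw.1.1, hw.2.1, hw.2.2⟩ ⟨hw'.1.1, hw'.2.1, hw'.2.2⟩
  -- `s` agreeing on the layers of its partners agrees everywhere
  have finish : ∀ s ∈ S, (∀ a ∈ dperp S s, ∀ x ∈ dperp S a, σ x = s * x * s) →
      ∀ y ∈ S, σ y = s * y * s := by
    intro s hs hag y hy
    by_cases hys : Commute s y
    · rcases eq_or_ne y s with rfl | hne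
      · obtain ⟨a, ha⟩ := hrich y hy
        exact hag a ha y (dperp_symm hy ha)
      · obtain ⟨a, ha⟩ := (hloc s hs).rich y ⟨hy, hne, hys⟩
        exact hag a ha.1 y (dperp_symm hy ⟨ha.1.1, ha.2.1, ha.2.2⟩)
    · obtain ⟨u, hu, huy⟩ := hdiam s hs y hy hys
      exact hag u hu y ⟨hy, fun e => hys (e ▸ hu.2.2), huy⟩
  right
  rcases hlayer t ht htfix with hfix | ⟨s, hs, hconj⟩
  · -- trivial on the layer of `t`: conjugation by `t` or trivial on the neighbouring layers
    have htype : ∀ a ∈ dperp S t, (∀ x ∈ dperp S a, σ x = x) ∨ ∀ x ∈ dperp S a, σ x = t * x * t := by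
      intro a ha
      rcases hlayer a ha.1 (hfix a ha) with h | ⟨u, hu, hu'⟩
      · exact Or.inl h
      · refine Or.inr ?_
        have hta := dperp_symm ht ha
        have hut : Commute u t := by
          refine commute_of_conj_eq hT hu.1 ?_
          rw [← hu' t hta, htfix]
        suffices hut' : u = t by subst hut'; exact hu'
        by_contra hne
        obtain ⟨x, hx, hxu⟩ := (hloc a ha.1).sep t hta u ⟨hu, hne, hut.symm⟩
        refine hxu (commute_of_conj_eq hT hu.1 ?_).symm
        rw [← hu' x hx.1, hfix x ⟨hx.1.1, hx.2.1, hx.2.2⟩]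
    have hexcl : ∀ a ∈ dperp S t, (∀ x ∈ dperp S a, σ x = x) → ∀ b ∈ dperp S t, Commute a b →
        ∀ x ∈ dperp S b, σ x = x := by
      intro a ha hafix b hb hab
      rcases eq_or_ne b a with rfl | hne
      · exact hafix
      rcases htype b hb with h | h
      · exact h
      · exfalso
        obtain ⟨x, hx, hxt⟩ := (hloc a ha.1).sep b ⟨hb.1, hne, hab⟩ t
          ⟨dperp_symm ht ha, Ne.symm hb.2.1, hb.2.2.symm⟩
        refine hxt (commute_of_conj_eq hT ht ?_).symm
        rw [← h x ⟨hx.1.1, hx.2.1, hx.2.2⟩, hafix x hx.1]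
    obtain ⟨a₀, ha₀⟩ := hrich t ht
    rcases htype a₀ ha₀ with h0 | h0
    · exfalso
      have h1 : ∀ a ∈ dperp S t, ∀ x ∈ dperp S a, σ x = x := by
        intro a ha
        by_cases hc0 : Commute a₀ a
        · exact hexcl a₀ ha₀ h0 a ha hc0
        · obtain ⟨w, hw, hwa⟩ := (hloc t ht).diam a₀ ha₀ a ha hc0
          exact hexcl w hw.1 (hexcl a₀ ha₀ h0 w hw.1 hw.2.2) a ha hwa
      apply hc'
      by_cases hct : Commute t c
      · rcases eq_or_ne c t with rfl | hne
        · exact htfix
        · exact hfix c ⟨hc, hne, hct⟩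
      · obtain ⟨u, hu, huc⟩ := hdiam t ht c hc hct
        exact h1 u hu c ⟨hc, fun e => hct (e ▸ hu.2.2), huc⟩
    · refine ⟨t, ht, finish t ht fun a ha => ?_⟩
      have flip : ∀ a ∈ dperp S t, (∀ x ∈ dperp S a, σ x = t * x * t) → ∀ b ∈ dperp S t, Commute a b →
          ∀ x ∈ dperp S b, σ x = t * x * t := by
        intro a ha h b hb hab
        rcases htype b hb with hb' | hb'
        · intro x hx
          have := hexcl b hb hb' a ha hab.symm
          obtain ⟨z, hz, hzt⟩ := hsep a ha.1 t (dperp_symm ht ha)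
          exfalso
          refine hzt (commute_of_conj_eq hT ht ?_).symm
          rw [← h z hz, this z hz]
        · exact hb'
      by_cases hc0 : Commute a₀ a
      · exact flip a₀ ha₀ h0 a ha hc0
      · obtain ⟨w, hw, hwa⟩ := (hloc t ht).diam a₀ ha₀ a ha hc0
        exact flip w hw.1 (flip a₀ ha₀ h0 w hw.1 hw.2.2) a ha hwa
  · -- conjugation by `s` on the layer of `t`
    have hsfix : σ s = s := by rw [hconj s hs, mul_self hT hs.1, one_mul]
    have step : ∀ b ∈ dperp S s, (∀ x ∈ dperp S b, σ x = s * x * s) → ∀ a ∈ dperp S s, Commute b a →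
        ∀ x ∈ dperp S a, σ x = s * x * s := by
      intro b hb hbag a ha hba
      rcases eq_or_ne a b with rfl | hne
      · exact hbag
      have hab : a ∈ dperp S b := ⟨ha.1, hne, hba⟩
      have hafix : σ a = a := by rw [hbag a hab, conj_self_of_commute hT hs.1 ha.2.2]
      obtain ⟨x, hx, hxs⟩ := (hloc b hb.1).sep a hab s ⟨dperp_symm hs.1 hb, Ne.symm ha.2.1, ha.2.2.symm⟩
      have hxa : x ∈ dperp S a := ⟨hx.1.1, hx.2.1, hx.2.2⟩
      have hmove : s * x * s ≠ x := fun e => hxs (commute_of_conj_eq hT hs.1 e).symm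
      rcases hlayer a ha.1 hafix with h | ⟨u, hu, hu'⟩
      · exact absurd (by rw [← hbag x hx.1, h x hxa]) hmove
      · have := eq_of_conj_eq hT hu.1 hs.1 hx.1.1 hmove (by rw [← hu' x hxa, hbag x hx.1])
        subst this
        exact hu'
    have hts := dperp_symm ht hs
    refine ⟨s, hs.1, finish s hs.1 fun a ha => ?_⟩
    have htag : t ∈ dperp S s := hts
    by_cases hta : Commute t a
    · exact step t htag hconj a ha hta
    · obtain ⟨w, hw, hwa⟩ := (hloc s hs.1).diam t htag a ha hta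
      exact step w hw.1 (step t htag hconj w hw.1 hw.2.2) a ha hwa

/-- All four properties pass from the layers. -/
theorem nice_of_layers : Nice S := ⟨hsep, hrich, hdiam, rigid_of_layers hS hsep hrich hdiam hloc⟩

end Lift

/-! ### Common partners of members that do not commute -/

/-- The line of two commuting members. -/
def ln (S : Set G) (p q : G) : Set G :=
  {e | e ∈ S ∧ ∀ y ∈ S, Commute y p → Commute y q → Commute y e}

/-- Lines have five points and the lines through a point are odd in number. -/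
structure Lines (S : Set G) : Prop where
  five : ∀ p ∈ S, ∀ q ∈ dperp S p, (ln S p q).ncard = 5
  pair : ∀ p ∈ S, ∀ q ∈ dperp S p, ∀ e ∈ ln S p q, ∀ f ∈ ln S p q, e ≠ f →
    f ∈ dperp S e ∧ ln S e f = ln S p q
  odd : ∀ p ∈ S, Odd ((fun q => ln S p q) '' dperp S p).ncard

theorem mem_ln_right (hq : q ∈ S) : q ∈ ln S p q := ⟨hq, fun _ _ _ h => h⟩

theorem mem_ln_left (hp : p ∈ S) : p ∈ ln S p q := ⟨hp, fun _ _ h _ => h⟩

theorem SetIso.ln_image {φ : G → K} (h : SetIso S T φ) (hp : p ∈ S) (hq : q ∈ S) :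
    φ '' ln S p q = ln T (φ p) (φ q) := by
  apply Set.ext
  intro k
  constructor
  · rintro ⟨e, ⟨he, he'⟩, rfl⟩
    refine ⟨h.bij.mapsTo he, fun l hl h1 h2 => ?_⟩
    obtain ⟨y, hy, rfl⟩ := h.bij.surjOn hl
    exact (h.comm y hy e he).2 (he' y hy ((h.comm y hy p hp).1 h1) ((h.comm y hy q hq).1 h2))
  · rintro ⟨hk, hk'⟩
    obtain ⟨e, he, rfl⟩ := h.bij.surjOn hk
    refine ⟨e, ⟨he, fun y hy h1 h2 => ?_⟩, rfl⟩
    exact (h.comm y hy e he).1
      (hk' _ (h.bij.mapsTo hy) ((h.comm y hy p hp).2 h1) ((h.comm y hy q hq).2 h2))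

theorem SetIso.lines {φ : G → K} (h : SetIso S T φ) (hT : Lines T) : Lines S := by
  have hinj : ∀ (A : Set G), A ⊆ S → ∀ B ⊆ S, φ '' A = φ '' B → A = B := fun A hA B hB e =>
    (h.bij.injOn.image_eq_image_iff hA hB).1 e
  have hsub : ∀ p q : G, ln S p q ⊆ S := fun _ _ _ he => he.1
  refine ⟨fun p hp q hq => ?_, fun p hp q hq e he f hf hne => ?_, fun p hp => ?_⟩
  · rw [← (h.bij.injOn.mono (hsub p q)).ncard_image, h.ln_image hp hq.1]
    exact hT.five _ (h.bij.mapsTo hp) _ ((h.restrict hp).bij.mapsTo hq)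
  · have he' : φ e ∈ ln T (φ p) (φ q) := h.ln_image hp hq.1 ▸ ⟨e, he, rfl⟩
    have hf' : φ f ∈ ln T (φ p) (φ q) := h.ln_image hp hq.1 ▸ ⟨f, hf, rfl⟩
    obtain ⟨h1, h2⟩ := hT.pair _ (h.bij.mapsTo hp) _ ((h.restrict hp).bij.mapsTo hq) _ he' _ hf'
      fun hh => hne (h.bij.injOn he.1 hf.1 hh)
    refine ⟨⟨hf.1, Ne.symm hne, (h.comm e he.1 f hf.1).1 h1.2.2⟩, hinj _ (hsub e f) _ (hsub p q) ?_⟩
    rw [h.ln_image he.1 hf.1, h.ln_image hp hq.1, h2]
  · have e : (fun A => φ '' A) '' ((fun q => ln S p q) '' dperp S p) =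
        (fun q => ln T (φ p) q) '' dperp T (φ p) := by
      rw [Set.image_image, ← (h.restrict hp).bij.image_eq, Set.image_image]
      exact Set.image_congr fun q hq => h.ln_image hp hq.1
    have := hT.odd (φ p) (h.bij.mapsTo hp)
    rwa [← e, Set.InjOn.ncard_image] at this
    rintro - ⟨q, -, rfl⟩ - ⟨q', -, rfl⟩ hh
    exact hinj _ (hsub p q) _ (hsub p q') hh

/-- An involutive map without fixed points gives an even number of elements. -/
theorem exists_fixed_of_odd {α : Type*} {A : Set α} [Finite A] (hA : Odd A.ncard) (f : α → α)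
    (hm : ∀ x ∈ A, f x ∈ A) (hi : ∀ x ∈ A, f (f x) = x) : ∃ x ∈ A, f x = x := by
  classical
  have := Fintype.ofFinite A
  let π : Equiv.Perm A :=
    { toFun := fun x => ⟨f x, hm x x.2⟩
      invFun := fun x => ⟨f x, hm x x.2⟩
      left_inv := fun x => Subtype.ext (hi x x.2)
      right_inv := fun x => Subtype.ext (hi x x.2) }
  have : Fact (Nat.Prime 2) := ⟨Nat.prime_two⟩
  have hπ : π ^ 2 ^ 1 = 1 := Equiv.ext fun x => Subtype.ext (by simp [π, pow_two, hi x x.2])
  obtain ⟨x, hx⟩ := π.exists_fixed_point_of_prime (p := 2) (n := 1) (by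
    rw [← Nat.card_eq_fintype_card, Nat.card_coe_set_eq]
    exact fun h => Nat.not_even_iff_odd.2 hA (even_iff_two_dvd.2 h)) hπ
  exact ⟨x, x.2, congrArg Subtype.val hx⟩

section Partner

variable (hS : ClosedSet S) (hb : b ∈ S) (hx : x ∈ S) (hbx : ¬ Commute x b)
  (hno : ∀ u ∈ dperp S x, ¬ Commute u b)

include hS hb hx hbx hno

/-- The swap of `x` and `u` available without a common partner of `x` and `b`. -/
theorem swap_props {u w : G} (hu : u ∈ dperp S x) (hw : w ∈ dperp (dperp S x) u) :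
    b * u * x * b * w * (b * u * x * b) ∈ dperp (dperp S x) u ∧
    Commute w (b * u * x * b * w * (b * u * x * b)) ∧
    b * u * x * b * w * (b * u * x * b) ≠ w ∧
    b * u * x * b * w * (b * u * x * b) = b * w * x * b * u * (b * w * x * b) := by
  have hT := hS.tri
  set m := b * u * x * b with hm
  have hux : Commute u x := hu.2.2.symm
  have hwx : Commute w x := hw.1.2.2.symm
  have hwu : Commute w u := hw.2.2.symm
  have huu := mul_self hT hu.1
  have hxx := mul_self hT hx
  have hbb := mul_self hT hb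
  have hmm : m * m = 1 := by
    rw [hm]
    calc b * u * x * b * (b * u * x * b) = b * u * x * (u * x) * b := by
          simp only [mul_assoc, mul_self_mul hT hb]
      _ = 1 := by
          rw [show b * u * x * (u * x) * b = b * (u * (x * u) * x) * b by simp only [mul_assoc],
            hux.symm.eq, ← mul_assoc u u x, huu, one_mul, hxx, mul_one, hbb]
  have hminv : m⁻¹ = m := inv_eq_of_mul_eq_one_left hmm
  have hm' : m = b * x * u * b := by rw [hm, mul_assoc b u x, hux.eq, ← mul_assoc]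
  have hconjS : ∀ y ∈ S, m * y * m ∈ S := fun y hy => by
    have h1 := hS.conj b hb _ (hS.conj u hu.1 _ (hS.conj x hx _ (hS.conj b hb y hy)))
    have e : m * y * m = b * u * x * b * y * (b * x * u * b) := by
      conv_lhs => arg 2; rw [hm']
    rw [e]
    simpa only [mul_assoc] using h1
  have hcomm : ∀ {y z : G}, Commute y z → Commute (m * y * m) (m * z * m) := fun {y z} hh => by
    have := (commute_conj m y z).2 hh
    rwa [hminv] at this
  have hinj : ∀ {y z : G}, m * y * m = m * z * m → y = z := fun {y z} hh =>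
    mul_left_cancel (mul_right_cancel hh)
  have hub : ¬ Commute u b := hno u hu
  have hwb : ¬ Commute w b := hno w hw.1
  have hmx : m * x * m = u := by
    rw [hm]
    calc b * u * x * b * x * (b * u * x * b)
        = b * u * (x * (b * x * b)) * u * x * b := by simp only [mul_assoc]
      _ = b * u * (x * (x * b * x)) * u * x * b := by rw [← braid hT hx hb hbx]
      _ = b * u * b * (x * (u * x)) * b := by simp only [mul_assoc, mul_self_mul hT hx]
      _ = b * u * b * u * b := by rw [hux.eq, mul_self_mul hT hx]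
      _ = u * b * u * u * b := by rw [braid hT hb hu.1 fun hh => hub hh.symm]
      _ = u := by simp only [mul_assoc, mul_self_mul hT hu.1, hbb, mul_one]
  have hmu : m * u * m = x := by
    rw [← hmx]; simp only [← mul_assoc, hmm, one_mul]; rw [mul_assoc, hmm, mul_one]
  -- the same seen from `b`: conjugation by `x * u` on the conjugates `(x w) b (x w)`
  have hg : ∀ y : G, x * b * (m * y * m) * (b * x) = x * u * (x * b * y * (b * x)) * (u * x) := by
    intro y
    have h1 : x * b * m = x * u * (x * b) := by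
      rw [hm]; simp only [mul_assoc, mul_self_mul hT hb]
    have h2 : m * (b * x) = b * x * (u * x) := by
      rw [hm]; simp only [mul_assoc, mul_self_mul hT hb]
      rw [← mul_assoc u x x, mul_assoc, hxx, mul_one, ← mul_assoc x u x, ← hux.eq, mul_assoc, hxx,
        mul_one]
    calc x * b * (m * y * m) * (b * x) = x * b * m * y * (m * (b * x)) := by simp only [mul_assoc]
      _ = _ := by rw [h1, h2]; simp only [mul_assoc]
  have hφ : x * b * w * (b * x) = x * w * b * (w * x) := by
    have := braid hT hb hw.1.1 fun hh => hwb hh.symm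
    calc x * b * w * (b * x) = x * (b * w * b) * x := by simp only [mul_assoc]
      _ = _ := by rw [this]; simp only [mul_assoc]
  have hxw : ∀ y z : G, Commute (x * w * y * (w * x)) (x * w * z * (w * x)) ↔ Commute y z := fun y z => by
    rw [show w * x = (x * w)⁻¹ by rw [mul_inv_rev, inv_eq hT hw.1.1, inv_eq hT hx]]
    exact commute_conj _ y z
  have hvw : x * u * (x * w * b * (w * x)) * (u * x) = x * w * (x * u * b * (u * x)) * (w * x) := by
    have e : Commute (x * u) (x * w) :=
      ((Commute.refl x).mul_right hwx.symm).mul_left (hux.mul_right hwu.symm)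
    have e' : (w * x) * (u * x) = (u * x) * (w * x) :=
      ((hwu.mul_right hwx).mul_left (hux.symm.mul_right (Commute.refl x))).eq
    calc x * u * (x * w * b * (w * x)) * (u * x) = (x * u) * (x * w) * b * ((w * x) * (u * x)) := by
          simp only [mul_assoc]
      _ = _ := by rw [e.eq, e']; simp only [mul_assoc]
  refine ⟨⟨⟨hconjS w hw.1.1, ?_, ?_⟩, ?_, ?_⟩, ?_, ?_, ?_⟩
  · intro e; exact hw.2.1 (hinj (e.trans hmu.symm))
  · rw [← hmu]; exact hcomm hwu.symm
  · intro e; exact hw.1.2.1 (hinj (e.trans hmx.symm))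
  · rw [← hmx]; exact hcomm hwx.symm
  · have h1 := (hxw b _).2 (commute_conj_pair hT hx hu.1 hb hux.symm (fun hh => hbx hh.symm) fun hh => hub hh.symm)
    rw [show x * u * b * (x * u) = x * u * b * (u * x) by rw [hux.eq], ← hvw, ← hφ, ← hg] at h1
    rw [show b * x = (x * b)⁻¹ by rw [mul_inv_rev, inv_eq hT hb, inv_eq hT hx]] at h1
    exact (commute_conj _ _ _).1 h1
  · intro e
    have h1 := hg w
    rw [e, hφ, hvw] at h1
    have h2 := mul_left_cancel (mul_right_cancel h1)
    have h3 : Commute b (x * u) := by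
      calc b * (x * u) = x * u * b * (u * x) * (x * u) := by rw [← h2]
        _ = x * u * b := by simp only [mul_assoc, mul_self_mul hT hx, huu, mul_one]
    exact hbx ((commute_pair_iff hT hx hu.1 hb hux.symm (Ne.symm hu.2.1)).1 h3).1.symm
  · rw [hm]
    have k1 : ∀ {p r : G}, Commute p x → r ∈ S → ¬ Commute r b →
        b * p * x * b * r * (b * p * x * b) = b * (p * x * r * b * (r * x * p)) * b := by
      intro p r hpx hr hrb
      calc b * p * x * b * r * (b * p * x * b) = b * p * x * (b * r * b) * (p * x) * b := by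
            simp only [mul_assoc]
        _ = b * p * x * (r * b * r) * (x * p) * b := by
            rw [braid hT hb hr fun hh => hrb hh.symm, hpx.eq]
        _ = _ := by simp only [mul_assoc]
    rw [k1 hux hw.1.1 hwb, k1 hwx hu.1 hub]
    have e1 : u * x * w = w * x * u := by
      rw [hux.eq, mul_assoc, ← hwu.eq, ← mul_assoc, hwx.symm.eq]
    rw [e1]

end Partner

theorem conj_twice {m w : G} (h : m * m = 1) : m * (m * w * m) * m = w := by
  simp only [← mul_assoc, h, one_mul]
  rw [mul_assoc, h, mul_one]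

section Diameter

variable [Finite G] (hS : ClosedSet S) (hrich : Rich S)

include hS hrich

/-- A common partner exists if two-step layers are odd. -/
theorem diam_of_odd (hodd : ∀ x ∈ S, ∀ u ∈ dperp S x, Odd (dperp (dperp S x) u).ncard) : Diam S := by
  intro x hx b hb hxb
  by_contra hno
  push Not at hno
  obtain ⟨u, hu⟩ := hrich x hx
  have hsw := fun w hw => swap_props hS hb hx hxb hno hu (w := w) hw
  obtain ⟨w, hw, hfix⟩ := exists_fixed_of_odd (hodd x hx u hu)
    (fun w => b * u * x * b * w * (b * u * x * b)) (fun w hw => (hsw w hw).1) fun w _ => by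
      have hm : b * u * x * b * (b * u * x * b) = 1 := by
        calc b * u * x * b * (b * u * x * b) = b * u * (x * (u * x)) * b := by
              simp only [mul_assoc, mul_self_mul hS.tri hb]
          _ = 1 := by
            rw [hu.2.2.symm.eq]
            simp only [mul_assoc, mul_self_mul hS.tri hx, mul_self_mul hS.tri hu.1, mul_self hS.tri hb]
      show b * u * x * b * (b * u * x * b * w * (b * u * x * b)) * (b * u * x * b) = w
      exact conj_twice hm
  exact (hsw w hw).2.2.1 hfix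

/-- A common partner exists if the layers have lines of five points, odd in number at each point. -/
theorem diam_of_lines (hl : ∀ x ∈ S, Lines (dperp S x)) : Diam S := by
  classical
  intro x hx b hb hxb
  by_contra hno
  push Not at hno
  set T := dperp S x with hT
  set σ : G → G → G := fun u w => b * u * x * b * w * (b * u * x * b) with hσ
  have hsw : ∀ {u w}, u ∈ T → w ∈ dperp T u →
      σ u w ∈ dperp T u ∧ Commute w (σ u w) ∧ σ u w ≠ w ∧ σ u w = σ w u :=
    fun {u w} hu hw => swap_props hS hb hx hxb hno hu hw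
  have hm : ∀ {u}, u ∈ T → b * u * x * b * (b * u * x * b) = 1 := fun {u} hu => by
    calc b * u * x * b * (b * u * x * b) = b * u * (x * (u * x)) * b := by
          simp only [mul_assoc, mul_self_mul hS.tri hb]
      _ = 1 := by
        rw [hu.2.2.symm.eq]
        simp only [mul_assoc, mul_self_mul hS.tri hx, mul_self_mul hS.tri hu.1, mul_self hS.tri hb]
  have hinvol : ∀ {u}, u ∈ T → ∀ w, σ u (σ u w) = w := fun {u} hu w => by
    show b * u * x * b * (b * u * x * b * w * (b * u * x * b)) * (b * u * x * b) = w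
    exact conj_twice (hm hu)
  have hcomm : ∀ {u}, u ∈ T → ∀ {y z}, Commute y z → Commute (σ u y) (σ u z) := fun {u} hu {y z} hh => by
    have := (commute_conj (b * u * x * b) y z).2 hh
    rwa [inv_eq_of_mul_eq_one_left (hm hu)] at this
  have hL := hl x hx
  have hTT : ∀ {p q}, q ∈ dperp T p → q ∈ T := fun h => h.1
  -- a swap carries lines through `u` to lines through `u`
  have hline : ∀ {u q e}, u ∈ T → q ∈ dperp T u → e ∈ ln T u q → e ≠ u →
      σ u e ∈ ln T u (σ u q) ∧ σ u e ≠ u := by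
    intro u q e hu hq he heu
    have hew : e ∈ dperp T u := (hL.pair u hu q hq u (mem_ln_left hu) e he (Ne.symm heu)).1
    obtain ⟨h1, -⟩ := hsw hu hew
    refine ⟨⟨h1.1, fun y hy hyu hyq => ?_⟩, h1.2.1⟩
    rcases eq_or_ne y u with rfl | hne
    · exact h1.2.2
    have hyw : y ∈ dperp T u := ⟨hy, hne, hyu.symm⟩
    have h2 := (hsw hu hyw).1
    have h3 := he.2 _ h2.1 h2.2.2.symm (by
      have := hcomm hu hyq
      rwa [hinvol hu] at this)
    have := hcomm hu h3
    rwa [hinvol hu] at this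
  obtain ⟨u, hu⟩ := hrich x hx
  -- some line through `u` is fixed
  obtain ⟨L, ⟨q, hq, rfl⟩, hfix⟩ := exists_fixed_of_odd (hL.odd u hu)
    (fun C => insert u (σ u '' (C \ {u}))) (by
      rintro - ⟨q, hq, rfl⟩
      refine ⟨σ u q, (hsw hu hq).1, ?_⟩
      apply Set.ext
      intro e
      constructor
      · intro he
        rcases eq_or_ne e u with rfl | hne
        · exact Or.inl rfl
        · have h1 := hline hu (hsw hu hq).1 he hne
          rw [hinvol hu] at h1
          exact Or.inr ⟨σ u e, ⟨h1.1, h1.2⟩, hinvol hu e⟩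
      · rintro (rfl | ⟨e', ⟨he', hne⟩, rfl⟩)
        · exact mem_ln_left hu
        · exact (hline hu hq he' hne).1) (by
      rintro - ⟨q, hq, rfl⟩
      apply Set.ext
      intro e
      constructor
      · rintro (rfl | ⟨e', ⟨h1 | ⟨e'', he'', rfl⟩, hne⟩, rfl⟩)
        · exact mem_ln_left hu
        · exact absurd h1 hne
        · rw [hinvol hu]; exact he''.1
      · intro he
        rcases eq_or_ne e u with rfl | hne
        · exact Or.inl rfl
        · exact Or.inr ⟨σ u e, ⟨Or.inr ⟨e, ⟨he, hne⟩, rfl⟩, (hline hu hq he hne).2⟩, hinvol hu e⟩)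
  beta_reduce at hfix
  set L := ln T u q with hLdef
  have hqu : q ≠ u := hq.2.1
  have huL : u ∈ L := mem_ln_left hu
  have hqL : q ∈ L := mem_ln_right hq.1
  have hmemT : ∀ {e}, e ∈ L → e ∈ T := fun h => h.1
  have hperp : ∀ {e f}, e ∈ L → f ∈ L → e ≠ f → f ∈ dperp T e := fun he hf hne =>
    (hL.pair u hu q hq _ he _ hf hne).1
  -- every swap of a point of `L` preserves `L`
  have hstab : ∀ {p r}, p ∈ L → r ∈ L → r ≠ p → σ p r ∈ L := by
    have hu' : ∀ {r}, r ∈ L → r ≠ u → σ u r ∈ L := fun {r} hr hne => by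
      rw [← hfix]; exact Or.inr ⟨r, ⟨hr, hne⟩, rfl⟩
    intro p r hp hr hne
    rcases eq_or_ne p u with rfl | hpu
    · exact hu' hr hne
    have hup := hperp huL hp (Ne.symm hpu)
    have hpu' := hperp hp huL hpu
    have hz : σ p u ∈ L := by rw [(hsw (hmemT hp) hpu').2.2.2]; exact hu' hp hpu
    have hlp : ln T p u = L := (hL.pair u hu q hq p hp u huL hpu).2
    have hzp : σ p u ≠ p := (hsw (hmemT hp) hpu').1.2.1
    have hlz : ln T p (σ p u) = L := (hL.pair u hu q hq p hp _ hz (Ne.symm hzp)).2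
    rw [← hlz]
    exact (hline (hmemT hp) hpu' (hlp.symm ▸ hr) hne).1
  set a' := σ u q with ha'def
  have ha'L : a' ∈ L := hstab huL hqL hqu
  have ha'q : a' ≠ q := (hsw hu hq).2.2.1
  have ha'u : a' ≠ u := (hsw hu hq).1.2.1
  have hcard : L.ncard = 5 := hL.five u hu q hq
  obtain ⟨c, hcL, hcn⟩ : ∃ c ∈ L, c ∉ ({u, q, a'} : Finset G) := by
    by_contra hcon
    push Not at hcon
    have : L.ncard ≤ ({u, q, a'} : Finset G).card := by
      rw [← Set.ncard_coe_finset]
      exact Set.ncard_le_ncard (fun e he => Finset.mem_coe.2 (hcon e he))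
    have := Finset.card_le_three (a := u) (b := q) (c := a')
    omega
  simp only [Finset.mem_insert, Finset.mem_singleton, not_or] at hcn
  obtain ⟨hcu, hcq, hca⟩ := hcn
  have hqu' : σ q u = a' := (hsw hu hq).2.2.2.symm
  have huc := hperp huL hcL (Ne.symm hcu)
  have hqc := hperp hqL hcL (Ne.symm hcq)
  set z₁ := σ u c with hz₁
  set z₂ := σ q c with hz₂
  have hqi := hinvol (hmemT hqL)
  have h1 : z₁ ∉ ({u, q, a', c} : Finset G) := by
    simp only [Finset.mem_insert, Finset.mem_singleton, not_or]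
    refine ⟨(hsw hu huc).1.2.1, fun e => hca ?_, fun e => hcq ?_, (hsw hu huc).2.2.1⟩
    · rw [ha'def, ← e, hinvol hu]
    · rw [← hinvol hu c, ← hz₁, e, ha'def, hinvol hu]
  have h2 : z₂ ∉ ({u, q, a', c} : Finset G) := by
    simp only [Finset.mem_insert, Finset.mem_singleton, not_or]
    refine ⟨fun e => hca ?_, (hsw (hmemT hqL) hqc).1.2.1, fun e => hcu ?_, (hsw (hmemT hqL) hqc).2.2.1⟩
    · rw [← hqi c, ← hz₂, e, hqu']
    · rw [← hqi c, ← hz₂, e, ← hqu', hqi]
  have hz : z₁ = z₂ := by
    by_contra hne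
    have hsub : ↑({z₁, z₂, u, q, a', c} : Finset G) ⊆ L := by
      intro e he
      simp only [Finset.coe_insert, Finset.coe_singleton, Set.mem_insert_iff, Set.mem_singleton_iff] at he
      rcases he with rfl | rfl | rfl | rfl | rfl | rfl
      · exact hstab huL hcL hcu
      · exact hstab hqL hcL hcq
      all_goals assumption
    have h6 := Set.ncard_le_ncard hsub
    rw [Set.ncard_coe_finset, hcard] at h6
    simp only [Finset.mem_insert, Finset.mem_singleton, not_or] at h1 h2
    rw [Finset.card_insert_of_notMem, Finset.card_insert_of_notMem, Finset.card_insert_of_notMem,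
      Finset.card_insert_of_notMem, Finset.card_insert_of_notMem, Finset.card_singleton] at h6
    · omega
    all_goals simp only [Finset.mem_insert, Finset.mem_singleton, not_or]
    · exact Ne.symm hca
    · exact ⟨Ne.symm ha'q, Ne.symm hcq⟩
    · exact ⟨Ne.symm hqu, Ne.symm ha'u, Ne.symm hcu⟩
    · exact h2
    · exact ⟨hne, h1⟩
  have e1 : σ c u = σ c q := by
    rw [← (hsw hu huc).2.2.2, ← (hsw (hmemT hqL) hqc).2.2.2]; exact hz
  have e2 := congrArg (σ c) e1
  rw [hinvol (hmemT hcL), hinvol (hmemT hcL)] at e2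
  exact hqu e2.symm

end Diameter

end Cfsg.Agent.ThreeTrans
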