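import Cfsg.Agent.ThreeTrans.RigidTypeM

/-!
# Traces, products along lines, and factorisations in type M(22)
-/

set_option autoImplicit false

open Cfsg Cfsg.Agent.Classical Cfsg.Agent.Classical.Herm Module

namespace Cfsg.Agent.ThreeTrans

/-- Two commuting non-partners of a member differ in their common partners with it. -/
def Trace {G : Type*} [Group G] (S : Set G) : Prop :=
  ∀ a ∈ S, ∀ c ∈ S, ∀ c' ∈ S, ¬ Commute a c → ¬ Commute a c' → c ≠ c' → Commute c c' →
    ∃ u ∈ dperp S a, Commute u c ∧ ¬ Commute u c'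

/-- The five members of a line together fix every member. -/
def LineProd {G : Type*} [Group G] (S : Set G) : Prop :=
  ∀ p ∈ S, ∀ q ∈ dperp S p, ∃ x₁ x₂ x₃ : G, ln S p q = {p, q, x₁, x₂, x₃} ∧
    ∀ w ∈ S, p * (q * (x₁ * (x₂ * (x₃ * w * x₃) * x₂) * x₁) * q) * p = w

namespace UModel

variable {F V : Type*} [Field F] [AddCommGroup V] [Module F V] {θ : F →+* F}
  {B : V →ₛₗ[θ] V →ₗ[F] F} (hB : Space B) {K : Type*} [Group K] {E : Set K} {tp : Pt B → K}
  (hM : Model B E tp)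

include hB hM

theorem trace : Trace E := by
  intro g hg g₁ hg₁ g₂ hg₂ hn₁ hn₂ hne hc
  obtain ⟨a, rfl⟩ := exists_tp hM hg
  obtain ⟨c₀, rfl⟩ := exists_tp hM hg₁
  obtain ⟨c', rfl⟩ := exists_tp hM hg₂
  rw [hM.comm_iff] at hn₁ hn₂ hc
  set c : V := (B a.1 c₀.1)⁻¹ • c₀.1 with hcdef
  have hac : B a.1 c = 1 := by simp [hcdef, inv_mul_cancel₀ hn₁]
  have hca := symm_one hB hac
  have hcc : B c c = 0 := by simp [hcdef, c₀.2.2]
  have hcc' : B c c'.1 = 0 := by simp [hcdef, hc]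
  set w := c'.1 - B a.1 c'.1 • c with hw
  have hw0 : w ≠ 0 := fun h => hne ((hM.eq_iff c₀ c').2 ⟨B a.1 c'.1 * (B a.1 c₀.1)⁻¹, by
    rw [mul_smul, ← hcdef]; exact sub_eq_zero.1 h⟩)
  obtain ⟨p, hpp, hap, hcp, hpw⟩ := exists_pair_nonorth hB a.2.2 hcc hac
    (show B a.1 w = 0 by simp [hw, hac]) (show B c w = 0 by simp [hw, hcc, hcc']) hw0
  have hp0 : p ≠ 0 := fun h => hpw (by rw [h]; simp)
  have hpc : B p c = 0 := (symm_zero hB).1 hcp
  refine ⟨tp ⟨p, hp0, hpp⟩, (mem_dperp hM a _).2 ⟨hap, fun k hk => ?_⟩, ?_, fun h => ?_⟩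
  · have := hcp
    rw [show p = k • a.1 from hk] at this
    simp [hca] at this
    exact hp0 (by rw [show p = k • a.1 from hk, this, zero_smul])
  · rw [hM.comm_iff]
    have e : c₀.1 = B a.1 c₀.1 • c := by rw [hcdef, smul_inv_smul₀ hn₁]
    show B p c₀.1 = 0
    rw [e, map_smul, hpc, smul_zero]
  · rw [hM.comm_iff] at h
    exact hpw (by simp [hw, hpc]; exact h)

theorem line_prod (hF : Nat.card F = 4) : LineProd E := by
  classical
  intro g hg g' hg'
  obtain ⟨b, rfl⟩ := exists_tp hM hg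
  obtain ⟨c, rfl⟩ := exists_tp hM hg'.1
  obtain ⟨hbc, hind⟩ := (mem_dperp hM b c).1 hg'
  have hcb := (symm_zero hB).1 hbc
  have := hB.finF
  have := Fintype.ofFinite F
  obtain ⟨w, hw⟩ : ∃ w : F, w ∉ ({0, 1} : Finset F) := by
    by_contra hcon
    push Not at hcon
    have h1 := Finset.card_le_card (s := (Finset.univ : Finset F)) (t := {0, 1}) fun x _ => hcon x
    rw [Finset.card_univ, ← Nat.card_eq_fintype_card, hF] at h1
    have h2 : ({0, 1} : Finset F).card ≤ 2 := Finset.card_le_two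
    omega
  simp only [Finset.mem_insert, Finset.mem_singleton, not_or] at hw
  obtain ⟨hw0, hw1⟩ := hw
  have hw1' : w + 1 ≠ 0 := fun h => hw1 (eq_of_add hB _ _ h)
  have hall : ∀ k : F, k = 0 ∨ k = 1 ∨ k = w ∨ k = w + 1 := by
    have hcard : ({0, 1, w, w + 1} : Finset F).card = 4 := by
      rw [Finset.card_insert_of_notMem, Finset.card_insert_of_notMem, Finset.card_pair]
      · intro h; exact one_ne_zero (α := F) (by simpa using h)
      · simp [Ne.symm hw1, hw0]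
      · simp [Ne.symm hw0, Ne.symm hw1']
    have h := Finset.eq_univ_of_card _ (by rw [hcard, ← Nat.card_eq_fintype_card, hF])
    intro k
    have := Finset.mem_univ k
    rw [← h] at this
    simpa using this
  obtain ⟨hk, hinj, hb, hline⟩ := ln_eq hB hM b c hbc hind
  set f : F → Pt B := fun k => ⟨_, hk k⟩
  have hc0 : tp (f 0) = tp c := congrArg tp (Subtype.ext (by simp [f]))
  refine ⟨tp (f 1), tp (f w), tp (f (w + 1)), ?_, ?_⟩
  · rw [hline]
    apply Set.ext
    intro q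
    simp only [Set.mem_insert_iff, Set.mem_range, Set.mem_singleton_iff]
    constructor
    · rintro (h | ⟨k, rfl⟩)
      · exact Or.inl h
      · rcases hall k with rfl | rfl | rfl | rfl
        · exact Or.inr (Or.inl hc0)
        all_goals simp [f]
    · rintro (h | rfl | rfl | rfl | rfl)
      · exact Or.inl h
      · exact Or.inr ⟨0, hc0⟩
      all_goals exact Or.inr ⟨_, rfl⟩
  · intro q hq
    obtain ⟨v, rfl⟩ := exists_tp hM hq
    obtain ⟨v₁, h1, h1'⟩ := exists_move hB hM (f (w + 1)) v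
    obtain ⟨v₂, h2, h2'⟩ := exists_move hB hM (f w) v₁
    obtain ⟨v₃, h3, h3'⟩ := exists_move hB hM (f 1) v₂
    obtain ⟨v₄, h4, h4'⟩ := exists_move hB hM c v₃
    obtain ⟨v₅, h5, h5'⟩ := exists_move hB hM b v₄
    rw [h1', h2', h3', h4', h5']
    refine congrArg tp (Subtype.ext ?_)
    have n1 := norm_one hB hw0
    have n2 := norm_one hB hw1'
    rw [map_add, map_one] at n2
    have hθ : θ w = w + 1 := by linear_combination n2 - n1 - add_self' hB (w + 1)
    have hsq : w * w + w + 1 = 0 := by rw [hθ] at n1; linear_combination n1 + two hB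
    rw [h5, h4, h3, h2, h1]
    simp only [f, map_add, map_smul, LinearMap.add_apply, LinearMap.smul_apply, map_smulₛₗ,
      smul_eq_mul, smul_add, smul_smul, hbc, hcb, b.2.2, c.2.2, map_one, hθ, mul_zero, add_zero,
      zero_add, one_smul]
    match_scalars
    · linear_combination
    all_goals grind [add_self' hB, two hB]

end UModel

variable {G K : Type*} [Group G] [Group K] {S : Set G} {T : Set K}

theorem SetIso.trace {φ : G → K} (h : SetIso S T φ) (hT : Trace T) : Trace S := by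
  intro a ha c hc c' hc' h1 h2 h3 h4
  obtain ⟨u, hu, hu1, hu2⟩ := hT _ (h.bij.mapsTo ha) _ (h.bij.mapsTo hc) _ (h.bij.mapsTo hc')
    (fun e => h1 ((h.comm a ha c hc).1 e)) (fun e => h2 ((h.comm a ha c' hc').1 e))
    (fun e => h3 (h.bij.injOn hc hc' e)) ((h.comm c hc c' hc').2 h4)
  obtain ⟨x, hx, rfl⟩ := (h.restrict ha).bij.surjOn hu
  exact ⟨x, hx, (h.comm x hx.1 c hc).1 hu1, fun e => hu2 ((h.comm x hx.1 c' hc').2 e)⟩

theorem SetIso.lineProd {φ : G → K} (h : SetIso S T φ) (hS : ClosedSet S) (hT : LineProd T) :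
    LineProd S := by
  intro p hp q hq
  obtain ⟨y₁, y₂, y₃, hl, hprod⟩ := hT _ (h.bij.mapsTo hp) _ ((h.restrict hp).bij.mapsTo hq)
  rw [← h.ln_image hp hq.1] at hl
  have hget : ∀ y, y ∈ ({φ p, φ q, y₁, y₂, y₃} : Set K) → ∃ x ∈ ln S p q, φ x = y := fun y hy => by
    rw [← hl] at hy; exact hy
  obtain ⟨x₁, hx₁, rfl⟩ := hget y₁ (by simp)
  obtain ⟨x₂, hx₂, rfl⟩ := hget y₂ (by simp)
  obtain ⟨x₃, hx₃, rfl⟩ := hget y₃ (by simp)
  refine ⟨x₁, x₂, x₃, ?_, fun w hw => ?_⟩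
  · have hsub : ({p, q, x₁, x₂, x₃} : Set G) ⊆ S := by
      rintro e (rfl | rfl | rfl | rfl | rfl)
      exacts [hp, hq.1, hx₁.1, hx₂.1, hx₃.1]
    refine (h.bij.injOn.image_eq_image_iff (fun e he => he.1) hsub).1 ?_
    rw [hl, Set.image_insert_eq, Set.image_insert_eq, Set.image_insert_eq, Set.image_insert_eq,
      Set.image_singleton]
  · have k3 := hS.conj _ hx₃.1 _ hw
    have k2 := hS.conj _ hx₂.1 _ k3
    have k1 := hS.conj _ hx₁.1 _ k2
    have k0 := hS.conj _ hq.1 _ k1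
    refine h.bij.injOn (hS.conj _ hp _ k0) hw ?_
    rw [h.conj _ hp _ k0, h.conj _ hq.1 _ k1, h.conj _ hx₁.1 _ k2, h.conj _ hx₂.1 _ k3,
      h.conj _ hx₃.1 _ hw]
    exact hprod _ (h.bij.mapsTo hw)

/-- `Trace` passes from the layers to the set. -/
theorem trace_of_layers (hdiam : Diam S) (hloc : ∀ t ∈ S, Trace (dperp S t)) : Trace S := by
  intro a ha c hc c' hc' h1 h2 hne hcc
  obtain ⟨u, hu, huc⟩ := hdiam a ha c hc h1
  by_cases huc' : Commute u c'
  · have hau := dperp_symm ha hu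
    have hcu : c ∈ dperp S u := ⟨hc, fun e => h1 (e ▸ hu.2.2), huc⟩
    have hcu' : c' ∈ dperp S u := ⟨hc', fun e => h2 (e ▸ hu.2.2), huc'⟩
    obtain ⟨v, hv, hv1, hv2⟩ := hloc u hu.1 a hau c hcu c' hcu' h1 h2 hne hcc
    exact ⟨v, ⟨hv.1.1, hv.2.1, hv.2.2⟩, hv1, hv2⟩
  · exact ⟨u, hu, huc, huc'⟩

end Cfsg.Agent.ThreeTrans
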