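import Cfsg.Agent.ThreeTrans.PairCentralizer

/-!
# Type M(23): layers, common partners, centralisers of members
-/

set_option autoImplicit false

open Cfsg

namespace Cfsg.Agent.ThreeTrans

variable {G K : Type*} [Group G] [Group K] {D S : Set G} {T : Set K}

theorem SetIso.hyp {φ : G → K} (h : SetIso S T φ) (hS : ClosedSet S) (hT : Hyp T) : Hyp S := by
  intro p hp q hq r hr hpq hall
  have := hT _ (h.bij.mapsTo hp) _ (h.bij.mapsTo hq) _ (h.bij.mapsTo hr)
    (fun e => hpq ((h.comm p hp q hq).1 e)) fun k hk h1 h2 => by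
      obtain ⟨y, hy, rfl⟩ := h.bij.surjOn hk
      exact (h.comm y hy r hr).2 (hall y hy ((h.comm y hy p hp).1 h1) ((h.comm y hy q hq).1 h2))
  rw [← h.conj p hp q hq] at this
  rcases this with e | e | e
  · exact Or.inl (h.bij.injOn hr hp e)
  · exact Or.inr (Or.inl (h.bij.injOn hr hq e))
  · exact Or.inr (Or.inr (h.bij.injOn hr (hS.conj p hp q hq) e))

/-- In type M(22) the common partners of two members that do not commute determine their line. -/
theorem hyp_of_M22Full (hD : IsThreeTranspositionGroup D) (hF : M22Full D) : Hyp D := by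
  have hT := hD.1
  intro p hp q hq r hr hpq hall
  obtain ⟨b, hb, hbq⟩ := hF.data.nice.diam p hp q hq hpq
  have hbqne : b ≠ q := fun h => hpq (h ▸ hb.2.2)
  have hpS : p ∈ dperp D b := dperp_symm hp hb
  have hqS : q ∈ dperp D b := ⟨hq, hbqne.symm, hbq⟩
  have hrb : Commute b r := hall b hb.1 hb.2.2.symm hbq
  have hne : r ≠ b := by
    rintro rfl
    obtain ⟨a, -, -, ha, -, -, ⟨hap, haq⟩, -⟩ := (hF.links r hr).tri p hpS q hqS hpq
    have hpa : p ∈ dperp D a := ⟨hp, fun h => hpq (h ▸ haq), hap⟩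
    have hqa : q ∈ dperp D a := ⟨hq, fun h => hpq ((h ▸ hap).symm), haq⟩
    rcases (hF.links a ha.1).hyp p hpa q hqa r ⟨hr, ha.2.1.symm, ha.2.2.symm⟩ hpq
      (fun y hy h1 h2 => hall y hy.1 h1 h2) with e | e | e
    · exact hpS.2.1 e.symm
    · exact hbqne e
    · refine hpq ?_
      have h1 := (commute_conj p r p).2 hb.2.2.symm
      rw [inv_eq hT hp, e, conj_twice (mul_self hT hp), mul_mul_self hT hp] at h1
      exact h1.symm
  exact (hF.links b hb.1).hyp p hpS q hqS r ⟨hr, hne, hrb⟩ hpq fun y hy => hall y hy.1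

/-- In type M(22) two commuting members are moved by a third one. -/
theorem exists_moved (hD : IsThreeTranspositionGroup D) (hF : M22Full D) {u w : G} (hu : u ∈ D)
    (hw : w ∈ dperp D u) : ∃ z ∈ D, ¬ Commute z u ∧ ¬ Commute z w := by
  obtain ⟨a, ha⟩ := (hF.data.layerNice u hu).rich w hw
  obtain ⟨z, hz, h1, h2⟩ := (hF.transport hD).move a ha.1.1 u (dperp_symm hu ha.1) w
    ⟨⟨hw.1, ha.2.1.symm, ha.2.2.symm⟩, hw.2.1, hw.2.2⟩
  exact ⟨z, hz.1, h1, h2⟩

/-- If the common partners of two members are odd in number, a member moved by both has one of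
them as a partner. -/
theorem third_of_odd [Finite G] (hD : IsThreeTranspositionGroup D) {x y z : G} (hx : x ∈ D)
    (hy : y ∈ D) (hz : z ∈ D) (hxy : Commute x y) (hne : x ≠ y) (hxz : ¬ Commute x z)
    (hyz : ¬ Commute y z) (hodd : Odd (dperp (dperp D x) y).ncard) :
    ∃ a ∈ dperp D x, Commute a y ∧ Commute a z ∧ a ≠ y := by
  have hT := hD.1
  have hc := hD.2.1
  have hzx : ¬ Commute z x := fun h => hxz h.symm
  have hzy : ¬ Commute z y := fun h => hyz h.symm
  set t := z * y * z * (z * x * z) with ht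
  have htx : t * x * t⁻¹ = y := (twist_eq hT hx hy hz x).symm.trans (twist_left hT hx hy hz hzx hzy)
  have hty : t * y * t⁻¹ = x :=
    (twist_eq hT hx hy hz y).symm.trans (twist_right hT hx hy hz hxy hzx hzy)
  have htz : t = z * (y * x) * z := by simp only [ht, mul_assoc, mul_self_mul hT hz]
  have htt : t * t = 1 := by
    rw [htz]
    simp only [mul_assoc, mul_self_mul hT hz]
    rw [← mul_assoc x y, hxy.eq, ← mul_assoc y, ← mul_assoc y, mul_self hT hy, one_mul,
      mul_self_mul hT hx, mul_self hT hz]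
  obtain ⟨a, ha, hfix⟩ := exists_fixed_of_odd hodd (fun a => t * a * t⁻¹) (fun a ha => by
    have h1 := dperp_conj hc t ha.1
    rw [htx] at h1
    have h2 : t * a * t⁻¹ ≠ x := fun e => ha.2.1 (by
      rw [← hty] at e; exact mul_left_cancel (mul_right_cancel e))
    have h3 : Commute x (t * a * t⁻¹) := hty ▸ (commute_conj t y a).2 ha.2.2
    exact ⟨⟨h1.1, h2, h3⟩, h1.2.1, h1.2.2⟩) fun a _ => by
      show t * (t * a * t⁻¹) * t⁻¹ = a
      rw [show t⁻¹ = t from inv_eq_of_mul_eq_one_left htt]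
      exact conj_twice htt
  refine ⟨a, ha.1, ha.2.2.symm, ?_, ha.2.1⟩
  by_contra haz
  have hta : Commute t a := mul_inv_eq_iff_eq_mul.1 hfix
  have he := (commute_conj z t a).2 hta
  rw [inv_eq hT hz, htz, conj_twice (mul_self hT hz)] at he
  obtain ⟨-, hex⟩ := (commute_pair_iff hT hy hx (conj_mem hT hc hz ha.1.1) hxy.symm hne.symm).1
    he.symm
  have h1 := (commute_conj z (z * a * z) x).2 hex
  rw [inv_eq hT hz, conj_twice (mul_self hT hz), braid hT hz hx hzx] at h1
  have h2 := (commute_conj x a (x * z * x)).2 h1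
  rw [inv_eq hT hx, conj_self_of_commute hT hx ha.1.2.2, conj_twice (mul_self hT hx)] at h2
  exact haz h2

/-- What is used about a set of type M(23). -/
structure M23Data (D : Set G) : Prop where
  nice : Nice D
  noTwins : NoTwins D
  noTwins2 : ∀ a ∈ D, ∀ b ∈ dperp D a, NoTwins (dperp (dperp D a) b)
  trace : Trace D
  hyp : ∀ t ∈ D, Hyp (dperp D t)
  transport : Transport D

/-- The quotient of the base layer of a group of type M(23) with the image of the layer. -/
theorem layer_M22 [Finite G] (hD : IsThreeTranspositionGroup D) {d : G} {H : Subgroup G}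
    (hH : H = Subgroup.closure (dperp D d))
    (h22 : IsOfTypeM22 (H ⧸ Subgroup.center H) (lowImage H (dperp D d))) :
    M22Full (lowImage H (dperp D d) \ {1}) :=
  m22Full_diff (lowImage_group hD hH) h22 h22.1

theorem m23Data [Finite G] (hD : IsThreeTranspositionGroup D) (hprim : IsPrimitiveUnderConj D)
    (h : IsOfTypeM23 G D) : M23Data D := by
  have hcls := class_of_primitive hD hprim
  obtain ⟨hN, hN2, -⟩ := top_data hD hprim (Or.inl h)
  have e : D \ {1} = D := Set.sdiff_singleton_eq_self fun h1 => ne_one hD.1 h1 rfl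
  have hnice := nice_of_M23 (D₀ := D) (by rwa [e]) h
  rw [e] at hnice
  obtain ⟨hZ, d, hd, c, -, -, h22, -⟩ := h
  set H := Subgroup.closure {y : G | y ∈ D ∧ y ≠ d ∧ Commute d y}
  have hH : H = Subgroup.closure (dperp D d) := rfl
  have hgrp := lowImage_group hD hH
  obtain ⟨hG, -, -⟩ := layerData_of_M22 (D₀ := lowImage H (dperp D d)) hgrp h22
  obtain ⟨hU, hodd⟩ := nice_of_M22 (D₀ := lowImage H (dperp D d)) hgrp h22
  have hfull := layer_M22 hD hH h22
  set T := lowImage H (dperp D d) \ {1} with hTdef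
  have hS := closedSet_of_group hD
  have hiso : ∀ {a}, a ∈ D → ∃ φ, SetIso (dperp D a) T φ := fun ha =>
    exists_layer_iso hD hd hH hcls hG hN ha
  have hlayer : ∀ t ∈ D, Nice (dperp D t) := fun t ht => nice_layer hD hd hH hcls hG hN hU ht
  have hlayer2 : ∀ t ∈ D, ∀ u ∈ dperp D t, Nice (dperp (dperp D t) u) := fun t ht u hu => by
    obtain ⟨φ, hφ⟩ := hiso ht
    exact (hφ.restrict hu).nice ((hS.dperp t).dperp u)
      (hfull.data.layerNice _ (hφ.bij.mapsTo hu))
  have hhyp : ∀ t ∈ D, Hyp (dperp D t) := fun t ht => by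
    obtain ⟨φ, hφ⟩ := hiso ht
    exact hφ.hyp (hS.dperp t) (hyp_of_M22Full hgrp hfull)
  have htrace : Trace D := trace_of_layers hnice.diam fun t ht => by
    obtain ⟨φ, hφ⟩ := hiso ht
    exact hφ.trace hfull.data.trace
  refine ⟨hnice, hN, hN2, htrace, hhyp, hnice, hlayer, fun a ha u hu w hw => ?_,
    fun a ha a' ha' u hu w hw huw hne => ?_,
    fun u hu w hw a ha a' ha' haw haw' hna hna' => ?_,
    fun x hx y hy z hz hxy hne hxz hyz => ?_, fun a ha u hu k hk hku => ?_⟩
  · obtain ⟨φ, hφ⟩ := hiso ha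
    obtain ⟨k, hk, h1, h2⟩ := exists_moved hgrp hfull (hφ.bij.mapsTo hu)
      ((hφ.restrict hu).bij.mapsTo hw)
    obtain ⟨z, hz, rfl⟩ := hφ.bij.surjOn hk
    exact ⟨z, hz, fun e => h1 ((hφ.comm z hz u hu).2 e), fun e => h2 ((hφ.comm z hz w hw.1).2 e)⟩
  · obtain ⟨φ, hφ⟩ := hiso ha
    obtain ⟨k, hk, h1, h2⟩ := (hfull.transport hgrp).move _ (hφ.bij.mapsTo ha') _
      ((hφ.restrict ha').bij.mapsTo hu) _
      (((hφ.restrict ha').restrict hu).bij.mapsTo ⟨hw, hne.symm, huw⟩)
    obtain ⟨z, hz, rfl⟩ := (hφ.restrict ha').bij.surjOn hk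
    exact ⟨z, hz.1, hz.2.2.symm, fun e => h1 ((hφ.comm z hz.1 u hu.1).2 e),
      fun e => h2 ((hφ.comm z hz.1 w hw.1).2 e)⟩
  · have hA : a ∈ dperp (dperp D u) w := ⟨ha, hna, haw.symm⟩
    have hA' : a' ∈ dperp (dperp D u) w := ⟨ha', hna', haw'.symm⟩
    by_cases haa : Commute a a'
    · exact ⟨a, hA, Commute.refl a, haa⟩
    · obtain ⟨c, hc, hca'⟩ := (hlayer2 u hu w hw).diam a hA a' hA' haa
      exact ⟨c, hc.1, hc.2.2.symm, hca'⟩
  · refine third_of_odd hD hx hy hz hxy hne hxz hyz ?_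
    have hyX : y ∈ dperp D x := ⟨hy, hne.symm, hxy⟩
    obtain ⟨φ, hφ⟩ := hiso hx
    rw [(hφ.restrict hyX).ncard_eq]
    exact hodd _ (hφ.bij.mapsTo hyX)
  -- the centraliser in the base layer
  have hbase : ∀ u ∈ dperp D d, ∀ k ∈ H, Commute k u → k ∈ memGroup D u := by
    intro u hu k hk hku
    set uH : H := ⟨u, mem_H hH hu⟩
    set kH : H := ⟨k, hk⟩
    have hne := mk_ne_one hD hd hH hcls hG hN (u := uH) hu
    have hmem : (kH : H ⧸ Subgroup.center H) ∈ Subgroup.closure
        (dperp T (uH : H ⧸ Subgroup.center H)) := by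
      rw [← centralizer_eq_closure hgrp hfull h22.1 ⟨⟨uH, hu, rfl⟩, hne⟩,
        Subgroup.mem_centralizer_singleton_iff]
      exact (((show Commute kH uH from Subtype.ext hku.eq).map (QuotientGroup.mk' _))).eq
    set A : Subgroup H := Subgroup.closure {x : H | (x : G) ∈ dperp D d ∧ Commute u (x : G)}
    have hle : Subgroup.closure (dperp T (uH : H ⧸ Subgroup.center H)) ≤
        A.map (QuotientGroup.mk' _) := by
      refine (Subgroup.closure_le _).2 ?_
      rintro - ⟨⟨⟨x, hx, rfl⟩, -⟩, -, hux⟩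
      exact ⟨x, Subgroup.subset_closure ⟨hx, reflect hD hH (u := uH) hu hx hux⟩, rfl⟩
    obtain ⟨y, hy, hyk⟩ := hle hmem
    have hz : y⁻¹ * kH ∈ Subgroup.center H := QuotientGroup.eq.1 hyk
    have hA : A.map H.subtype ≤ memGroup D u := by
      rw [MonoidHom.map_closure, Subgroup.closure_le]
      rintro - ⟨x, ⟨hx, hux⟩, rfl⟩
      exact Subgroup.subset_closure ⟨hx.1, hux⟩
    have hz' : (↑(y⁻¹ * kH) : G) ∈ memGroup D u := by
      rcases eq_one_or_eq_of_centralises' hD hZ hnice htrace hhyp hd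
        (commute_of_mem_H hH (y⁻¹ * kH).2).symm (fun x hx =>
          (congrArg Subtype.val (Subgroup.mem_center_iff.1 hz ⟨x, mem_H hH hx⟩)).symm) with h | h
      · rw [h]; exact one_mem _
      · rw [h]; exact Subgroup.subset_closure ⟨hd, hu.2.2.symm⟩
    have := mul_mem (hA ⟨y, hy, rfl⟩) hz'
    simpa [kH] using this
  obtain ⟨g, hg⟩ := class_isConj hcls ha hd
  have hk' : g * k * g⁻¹ ∈ H := by
    suffices (Subgroup.closure (dperp D a)).map (MulAut.conj g).toMonoidHom ≤
        Subgroup.closure (dperp D d) from this ⟨k, hk, rfl⟩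
    rw [MonoidHom.map_closure, Subgroup.closure_le]
    rintro - ⟨x, hx, rfl⟩
    exact Subgroup.subset_closure (hg ▸ dperp_conj hD.2.1 g hx)
  have := hbase (g * u * g⁻¹) (hg ▸ dperp_conj hD.2.1 g hu) _ hk' ((commute_conj g k u).2 hku)
  have h2 := memGroup_conj hD.2.1 (g := g⁻¹) this
  simpa [mul_assoc] using h2

end Cfsg.Agent.ThreeTrans
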