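import Cfsg.Agent.ThreeTrans.ElemM22
import Cfsg.Agent.ThreeTrans.UnitaryCentral
import Cfsg.Agent.ThreeTrans.UnitaryPlane

/-!
# Frames of totally isotropic planes in the unitary space

A frame is a basis of a totally isotropic plane with an isotropic dual triple.  The isometries fixing
the plane pointwise form its radical, of order `2 ^ 9`.  Commuting transvections at one, two or three
independent points are conjugate.
-/

set_option autoImplicit false

open Cfsg Cfsg.Agent.Classical Cfsg.Agent.Classical.Herm Module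

namespace Cfsg.Agent.ThreeTrans.UModel

variable {F V : Type*} [Field F] [AddCommGroup V] [Module F V] {θ : F →+* F}
  {B : V →ₛₗ[θ] V →ₗ[F] F}

/-- A totally isotropic plane with an isotropic dual triple. -/
structure Frame (B : V →ₛₗ[θ] V →ₗ[F] F) where
  u : Fin 3 → V
  v : Fin 3 → V
  uu : ∀ i j, B (u i) (u j) = 0
  vv : ∀ i j, B (v i) (v j) = 0
  vu : ∀ i j, B (v i) (u j) = if i = j then 1 else 0

variable (hB : Space B)

include hB

/-- The dual pairing in the other order. -/
theorem Frame.uv (f : Frame B) (i j : Fin 3) : B (f.u i) (f.v j) = if i = j then 1 else 0 := by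
  rw [← hB.herm.symm, f.vu]
  rcases eq_or_ne i j with rfl | h
  · simp
  · simp [h, Ne.symm h]

theorem exists_planeFrame : Nonempty (Frame B) := by
  obtain ⟨P0, hP0, hPP, -⟩ := exists_iso hB (0 : V) 0 0 0
  obtain ⟨y, hy⟩ := exists_pair hB hP0
  obtain ⟨c, hc0, hcc, hPc, hyc, -, -⟩ := exists_iso hB P0 y 0 0
  have hind : ∀ k : F, c ≠ k • P0 := fun k hk => by
    rw [hk, map_smul, smul_eq_mul, hy, mul_one] at hyc
    exact hc0 (by rw [hk, hyc, zero_smul])
  obtain ⟨y', hy'⟩ := exists_pair hB hc0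
  obtain ⟨Q, hQ0, hQQ, hPQ, hcQ, hyQ, hyQ'⟩ := exists_iso hB P0 c y y'
  have hQind : ∀ α β : F, Q ≠ α • P0 + β • c := by
    intro α β hk
    rw [hk] at hyQ hyQ'
    simp only [map_add, map_smul, smul_eq_mul, hy, hyc, mul_one, mul_zero, add_zero] at hyQ
    rw [hyQ] at hyQ'
    simp only [map_add, map_smul, smul_eq_mul, map_zero, zero_mul, zero_add, hy', mul_one] at hyQ'
    exact hQ0 (by rw [hk, hyQ, hyQ', zero_smul, zero_smul, add_zero])
  obtain ⟨a, z, z₂, Q', s, t, -, hQ'Q', haa, hzz, h22, hTQ, hPQ', haT, haP, haQ, hzT, hzP, hzQ, h2T,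
    h2P, h2Q, haz, ha2, hz2, -⟩ := exists_frame hB hP0 hPP hc0 hcc hQQ hPc hPQ hcQ hind hQind
  have hs := fun {x w : V} (h : B x w = 0) => (symm_zero hB).1 h
  refine ⟨⟨![P0, c, Q'], ![a, z, z₂], ?_, ?_, ?_⟩⟩
  · intro i j
    fin_cases i <;> fin_cases j <;> simp [hPP, hcc, hQ'Q', hPc, hs hPc, hTQ, hs hTQ, hPQ', hs hPQ']
  · intro i j
    fin_cases i <;> fin_cases j <;> simp [haa, hzz, h22, haz, hs haz, ha2, hs ha2, hz2, hs hz2]
  · intro i j
    fin_cases i <;> fin_cases j <;> simp [haT, haP, haQ, hzT, hzP, hzQ, h2T, h2P, h2Q]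

/-- The six vectors of a frame are a basis. -/
theorem Frame.complete (f : Frame B) (x : V) :
    x = ∑ i, B (f.v i) x • f.u i + ∑ i, B (f.u i) x • f.v i := by
  have := hB.fin; have := hB.finF
  let b : Fin 3 ⊕ Fin 3 → V := Sum.elim f.u f.v
  have hli : LinearIndependent F b := by
    rw [Fintype.linearIndependent_iff]
    intro g hg k
    rw [Fintype.sum_sum_type] at hg
    rcases k with i | i
    · have h := congrArg (B (f.v i)) hg
      simpa [b, map_sum, f.vu, f.vv] using h
    · have h := congrArg (B (f.u i)) hg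
      simpa [b, map_sum, f.uv hB, f.uu] using h
  have hsp : Submodule.span F (Set.range b) = ⊤ :=
    hli.span_eq_top_of_card_eq_finrank (by rw [hB.rank]; rfl)
  set y := x - (∑ i, B (f.v i) x • f.u i + ∑ i, B (f.u i) x • f.v i) with hy
  suffices h : y = 0 by rwa [hy, sub_eq_zero] at h
  refine hB.herm.nondeg y fun z => ?_
  have hz : z ∈ Submodule.span F (Set.range b) := hsp ▸ Submodule.mem_top
  induction hz using Submodule.span_induction with
  | mem z hz =>
    obtain ⟨i | i, rfl⟩ := hz <;> refine (symm_zero hB).1 ?_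
    · simp [b, hy, map_sum, f.uu, f.uv hB]
    · simp [b, hy, map_sum, f.vv, f.vu]
  | zero => rw [map_zero]
  | add p q _ _ hp hq => rw [map_add, hp, hq, add_zero]
  | smul k p _ hp => rw [map_smul, hp, smul_zero]

/-- A vector perpendicular to the plane lies in it. -/
theorem Frame.mem_plane (f : Frame B) {x : V} (h : ∀ i, B (f.u i) x = 0) :
    x = ∑ i, B (f.v i) x • f.u i := by
  conv_lhs => rw [f.complete hB x]
  simp [h]

omit hB in
theorem Frame.plane_iso (f : Frame B) (a a' : Fin 3 → F) :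
    B (∑ i, a i • f.u i) (∑ i, a' i • f.u i) = 0 := by
  simp [map_sum, f.uu]

omit hB in
theorem Frame.plane_coord (f : Frame B) (a : Fin 3 → F) (i : Fin 3) :
    B (f.v i) (∑ k, a k • f.u k) = a i := by
  simp [map_sum, f.vu]

/-- The image of a frame. -/
def Frame.move (f : Frame B) (s : suG B) : Frame B where
  u i := s.1 (f.u i)
  v i := s.1 (f.v i)
  uu i j := by rw [s.2.1, f.uu]
  vv i j := by rw [s.2.1, f.vv]
  vu i j := by rw [s.2.1, f.vu]

omit hB in
/-- A frame in another order. -/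
def Frame.perm (f : Frame B) (σ : Equiv.Perm (Fin 3)) : Frame B where
  u i := f.u (σ i)
  v i := f.v (σ i)
  uu i j := f.uu _ _
  vv i j := f.vv _ _
  vu i j := by rw [f.vu]; simp

/-- A frame with the plane vectors scaled. -/
def Frame.scale (f : Frame B) (k : Fin 3 → F) (hk : ∀ i, k i ≠ 0) : Frame B where
  u i := k i • f.u i
  v i := (θ (k i))⁻¹ • f.v i
  uu i j := by simp [f.uu]
  vv i j := by simp [f.vv]
  vu i j := by
    rcases eq_or_ne i j with rfl | h
    · simp [f.vu, map_inv₀, hB.herm.invol, hk]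
    · simp [f.vu, h]

/-- The frame with the last two pairs exchanged. -/
def Frame.flip12 (f : Frame B) : Frame B where
  u := ![f.u 0, f.v 1, f.v 2]
  v := ![f.v 0, f.u 1, f.u 2]
  uu i j := by fin_cases i <;> fin_cases j <;> simp [f.uu, f.vv, f.vu, f.uv hB]
  vv i j := by fin_cases i <;> fin_cases j <;> simp [f.uu, f.vv, f.vu, f.uv hB]
  vu i j := by fin_cases i <;> fin_cases j <;> simp [f.uu, f.vv, f.vu, f.uv hB]

/-- The frame with the last pair exchanged. -/
def Frame.flip2 (f : Frame B) : Frame B where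
  u := ![f.u 0, f.u 1, f.v 2]
  v := ![f.v 0, f.v 1, f.u 2]
  uu i j := by fin_cases i <;> fin_cases j <;> simp [f.uu, f.vv, f.vu, f.uv hB]
  vv i j := by fin_cases i <;> fin_cases j <;> simp [f.uu, f.vv, f.vu, f.uv hB]
  vu i j := by fin_cases i <;> fin_cases j <;> simp [f.uu, f.vv, f.vu, f.uv hB]

/-! ### Transvections at vectors -/

/-- The transvection at an isotropic vector; one at the others. -/
noncomputable def trv (x : V) : suG B := by
  classical exact if h : x ≠ 0 ∧ B x x = 0 then tr hB ⟨x, h⟩ else 1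

theorem trv_pt (p : Pt B) : trv hB p.1 = tr hB p := by
  rw [trv, dif_pos p.2]

theorem trv_apply {x : V} (hx : B x x = 0) (y : V) : (trv hB x).1 y = y + B x y • x := by
  by_cases h : x = 0
  · subst h
    rw [trv, dif_neg (fun hh => hh.1 rfl)]
    simp
  · rw [trv, dif_pos ⟨h, hx⟩, tr_apply]

theorem trv_sq (x : V) : trv hB x * trv hB x = 1 := by
  unfold trv
  split_ifs with h
  · exact tr_sq hB _
  · exact one_mul _

theorem trv_comm {x y : V} (h : B x y = 0) : Commute (trv hB x) (trv hB y) := by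
  unfold trv
  split_ifs with h1 h2
  · exact (tr_commute_iff hB _ _).2 h
  all_goals first | exact Commute.one_right _ | exact Commute.one_left _

theorem trv_conj (s : suG B) (x : V) : s * trv hB x * s⁻¹ = trv hB (s.1 x) := by
  by_cases h : x ≠ 0 ∧ B x x = 0
  · have h' : s.1 x ≠ 0 ∧ B (s.1 x) (s.1 x) = 0 :=
      ⟨fun e => h.1 (by simpa using e), by rw [s.2.1]; exact h.2⟩
    rw [trv, trv, dif_pos h, dif_pos h']
    exact tr_conj hB s (v := ⟨x, h⟩) (u := ⟨_, h'⟩) rfl
  · have h' : ¬ (s.1 x ≠ 0 ∧ B (s.1 x) (s.1 x) = 0) := fun e => h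
      ⟨fun e' => e.1 (by rw [e', map_zero]), by rw [← s.2.1]; exact e.2⟩
    rw [trv, trv, dif_neg h, dif_neg h', mul_one, mul_inv_cancel]

theorem trv_smul {k : F} (hk : k ≠ 0) (x : V) : trv hB (k • x) = trv hB x := by
  by_cases h : x ≠ 0 ∧ B x x = 0
  · have h' : k • x ≠ 0 ∧ B (k • x) (k • x) = 0 := ⟨smul_ne_zero hk h.1, by simp [h.2]⟩
    rw [trv, trv, dif_pos h, dif_pos h']
    exact ((tr_eq_iff hB _ _).2 ⟨k, rfl⟩).symm
  · have h' : ¬ (k • x ≠ 0 ∧ B (k • x) (k • x) = 0) := fun e => h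
      ⟨fun e' => e.1 (by rw [e', smul_zero]), by simpa [hk] using e.2⟩
    rw [trv, trv, dif_neg h, dif_neg h']

/-- The elements of the field. -/
theorem four_cases {w : F} (hw : w + θ w = 1) (k : F) : k = 0 ∨ k = 1 ∨ k = w ∨ k = θ w := by
  rcases hB.fixed (k + θ k) (by rw [map_add, hB.herm.invol, add_comm]) with h | h
  · rcases hB.fixed k (eq_of_add hB _ _ h).symm with h1 | h1
    · exact Or.inl h1
    · exact Or.inr (Or.inl h1)
  · have h2 : θ (k + w) = k + w := by
      rw [map_add]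
      linear_combination h + hw - (k + w - 1) * two hB
    rcases hB.fixed _ h2 with h1 | h1
    · exact Or.inr (Or.inr (Or.inl (eq_of_add hB _ _ h1)))
    · exact Or.inr (Or.inr (Or.inr (by linear_combination h1 - hw + (θ w - w) * two hB - (θ w - w) * two hB)))

theorem exists_split : ∃ w : F, w + θ w = 1 := by
  obtain ⟨w, hw⟩ := Herm.exists_moved hB.herm.toIsInvol
  refine ⟨w, ?_⟩
  rcases hB.fixed (w + θ w) (by rw [map_add, hB.herm.invol, add_comm]) with h | h
  · exact absurd (eq_of_add hB _ _ h).symm hw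
  · exact h

/-- The five points of a totally isotropic line. -/
theorem line_one {a b : V} (haa : B a a = 0) (hbb : B b b = 0) (hab : B a b = 0) {w : F}
    (hw : w + θ w = 1) :
    trv hB a * trv hB b * trv hB (a + b) * trv hB (a + w • b) * trv hB (a + θ w • b) = 1 := by
  have hba := (symm_zero hB).1 hab
  have hi : ∀ k : F, B (a + k • b) (a + k • b) = 0 := fun k => by simp [haa, hbb, hab, hba]
  have hi1 : B (a + b) (a + b) = 0 := by simpa using hi 1
  have hn := norm_one hB (k := w) (fun h => by rw [h] at hw; simp at hw)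
  refine ext_suG hB fun x => ?_
  show (trv hB a).1 ((trv hB b).1 ((trv hB (a + b)).1 ((trv hB (a + w • b)).1
    ((trv hB (a + θ w • b)).1 x)))) = x
  simp only [trv_apply hB haa, trv_apply hB hbb, trv_apply hB hi1, trv_apply hB (hi _)]
  simp [haa, hbb, hab, hba, hB.herm.invol]
  match_scalars
  · rfl
  · linear_combination (B b x) * hw + (B b x) * two hB + (B a x) * two hB + (B a x) * two hB
  · linear_combination (B a x) * hw + (B a x) * two hB + (B b x) * (hn + hn) + (B b x) * two hB + (B b x) * two hB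

/-- The seven points of a subplane over the field with two elements. -/
theorem subplane_one {a b c : V} (haa : B a a = 0) (hbb : B b b = 0) (hcc : B c c = 0)
    (hab : B a b = 0) (hac : B a c = 0) (hbc : B b c = 0) :
    trv hB a * trv hB b * trv hB c * trv hB (a + b) * trv hB (a + c) * trv hB (b + c) *
      trv hB (a + b + c) = 1 := by
  have hs := fun {x w : V} (h : B x w = 0) => (symm_zero hB).1 h
  have hba := hs hab; have hca := hs hac; have hcb := hs hbc
  have e1 : B (a + b) (a + b) = 0 := by simp [haa, hbb, hab, hba]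
  have e2 : B (a + c) (a + c) = 0 := by simp [haa, hcc, hac, hca]
  have e3 : B (b + c) (b + c) = 0 := by simp [hbb, hcc, hbc, hcb]
  have e4 : B (a + b + c) (a + b + c) = 0 := by simp [haa, hbb, hcc, hab, hba, hac, hca, hbc, hcb]
  refine ext_suG hB fun x => ?_
  show (trv hB a).1 ((trv hB b).1 ((trv hB c).1 ((trv hB (a + b)).1 ((trv hB (a + c)).1
    ((trv hB (b + c)).1 ((trv hB (a + b + c)).1 x)))))) = x
  simp only [trv_apply hB haa, trv_apply hB hbb, trv_apply hB hcc, trv_apply hB e1, trv_apply hB e2,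
    trv_apply hB e3, trv_apply hB e4]
  simp [haa, hbb, hcc, hab, hba, hac, hca, hbc, hcb]
  have t2 : (2 : F) = 0 := by linear_combination two hB
  have t4 : (4 : F) = 0 := by linear_combination 2 * two hB
  match_scalars <;> ring_nf <;> simp [t2, t4]

/-! ### The radical of a plane -/

omit hB in
/-- The isometries fixing the plane pointwise. -/
def Frame.rad (f : Frame B) : Subgroup (suG B) where
  carrier := {g | ∀ i, g.1 (f.u i) = f.u i}
  one_mem' := fun _ => rfl
  mul_mem' := fun {g g'} hg hg' i => by show g.1 (g'.1 (f.u i)) = f.u i; rw [hg' i, hg i]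
  inv_mem' := fun {g} hg i => by
    show g.1⁻¹ (f.u i) = f.u i
    conv_lhs => rw [← hg i]
    exact Herm.inv_apply_self' _ _

theorem Frame.rad_sq (f : Frame B) {g : suG B} (hg : g ∈ f.rad) : g * g = 1 := by
  refine ext_suG hB fun x => ?_
  show g.1 (g.1 x) = x
  have hd : ∀ j, g.1 (g.1 (f.v j)) = f.v j := fun j => by
    have h1 := f.mem_plane hB (x := g.1 (f.v j) - f.v j) fun i => by
      rw [map_sub]
      conv_lhs => arg 1; rw [← hg i, g.2.1]
      rw [sub_self]
    have h2 : g.1 (g.1 (f.v j) - f.v j) = g.1 (f.v j) - f.v j := by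
      rw [h1, map_sum]
      exact Finset.sum_congr rfl fun i _ => by rw [map_smul, hg i]
    rw [map_sub] at h2
    have h3 := sub_eq_iff_eq_add.1 h2
    rw [h3, sub_add, show f.v j - g.1 (f.v j) = f.v j + g.1 (f.v j) by
      rw [sub_eq_add_neg, neg_eq_of_add_eq_zero_left (vadd_self hB _)]]
    rw [sub_eq_add_neg, neg_eq_of_add_eq_zero_left (vadd_self hB _), ← add_assoc, add_comm (g.1 (f.v j)),
      add_assoc, vadd_self hB, add_zero]
  conv_rhs => rw [f.complete hB x]
  conv_lhs => rw [f.complete hB x]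
  simp only [map_add, map_sum, map_smul, hg _, hd]

theorem Frame.rad_comm (f : Frame B) {g g' : suG B} (hg : g ∈ f.rad) (hg' : g' ∈ f.rad) :
    Commute g g' := by
  have h := f.rad_sq hB (mul_mem hg hg')
  have e1 := inv_eq_of_mul_eq_one_left (f.rad_sq hB hg)
  have e2 := inv_eq_of_mul_eq_one_left (f.rad_sq hB hg')
  have e3 := inv_eq_of_mul_eq_one_left h
  rw [mul_inv_rev, e1, e2] at e3
  exact e3.symm

theorem Frame.trv_mem (f : Frame B) {x : V} (hxx : B x x = 0) (hx : ∀ i, B x (f.u i) = 0) :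
    trv hB x ∈ f.rad := fun i => by rw [trv_apply hB hxx, hx i, zero_smul, add_zero]

/-- An involution is a product of commuting transvections at vectors perpendicular to what it fixes. -/
theorem fix_prod {g : suG B} (hg : g * g = 1) :
    ∃ l : List V, (∀ x ∈ l, B x x = 0) ∧ (∀ x ∈ l, ∀ y ∈ l, B x y = 0) ∧
      g = (l.map (trv hB)).prod ∧ ∀ z, g.1 z = z → ∀ x ∈ l, B x z = 0 := by
  rcases involution_eq hB hg with h | ⟨a, h⟩ | ⟨a, b, hab, hba, h⟩ |
    ⟨a, b, c, hab, hac, hbc, hba, hcab, h⟩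
  · exact ⟨[], by simp, by simp, by simpa using h, by simp⟩
  · refine ⟨[a.1], by simp [a.2.2], by simp [a.2.2], by simpa [trv_pt] using h, fun z hz => ?_⟩
    rw [h, tr_apply, add_eq_left] at hz
    simpa using (smul_eq_zero.1 hz).resolve_right a.2.1
  · refine ⟨[a.1, b.1], by simp [a.2.2, b.2.2],
      by simp [a.2.2, b.2.2, hab, (symm_zero hB).1 hab], by simpa [trv_pt] using h, fun z h1 => ?_⟩
    rw [h] at h1
    change (tr hB a).1 ((tr hB b).1 z) = z at h1
    simp only [tr_apply, map_add, map_smul, hab, smul_zero, add_zero, add_assoc, add_eq_left] at h1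
    by_cases hb : B b.1 z = 0
    · simp only [hb, zero_smul, add_zero, zero_add, smul_zero] at h1
      simpa [hb] using (smul_eq_zero.1 h1).resolve_right a.2.1
    · exfalso
      refine hba (-(B b.1 z)⁻¹ * B a.1 z) ?_
      rw [neg_mul, neg_smul, mul_smul, eq_neg_iff_add_eq_zero]
      have := congrArg (fun x => (B b.1 z)⁻¹ • x) h1
      simpa [smul_add, smul_smul, inv_mul_cancel₀ hb, add_comm] using this
  · refine ⟨[a.1, b.1, c.1], by simp [a.2.2, b.2.2, c.2.2],
      by simp [a.2.2, b.2.2, c.2.2, hab, hac, hbc, (symm_zero hB).1 hab, (symm_zero hB).1 hac,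
        (symm_zero hB).1 hbc], by simpa [trv_pt, mul_assoc] using h, fun z h1 => ?_⟩
    rw [h] at h1
    change (tr hB a).1 ((tr hB b).1 ((tr hB c).1 z)) = z at h1
    simp only [tr_apply, map_add, map_smul, hab, hac, hbc, smul_zero, add_zero, add_assoc,
      add_eq_left] at h1
    by_cases hc : B c.1 z = 0
    · simp only [hc, zero_smul, add_zero, zero_add, smul_zero] at h1
      by_cases hb : B b.1 z = 0
      · simp only [hb, zero_smul, add_zero, zero_add, smul_zero] at h1
        simpa [hb, hc] using (smul_eq_zero.1 h1).resolve_right a.2.1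
      · exfalso
        refine hba (-(B b.1 z)⁻¹ * B a.1 z) ?_
        rw [neg_mul, neg_smul, mul_smul, eq_neg_iff_add_eq_zero]
        have := congrArg (fun x => (B b.1 z)⁻¹ • x) h1
        simpa [smul_add, smul_smul, inv_mul_cancel₀ hb, add_comm] using this
    · exfalso
      refine hcab (-(B c.1 z)⁻¹ * B a.1 z) (-(B c.1 z)⁻¹ * B b.1 z) ?_
      rw [neg_mul, neg_mul, neg_smul, neg_smul, mul_smul, mul_smul, ← neg_add, eq_neg_iff_add_eq_zero]
      have h3 := congrArg (fun x => (B c.1 z)⁻¹ • x) h1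
      simp only [smul_add, smul_zero, smul_smul, inv_mul_cancel₀ hc, one_smul] at h3
      linear_combination (norm := module) h3

/-- The off-diagonal element of the radical. -/
noncomputable def el (f : Frame B) (w : F) (i j : Fin 3) (γ : F) : suG B :=
  trv hB (f.u i + (θ γ * w) • f.u j) * trv hB (f.u i + (θ γ * θ w) • f.u j)

theorem el_apply (f : Frame B) {w : F} (hw : w + θ w = 1) (i j : Fin 3) (γ : F) (x : V) :
    (el hB f w i j γ).1 x =
      x + (γ * B (f.u j) x) • f.u i + (θ γ * B (f.u i) x) • f.u j := by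
  have hi : ∀ k : F, B (f.u i + k • f.u j) (f.u i + k • f.u j) = 0 := fun k => by simp [f.uu]
  have hn := norm_one hB (k := w) (fun h => by rw [h] at hw; simp at hw)
  show (trv hB _).1 ((trv hB _).1 x) = _
  simp only [trv_apply hB (hi _)]
  simp [f.uu, map_mul, hB.herm.invol]
  match_scalars
  · rfl
  · linear_combination (B (f.u i) x) * two hB + γ * (B (f.u j) x) * hw
  · linear_combination θ γ * (B (f.u i) x) * hw + γ * θ γ * (B (f.u j) x) * (hn + hn + two hB)

theorem el_mem (f : Frame B) {w : F} (hw : w + θ w = 1) (i j : Fin 3) (γ : F) : el hB f w i j γ ∈ f.rad :=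
  fun k => by rw [el_apply hB f hw]; simp [f.uu]

/-- The radical has order `2 ^ 9`. -/
theorem Frame.card_rad (f : Frame B) : Nat.card f.rad = 512 := by
  classical
  have := hB.fin; have := hB.finF; have := finite_suG hB
  refine le_antisymm (elem_suG hB f.rad fun g hg => f.rad_sq hB hg).1 ?_
  obtain ⟨w, hw⟩ := exists_split hB
  have hiu : ∀ i, B (f.u i) (f.u i) = 0 := fun i => f.uu i i
  let Φ : (Fin 3 → Bool) × F × F × F → f.rad := fun p =>
    ⟨(if p.1 0 then trv hB (f.u 0) else 1) * (if p.1 1 then trv hB (f.u 1) else 1) *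
      (if p.1 2 then trv hB (f.u 2) else 1) * el hB f w 0 1 p.2.1 * el hB f w 0 2 p.2.2.1 *
      el hB f w 1 2 p.2.2.2, by
      refine mul_mem (mul_mem (mul_mem (mul_mem (mul_mem ?_ ?_) ?_) (el_mem hB f hw _ _ _))
        (el_mem hB f hw _ _ _)) (el_mem hB f hw _ _ _) <;> split_ifs <;>
        first | exact one_mem _ | exact f.trv_mem hB (hiu _) fun i => f.uu _ i⟩
  have hdiag : ∀ (q : Bool) (k : Fin 3) (x : V),
      ((if q then trv hB (f.u k) else 1 : suG B)).1 x = x + ((if q then (1 : F) else 0) * B (f.u k) x) • f.u k := by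
    intro q k x
    cases q
    · simp
    · simp [trv_apply hB (hiu k)]
  have hΦ : ∀ p i j, B (f.v i) ((Φ p).1.1 (f.v j)) =
      (if i = j ∧ p.1 i then 1 else 0) + (if i = 0 ∧ j = 1 then p.2.1 else 0) +
      (if i = 1 ∧ j = 0 then θ p.2.1 else 0) + (if i = 0 ∧ j = 2 then p.2.2.1 else 0) +
      (if i = 2 ∧ j = 0 then θ p.2.2.1 else 0) + (if i = 1 ∧ j = 2 then p.2.2.2 else 0) +
      (if i = 2 ∧ j = 1 then θ p.2.2.2 else 0) := by
    intro p i j
    show B (f.v i) ((if p.1 0 then trv hB (f.u 0) else 1 : suG B).1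
      ((if p.1 1 then trv hB (f.u 1) else 1 : suG B).1 ((if p.1 2 then trv hB (f.u 2) else 1 : suG B).1
        ((el hB f w 0 1 p.2.1).1 ((el hB f w 0 2 p.2.2.1).1 ((el hB f w 1 2 p.2.2.2).1 (f.v j))))))) = _
    simp only [hdiag, el_apply hB f hw]
    generalize hb0 : (if p.1 0 = true then (1 : F) else 0) = b0
    generalize hb1 : (if p.1 1 = true then (1 : F) else 0) = b1
    generalize hb2 : (if p.1 2 = true then (1 : F) else 0) = b2
    fin_cases i <;> fin_cases j <;> simp [f.uu, f.uv hB, f.vu, f.vv, ← hb0, ← hb1, ← hb2, -mul_ite, -ite_mul, -ite_smul, -smul_ite]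
  have hinj : Function.Injective Φ := by
    rintro ⟨d, a, b, c⟩ ⟨d', a', b', c'⟩ h
    have H := fun i j => (hΦ (d, a, b, c) i j).symm.trans ((h ▸ hΦ (d', a', b', c') i j :))
    have hd : d = d' := funext fun i => by
      have hs : ∀ q q' : Bool, (if q then (1 : F) else 0) = (if q' then 1 else 0) → q = q' := by
        intro q q'; cases q <;> cases q' <;> simp
      refine hs _ _ ?_
      have := H i i
      fin_cases i <;> simpa using this
    have ha : a = a' := by simpa using H 0 1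
    have hb : b = b' := by simpa using H 0 2
    have hc : c = c' := by simpa using H 1 2
    rw [hd, ha, hb, hc]
  have h4 : Nat.card F = 4 := by
    rw [Herm.card_eq_fix_sq hB.herm.toIsInvol]
    have h2 : Nat.card (fixField θ) = 2 := by
      refine le_antisymm ?_ ?_
      · let s : Bool → fixField θ := fun q => if q then 1 else 0
        refine (Nat.card_le_card_of_surjective s fun a => ?_).trans (by simp)
        rcases hB.fixed a.1 (mem_fixField.1 a.2) with h | h
        · exact ⟨false, Subtype.ext h.symm⟩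
        · exact ⟨true, Subtype.ext h.symm⟩
      · exact Finite.one_lt_card
    rw [h2]
    norm_num
  have := Nat.card_le_card_of_injective Φ hinj
  simpa [Nat.card_prod, Nat.card_eq_fintype_card (α := Fin 3 → Bool), h4] using this

/-! ### Conjugacy of commuting transvections -/

omit hB in
theorem smul_image {s s' : suG B} {a b c : V} {k k' : F} (h : s.1 a = k • b) (h' : s'.1 b = k' • c) :
    (s' * s).1 a = (k * k') • c := by
  show s'.1 (s.1 a) = _
  rw [h, map_smul, h', smul_smul]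

/-- The braid of two transvections moves the one point to the other. -/
theorem step_move {a b : V} (haa : B a a = 0) (hbb : B b b = 0) (hab : B a b ≠ 0) :
    ∃ s : suG B, (∃ k : F, k ≠ 0 ∧ s.1 a = k • b) ∧ ∀ r, B a r = 0 → B b r = 0 → s.1 r = r := by
  have hba : B b a = θ (B a b) := (hB.herm.symm a b).symm
  refine ⟨trv hB a * trv hB b, ⟨B b a, fun h => hab ((symm_zero hB).1 h), ?_⟩, fun r h1 h2 => ?_⟩
  · show (trv hB a).1 ((trv hB b).1 a) = _
    simp only [trv_apply hB hbb, trv_apply hB haa, map_add, map_smul, haa, smul_add, smul_smul,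
      smul_eq_mul, zero_add]
    have e : B b a * B a b = 1 := by rw [hba, mul_comm]; exact norm_one hB hab
    rw [e, one_smul, add_comm a, add_assoc, vadd_self hB, add_zero]
  · show (trv hB a).1 ((trv hB b).1 r) = r
    simp [trv_apply hB hbb, trv_apply hB haa, h1, h2]

theorem move_point {a b : V} (ha : a ≠ 0) (haa : B a a = 0) (hb : b ≠ 0) (hbb : B b b = 0) :
    ∃ s : suG B, ∃ k : F, k ≠ 0 ∧ s.1 a = k • b := by
  have := hB.fin; have := hB.finF
  obtain ⟨z, hzz, hza, hzb⟩ := Herm.exists_common hB.herm ha haa hb hbb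
  obtain ⟨s, ⟨k, hk, hs⟩, -⟩ := step_move hB haa hzz fun h => hza ((symm_zero hB).1 h)
  obtain ⟨s', ⟨k', hk', hs'⟩, -⟩ := step_move hB hzz hbb hzb
  exact ⟨s' * s, k * k', mul_ne_zero hk hk', smul_image hs hs'⟩

theorem move_pair {a b p q : V} (ha : a ≠ 0) (haa : B a a = 0) (hbb : B b b = 0) (hab : B a b = 0)
    (hind : ∀ k : F, b ≠ k • a) (hp : p ≠ 0) (hpp : B p p = 0) (hqq : B q q = 0) (hpq : B p q = 0)
    (hind' : ∀ k : F, q ≠ k • p) :
    ∃ s : suG B, (∃ k : F, k ≠ 0 ∧ s.1 a = k • p) ∧ ∃ k : F, k ≠ 0 ∧ s.1 b = k • q := by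
  have := hB.fin; have := hB.finF
  obtain ⟨s, k, hk, hs⟩ := move_point hB ha haa hp hpp
  set b' := s.1 b with hb'
  have hb'b : B b' b' = 0 := by rw [hb', s.2.1, hbb]
  have hpb : B p b' = 0 := by
    have h : B (s.1 a) b' = 0 := by rw [hb', s.2.1, hab]
    simpa [hs, hk] using h
  have hb'i : ∀ l : F, b' ≠ l • p := fun l hl => hind (l * k⁻¹) (s.1.injective (by
    rw [← hb', hl, map_smul, hs, smul_smul, mul_assoc, inv_mul_cancel₀ hk, mul_one]))
  suffices ∃ t : suG B, t.1 p = p ∧ ∃ l : F, l ≠ 0 ∧ t.1 b' = l • q by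
    obtain ⟨t, htp, l, hl, ht⟩ := this
    exact ⟨t * s, ⟨k, hk, by show t.1 (s.1 a) = _; rw [hs, map_smul, htp]⟩, l, hl, ht⟩
  by_cases hbq : B b' q = 0
  swap
  · obtain ⟨t, ht, hfix⟩ := step_move hB hb'b hqq hbq
    exact ⟨t, hfix p ((symm_zero hB).1 hpb) ((symm_zero hB).1 hpq), ht⟩
  set P : Pt B := ⟨p, hp, hpp⟩
  obtain ⟨R⟩ := exists_res hB P
  have hd : ∀ r, B p r = 0 → B r r = 0 → (∀ l : F, r ≠ l • p) →
      R.down r ≠ 0 ∧ hermB 4 θ (R.down r) (R.down r) = 0 := by
    intro r h1 h2 h3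
    refine ⟨fun h0 => h3 (B R.f r) ?_, by rw [← R.form_split hB (e := P) h1 h1, h2]⟩
    have := R.split hB (e := P) h1
    rwa [h0, map_zero, zero_add] at this
  obtain ⟨z, hzz, hzb, hzq⟩ := Herm.exists_common (isHerm_four hB) (hd b' hpb hb'b hb'i).1
    (hd b' hpb hb'b hb'i).2 (hd q hpq hqq hind').1 (hd q hpq hqq hind').2
  have hu : B p (R.up z) = 0 := R.e_up hB z
  have huu : B (R.up z) (R.up z) = 0 := by rw [R.form_up hB, hzz]
  have hne : ∀ r, B p r = 0 → hermB 4 θ z (R.down r) ≠ 0 → B (R.up z) r ≠ 0 := by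
    intro r hr hz
    rwa [R.form_split hB (e := P) hu hr, R.down_up hB z]
  obtain ⟨t, ⟨l, hl, ht⟩, hfix⟩ := step_move hB hb'b huu fun h => hne b' hpb hzb ((symm_zero hB).1 h)
  obtain ⟨t', ⟨l', hl', ht'⟩, hfix'⟩ := step_move hB huu hqq (hne q hpq hzq)
  refine ⟨t' * t, ?_, l * l', mul_ne_zero hl hl', smul_image ht ht'⟩
  show t'.1 (t.1 p) = p
  rw [hfix p ((symm_zero hB).1 hpb) ((symm_zero hB).1 hu),
    hfix' p ((symm_zero hB).1 hu) ((symm_zero hB).1 hpq)]

/-- Three independent commuting points go to those of a frame. -/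
theorem move_triple {a b c : V} (ha : a ≠ 0) (haa : B a a = 0) (hbb : B b b = 0) (hcc : B c c = 0)
    (hab : B a b = 0) (hac : B a c = 0) (hbc : B b c = 0) (hind : ∀ k : F, b ≠ k • a)
    (hind2 : ∀ α β : F, c ≠ α • a + β • b) (f : Frame B) :
    ∃ s : suG B, (∃ k : F, k ≠ 0 ∧ s.1 a = k • f.u 0) ∧ (∃ k : F, k ≠ 0 ∧ s.1 b = k • f.u 1) ∧
      ∃ k : F, k ≠ 0 ∧ s.1 c = k • f.u 2 := by
  have := hB.fin; have := hB.finF
  have hu0 : ∀ i, f.u i ≠ 0 := fun i h => by
    have := f.vu i i; rw [h] at this; simp at this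
  have hind' : ∀ k : F, f.u 1 ≠ k • f.u 0 := fun k h => by
    have := congrArg (B (f.v 1)) h; simp [f.vu] at this
  obtain ⟨s, ⟨k, hk, hs⟩, ⟨k', hk', hs'⟩⟩ :=
    move_pair hB ha haa hbb hab hind (hu0 0) (f.uu 0 0) (f.uu 1 1) (f.uu 0 1) hind'
  set c' := s.1 c with hc'
  have hc'c : B c' c' = 0 := by rw [hc', s.2.1, hcc]
  have h0 : B (f.u 0) c' = 0 := by
    have h : B (s.1 a) c' = 0 := by rw [hc', s.2.1, hac]
    simpa [hs, hk] using h
  have h1 : B (f.u 1) c' = 0 := by
    have h : B (s.1 b) c' = 0 := by rw [hc', s.2.1, hbc]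
    simpa [hs', hk'] using h
  suffices ∃ t : suG B, t.1 (f.u 0) = f.u 0 ∧ t.1 (f.u 1) = f.u 1 ∧
      ∃ l : F, l ≠ 0 ∧ t.1 c' = l • f.u 2 by
    obtain ⟨t, t0, t1, l, hl, ht⟩ := this
    exact ⟨t * s, ⟨k, hk, by show t.1 (s.1 a) = _; rw [hs, map_smul, t0]⟩,
      ⟨k', hk', by show t.1 (s.1 b) = _; rw [hs', map_smul, t1]⟩, l, hl, ht⟩
  by_cases h2 : B c' (f.u 2) = 0
  swap
  · obtain ⟨t, ht, hfix⟩ := step_move hB hc'c (f.uu 2 2) h2
    exact ⟨t, hfix _ ((symm_zero hB).1 h0) (f.uu 2 0), hfix _ ((symm_zero hB).1 h1) (f.uu 2 1), ht⟩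
  have hpl := f.mem_plane hB (x := c') fun i => by
    fin_cases i
    exacts [h0, h1, (symm_zero hB).1 h2]
  rw [Fin.sum_univ_three] at hpl
  set α := B (f.v 0) c'
  set β := B (f.v 1) c'
  set γ := B (f.v 2) c'
  have hγ : γ ≠ 0 := fun h => by
    refine hind2 (α * k⁻¹) (β * k'⁻¹) (s.1.injective ?_)
    rw [map_add, map_smul, map_smul, hs, hs', smul_smul, smul_smul, mul_assoc, inv_mul_cancel₀ hk,
      mul_assoc, inv_mul_cancel₀ hk', mul_one, mul_one, ← hc', hpl, h, zero_smul, add_zero]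
  obtain ⟨w, hw⟩ := exists_split hB
  set g := el hB (f.flip12 hB) w 0 2 (α / γ) * el hB (f.flip2 hB) w 1 2 (β / γ) with hg
  have hgx : ∀ x, g.1 x = (el hB (f.flip12 hB) w 0 2 (α / γ)).1 ((el hB (f.flip2 hB) w 1 2 (β / γ)).1 x) :=
    fun x => rfl
  have hinv : ∀ {x y : V}, g.1 x = y → (g⁻¹).1 y = x := fun {x y} h => by
    rw [← h]; exact Herm.inv_apply_self' _ _
  refine ⟨g⁻¹, hinv ?_, hinv ?_, γ, hγ, hinv ?_⟩
  · rw [hgx, el_apply hB _ hw, el_apply hB _ hw]
    simp [Frame.flip12, Frame.flip2, f.uu, f.vu]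
  · rw [hgx, el_apply hB _ hw, el_apply hB _ hw]
    simp [Frame.flip12, Frame.flip2, f.uu, f.vu]
  · rw [map_smul, hgx, el_apply hB _ hw, el_apply hB _ hw]
    simp [Frame.flip12, Frame.flip2, f.uu, f.vu, f.uv hB]
    rw [hpl]
    match_scalars <;> field_simp

end Cfsg.Agent.ThreeTrans.UModel
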