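import Cfsg.Agent.ThreeTrans.UnitaryModel

/-!
# Lines through a point and the parity of the set, for the six-dimensional unitary model
-/

set_option autoImplicit false

open Cfsg Cfsg.Agent.Classical Cfsg.Agent.Classical.Herm Module

namespace Cfsg.Agent.ThreeTrans

/-- With lines of five points the number of members is odd. -/
theorem odd_of_lines {G : Type*} [Group G] [Finite G] {S : Set G} (hS : ClosedSet S) (hl : Lines S)
    {p : G} (hp : p ∈ S) : Odd S.ncard := by
  classical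
  set A : Set G := dperp S p
  have hA : Even A.ncard := by
    set s : Finset G := (Set.toFinite A).toFinset
    have hs : A.ncard = s.card := Set.ncard_eq_toFinset_card A (Set.toFinite A)
    rw [hs, Finset.card_eq_sum_card_image (fun q => ln S p q) s]
    refine Finset.even_sum _ fun L hL => ?_
    obtain ⟨q, hq, rfl⟩ := Finset.mem_image.1 hL
    replace hq : q ∈ A := (Set.Finite.mem_toFinset _).1 hq
    have he : ↑(s.filter fun x => ln S p x = ln S p q) = ln S p q \ {p} := by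
      apply Set.ext
      intro e
      simp only [Finset.coe_filter, Set.mem_ofPred_eq, Set.mem_sdiff, Set.mem_singleton_iff, s,
        Set.Finite.mem_toFinset]
      constructor
      · rintro ⟨he, heq⟩
        exact ⟨heq ▸ mem_ln_right he.1, he.2.1⟩
      · rintro ⟨he, hne⟩
        exact hl.pair p hp q hq p (mem_ln_left hp) e he (Ne.symm hne)
    rw [← Set.ncard_coe_finset, he,
      Set.ncard_sdiff_singleton_of_mem (show p ∈ ln S p q from mem_ln_left hp), hl.five p hp q hq]
    exact ⟨2, rfl⟩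
  set Fx : Set G := insert p A
  have hF : Odd Fx.ncard := by
    rw [Set.ncard_insert_of_notMem (fun h : p ∈ A => h.2.1 rfl) (Set.toFinite A)]
    exact hA.add_one
  have hFS : Fx ⊆ S := Set.insert_subset hp fun x hx => hx.1
  have hrest : Even (S \ Fx).ncard := by
    by_contra hne
    have hmove : ∀ x ∈ S \ Fx, p * x * p ∈ S \ Fx ∧ p * x * p ≠ x := by
      rintro x ⟨hx, hxF⟩
      have hnc : ¬ Commute p x := fun hc => hxF (by
        rcases eq_or_ne x p with rfl | hne'
        · exact Or.inl rfl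
        · exact Or.inr ⟨hx, hne', hc⟩)
      refine ⟨⟨hS.conj p hp x hx, ?_⟩, fun h => hnc (commute_of_conj_eq hS.tri hp h)⟩
      rintro (h | h)
      · refine hnc ((show x = p from ?_) ▸ Commute.refl p)
        calc x = p * (p * x * p) * p := (conj_twice (mul_self hS.tri hp)).symm
          _ = p := by rw [h, mul_self hS.tri hp, one_mul]
      · refine hnc (commute_of_conj_eq hS.tri hp ?_)
        rw [← conj_self_of_commute hS.tri hp h.2.2]
        exact (conj_twice (mul_self hS.tri hp))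
    obtain ⟨x, hx, hfix⟩ := exists_fixed_of_odd (Nat.not_even_iff_odd.1 hne) (fun x => p * x * p)
      (fun x hx => (hmove x hx).1) fun x _ => conj_twice (mul_self hS.tri hp)
    exact (hmove x hx).2 hfix
  rw [← Set.ncard_sdiff_add_ncard_of_subset hFS]
  exact hrest.add_odd hF

namespace UModel

variable {F V : Type*} [Field F] [AddCommGroup V] [Module F V] {θ : F →+* F}
  {B : V →ₛₗ[θ] V →ₗ[F] F} (hB : Space B) {K : Type*} [Group K] {E : Set K} {tp : Pt B → K}
  (hM : Model B E tp)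

include hB hM

theorem exists_move (q v : Pt B) :
    ∃ u : Pt B, u.1 = v.1 + B q.1 v.1 • q.1 ∧ tp q * tp v * tp q = tp u := by
  set k := B q.1 v.1 with hk
  have h0 : v.1 + k • q.1 ≠ 0 := fun h => by
    have h1 := congrArg (B q.1) h
    simp [q.2.2] at h1
    exact v.2.1 (by rw [← hk] at h1; simpa [h1] using h)
  have h1 : B (v.1 + k • q.1) (v.1 + k • q.1) = 0 := by
    have h2 : B v.1 q.1 = θ k := by rw [hk, hB.herm.symm]
    simp [v.2.2, q.2.2, h2, ← hk]
    rw [mul_comm]
    exact add_self' hB _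
  exact ⟨⟨_, h0, h1⟩, rfl, hM.conj q v _ rfl⟩

theorem lines (hF : Nat.card F = 4) [Finite K] : Lines E := by
  classical
  have := hB.finF; have := hB.fin
  refine ⟨?_, ?_, ?_⟩
  · intro g hg g' hg'
    obtain ⟨b, rfl⟩ := exists_tp hM hg
    obtain ⟨c, rfl⟩ := exists_tp hM hg'.1
    exact line_five hB hM hF b c ((mem_dperp hM b c).1 hg').1 ((mem_dperp hM b c).1 hg').2
  · intro g hg g' hg' e he f hf hne
    obtain ⟨b, rfl⟩ := exists_tp hM hg
    obtain ⟨c, rfl⟩ := exists_tp hM hg'.1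
    obtain ⟨e, rfl⟩ := exists_tp hM he.1
    obtain ⟨f, rfl⟩ := exists_tp hM hf.1
    exact line_pair hB hM b c ((mem_dperp hM b c).1 hg').1 ((mem_dperp hM b c).1 hg').2 e f he hf hne
  intro g hg
  obtain ⟨⟨T, hT0, hTT⟩, rfl⟩ := exists_tp hM hg
  -- a totally isotropic plane through the point
  obtain ⟨y, hy⟩ := exists_pair hB hT0
  obtain ⟨P, hP0, hPP, hTP, hyP, -, -⟩ := exists_iso hB T y 0 0
  have hPT : ∀ k : F, P ≠ k • T := fun k hk => hP0 (by
    rw [hk, map_smul, smul_eq_mul, hy, mul_one] at hyP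
    rw [hk, hyP, zero_smul])
  obtain ⟨a, z, haa, hzz, haT, haP, hzP, hzT, haz⟩ := exists_duals hB hT0 hTT hP0 hPP hTP hPT
  obtain ⟨Q, hQ0, hQQ, hTQ, hPQ, haQ, hzQ⟩ := exists_iso hB T P a z
  obtain ⟨r, hr⟩ := exists_pair hB hQ0
  have hs := fun {x w : V} (h : B x w = 0) => (symm_zero hB).1 h
  have ho := fun {x w : V} (h : B x w = 1) => symm_one hB h
  set r' := r - B T r • a - B a r • T - B P r • z - B z r • P with hr'
  have r1 : B r' T = 0 := hs (by simp [hr', hTT, hTP, ho haT, hs hzT])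
  have r2 : B r' P = 0 := hs (by simp [hr', hs hTP, hPP, hs haP, ho hzP])
  have r3 : B r' a = 0 := hs (by simp [hr', haa, haT, haP, haz])
  have r4 : B r' z = 0 := hs (by simp [hr', hs haz, hzT, hzz, hzP])
  have r5 : B r' Q = 1 := ho (by simp [hr', hs hTQ, hs hPQ, hs haQ, hs hzQ, ho hr])
  obtain ⟨c, hc⟩ : ∃ c, c + θ c = B r' r' := exists_trace hB.herm.toIsInvol (Herm.fix_self hB.herm r')
  set z₂ := r' + c • Q with hz₂
  have h22 : B z₂ z₂ = 0 := by
    simp [hz₂, hQQ, r5, ho r5]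
    rw [← hc]
    linear_combination add_self' hB (c + θ c)
  have h2T : B z₂ T = 0 := by simp [hz₂, r1, hs hTQ]
  have h2P : B z₂ P = 0 := by simp [hz₂, r2, hs hPQ]
  have h2Q : B z₂ Q = 1 := by simp [hz₂, r5, hQQ]
  have ha2 : B a z₂ = 0 := by simp [hz₂, hs r3, haQ]
  have hz2 : B z z₂ = 0 := by simp [hz₂, hs r4, hzQ]
  set tT : Pt B := ⟨T, hT0, hTT⟩
  set tP : Pt B := ⟨P, hP0, hPP⟩
  set tQ : Pt B := ⟨Q, hQ0, hQQ⟩
  set f : K → K := fun g => tp tP * (tp tQ * g * tp tQ) * tp tP with hfdef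
  have hS := hM.closed
  have hmP := mul_self hS.tri (tp_mem hM tP)
  have hmQ := mul_self hS.tri (tp_mem hM tQ)
  have hcPQ : Commute (tp tP) (tp tQ) := (hM.comm_iff tP tQ).2 hPQ
  have hfi : ∀ g, f (f g) = g := fun g => by
    have e : ∀ g, tp tQ * (tp tP * g * tp tP) * tp tQ = tp tP * (tp tQ * g * tp tQ) * tp tP := fun g => by
      calc tp tQ * (tp tP * g * tp tP) * tp tQ = (tp tQ * tp tP) * g * (tp tP * tp tQ) := by
            simp only [mul_assoc]
        _ = (tp tP * tp tQ) * g * (tp tQ * tp tP) := by rw [hcPQ.eq]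
        _ = _ := by simp only [mul_assoc]
    show tp tP * (tp tQ * (tp tP * (tp tQ * g * tp tQ) * tp tP) * tp tQ) * tp tP = g
    rw [e, conj_twice hmP, conj_twice hmQ]
  have hfE : ∀ g ∈ E, f g ∈ E := fun g hg =>
    hS.conj _ (tp_mem hM tP) _ (hS.conj _ (tp_mem hM tQ) g hg)
  have hfT : f (tp tT) = tp tT := by
    show tp tP * (tp tQ * tp tT * tp tQ) * tp tP = tp tT
    rw [conj_self_of_commute hS.tri (tp_mem hM tQ) ((hM.comm_iff tQ tT).2 (hs hTQ)),
      conj_self_of_commute hS.tri (tp_mem hM tP) ((hM.comm_iff tP tT).2 (hs hTP))]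
  have hfc : ∀ {u w}, Commute u w → Commute (f u) (f w) := fun {u w} h => by
    have key : ∀ {m u w : K}, m * m = 1 → Commute u w → Commute (m * u * m) (m * w * m) :=
      fun {m u w} hm h => by
        have := (commute_conj m u w).2 h
        rwa [inv_eq_of_mul_eq_one_left hm] at this
    exact key hmP (key hmQ h)
  have himg : ∀ v : K, f '' ln E (tp tT) v = ln E (tp tT) (f v) := fun v => by
    apply Set.ext
    intro e
    constructor
    · rintro ⟨e, ⟨he, he'⟩, rfl⟩
      refine ⟨hfE e he, fun w hw h1 h2 => ?_⟩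
      have h3 := hfc h2
      rw [hfi] at h3
      have h4 := hfc h1
      rw [hfT] at h4
      have := hfc (he' _ (hfE w hw) h4 h3)
      rwa [hfi] at this
    · rintro ⟨he, he'⟩
      refine ⟨f e, ⟨hfE e he, fun w hw h1 h2 => ?_⟩, hfi e⟩
      have h4 := hfc h1
      rw [hfT] at h4
      have := hfc (he' _ (hfE w hw) h4 (hfc h2))
      rwa [hfi] at this
  have hfperp : ∀ {v}, v ∈ dperp E (tp tT) → f v ∈ dperp E (tp tT) := fun {v} hv =>
    ⟨hfE v hv.1, fun e => hv.2.1 (by rw [← hfi v, e, hfT]), hfT ▸ hfc hv.2.2⟩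
  set A : Set (Set K) := (fun q => ln E (tp tT) q) '' dperp E (tp tT) with hA
  -- the lines in the plane
  have hw : ∀ o : Option F, ∃ w : Pt B, w.1 = o.elim P (fun k => Q + k • P) ∧
      B T w.1 = 0 ∧ ∀ k : F, w.1 ≠ k • T := by
    rintro (_ | k)
    · exact ⟨tP, rfl, hTP, hPT⟩
    · have h1 : Q + k • P ≠ 0 := fun h => one_ne_zero (α := F) (by
        have := congrArg (B z₂) h
        simpa [h2Q, h2P] using this)
      refine ⟨⟨_, h1, by simp [hQQ, hPP, hPQ, hs hPQ]⟩, rfl, by simp [hTQ, hTP], fun l hl => ?_⟩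
      have := congrArg (B z₂) hl
      simp [h2Q, h2P, h2T] at this
  choose w hw1 hw2 hw3 using hw
  have hmem : ∀ o, tp (w o) ∈ dperp E (tp tT) := fun o => (mem_dperp hM tT _).2 ⟨hw2 o, hw3 o⟩
  set Φ : Option F → Set K := fun o => ln E (tp tT) (tp (w o))
  have hΦ : Function.Injective Φ := by
    intro o o' he
    have h1 : tp (w o') ∈ ln E (tp tT) (tp (w o)) := by
      rw [show ln E (tp tT) (tp (w o)) = ln E (tp tT) (tp (w o')) from he]
      exact mem_ln_right (tp_mem hM _)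
    obtain ⟨α, β, hαβ⟩ := (mem_ln hB hM tT (w o) (hw2 o) (hw3 o) (w o')).1 h1
    rw [hw1, hw1] at hαβ
    have e1 := congrArg (B z₂) hαβ
    have e2 := congrArg (B z) hαβ
    rcases o with _ | k <;> rcases o' with _ | l <;>
      simp [tT, h2P, h2Q, h2T, hzP, hzQ, hzT] at e1 e2 ⊢
    · subst e1; simp at e2
    · subst e1; simp at e2; exact e2.symm
  have hsub : Set.range Φ ⊆ A := by rintro - ⟨o, rfl⟩; exact ⟨_, hmem o, rfl⟩
  have hfix : ∀ v ∈ dperp E (tp tT),
      f '' ln E (tp tT) v = ln E (tp tT) v → ln E (tp tT) v ∈ Set.range Φ := by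
    intro v hv he
    obtain ⟨v, rfl⟩ := exists_tp hM hv.1
    obtain ⟨hTv, hind⟩ := (mem_dperp hM tT v).1 hv
    obtain ⟨v₁, hv1, hv1'⟩ := exists_move hB hM tQ v
    obtain ⟨v₂, hv2, hv2'⟩ := exists_move hB hM tP v₁
    have hfv : f (tp v) ∈ ln E (tp tT) (tp v) := he ▸ ⟨_, mem_ln_right hv.1, rfl⟩
    rw [show f (tp v) = tp v₂ by rw [hfdef]; simp only; rw [hv1', hv2']] at hfv
    obtain ⟨α, β, hab⟩ := (mem_ln hB hM tT v hTv hind v₂).1 hfv
    rw [hv2, hv1] at hab
    have hperp : B P v.1 = 0 ∧ B Q v.1 = 0 := by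
      simp only [tP, tQ, tT, map_add, map_smul, smul_eq_mul, hPQ, mul_zero, add_zero] at hab
      by_cases hβ : β = 1
      · rw [hβ, one_smul, add_assoc, add_comm (α • T)] at hab
        have h3 := add_left_cancel hab
        have e1 := congrArg (B z₂) h3
        have e2 := congrArg (B z) h3
        simp [h2P, h2Q, h2T, hzP, hzQ, hzT] at e1 e2
        exact ⟨e2, e1⟩
      · have e1 := congrArg (B P) hab
        have e2 := congrArg (B Q) hab
        simp [hPP, hQQ, hPQ, hs hPQ, hs hTP, hs hTQ] at e1 e2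
        constructor
        · by_contra hne; exact hβ (mul_right_cancel₀ hne (by rw [one_mul, ← e1]))
        · by_contra hne; exact hβ (mul_right_cancel₀ hne (by rw [one_mul, ← e2]))
    have hspan := plane_span hB hTT hPP hQQ haa hzz h22 hTP hTQ hPQ haT haP haQ hzT hzP hzQ h2T h2P
      h2Q haz ha2 hz2 hTv hperp.1 hperp.2
    obtain ⟨o, hvo⟩ : ∃ o, tp v ∈ ln E (tp tT) (tp (w o)) := by
      by_cases hγ : B z₂ v.1 = 0
      · refine ⟨none, (mem_ln hB hM tT _ (hw2 _) (hw3 _) v).2 ⟨B a v.1, B z v.1, ?_⟩⟩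
        rw [hw1]
        conv_lhs => rw [hspan, hγ, zero_smul, add_zero]
        rfl
      · refine ⟨some ((B z₂ v.1)⁻¹ * B z v.1),
          (mem_ln hB hM tT _ (hw2 _) (hw3 _) v).2 ⟨B a v.1, B z₂ v.1, ?_⟩⟩
        rw [hw1]
        conv_lhs => rw [hspan]
        simp only [Option.elim, tT, smul_add, smul_smul, mul_inv_cancel_left₀ hγ]
        abel
    refine ⟨o, ?_⟩
    exact ((line_pair hB hM tT (w o) (hw2 o) (hw3 o) tT v (mem_ln_left (tp_mem hM tT)) hvo
      (Ne.symm hv.2.1)).2).symm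
  have hcount : (Set.range Φ).ncard = 5 := by
    rw [← Nat.card_coe_set_eq, Nat.card_range_of_injective hΦ, Finite.card_option, hF]
  have hrest : Even (A \ Set.range Φ).ncard := by
    by_contra hne
    have hmap : ∀ L ∈ A, f '' L ∈ A := by
      rintro - ⟨v, hv, rfl⟩; exact ⟨f v, hfperp hv, (himg v).symm⟩
    have hff : ∀ L : Set K, f '' (f '' L) = L := fun L => by
      rw [Set.image_image]; simp only [hfi, Set.image_id']
    have hfΦ : ∀ o, f '' Φ o = Φ o := fun o => by
      show f '' ln E (tp tT) (tp (w o)) = ln E (tp tT) (tp (w o))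
      rw [himg]
      congr 1
      have k1 : B P (w o).1 = 0 := by
        rw [hw1]; rcases o with _ | k <;> simp [hPP, hPQ]
      have k2 : B Q (w o).1 = 0 := by
        rw [hw1]; rcases o with _ | k <;> simp [hQQ, hs hPQ]
      show tp tP * (tp tQ * tp (w o) * tp tQ) * tp tP = _
      rw [conj_self_of_commute hS.tri (tp_mem hM tQ) ((hM.comm_iff tQ _).2 k2),
        conj_self_of_commute hS.tri (tp_mem hM tP) ((hM.comm_iff tP _).2 k1)]
    obtain ⟨L, ⟨hL, hLΦ⟩, hfix'⟩ := exists_fixed_of_odd (Nat.not_even_iff_odd.1 hne) (fun L => f '' L)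
      (fun L hL => ⟨hmap L hL.1, fun ⟨o, ho'⟩ => hL.2 ⟨o, by rw [← hff L, ← ho', hfΦ]⟩⟩)
      fun L _ => hff L
    obtain ⟨v, hv, rfl⟩ := hL
    exact hLΦ (hfix v hv hfix')
  rw [← Set.ncard_sdiff_add_ncard_of_subset hsub, hcount]
  exact hrest.add_odd ⟨2, rfl⟩

end UModel

end Cfsg.Agent.ThreeTrans
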