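import Cfsg.Agent.ThreeTrans.Rigid
import Cfsg.Agent.Classical.HermForm

/-!
# Isotropic points of a six-dimensional Hermitian space over the field with four elements

For a set of 3-transpositions parametrised by these points, the properties `Nice` and `Lines` and
the parity of the number of members.
-/

set_option autoImplicit false

open Cfsg Cfsg.Agent.Classical Cfsg.Agent.Classical.Herm Module

namespace Cfsg.Agent.ThreeTrans.UModel

variable {F V : Type*} [Field F] [AddCommGroup V] [Module F V] {θ : F →+* F}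
  {B : V →ₛₗ[θ] V →ₗ[F] F}

/-- The standing hypotheses. -/
structure Space (B : V →ₛₗ[θ] V →ₗ[F] F) : Prop where
  herm : IsHerm B
  fin : FiniteDimensional F V
  finF : Finite F
  rank : finrank F V = 6
  fixed : ∀ a : F, θ a = a → a = 0 ∨ a = 1

/-- Nonzero isotropic vectors. -/
abbrev Pt (B : V →ₛₗ[θ] V →ₗ[F] F) : Type _ := {v : V // v ≠ 0 ∧ B v v = 0}

variable (hB : Space B) {a b c e f u v w x y z : V}

include hB

theorem two : (1 : F) + 1 = 0 := by
  rcases hB.fixed (1 + 1) (by rw [map_add, map_one]) with h | h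
  · exact h
  · exact absurd h (by simp)

theorem add_self' (k : F) : k + k = 0 := by
  rw [← mul_one k, ← mul_add, two hB, mul_zero]

theorem vadd_self (v : V) : v + v = 0 := by
  rw [← one_smul F v, ← add_smul, two hB, zero_smul]

theorem eq_of_add (p q : F) (h : p + q = 0) : p = q := by
  linear_combination h - add_self' hB q

theorem norm_one {k : F} (hk : k ≠ 0) : k * θ k = 1 := by
  rcases hB.fixed (k * θ k) (by rw [map_mul, hB.herm.invol, mul_comm]) with h | h
  · exact absurd h (mul_ne_zero hk ((map_ne_zero θ).2 hk))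
  · exact h

theorem self_cases (v : V) : B v v = 0 ∨ B v v = 1 := hB.fixed _ (Herm.fix_self hB.herm v)

theorem symm_zero : B x y = 0 ↔ B y x = 0 := Herm.eq_zero_comm hB.herm

theorem symm_one (h : B x y = 1) : B y x = 1 := by rw [← hB.herm.symm, h, map_one]

theorem exists_pair (hv : v ≠ 0) : ∃ y, B y v = 1 := by
  obtain ⟨y, hy⟩ : ∃ y, B v y ≠ 0 := by
    by_contra hc
    push Not at hc
    exact hv (hB.herm.nondeg v hc)
  exact ⟨(B v y)⁻¹ • y, symm_one hB (by rw [map_smul, smul_eq_mul, inv_mul_cancel₀ hy])⟩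

/-- Fewer than six vectors have a common nonzero perpendicular. -/
theorem exists_perp {k : ℕ} (g : Fin k → V) (hk : k < 6) : ∃ y, y ≠ 0 ∧ ∀ i, B (g i) y = 0 := by
  by_contra hc
  push Not at hc
  have := hB.fin
  have hinj : Function.Injective (LinearMap.pi fun i => B (g i)) :=
    (injective_iff_map_eq_zero _).2 fun y hy => by
      by_contra hy0
      obtain ⟨i, hi⟩ := hc y hy0
      exact hi (congrFun hy i)
  have := LinearMap.finrank_le_finrank_of_injective hinj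
  rw [hB.rank, Module.finrank_pi, Fintype.card_fin] at this
  omega

/-- Four vectors have a common isotropic perpendicular. -/
theorem exists_iso (p q r s : V) :
    ∃ y, y ≠ 0 ∧ B y y = 0 ∧ B p y = 0 ∧ B q y = 0 ∧ B r y = 0 ∧ B s y = 0 := by
  obtain ⟨y, hy0, hy⟩ := exists_perp hB ![p, q, r, s] (by norm_num)
  have h1 : B p y = 0 := hy 0
  have h2 : B q y = 0 := hy 1
  have h3 : B r y = 0 := hy 2
  have h4 : B s y = 0 := hy 3
  rcases self_cases hB y with hyy | hyy
  · exact ⟨y, hy0, hyy, h1, h2, h3, h4⟩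
  obtain ⟨z, hz0, hz⟩ := exists_perp hB ![p, q, r, s, y] (by norm_num)
  have k1 : B p z = 0 := hz 0
  have k2 : B q z = 0 := hz 1
  have k3 : B r z = 0 := hz 2
  have k4 : B s z = 0 := hz 3
  have k5 : B y z = 0 := hz 4
  rcases self_cases hB z with hzz | hzz
  · exact ⟨z, hz0, hzz, k1, k2, k3, k4⟩
  refine ⟨y + z, fun h0 => ?_, ?_, by simp [h1, k1], by simp [h2, k2], by simp [h3, k3],
    by simp [h4, k4]⟩
  · have h5 := congrArg (B y) h0
    rw [map_add, hyy, k5, add_zero, map_zero] at h5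
    exact one_ne_zero h5
  · simp [hyy, hzz, k5, (symm_zero hB).1 k5, two hB]

/-- An isotropic partner of `b` perpendicular to `a`. -/
theorem exists_dual (ha : a ≠ 0) (hbb : B b b = 0) (hba : B b a = 0) (hind : ∀ k : F, b ≠ k • a) :
    ∃ z, B z z = 0 ∧ B z b = 1 ∧ B z a = 0 := by
  have := hB.fin; have := hB.finF
  obtain ⟨p, hp⟩ := exists_pair hB ha
  obtain ⟨r, hr⟩ := exists_pair hB (v := b - B p b • a) fun h => hind _ (sub_eq_zero.1 h)
  obtain ⟨z, hzz, hz⟩ := Herm.exists_isotropic_repr hB.herm hbb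
    (f := (B r).comp (LinearMap.id - (B p).smulRight a)) (by simpa [map_sub] using hr)
  refine ⟨z, hzz, ?_, ?_⟩
  · rw [hz b hbb]; simpa [map_sub] using hr
  · rw [hz a hba]; simp [hp]

/-- Partners of two perpendicular points, perpendicular to each other. -/
theorem exists_duals (hb : b ≠ 0) (hbb : B b b = 0) (hc : c ≠ 0) (hcc : B c c = 0) (hbc : B b c = 0)
    (hind : ∀ k : F, c ≠ k • b) : ∃ a z, B a a = 0 ∧ B z z = 0 ∧ B a b = 1 ∧ B a c = 0 ∧
      B z c = 1 ∧ B z b = 0 ∧ B a z = 0 := by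
  have hcb : B c b = 0 := (symm_zero hB).1 hbc
  obtain ⟨a, haa, hab, hac⟩ := exists_dual hB hc hbb hbc fun k hk => by
    rcases eq_or_ne k 0 with rfl | hk0
    · exact hb (by rw [hk, zero_smul])
    · exact hind k⁻¹ (by rw [hk, inv_smul_smul₀ hk0])
  obtain ⟨z, hzz, hzc, hzb⟩ := exists_dual hB hb hcc hcb hind
  refine ⟨a, z - B a z • b, haa, ?_, hab, hac, ?_, ?_, ?_⟩
  · simp [hzz, hbb, hzb, (symm_zero hB).1 hzb]
  · simp [hzc, hbc]
  · simp [hzb, hbb]
  · simp [hab]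

/-- Partners of `e, f` not perpendicular to a given vector of their perpendicular. -/
theorem exists_pair_nonorth (hee : B e e = 0) (hff : B f f = 0) (hef : B e f = 1) (hev : B e v = 0)
    (hfv : B f v = 0) (hv : v ≠ 0) : ∃ p, B p p = 0 ∧ B e p = 0 ∧ B f p = 0 ∧ B p v ≠ 0 := by
  have := hB.fin; have := hB.finF
  have hfe := symm_one hB hef
  let π : V →ₗ[F] V := LinearMap.id - (B f).smulRight e - (B e).smulRight f
  have hπ : ∀ x, π x = x - B f x • e - B e x • f := fun x => rfl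
  rcases self_cases hB v with hvv | hvv
  · obtain ⟨y, hy⟩ := exists_pair hB hv
    obtain ⟨z, hzz, hz⟩ := Herm.exists_isotropic_repr hB.herm hvv (f := (B y).comp π)
      (by simp [hπ, hev, hfv, hy])
    have hze : B z e = 0 := by
      rw [hz e ((symm_zero hB).1 hev)]; simp [hπ, hfe, hee]
    have hzf : B z f = 0 := by
      rw [hz f ((symm_zero hB).1 hfv)]; simp [hπ, hef, hff]
    refine ⟨z, hzz, (symm_zero hB).1 hze, (symm_zero hB).1 hzf, ?_⟩
    rw [hz v hvv]; simp [hπ, hev, hfv, hy]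
  · obtain ⟨y, hy0, hy⟩ := exists_perp hB ![e, f, v] (by norm_num)
    have y1 : B e y = 0 := hy 0
    have y2 : B f y = 0 := hy 1
    have y3 : B v y = 0 := hy 2
    obtain ⟨y0, hy0'⟩ := exists_pair hB hy0
    let P : Submodule F V := LinearMap.ker (B e) ⊓ LinearMap.ker (B f) ⊓ LinearMap.ker (B v)
    have hP : ∀ x, x ∈ P ↔ B e x = 0 ∧ B f x = 0 ∧ B v x = 0 := fun x => by
      simp [P, LinearMap.mem_ker, and_assoc]
    obtain ⟨y1', hy1P, hy1n⟩ := Herm.exists_anisotropic hB.herm P ⟨y, (hP y).2 ⟨y1, y2, y3⟩,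
      π y0 - B v (π y0) • v, (hP _).2 ⟨by simp [hπ, hev, hef, hee], by simp [hπ, hfv, hfe, hff],
        by simp [hvv]⟩, by
        simp [hπ, (symm_zero hB).1 y1, (symm_zero hB).1 y2, (symm_zero hB).1 y3, symm_one hB hy0']⟩
    obtain ⟨p1, p2, p3⟩ := (hP _).1 hy1P
    have hn := (self_cases hB y1').resolve_left hy1n
    refine ⟨v + y1', ?_, by simp [hev, p1], by simp [hfv, p2], ?_⟩
    · simp [hvv, hn, p3, (symm_zero hB).1 p3, two hB]
    · simp [hvv, (symm_zero hB).1 p3]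

/-- A point perpendicular to everything perpendicular to two points is on their line. -/
theorem line_span (hb : b ≠ 0) (hbb : B b b = 0) (hc : c ≠ 0) (hcc : B c c = 0) (hbc : B b c = 0)
    (hind : ∀ k : F, c ≠ k • b) (hvv : B v v = 0)
    (hperp : ∀ x, x ≠ 0 → B x x = 0 → B x b = 0 → B x c = 0 → B x v = 0) :
    ∃ α β : F, v = α • b + β • c := by
  have := hB.fin; have := hB.finF
  obtain ⟨a, z, haa, hzz, hab, hac, hzc, hzb, haz⟩ := exists_duals hB hb hbb hc hcc hbc hind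
  have hcb := (symm_zero hB).1 hbc
  have hba := symm_one hB hab
  have hcz := symm_one hB hzc
  have hca := (symm_zero hB).1 hac
  have hbz := (symm_zero hB).1 hzb
  have hza := (symm_zero hB).1 haz
  refine ⟨B a v, B z v, ?_⟩
  by_contra hne
  set v' := v - B a v • b - B z v • c with hv'
  have hv0 : v' ≠ 0 := fun h => hne (by
    rw [hv', sub_sub, sub_eq_zero] at h; exact h)
  have hbv : B b v = 0 := hperp b hb hbb hbb hbc
  have hcv : B c v = 0 := hperp c hc hcc hcb hcc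
  have v1 : B b v' = 0 := by simp [hv', hbv, hbb, hbc]
  have v2 : B c v' = 0 := by simp [hv', hcv, hcb, hcc]
  have v3 : B a v' = 0 := by simp [hv', hab, hac]
  have v4 : B z v' = 0 := by simp [hv', hzb, hzc]
  have v5 : B v' v' = 0 := by
    have e : ∀ y, B v' y = B v y - θ (B a v) * B b y - θ (B z v) * B c y := fun y => by simp [hv']
    have v6 : B v v' = 0 := by simp [hv', hvv, (symm_zero hB).1 hbv, (symm_zero hB).1 hcv]
    rw [e, v1, v2, v6]; simp
  obtain ⟨y, hy⟩ := exists_pair hB hv0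
  let π : V →ₗ[F] V := LinearMap.id - (B b).smulRight a - (B a).smulRight b
    - (B c).smulRight z - (B z).smulRight c
  have hπ : ∀ x, π x = x - B b x • a - B a x • b - B c x • z - B z x • c := fun x => rfl
  obtain ⟨z0, hz0, hz⟩ := Herm.exists_isotropic_repr hB.herm v5 (f := (B y).comp π)
    (by simp [hπ, v1, v2, v3, v4, hy])
  have w1 : B z0 b = 0 := by
    rw [hz b ((symm_zero hB).1 v1)]; simp [hπ, hbb, hab, hcb, hzb]
  have w2 : B z0 c = 0 := by
    rw [hz c ((symm_zero hB).1 v2)]; simp [hπ, hbc, hac, hcc, hzc]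
  have w3 : B z0 v' = 1 := by
    rw [hz v' v5]; simp [hπ, v1, v2, v3, v4, hy]
  have hz00 : z0 ≠ 0 := fun h => one_ne_zero (α := F) (by rw [← w3, h, map_zero, LinearMap.zero_apply])
  rw [hv'] at w3
  simp [w1, w2, hperp z0 hz00 hz0 w1 w2] at w3

omit hB

/-- A set of 3-transpositions parametrised by the isotropic points. -/
structure Model {K : Type*} [Group K] (B : V →ₛₗ[θ] V →ₗ[F] F) (E : Set K) (tp : Pt B → K) : Prop where
  closed : ClosedSet E
  range_eq : E = Set.range tp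
  eq_iff : ∀ v w : Pt B, tp v = tp w ↔ ∃ k : F, w.1 = k • v.1
  comm_iff : ∀ v w : Pt B, Commute (tp v) (tp w) ↔ B v.1 w.1 = 0
  conj : ∀ v w u : Pt B, u.1 = w.1 + B v.1 w.1 • v.1 → tp v * tp w * tp v = tp u

variable {K : Type*} [Group K] {E : Set K} {tp : Pt B → K} (hM : Model B E tp)

include hM

theorem tp_mem (v : Pt B) : tp v ∈ E := hM.range_eq ▸ ⟨v, rfl⟩

theorem exists_tp {g : K} (hg : g ∈ E) : ∃ v, tp v = g := by rw [hM.range_eq] at hg; exact hg

theorem mem_dperp (v w : Pt B) :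
    tp w ∈ dperp E (tp v) ↔ B v.1 w.1 = 0 ∧ ∀ k : F, w.1 ≠ k • v.1 := by
  refine ⟨fun h => ⟨(hM.comm_iff v w).1 h.2.2, fun k hk => h.2.1 ((hM.eq_iff v w).2 ⟨k, hk⟩).symm⟩,
    fun h => ⟨tp_mem hM w, fun e => ?_, (hM.comm_iff v w).2 h.1⟩⟩
  obtain ⟨k, hk⟩ := (hM.eq_iff v w).1 e.symm
  exact h.2 k hk

include hB

theorem tp_smul (v w : Pt B) {k : F} (h : w.1 = k • v.1) : tp w = tp v :=
  ((hM.eq_iff v w).2 ⟨k, h⟩).symm

/-- The lines are those of the space. -/
theorem mem_ln (b c : Pt B) (hbc : B b.1 c.1 = 0) (hind : ∀ k : F, c.1 ≠ k • b.1) (v : Pt B) :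
    tp v ∈ ln E (tp b) (tp c) ↔ ∃ α β : F, v.1 = α • b.1 + β • c.1 := by
  constructor
  · intro h
    refine line_span hB b.2.1 b.2.2 c.2.1 c.2.2 hbc hind v.2.2 fun x hx hxx hxb hxc => ?_
    exact (hM.comm_iff ⟨x, hx, hxx⟩ v).1 (h.2 _ (tp_mem hM ⟨x, hx, hxx⟩)
      ((hM.comm_iff _ b).2 hxb) ((hM.comm_iff _ c).2 hxc))
  · rintro ⟨α, β, hv⟩
    refine ⟨tp_mem hM v, fun g hg h1 h2 => ?_⟩
    obtain ⟨u, rfl⟩ := exists_tp hM hg
    rw [hM.comm_iff] at h1 h2 ⊢
    rw [hv]; simp [h1, h2]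

omit hM in
theorem span_swap {b c : V} {α β γ δ : F} (he : α * δ ≠ β * γ) {y : V}
    (h1 : B y (α • b + β • c) = 0) (h2 : B y (γ • b + δ • c) = 0) : B y b = 0 ∧ B y c = 0 := by
  simp only [map_add, map_smul, smul_eq_mul] at h1 h2
  constructor <;> refine (mul_eq_zero.1 ?_).resolve_left (sub_ne_zero.2 he)
  · linear_combination δ * h1 - β * h2
  · linear_combination α * h2 - γ * h1

theorem sep : Sep E := by
  intro g hg g' hg'
  obtain ⟨a, rfl⟩ := exists_tp hM hg
  obtain ⟨s, rfl⟩ := exists_tp hM hg'.1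
  obtain ⟨has, hind⟩ := (mem_dperp hM a s).1 hg'
  obtain ⟨z, hzz, hzs, hza⟩ := exists_dual hB a.2.1 s.2.2 ((symm_zero hB).1 has) hind
  have hz0 : z ≠ 0 := fun h => by rw [h] at hzs; simp at hzs
  refine ⟨tp ⟨z, hz0, hzz⟩, (mem_dperp hM a _).2 ⟨(symm_zero hB).1 hza, fun k hk => ?_⟩,
    fun h => ?_⟩
  · have hk' : B z s.1 = 0 := by
      rw [show z = k • a.1 from hk]; simp [has]
    rw [hzs] at hk'
    exact one_ne_zero hk'
  · rw [hM.comm_iff] at h
    rw [show B z s.1 = 1 from hzs] at h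
    exact one_ne_zero h

theorem rich : Rich E := by
  intro g hg
  obtain ⟨a, rfl⟩ := exists_tp hM hg
  obtain ⟨y, hy⟩ := exists_pair hB a.2.1
  obtain ⟨x, hx0, hxx, h1, h2, -, -⟩ := exists_iso hB a.1 y 0 0
  refine ⟨tp ⟨x, hx0, hxx⟩, (mem_dperp hM a _).2 ⟨h1, fun k hk => hx0 ?_⟩⟩
  rw [show x = k • a.1 from hk, map_smul, smul_eq_mul, hy, mul_one] at h2
  show x = 0
  rw [show x = k • a.1 from hk, h2, zero_smul]

theorem diam : Diam E := by
  intro g hg g' hg' hne
  obtain ⟨a, rfl⟩ := exists_tp hM hg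
  obtain ⟨b, rfl⟩ := exists_tp hM hg'
  rw [hM.comm_iff] at hne
  obtain ⟨x, hx0, hxx, h1, h2, -, -⟩ := exists_iso hB a.1 b.1 0 0
  refine ⟨tp ⟨x, hx0, hxx⟩, (mem_dperp hM a _).2 ⟨h1, fun k hk => ?_⟩,
    (hM.comm_iff _ b).2 ((symm_zero hB).1 h2)⟩
  rw [show x = k • a.1 from hk] at h2
  simp [(symm_zero hB).not.1 hne] at h2
  exact hx0 (by rw [show x = k • a.1 from hk, h2, zero_smul])

/-- Two different points of a line span it. -/
theorem line_pair (b c : Pt B) (hbc : B b.1 c.1 = 0) (hind : ∀ k : F, c.1 ≠ k • b.1) (e f : Pt B)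
    (he : tp e ∈ ln E (tp b) (tp c)) (hf : tp f ∈ ln E (tp b) (tp c)) (hne : tp e ≠ tp f) :
    tp f ∈ dperp E (tp e) ∧ ln E (tp e) (tp f) = ln E (tp b) (tp c) := by
  obtain ⟨α, β, hev⟩ := (mem_ln hB hM b c hbc hind e).1 he
  obtain ⟨γ, δ, hfv⟩ := (mem_ln hB hM b c hbc hind f).1 hf
  have hcb := (symm_zero hB).1 hbc
  have hef : B e.1 f.1 = 0 := by rw [hev, hfv]; simp [hbc, hcb, b.2.2, c.2.2]
  have hdet : α * δ ≠ β * γ := fun hd => by
    have h1 : δ • e.1 = β • f.1 := by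
      rw [hev, hfv, smul_add, smul_add, smul_smul, smul_smul, smul_smul, smul_smul, mul_comm δ α, hd,
        mul_comm δ β]
    have h2 : γ • e.1 = α • f.1 := by
      rw [hev, hfv, smul_add, smul_add, smul_smul, smul_smul, smul_smul, smul_smul, mul_comm γ α,
        mul_comm γ β, hd]
    by_cases hβ : β = 0
    · by_cases hα : α = 0
      · exact e.2.1 (by rw [hev, hα, hβ, zero_smul, zero_smul, add_zero])
      · exact hne (tp_smul hB hM e f (k := α⁻¹ * γ) (by rw [mul_smul, h2, inv_smul_smul₀ hα])).symm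
    · exact hne (tp_smul hB hM e f (k := β⁻¹ * δ) (by rw [mul_smul, h1, inv_smul_smul₀ hβ])).symm
  refine ⟨⟨tp_mem hM f, Ne.symm hne, (hM.comm_iff e f).2 hef⟩, ?_⟩
  apply Set.ext
  intro g
  constructor
  · rintro ⟨hg, hg'⟩
    exact ⟨hg, fun y hy h1 h2 => hg' y hy (he.2 y hy h1 h2) (hf.2 y hy h1 h2)⟩
  · rintro ⟨hg, hg'⟩
    refine ⟨hg, fun y hy h1 h2 => ?_⟩
    obtain ⟨u, rfl⟩ := exists_tp hM hy
    rw [hM.comm_iff] at h1 h2
    obtain ⟨k1, k2⟩ := span_swap hB hdet (by rwa [hev] at h1) (by rwa [hfv] at h2)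
    exact hg' _ hy ((hM.comm_iff u b).2 k1) ((hM.comm_iff u c).2 k2)

/-- The line through `b` and `c` consists of `b` and the four `c + k b`. -/
theorem ln_eq (b c : Pt B) (hbc : B b.1 c.1 = 0) (hind : ∀ k : F, c.1 ≠ k • b.1) :
    ∃ h : ∀ k : F, c.1 + k • b.1 ≠ 0 ∧ B (c.1 + k • b.1) (c.1 + k • b.1) = 0,
      Function.Injective (fun k : F => tp ⟨_, h k⟩) ∧
      tp b ∉ Set.range (fun k : F => tp ⟨_, h k⟩) ∧
      ln E (tp b) (tp c) = insert (tp b) (Set.range fun k : F => tp ⟨_, h k⟩) := by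
  have hcb := (symm_zero hB).1 hbc
  have h : ∀ k : F, c.1 + k • b.1 ≠ 0 ∧ B (c.1 + k • b.1) (c.1 + k • b.1) = 0 := fun k =>
    ⟨fun h0 => hind (-k) (by rw [neg_smul]; exact eq_neg_of_add_eq_zero_left h0),
      by simp [hbc, hcb, b.2.2, c.2.2]⟩
  refine ⟨h, fun k l hkl => ?_, ?_, ?_⟩
  · obtain ⟨m, hm⟩ := (hM.eq_iff _ _).1 hkl
    change c.1 + l • b.1 = m • (c.1 + k • b.1) at hm
    by_cases hm1 : m = 1
    · rw [hm1, one_smul, add_left_cancel_iff] at hm
      exact (smul_left_injective F b.2.1 hm).symm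
    · refine absurd ?_ (hind ((m - 1)⁻¹ * (l - m * k)))
      rw [mul_smul, eq_inv_smul_iff₀ (sub_ne_zero.2 hm1), sub_smul, sub_smul, one_smul, mul_smul]
      rw [smul_add] at hm
      rw [sub_eq_sub_iff_add_eq_add, ← hm, add_comm]
  · rintro ⟨k, hk⟩
    obtain ⟨m, hm⟩ := (hM.eq_iff _ b).1 hk
    change b.1 = m • (c.1 + k • b.1) at hm
    rcases eq_or_ne m 0 with rfl | hm0
    · exact b.2.1 (by rw [hm, zero_smul])
    · refine hind (m⁻¹ - k) ?_
      have := congrArg (fun x => m⁻¹ • x) hm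
      simp only [inv_smul_smul₀ hm0] at this
      rw [sub_smul, this, add_sub_cancel_right]
  · apply Set.ext
    intro g
    constructor
    · intro hg
      obtain ⟨v, rfl⟩ := exists_tp hM hg.1
      obtain ⟨α, β, hv⟩ := (mem_ln hB hM b c hbc hind v).1 hg
      rcases eq_or_ne β 0 with rfl | hβ
      · exact Or.inl (tp_smul hB hM b v (k := α) (by rw [hv, zero_smul, add_zero]))
      · refine Or.inr ⟨β⁻¹ * α, (tp_smul hB hM ⟨_, h (β⁻¹ * α)⟩ v (k := β) ?_).symm⟩
        rw [hv, smul_add, smul_smul, mul_inv_cancel_left₀ hβ, add_comm]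
    · rintro (rfl | ⟨k, rfl⟩)
      · exact mem_ln_left (tp_mem hM b)
      · exact (mem_ln hB hM b c hbc hind _).2 ⟨k, 1, show c.1 + k • b.1 = _ by rw [one_smul, add_comm]⟩

theorem line_five (hF : Nat.card F = 4) (b c : Pt B) (hbc : B b.1 c.1 = 0)
    (hind : ∀ k : F, c.1 ≠ k • b.1) : (ln E (tp b) (tp c)).ncard = 5 := by
  have := hB.finF
  obtain ⟨h, hinj, hb, he⟩ := ln_eq hB hM b c hbc hind
  rw [he, Set.ncard_insert_of_notMem hb (Set.finite_range _), ← Nat.card_coe_set_eq,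
    Nat.card_range_of_injective hinj, hF]

omit hM in
/-- Three mutually perpendicular points in general position have all their common perpendiculars
in their span. -/
theorem plane_span {T P Q a z z₂ : V} (hTT : B T T = 0) (hPP : B P P = 0) (hQQ : B Q Q = 0)
    (haa : B a a = 0) (hzz : B z z = 0) (hz2 : B z₂ z₂ = 0) (hTP : B T P = 0) (hTQ : B T Q = 0)
    (hPQ : B P Q = 0) (haT : B a T = 1) (haP : B a P = 0) (haQ : B a Q = 0) (hzT : B z T = 0)
    (hzP : B z P = 1) (hzQ : B z Q = 0) (h2T : B z₂ T = 0) (h2P : B z₂ P = 0) (h2Q : B z₂ Q = 1)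
    (haz : B a z = 0) (ha2 : B a z₂ = 0) (hz2' : B z z₂ = 0) (hvT : B T v = 0) (hvP : B P v = 0)
    (hvQ : B Q v = 0) : v = B a v • T + B z v • P + B z₂ v • Q := by
  have := hB.fin
  let L : V →ₗ[F] Fin 6 → F := LinearMap.pi ![B T, B P, B Q, B a, B z, B z₂]
  have hs := fun {x y : V} (h : B x y = 0) => (symm_zero hB).1 h
  have ho := fun {x y : V} (h : B x y = 1) => symm_one hB h
  have hsurj : Function.Surjective L := fun g => by
    refine ⟨g 0 • a + g 1 • z + g 2 • z₂ + g 3 • T + g 4 • P + g 5 • Q, funext fun i => ?_⟩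
    fin_cases i <;>
      simp [L, hTT, hPP, hQQ, haa, hzz, hz2, hTP, hTQ, hPQ, haT, haP, haQ, hzT, hzP, hzQ, h2T, h2P,
        h2Q, haz, ha2, hz2', hs hTP, hs hTQ, hs hPQ, ho haT, hs haP, hs haQ, hs hzT, ho hzP, hs hzQ,
        hs h2T, hs h2P, ho h2Q, hs haz, hs ha2, hs hz2']
  have hinj := (LinearMap.injective_iff_surjective_of_finrank_eq_finrank (by
    rw [hB.rank, Module.finrank_pi, Fintype.card_fin])).2 hsurj
  refine hinj (funext fun i => ?_)
  fin_cases i <;>
    simp [L, hTT, hPP, hQQ, hTP, hTQ, hPQ, haT, haP, haQ, hzT, hzP, hzQ, h2T, h2P, h2Q, hvT, hvP, hvQ,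
      hs hTP, hs hTQ, hs hPQ]

end Cfsg.Agent.ThreeTrans.UModel
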