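import Cfsg.Agent.ThreeTrans.InvolM22
import Mathlib.LinearAlgebra.Determinant

/-!
# Elements of order 7 and 11 in SU(6, 2)

An element of order 11 has an eigenspace decomposition 5 + 1, one of order 7 without isotropic fixed
points 3 + 3; in both cases an element of order 2, 3 or 5 commuting with it modulo scalars is scalar.
-/

set_option autoImplicit false

open Cfsg Cfsg.Agent.Classical Cfsg.Agent.Classical.Herm Module

namespace Cfsg.Agent.ThreeTrans.UModel

variable {F V : Type*} [Field F] [AddCommGroup V] [Module F V] {θ : F →+* F}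
  {B : V →ₛₗ[θ] V →ₗ[F] F}

theorem pow_succ_apply (g : suG B) (n : ℕ) (v : V) : (g ^ (n + 1)).1 v = g.1 ((g ^ n).1 v) := by
  rw [pow_succ']; rfl

theorem pow_succ_apply' (g : suG B) (n : ℕ) (v : V) : (g ^ (n + 1)).1 v = (g ^ n).1 (g.1 v) := by
  rw [pow_succ]; rfl

theorem apply_comm {g h : suG B} (hgh : Commute g h) (v : V) : g.1 (h.1 v) = h.1 (g.1 v) :=
  congrArg (fun k : suG B => k.1 v) hgh.eq

/-- An element of prime order fixes a point of an invariant set of size prime to it. -/
theorem exists_fix_on {g : suG B} {r : ℕ} (hr : r.Prime) (hg : g ^ r = 1) {P : Set V}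
    (hP : P.Finite) (hmaps : ∀ v ∈ P, g.1 v ∈ P) (hn : ¬ r ∣ P.ncard) : ∃ v ∈ P, g.1 v = v := by
  have := Fact.mk hr
  have := hP.fintype
  have hpow : ∀ (n : ℕ), ∀ v ∈ P, (g ^ n).1 v ∈ P := by
    intro n
    induction n with
    | zero => intro v hv; simpa using hv
    | succ n ih => intro v hv; rw [pow_succ_apply]; exact hmaps _ (ih v hv)
  have h1 : ∀ v, g.1 ((g ^ (r - 1)).1 v) = v := fun v => by
    rw [← pow_succ_apply, Nat.sub_add_cancel hr.pos, hg]; rfl
  have h2 : ∀ v, (g ^ (r - 1)).1 (g.1 v) = v := fun v => by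
    rw [← pow_succ_apply', Nat.sub_add_cancel hr.pos, hg]; rfl
  let σ : Equiv.Perm P :=
    { toFun := fun v => ⟨g.1 v, hmaps v v.2⟩
      invFun := fun v => ⟨(g ^ (r - 1)).1 v, hpow _ v v.2⟩
      left_inv := fun v => Subtype.ext (h2 v)
      right_inv := fun v => Subtype.ext (h1 v) }
  have hσ : ∀ (n : ℕ) (v : P), ((σ ^ n) v : V) = (g ^ n).1 v := by
    intro n
    induction n with
    | zero => intro v; simp
    | succ n ih =>
      intro v
      rw [pow_succ', Equiv.Perm.mul_apply, pow_succ_apply]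
      show g.1 ((σ ^ n) v : V) = _
      rw [ih v]
  obtain ⟨a, ha⟩ := Equiv.Perm.exists_fixed_point_of_prime (n := 1)
    (by rwa [← Nat.card_eq_fintype_card, Nat.card_coe_set_eq]) (σ := σ)
    (Equiv.ext fun v => Subtype.ext (by rw [pow_one, hσ, hg]; rfl))
  exact ⟨a, a.2, congrArg Subtype.val ha⟩

variable (hB : Space B)
include hB

/-- The number of nonzero vectors of a subspace. -/
theorem card_nonzero (hF : Nat.card F = 4) (U : Submodule F V) :
    ((U : Set V) \ {0}).ncard = 4 ^ finrank F U - 1 := by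
  have := hB.fin; have := hB.finF
  have : Finite V := Module.finite_of_finite F
  rw [Set.ncard_sdiff_singleton_of_mem U.zero_mem, ← Nat.card_coe_set_eq]
  show Nat.card U - 1 = _
  rw [Module.natCard_eq_pow_finrank (K := F) (V := U), hF]

/-- A prime order element fixes a nonzero vector of an invariant subspace unless its order divides
the number of nonzero vectors. -/
theorem exists_fix_sub (hF : Nat.card F = 4) {g : suG B} {r : ℕ} (hr : r.Prime) (hg : g ^ r = 1)
    {U : Submodule F V} (hU : ∀ v ∈ U, g.1 v ∈ U) (hn : ¬ r ∣ 4 ^ finrank F U - 1) :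
    ∃ v ∈ U, v ≠ 0 ∧ g.1 v = v := by
  have := hB.fin; have := hB.finF
  have : Finite V := Module.finite_of_finite F
  obtain ⟨v, ⟨h1, h2⟩, h3⟩ := exists_fix_on hr hg (P := (U : Set V) \ {0}) (Set.toFinite _)
    (fun v hv => ⟨hU v hv.1, fun h => hv.2 (g.1.map_eq_zero_iff.1 h)⟩) (by rwa [card_nonzero hB hF])
  exact ⟨v, h1, h2, h3⟩

/-- The dimension of a nonzero invariant subspace without fixed vectors. -/
theorem finrank_of_fixfree (hF : Nat.card F = 4) {g : suG B} {p : ℕ} (hp : p.Prime) (hg : g ^ p = 1)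
    {U : Submodule F V} (hU : ∀ v ∈ U, g.1 v ∈ U) (hfree : ∀ v ∈ U, g.1 v = v → v = 0) :
    p ∣ 4 ^ finrank F U - 1 := by
  by_contra h
  obtain ⟨v, h1, h2, h3⟩ := exists_fix_sub hB hF hp hg hU h
  exact h2 (hfree v h1 h3)

theorem cube_one (hF : Nat.card F = 4) {c : F} (hc : c ≠ 0) : c ^ 3 = 1 := by
  have := hB.finF
  have := Fintype.ofFinite F
  have := FiniteField.pow_card_sub_one_eq_one c hc
  rwa [← Nat.card_eq_fintype_card, hF] at this

theorem exists_omega (hF : Nat.card F = 4) : ∃ k : F, k ≠ 1 ∧ k * k + k + 1 = 0 := by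
  have := hB.finF
  have := Fintype.ofFinite F
  classical
  obtain ⟨k, -, hk⟩ : ∃ k ∈ (Finset.univ : Finset F), k ∉ ({0, 1} : Finset F) := by
    refine Finset.exists_mem_notMem_of_card_lt_card ?_
    rw [Finset.card_univ, ← Nat.card_eq_fintype_card, hF]
    have := Finset.card_insert_le (0 : F) {1}
    simp only [Finset.card_singleton] at this
    omega
  simp only [Finset.mem_insert, Finset.mem_singleton, not_or] at hk
  refine ⟨k, hk.2, ?_⟩
  have h : (k - 1) * (k * k + k + 1) = 0 := by linear_combination cube_one hB hF hk.1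
  exact (mul_eq_zero.1 h).resolve_left (sub_ne_zero.2 hk.2)

/-- An element of prime order other than 3 is the identity on a fixed line. -/
theorem scalar_one (hF : Nat.card F = 4) {r : ℕ} (hr : r.Prime) (hr3 : r ≠ 3) {c : F}
    (hc : c ^ r = 1) : c = 1 := by
  have hc0 : c ≠ 0 := fun h => by rw [h, zero_pow hr.pos.ne'] at hc; exact zero_ne_one hc
  have h1 : orderOf c ∣ Nat.gcd r 3 :=
    Nat.dvd_gcd (orderOf_dvd_of_pow_eq_one hc) (orderOf_dvd_of_pow_eq_one (cube_one hB hF hc0))
  rw [(Nat.coprime_primes hr Nat.prime_three).2 hr3, Nat.dvd_one, orderOf_eq_one_iff] at h1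
  exact h1

/-- A fixed vector of an odd prime order element which is moved to itself plus a fixed vector. -/
theorem unipotent_fixed {g : suG B} {p : ℕ} (hp : p % 2 = 1) (hg : g ^ p = 1) {u w : V}
    (hu : g.1 u = u + w) (hw : g.1 w = w) : w = 0 := by
  have h : ∀ n : ℕ, (g ^ n).1 u = u + n • w := by
    intro n
    induction n with
    | zero => simp
    | succ n ih => rw [pow_succ_apply, ih, map_add, map_nsmul, hu, hw, succ_nsmul]; abel
  have h1 := h p
  rw [hg, ← Nat.div_add_mod p 2, hp, succ_nsmul, mul_nsmul, two_nsmul, vadd_self hB, nsmul_zero,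
    zero_add] at h1
  exact add_left_cancel (h1.symm.trans (by simp [OneMemClass.coe_one]))

/-- A commuting element whose cube is scalar, as seen on one vector: one of three vectors adding up
to it is an eigenvector. -/
theorem exists_eigen {y : suG B} (hy : ∀ v, y.1 (y.1 (y.1 v)) = v) {k : F} (hk : k * k + k + 1 = 0)
    (w : V) : ∃ u₀ u₁ u₂ : V, w = u₀ + u₁ + u₂ ∧ y.1 u₀ = u₀ ∧ y.1 u₁ = k • u₁ ∧
      y.1 u₂ = (k * k) • u₂ ∧ ∀ U : Submodule F V, w ∈ U → y.1 w ∈ U → y.1 (y.1 w) ∈ U →
        u₀ ∈ U ∧ u₁ ∈ U ∧ u₂ ∈ U := by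
  have hk3 : k * k * k = 1 := by linear_combination (k - 1) * hk
  refine ⟨w + y.1 w + y.1 (y.1 w), w + (k * k) • y.1 w + k • y.1 (y.1 w),
    w + k • y.1 w + (k * k) • y.1 (y.1 w), ?_, ?_, ?_, ?_, fun U h1 h2 h3 => ⟨?_, ?_, ?_⟩⟩
  · have e1 : (1 + k * k + k : F) = 0 := by linear_combination hk
    calc w = (1 + 1 + 1 : F) • w + (1 + k * k + k) • y.1 w + (1 + k * k + k) • y.1 (y.1 w) := by
          rw [e1, two hB, zero_add]; simp
      _ = _ := by simp only [add_smul, one_smul]; abel
  · simp only [map_add, hy]; abel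
  · simp only [map_add, map_smul, hy, smul_add, smul_smul, ← mul_assoc, hk3, one_smul]; abel
  · simp only [map_add, map_smul, hy, smul_add, smul_smul, ← mul_assoc, hk3, one_smul, one_mul]
    abel
  · exact U.add_mem (U.add_mem h1 h2) h3
  · exact U.add_mem (U.add_mem h1 (U.smul_mem _ h2)) (U.smul_mem _ h3)
  · exact U.add_mem (U.add_mem h1 (U.smul_mem _ h2)) (U.smul_mem _ h3)

omit hB in
/-- The kernel of an endomorphism minus a scalar. -/
theorem mem_eigen {y : suG B} {a : F} {v : V} :
    v ∈ LinearMap.ker ((y.1 : V →ₗ[F] V) - a • LinearMap.id) ↔ y.1 v = a • v := by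
  simp [LinearMap.mem_ker, sub_eq_zero]

/-- Commuting with an element of order 11. -/
theorem eleven_scalar (hF : Nat.card F = 4) {x y : suG B} (hx : x ^ 11 = 1) (hx1 : x ≠ 1)
    (hxy : Commute x y) :
    (∀ r, r ∈ [2, 5, 7] → y ^ r = 1 → y = 1) ∧
      (∀ c : F, (∀ v, y.1 (y.1 (y.1 v)) = c • v) → ∃ a : F, ∀ v, y.1 v = a • v) := by
  have := hB.fin; have := hB.finF
  set f : V →ₗ[F] V := (x.1 : V →ₗ[F] V) - LinearMap.id with hf
  set M := LinearMap.range f
  set L := LinearMap.ker f
  have hfa : ∀ v, f v = x.1 v - v := fun v => rfl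
  have hL : ∀ {v}, v ∈ L ↔ x.1 v = v := fun {v} => by
    rw [LinearMap.mem_ker, hfa, sub_eq_zero]
  have hML : ∀ v ∈ M, x.1 v = v → v = 0 := by
    rintro v ⟨u, rfl⟩ h
    exact unipotent_fixed hB (p := 11) (by norm_num) hx (u := u) (by rw [hfa]; abel) h
  have hMx : ∀ v ∈ M, x.1 v ∈ M := by
    rintro v ⟨u, rfl⟩
    exact ⟨x.1 u, by simp [hfa]⟩
  have hMy : ∀ v ∈ M, y.1 v ∈ M := by
    rintro v ⟨u, rfl⟩
    exact ⟨y.1 u, by simp [hfa, apply_comm hxy]⟩
  have hLy : ∀ v ∈ L, y.1 v ∈ L := fun v hv => hL.2 (by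
    rw [apply_comm hxy, hL.1 hv])
  have hrk : finrank F M + finrank F L = 6 := hB.rank ▸ f.finrank_range_add_finrank_ker
  have hM0 : finrank F M ≠ 0 := fun h => hx1 (ext_suG hB fun v => by
    have : f v ∈ (⊥ : Submodule F V) := Submodule.finrank_eq_zero.1 h ▸ LinearMap.mem_range_self f v
    rw [Submodule.mem_bot, hfa, sub_eq_zero] at this
    rw [this]; rfl)
  have hsub : ∀ U : Submodule F V, (∀ v ∈ U, x.1 v ∈ U) → U ≤ M → U ≠ ⊥ → finrank F U = 5 := by
    intro U hU hle hne
    have h11 := finrank_of_fixfree hB hF (by norm_num : (11).Prime) hx hU fun v hv => hML v (hle hv)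
    have h1 := Submodule.finrank_mono hle
    have h2 : finrank F U ≠ 0 := fun h => hne (Submodule.finrank_eq_zero.1 h)
    have h3 : finrank F U ≤ 6 := by omega
    interval_cases h : finrank F U <;> simp_all
  have hM5 : finrank F M = 5 := hsub M hMx le_rfl fun h => hM0 (by rw [h]; exact finrank_bot F V)
  have hall : ∀ a : F, (∃ w ∈ M, w ≠ 0 ∧ y.1 w = a • w) → ∀ v ∈ M, y.1 v = a • v := by
    rintro a ⟨w, hw, hw0, hwa⟩ v hv
    set U := LinearMap.ker ((y.1 : V →ₗ[F] V) - a • LinearMap.id) ⊓ M
    have hU : ∀ u ∈ U, x.1 u ∈ U := fun u hu => ⟨mem_eigen.2 (by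
      rw [← apply_comm hxy, mem_eigen.1 hu.1, map_smul]), hMx u hu.2⟩
    have h5 := hsub U hU inf_le_right
      (Submodule.ne_bot_iff _ |>.2 ⟨w, ⟨mem_eigen.2 hwa, hw⟩, hw0⟩)
    have : U = M := Submodule.eq_of_le_of_finrank_eq inf_le_right (by rw [h5, hM5])
    rw [← this] at hv
    exact mem_eigen.1 hv.1
  obtain ⟨l, hl, hl0⟩ := (Submodule.ne_bot_iff L).1 fun h => by
    rw [h, finrank_bot, hM5] at hrk; omega
  have hL1 : finrank F L = 1 := by omega
  have hLl : ∀ v ∈ L, ∃ b : F, v = b • l := fun v hv => by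
    obtain ⟨b, hb⟩ := (finrank_eq_one_iff_of_nonzero' (⟨l, hl⟩ : L) (fun h => hl0 (congrArg Subtype.val h))).1
      hL1 ⟨v, hv⟩
    exact ⟨b, (congrArg Subtype.val hb).symm⟩
  obtain ⟨b, hb⟩ := hLl _ (hLy l hl)
  have hsup : M ⊔ L = ⊤ := by
    refine Submodule.eq_top_of_finrank_eq ?_
    have h := Submodule.finrank_sup_add_finrank_inf_eq M L
    have h' : M ⊓ L = ⊥ := (Submodule.eq_bot_iff _).2 fun v hv => hML v hv.1 (hL.1 hv.2)
    rw [h', finrank_bot, hM5, hL1] at h
    rw [hB.rank]
    omega
  have hglue : ∀ a : F, (∀ v ∈ M, y.1 v = a • v) → y.1 l = a • l → ∀ v, y.1 v = a • v := by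
    intro a h1 h2 v
    have hv : v ∈ M ⊔ L := hsup ▸ Submodule.mem_top
    obtain ⟨m, hm, k, hk, rfl⟩ := Submodule.mem_sup.1 hv
    obtain ⟨c, rfl⟩ := hLl k hk
    rw [map_add, map_smul, h1 m hm, h2, smul_add, smul_comm]
  constructor
  · intro r hr hyr
    have hrp : r.Prime ∧ r ≠ 3 ∧ ¬ r ∣ 4 ^ 5 - 1 := by
      simp only [List.mem_cons, List.not_mem_nil, or_false] at hr
      rcases hr with rfl | rfl | rfl <;> norm_num
    obtain ⟨w, hw, hw0, hfix⟩ := exists_fix_sub hB hF hrp.1 hyr hMy (by rw [hM5]; exact hrp.2.2)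
    have hb1 : b = 1 := scalar_one hB hF hrp.1 hrp.2.1 (smul_left_injective F hl0 (by
      have : ∀ n : ℕ, (y ^ n).1 l = b ^ n • l := by
        intro n
        induction n with
        | zero => simp
        | succ n ih => rw [pow_succ_apply, ih, map_smul, hb, smul_smul, ← pow_succ]
      show b ^ r • l = (1 : F) • l
      rw [← this, hyr, one_smul]; rfl))
    refine ext_suG hB fun v => ?_
    rw [hglue 1 (hall 1 ⟨w, hw, hw0, by rw [one_smul, hfix]⟩) (by rw [hb, hb1]) v, one_smul]
    rfl
  · intro c hc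
    have hb3 : b ^ 3 • l = c • l := by
      rw [← hc l, hb, map_smul, hb, smul_smul, map_smul, hb, smul_smul]; ring_nf
    have hb0 : b ≠ 0 := fun h => hl0 (y.1.map_eq_zero_iff.1 (by rw [hb, h, zero_smul]))
    have hc1 : c = 1 := by rw [← smul_left_injective F hl0 hb3, cube_one hB hF hb0]
    simp only [hc1, one_smul] at hc
    obtain ⟨k, -, hk⟩ := exists_omega hB hF
    obtain ⟨w, hw, hw0⟩ := (Submodule.ne_bot_iff M).1 fun h => hM0 (by rw [h]; exact finrank_bot F V)
    obtain ⟨u₀, u₁, u₂, hsum, h₀, h₁, h₂, hmem⟩ := exists_eigen hB hc hk w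
    obtain ⟨m₀, m₁, m₂⟩ := hmem M hw (hMy _ hw) (hMy _ (hMy _ hw))
    obtain ⟨a, ha0, ha⟩ : ∃ a : F, a ≠ 0 ∧ ∀ v ∈ M, y.1 v = a • v := by
      have hk0 : k ≠ 0 := fun h => by simp [h] at hk
      by_cases e0 : u₀ = 0
      · by_cases e1 : u₁ = 0
        · exact ⟨_, mul_ne_zero hk0 hk0, hall _ ⟨u₂, m₂, fun e => hw0 (by rw [hsum, e0, e1, e]; simp), h₂⟩⟩
        · exact ⟨k, hk0, hall _ ⟨u₁, m₁, e1, h₁⟩⟩
      · exact ⟨1, one_ne_zero, hall _ ⟨u₀, m₀, e0, by rw [one_smul, h₀]⟩⟩
    have hcom : L ≤ L.comap (y.1 : V →ₗ[F] V) := fun v hv => hLy v hv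
    have hdet := LinearMap.det_eq_det_mul_det L (y.1 : V →ₗ[F] V) hcom
    have hres : (y.1 : V →ₗ[F] V).restrict (p := L) (q := L) hLy = b • LinearMap.id := LinearMap.ext fun v => by
      obtain ⟨e, he⟩ := hLl v.1 v.2
      exact Subtype.ext (by simp [LinearMap.coe_restrict_apply, he, hb, smul_comm e b])
    have hquo : L.mapQ L (y.1 : V →ₗ[F] V) hcom = a • LinearMap.id :=
      Submodule.linearMap_qext _ (LinearMap.ext fun v => by
        have hv : v ∈ M ⊔ L := hsup ▸ Submodule.mem_top
        obtain ⟨m, hm, e, he, rfl⟩ := Submodule.mem_sup.1 hv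
        simp only [LinearMap.comp_apply, Submodule.mkQ_apply, Submodule.mapQ_apply, LinearMap.smul_apply,
          LinearMap.id_apply, LinearEquiv.coe_coe]
        rw [← Submodule.Quotient.mk_smul, Submodule.Quotient.eq, map_add, ha m hm, smul_add,
          add_sub_add_left_eq_sub]
        exact L.sub_mem (hLy e he) (L.smul_mem a he))
    have hq : finrank F (V ⧸ L) = 5 := by
      have := L.finrank_quotient_add_finrank; rw [hL1, hB.rank] at this; omega
    rw [hres, hquo, LinearMap.det_smul, LinearMap.det_smul, LinearMap.det_id, LinearMap.det_id, hL1,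
      hq, mul_one, mul_one, pow_one, show LinearMap.det (y.1 : V →ₗ[F] V) = 1 from
        (LinearEquiv.coe_det _).symm.trans (congrArg Units.val y.2.2)] at hdet
    refine ⟨a, hglue a ha ?_⟩
    rw [hb]
    congr 1
    linear_combination (-a) * hdet - b * (a ^ 3 + 1) * cube_one hB hF ha0

omit hB in
theorem pow_add_apply (g : suG B) (m n : ℕ) (v : V) : (g ^ (m + n)).1 v = (g ^ m).1 ((g ^ n).1 v) := by
  rw [pow_add]; rfl

/-- Squaring a linear recurrence of length three in characteristic 2. -/
theorem recurrence_sq {s : ℕ → V} {α β γ : F}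
    (h : ∀ n, s (n + 3) = α • s (n + 2) + β • s (n + 1) + γ • s n) (n : ℕ) :
    s (2 * (n + 3)) = (α * α) • s (2 * (n + 2)) + (β * β) • s (2 * (n + 1)) + (γ * γ) • s (2 * n) := by
  have h1 := h (2 * n + 3)
  have h2 := h (2 * n + 2)
  have h3 := h (2 * n + 1)
  have h4 := h (2 * n)
  simp only [mul_add, Nat.reduceMul, add_assoc, Nat.reduceAdd] at h1 h2 h3 h4 ⊢
  rw [h1, h2, h3, h4]
  match_scalars
  all_goals
    first
    | ring1
    | linear_combination (α * γ + α * α * β) * two hB
    | linear_combination (α * β * β + β * γ) * two hB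
    | linear_combination (α * γ * β) * two hB

omit hB in
/-- The relation of length three satisfied on a vector holds on what it spans. -/
theorem exists_relation {g : suG B} {R : Submodule F V} {r : V} {α β γ : F}
    (hR : R ≤ Submodule.span F {r, g.1 r, g.1 (g.1 r)})
    (h : g.1 (g.1 (g.1 r)) = α • g.1 (g.1 r) + β • g.1 r + γ • r) :
    ∀ v ∈ R, g.1 (g.1 (g.1 v)) = α • g.1 (g.1 v) + β • g.1 v + γ • v := by
  intro v hv
  have hv' := hR hv
  clear hv
  induction hv' using Submodule.span_induction with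
  | mem x hx =>
    rcases hx with rfl | rfl | rfl
    · exact h
    · conv_lhs => rw [h]
      simp only [map_add, map_smul]
    · conv_lhs => rw [h]
      simp only [map_add, map_smul]
  | zero => simp
  | add a b _ _ ha hb => simp only [map_add, ha, hb, smul_add]; abel
  | smul c a _ ha => simp only [map_smul, ha, smul_add, smul_comm c]

/-- An element of order 7 without fixed vectors does not commute with a self-adjoint map of rank 3. -/
theorem no_twist (hF : Nat.card F = 4) {x : suG B} (hx : x ^ 7 = 1)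
    (hfree : ∀ v, x.1 v = v → v = 0) {N : V →ₗ[F] V} (hN : ∀ u v, B (N u) v = B u (N v))
    (hNx : ∀ v, N (x.1 v) = x.1 (N v)) : finrank F (LinearMap.range N) ≠ 3 := by
  intro h3
  have := hB.fin; have := hB.finF
  set R := LinearMap.range N
  have hsmall : ∀ (U : Submodule F V), (∀ v ∈ U, x.1 v ∈ U) → U ≠ ⊥ → 3 ≤ finrank F U := by
    intro U hU hne
    have h7 := finrank_of_fixfree hB hF (by norm_num : (7).Prime) hx hU fun v _ => hfree v
    have h0 : finrank F U ≠ 0 := fun h => hne (Submodule.finrank_eq_zero.1 h)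
    by_contra hlt
    push Not at hlt
    interval_cases h : finrank F U <;> simp_all
  obtain ⟨r, hr, hr0⟩ := (Submodule.ne_bot_iff R).1 fun h => by rw [h, finrank_bot] at h3; omega
  set r1 := x.1 r with hr1
  set r2 := x.1 r1 with hr2
  have hRx : ∀ v ∈ R, x.1 v ∈ R := by
    rintro v ⟨u, rfl⟩
    exact ⟨x.1 u, hNx u⟩
  have hone : ∀ k : F, r1 ≠ k • r := by
    intro k hk
    have h1 := hsmall (F ∙ r) (fun v hv => by
      obtain ⟨c, rfl⟩ := Submodule.mem_span_singleton.1 hv
      exact Submodule.mem_span_singleton.2 ⟨c * k, by rw [map_smul, ← hr1, hk, smul_smul]⟩)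
      (by simpa using hr0)
    rw [finrank_span_singleton hr0] at h1
    omega
  have htwo : ∀ k l : F, r2 ≠ k • r + l • r1 := by
    intro k l hk
    have h1 := hsmall (Submodule.span F {r, r1}) (fun v hv => by
      obtain ⟨c, e, rfl⟩ := Submodule.mem_span_pair.1 hv
      refine Submodule.mem_span_pair.2 ⟨e * k, c + e * l, ?_⟩
      rw [map_add, map_smul, map_smul, ← hr1, ← hr2, hk]
      simp only [smul_add, smul_smul, add_smul]
      abel) (fun h => hr0 ((Submodule.eq_bot_iff _).1 h r (Submodule.subset_span (by simp))))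
    have h2 : finrank F (Submodule.span F ({r, r1} : Set V)) ≤ 2 := by
      classical
      have := finrank_span_finset_le_card (R := F) ({r, r1} : Finset V)
      rw [Finset.coe_insert, Finset.coe_singleton] at this
      exact this.trans Finset.card_le_two
    omega
  have hindep : ∀ a b c : F, a • r + b • r1 + c • r2 = 0 → a = 0 ∧ b = 0 ∧ c = 0 := by
    intro a b c h
    by_cases hc : c = 0
    · by_cases hb : b = 0
      · rw [hb, hc, zero_smul, zero_smul, add_zero, add_zero, smul_eq_zero] at h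
        exact ⟨h.resolve_right hr0, hb, hc⟩
      · refine absurd ?_ (hone (-(b⁻¹ * a)))
        rw [hc, zero_smul, add_zero, add_eq_zero_iff_eq_neg'] at h
        rw [← inv_smul_smul₀ hb r1, h, smul_neg, smul_smul, neg_smul]
    · refine absurd ?_ (htwo (-(c⁻¹ * a)) (-(c⁻¹ * b)))
      rw [add_eq_zero_iff_eq_neg'] at h
      rw [← inv_smul_smul₀ hc r2, h, smul_neg, smul_add, smul_smul, smul_smul, neg_add, neg_smul,
        neg_smul]
  have hmem1 := hRx r hr
  have hmem2 := hRx _ hmem1
  have hspan : R = Submodule.span F {r, r1, r2} := by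
    have hli : LinearIndependent F ![r, r1, r2] := Fintype.linearIndependent_iff.2 fun g hg => by
      rw [Fin.sum_univ_three] at hg
      obtain ⟨e0, e1, e2⟩ := hindep (g 0) (g 1) (g 2) (by simpa using hg)
      intro i; fin_cases i <;> assumption
    have hle : Submodule.span F ({r, r1, r2} : Set V) ≤ R := by
      rw [Submodule.span_le]
      rintro v (rfl | rfl | rfl)
      exacts [hr, hmem1, hmem2]
    refine (Submodule.eq_of_le_of_finrank_eq hle ?_).symm
    have hrange : Set.range ![r, r1, r2] = {r, r1, r2} := by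
      simp only [Matrix.range_cons, Matrix.range_empty, Set.union_empty]
      rw [Set.singleton_union, Set.singleton_union]
    rw [h3, ← hrange, finrank_span_eq_card hli, Fintype.card_fin]
  obtain ⟨γ, β, α, hrel⟩ : ∃ γ β α : F, x.1 r2 = α • r2 + β • r1 + γ • r := by
    have h := hRx _ hmem2
    rw [hspan] at h
    obtain ⟨g, z, hz, h1⟩ := Submodule.mem_span_insert.1 h
    obtain ⟨b, a, rfl⟩ := Submodule.mem_span_pair.1 hz
    exact ⟨g, b, a, by rw [h1]; abel⟩
  have hall := exists_relation hspan.le hrel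
  -- the sequence of images
  set s : ℕ → V := fun n => (x ^ n).1 r with hs
  have hsR : ∀ n, s n ∈ R := by
    intro n
    induction n with
    | zero => simpa [hs] using hr
    | succ n ih => simp only [hs, pow_succ_apply]; exact hRx _ ih
  have hsucc : ∀ n, s (n + 1) = x.1 (s n) := fun n => pow_succ_apply x n r
  have hsrec : ∀ n, s (n + 3) = α • s (n + 2) + β • s (n + 1) + γ • s n := fun n => by
    rw [hsucc (n + 2), hsucc (n + 1), hsucc n]; exact hall _ (hsR n)
  have h2 := recurrence_sq hB (s := s) hsrec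
  have h4 := recurrence_sq hB (s := fun n => s (2 * n)) h2
  have h8 := recurrence_sq hB (s := fun n => s (2 * (2 * n))) h4
  have hper : ∀ n, s (n + 7) = s n := fun n => by
    simp only [hs, pow_add_apply x n 7 r, hx]; rfl
  have e0 : s 0 = r := by simp [hs]
  have e1 : s 1 = r1 := by rw [hsucc 0, e0]
  have e2 : s 2 = r2 := by rw [hsucc 1, e1]
  have e3 := hsrec 0
  have e3' := h8 0
  have k4 : s (2 * (2 * (2 * (0 + 3)))) = s 3 := by rw [← hper 3, ← hper 10, ← hper 17]
  have k2 : s (2 * (2 * (2 * (0 + 2)))) = s 2 := by rw [← hper 2, ← hper 9]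
  have k1 : s (2 * (2 * (2 * (0 + 1)))) = s 1 := by rw [← hper 1]
  rw [k4, k2, k1, show 2 * (2 * (2 * 0)) = 0 from rfl, e3, e2, e1, e0] at e3'
  have hp4 : ∀ a : F, a * a * (a * a) = a := fun a => by
    rcases eq_or_ne a 0 with rfl | ha
    · simp
    · linear_combination a * cube_one hB hF ha
  simp only [hp4] at e3'
  obtain ⟨hγ, hβ, hα⟩ := hindep (γ - γ * γ) (β - β * β) (α - α * α) (by
    rw [sub_smul, sub_smul, sub_smul]
    rw [← sub_eq_zero] at e3'
    rw [← e3']
    abel)
  have h01 : ∀ a : F, a - a * a = 0 → a = 0 ∨ a = 1 := fun a ha => by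
    have : a * (a - 1) = 0 := by linear_combination -ha
    exact (mul_eq_zero.1 this).imp_right sub_eq_zero.1
  have hγ1 : γ = 1 := (h01 γ hγ).resolve_left fun h => by
    apply htwo β α
    apply x.1.injective
    rw [hrel, h, zero_smul, add_zero, map_add, map_smul, map_smul, ← hr1, ← hr2, add_comm]
  have hθ : ∀ {a : F}, (a = 0 ∨ a = 1) → θ a = a := by rintro a (rfl | rfl) <;> simp
  subst hγ1
  -- the adjoint relation
  have hadj : ∀ u v, B u ((x ^ 3).1 (N v) + α • (x ^ 2).1 (N v) + β • (x ^ 1).1 (N v)) =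
      B ((x ^ 4).1 u + α • (x ^ 5).1 u + β • (x ^ 6).1 u) (N v) := by
    intro u v
    have hi : ∀ i j, i + j = 7 → B ((x ^ j).1 u) (N v) = B u ((x ^ i).1 (N v)) := fun i j hij => by
      rw [← (x ^ i).2.1 ((x ^ j).1 u) (N v), ← pow_add_apply, hij, hx]; rfl
    simp only [map_add, map_smul, LinearMap.map_smulₛₗ, LinearMap.add_apply, LinearMap.smul_apply,
      hθ (h01 α hα), hθ (h01 β hβ), hi 3 4 rfl, hi 2 5 rfl, hi 1 6 rfl, smul_eq_mul]
  have hkill : ∀ u, N ((x ^ 3).1 u) = α • N ((x ^ 2).1 u) + β • N ((x ^ 1).1 u) + (1 : F) • N u := by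
    intro u
    simp only [pow_succ_apply, pow_zero, OneMemClass.coe_one, hNx]
    exact hall _ ⟨u, rfl⟩
  have hrel' : r + α • r1 + β • r2 + x.1 r2 = 0 := by
    obtain ⟨w, hw⟩ := id hr
    set z := (x ^ 4).1 r + α • (x ^ 5).1 r + β • (x ^ 6).1 r + r with hz
    have hz0 : z = 0 := hB.herm.nondeg z fun u => by
      rw [symm_zero hB, hz]
      have hi : ∀ i j, i + j = 7 → B u ((x ^ j).1 r) = B ((x ^ i).1 u) r := fun i j hij => by
        rw [← (x ^ i).2.1 u ((x ^ j).1 r), ← pow_add_apply, hij, hx]; rfl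
      rw [map_add, map_add, map_add, map_smul, map_smul, hi 3 4 rfl, hi 2 5 rfl, hi 1 6 rfl, ← hw,
        ← hN, ← hN, ← hN, ← hN, hkill u]
      simp only [map_add, map_smul, LinearMap.map_smulₛₗ, LinearMap.add_apply, LinearMap.smul_apply,
        hθ (h01 α hα), hθ (h01 β hβ), one_smul, smul_eq_mul]
      linear_combination (α * B (N ((x ^ 2).1 u)) w + β * B (N ((x ^ 1).1 u)) w + B (N u) w) * two hB
    have h := congrArg (fun v => (x ^ 3).1 v) hz0
    simp only [hz, map_add, map_smul, map_zero, ← pow_add_apply, hx] at h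
    rw [show (3 + 5) = 1 + 7 from rfl, show (3 + 6) = 2 + 7 from rfl, pow_add_apply x 1 7,
      pow_add_apply x 2 7, hx] at h
    change (1 : suG B).1 r + α • s 1 + β • s 2 + s 3 = 0 at h
    rw [hsucc 2, e1, e2] at h
    exact h
  obtain ⟨-, hαβ, -⟩ := hindep 0 (α + β) (α + β) (by
    rw [hrel] at hrel'
    rw [← hrel', zero_smul]
    match_scalars <;> first | ring1 | linear_combination two hB | linear_combination -two hB)
  have hab : α = β := eq_of_add hB _ _ hαβ
  subst hab
  have hfix : x.1 r = r := by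
    have e7 := hper 0
    rw [zero_add] at e7
    have t3 := hsrec 0; have t4 := hsrec 1; have t5 := hsrec 2; have t6 := hsrec 3; have t7 := hsrec 4
    simp only [Nat.reduceAdd, zero_add, one_smul] at t3 t4 t5 t6 t7
    rw [← hr1, ← e1, ← e0]
    rcases h01 α hα with rfl | rfl
    · simp only [zero_smul, zero_add, add_zero] at t3 t4 t5 t6 t7
      rw [← t4, ← t7, e7]
    · simp only [one_smul] at t3 t4 t5 t6 t7
      have k4 : s 4 = s 0 := by
        rw [t4, t3]
        calc s 2 + s 1 + s 0 + s 2 + s 1 = (s 2 + s 2) + (s 1 + s 1) + s 0 := by abel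
          _ = s 0 := by rw [vadd_self hB, vadd_self hB, zero_add, zero_add]
      have k5 : s 5 = s 1 := by rw [hsucc 4, k4, ← hsucc 0]
      have k6 : s 6 = s 2 := by rw [hsucc 5, k5, ← hsucc 1]
      have k7 : s 7 = s 3 := by rw [hsucc 6, k6, ← hsucc 2]
      rw [← k4, ← hper 1, hsucc 7, k7, ← hsucc 3]
  exact hr0 (hfree r hfix)

omit hB in
/-- Three successive images under a map whose cube is a scalar that is no cube. -/
theorem cube_indep {W : Type*} [AddCommGroup W] [Module F W] {f : W →ₗ[F] W} {c : F}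
    (hf : ∀ v, f (f (f v)) = c • v) (hc : ∀ b : F, b * b * b ≠ c) {w : W} (hw : w ≠ 0) :
    LinearIndependent F ![w, f w, f (f w)] := by
  have hone : ∀ k : F, f w ≠ k • w := fun k hk => by
    have := hf w
    rw [hk, map_smul, hk, smul_smul, map_smul, hk, smul_smul] at this
    exact hc k (smul_left_injective F hw this)
  have htwo : ∀ k l : F, f (f w) ≠ k • w + l • f w := fun k l hk => by
    have h := hf w
    rw [hk, map_add, map_smul, map_smul, hk] at h
    have h' : (k + l * l) • f w + (l * k - c) • w = 0 := by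
      calc _ = k • f w + l • (k • w + l • f w) - c • w := by module
        _ = 0 := by rw [h, sub_self]
    by_cases e : k + l * l = 0
    · rw [e, zero_smul, zero_add, smul_eq_zero] at h'
      have e' := h'.resolve_right hw
      exact hc (-l) (by linear_combination e' - l * e)
    · refine hone (-((k + l * l)⁻¹ * (l * k - c))) ?_
      rw [add_eq_zero_iff_eq_neg] at h'
      rw [← inv_smul_smul₀ e (f w), h', smul_neg, smul_smul, neg_smul]
  refine Fintype.linearIndependent_iff.2 fun g hg => ?_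
  rw [Fin.sum_univ_three] at hg
  change g 0 • w + g 1 • f w + g 2 • f (f w) = 0 at hg
  by_cases h2 : g 2 = 0
  · by_cases h1 : g 1 = 0
    · rw [h1, h2, zero_smul, zero_smul, add_zero, add_zero, smul_eq_zero] at hg
      intro i; fin_cases i
      exacts [hg.resolve_right hw, h1, h2]
    · refine absurd ?_ (hone (-((g 1)⁻¹ * g 0)))
      rw [h2, zero_smul, add_zero, add_eq_zero_iff_eq_neg'] at hg
      rw [← inv_smul_smul₀ h1 (f w), hg, smul_neg, smul_smul, neg_smul]
  · refine absurd ?_ (htwo (-((g 2)⁻¹ * g 0)) (-((g 2)⁻¹ * g 1)))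
    rw [add_eq_zero_iff_eq_neg'] at hg
    rw [← inv_smul_smul₀ h2 (f (f w)), hg, smul_neg, smul_add, smul_smul, smul_smul, neg_add,
      neg_smul, neg_smul]

omit hB in
/-- The determinant of a map of a space of dimension three whose cube is a scalar that is no cube. -/
theorem det_cube {W : Type*} [AddCommGroup W] [Module F W] {f : W →ₗ[F] W} {c : F}
    (hf : ∀ v, f (f (f v)) = c • v) (hc : ∀ b : F, b * b * b ≠ c) (hW : finrank F W = 3) :
    LinearMap.det f = c := by
  have : Nontrivial W := Module.nontrivial_of_finrank_eq_succ hW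
  obtain ⟨w, hw⟩ := exists_ne (0 : W)
  set b := basisOfLinearIndependentOfCardEqFinrank (cube_indep hf hc hw) (by rw [hW, Fintype.card_fin])
    with hb
  have h0 : b 0 = w := by simp [hb]
  have h1 : b 1 = f w := by simp [hb]
  have h2 : b 2 = f (f w) := by simp [hb]
  rw [← LinearMap.det_toMatrix b, Matrix.det_fin_three]
  have c0 : f (b 0) = b 1 := by rw [h0, h1]
  have c1 : f (b 1) = b 2 := by rw [h1, h2]
  have c2 : f (b 2) = c • b 0 := by rw [h2, h0, hf]
  simp [LinearMap.toMatrix_apply, c0, c1, c2]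

/-- The scalar cube of an element is trivial. -/
theorem cube_scalar (hF : Nat.card F = 4) (g : suG B) {c : F}
    (hc : ∀ v, g.1 (g.1 (g.1 v)) = c • v) : c = 1 := by
  have := hB.fin
  have : Nontrivial V := Module.nontrivial_of_finrank_eq_succ hB.rank
  obtain ⟨w, hw⟩ := exists_ne (0 : V)
  have hc0 : c ≠ 0 := fun h => hw (by
    have := hc w
    rw [h, zero_smul] at this
    simpa using this)
  by_contra hc1
  have hno : ∀ b : F, b * b * b ≠ c := fun b hb => by
    have hb0 : b ≠ 0 := fun h => hc0 (by rw [← hb, h]; simp)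
    exact hc1 (by rw [← hb, ← cube_one hB hF hb0]; ring)
  set f : V →ₗ[F] V := (g.1 : V →ₗ[F] V) with hf
  have hfc : ∀ v, f (f (f v)) = c • v := hc
  have hli := cube_indep hfc hno hw
  set U := Submodule.span F (Set.range ![w, f w, f (f w)]) with hU
  have hU3 : finrank F U = 3 := by rw [hU, finrank_span_eq_card hli, Fintype.card_fin]
  have hinv : U ≤ U.comap f := by
    rw [hU, Submodule.span_le]
    rintro v ⟨i, rfl⟩
    fin_cases i
    · exact Submodule.subset_span ⟨1, rfl⟩
    · exact Submodule.subset_span ⟨2, rfl⟩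
    · show f (f (f w)) ∈ Submodule.span F (Set.range ![w, f w, f (f w)])
      rw [hfc]
      exact Submodule.smul_mem _ c (Submodule.subset_span ⟨0, rfl⟩)
  have hdet := LinearMap.det_eq_det_mul_det U f hinv
  have hq : finrank F (V ⧸ U) = 3 := by
    have := U.finrank_quotient_add_finrank; rw [hU3, hB.rank] at this; omega
  rw [det_cube (c := c) (f := f.restrict (p := U) (q := U) fun v hv => hinv hv)
      (fun v => Subtype.ext (hfc v)) hno hU3,
    det_cube (c := c) (f := U.mapQ U f hinv) (fun v => by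
      induction v using Submodule.Quotient.induction_on with
      | _ u => simp [hfc]) hno hq,
    show LinearMap.det f = 1 from (LinearEquiv.coe_det _).symm.trans (congrArg Units.val g.2.2)] at hdet
  exact hc1 (by linear_combination cube_one hB hF hc0 + c * hdet)

/-- Commuting with an element of order 7 which fixes no isotropic vector. -/
theorem seven_scalar (hF : Nat.card F = 4) (hcount : ¬ 5 ∣ {v : V | v ≠ 0 ∧ B v v = 0}.ncard)
    {x y : suG B} (hx : x ^ 7 = 1) (hiso : ∀ v, v ≠ 0 → B v v = 0 → x.1 v ≠ v) (hxy : Commute x y) :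
    (∀ r, r ∈ [2, 5] → y ^ r = 1 → y = 1) ∧
      (∀ c : F, (∀ v, y.1 (y.1 (y.1 v)) = c • v) → ∃ a : F, ∀ v, y.1 v = a • v) := by
  have := hB.fin; have := hB.finF
  have : Finite V := Module.finite_of_finite F
  -- there are no fixed vectors at all
  have hfree : ∀ v, x.1 v = v → v = 0 := by
    intro v hv
    by_contra hv0
    have hvv : B v v = 1 := (self_cases hB v).resolve_left fun h => hiso v hv0 h hv
    set P := LinearMap.ker (B v)
    have hP5 : finrank F P = 5 := by
      have h := (B v).finrank_range_add_finrank_ker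
      rw [hB.rank] at h
      have h1 : LinearMap.range (B v) = ⊤ := LinearMap.range_eq_top.2 fun a =>
        ⟨a • v, by rw [map_smul, hvv, smul_eq_mul, mul_one]⟩
      rw [h1, finrank_top, finrank_self] at h
      change finrank F (LinearMap.ker (B v)) = 5
      omega
    obtain ⟨u, hu, hu0, hux⟩ := exists_fix_sub hB hF (by norm_num : (7).Prime) hx (U := P)
      (fun u hu => by
        rw [LinearMap.mem_ker] at hu ⊢
        have := x.2.1 v u
        rwa [hv, hu] at this) (by rw [hP5]; norm_num)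
    rw [LinearMap.mem_ker] at hu
    rcases self_cases hB u with h | h
    · exact hiso u hu0 h hux
    · refine hiso (v + u) (fun e => ?_) ?_ (by rw [map_add, hv, hux])
      · have := congrArg (B v) e
        rw [map_add, hvv, hu, add_zero, map_zero] at this
        exact one_ne_zero this
      · simp only [map_add, LinearMap.add_apply, hvv, hu, (symm_zero hB).1 hu, h, add_zero, zero_add]
        exact two hB
  -- ranks of self-adjoint maps
  have hrank : ∀ N : V →ₗ[F] V, (∀ u v, B (N u) v = B u (N v)) → (∀ v, N (x.1 v) = x.1 (N v)) →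
      N ≠ 0 → Function.Surjective N := by
    intro N h1 h2 h0
    have h7 := finrank_of_fixfree hB hF (by norm_num : (7).Prime) hx (U := LinearMap.range N)
      (fun v ⟨u, hu⟩ => ⟨x.1 u, by rw [h2, hu]⟩) fun v _ => hfree v
    have h3 := no_twist hB hF hx hfree h1 h2
    have hle := (LinearMap.range N).finrank_le
    rw [hB.rank] at hle
    have h6 : finrank F (LinearMap.range N) = 6 := by
      have : finrank F (LinearMap.range N) ≠ 0 := fun h =>
        h0 (LinearMap.range_eq_bot.1 (Submodule.finrank_eq_zero.1 h))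
      interval_cases finrank F (LinearMap.range N) <;> simp_all
    exact LinearMap.range_eq_top.1 (Submodule.eq_top_of_finrank_eq (by rw [h6, hB.rank]))
  have hadj : ∀ u v (i j : ℕ), y ^ (i + j) = 1 → B ((y ^ j).1 u) v = B u ((y ^ i).1 v) := by
    intro u v i j hij
    rw [← (y ^ i).2.1 ((y ^ j).1 u) v, ← pow_add_apply, hij]; rfl
  set T : V →ₗ[F] V := (y.1 : V →ₗ[F] V) with hT
  have hcomm : ∀ v, y.1 (x.1 v) = x.1 (y.1 v) := fun v => (apply_comm hxy v).symm
  have hy1 : ∀ v, (y ^ 1).1 v = y.1 v := fun v => by rw [pow_one]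
  have hy2 : ∀ v, (y ^ 2).1 v = y.1 (y.1 v) := fun v => by rw [pow_succ_apply, hy1]
  constructor
  · intro r hr hyr
    simp only [List.mem_cons, List.not_mem_nil, or_false] at hr
    rcases hr with rfl | rfl
    · have hid : ∀ v, y.1 (y.1 v) = v := fun v => by rw [← hy2, hyr]; rfl
      have hN0 : T + LinearMap.id = 0 := by
        by_contra h0
        have hs := hrank (T + LinearMap.id) (fun u v => by
          simp only [LinearMap.add_apply, LinearMap.id_apply, map_add, hT, LinearEquiv.coe_coe]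
          rw [← hy1, hadj u v 1 1 hyr, hy1]) (fun v => by simp [hT, hcomm]) h0
        refine h0 (LinearMap.ext fun v => ?_)
        obtain ⟨u, rfl⟩ := hs v
        simp only [LinearMap.add_apply, LinearMap.id_apply, map_add, hT, LinearEquiv.coe_coe, hid,
          LinearMap.zero_apply]
        calc u + y.1 u + (y.1 u + u) = (u + u) + (y.1 u + y.1 u) := by abel
          _ = 0 + 0 := by simp [vadd_self hB]
          _ = _ := by simp
      exact ext_suG hB fun v => by
        have := LinearMap.congr_fun hN0 v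
        simp only [LinearMap.add_apply, LinearMap.id_apply, LinearMap.zero_apply, hT,
          LinearEquiv.coe_coe] at this
        rw [← add_left_inj v, this, ← vadd_self hB v]; rfl
    · obtain ⟨w, ⟨hw0, -⟩, hw⟩ := exists_fix_on (by norm_num : (5).Prime) hyr
        (P := {v : V | v ≠ 0 ∧ B v v = 0}) (Set.toFinite _)
        (fun v hv => ⟨fun h => hv.1 (y.1.map_eq_zero_iff.1 h), by rw [y.2.1]; exact hv.2⟩) hcount
      have h5 : ∀ v, y.1 (y.1 (y.1 (y.1 (y.1 v)))) = v := fun v => by
        rw [← hy2 v, ← pow_succ_apply, ← pow_succ_apply, ← pow_succ_apply, hyr]; rfl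
      set N : V →ₗ[F] V := LinearMap.id + T + T ∘ₗ T + T ∘ₗ T ∘ₗ T + T ∘ₗ T ∘ₗ T ∘ₗ T with hN
      have hNa : ∀ v, N v = v + (y ^ 1).1 v + (y ^ 2).1 v + (y ^ 3).1 v + (y ^ 4).1 v := fun v => by
        simp only [hN, hT, pow_succ_apply, pow_zero]; rfl
      have hs := hrank N (fun u v => by
        simp only [hNa, map_add, LinearMap.add_apply]
        rw [hadj u v 4 1 hyr, hadj u v 3 2 hyr, hadj u v 2 3 hyr, hadj u v 1 4 hyr]
        abel) (fun v => by simp [hN, hT, hcomm]) fun h => hw0 (by
          have := LinearMap.congr_fun h w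
          simp only [hN, hT, LinearMap.add_apply, LinearMap.comp_apply, LinearEquiv.coe_coe,
            LinearMap.id_apply, hw, LinearMap.zero_apply] at this
          rwa [vadd_self hB, zero_add, vadd_self hB, zero_add] at this)
      refine ext_suG hB fun v => ?_
      obtain ⟨u, rfl⟩ := hs v
      simp only [hN, hT, LinearMap.add_apply, LinearMap.comp_apply, LinearEquiv.coe_coe,
        LinearMap.id_apply, map_add, h5]
      show _ = u + y.1 u + y.1 (y.1 u) + y.1 (y.1 (y.1 u)) + y.1 (y.1 (y.1 (y.1 u)))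
      abel
  · intro c hc
    have hc1 := cube_scalar hB hF y hc
    simp only [hc1, one_smul] at hc
    have hy3 : y ^ 3 = 1 := ext_suG hB fun v => by rw [pow_succ_apply, hy2, hc]; rfl
    obtain ⟨k, -, hk⟩ := exists_omega hB hF
    have hk3 : k * k * k = 1 := by linear_combination (k - 1) * hk
    have hk0 : k ≠ 0 := fun h => by simp [h] at hk3
    have hθk : θ k = k * k := mul_left_cancel₀ hk0 (by rw [norm_one hB hk0, ← mul_assoc, hk3])
    have main : ∀ a : F, a * a * a = 1 → θ a = a * a →
        ∀ w, w + (a * a) • y.1 w + a • y.1 (y.1 w) ≠ 0 → ∀ v, y.1 v = a • v := by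
      intro a ha hθa w hw v
      set N : V →ₗ[F] V := LinearMap.id + (a * a) • T + a • (T ∘ₗ T) with hN
      have hs := hrank N (fun u v => by
        simp only [hN, hT, LinearMap.add_apply, LinearMap.id_apply, LinearMap.smul_apply,
          LinearMap.comp_apply, LinearEquiv.coe_coe, map_add, map_smul, LinearMap.map_smulₛₗ,
          smul_eq_mul, map_mul, hθa]
        rw [← hy1 u, hadj u v 2 1 hy3, hy2, hy1, ← hy2 u, hadj u v 1 2 hy3, hy1,
          show a * a * (a * a) = a by linear_combination a * ha]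
        ring) (fun v => by simp [hN, hT, hcomm]) fun h => hw (by
          simpa [hN, hT] using LinearMap.congr_fun h w)
      obtain ⟨u, rfl⟩ := hs v
      simp only [hN, hT, LinearMap.add_apply, LinearMap.id_apply, LinearMap.smul_apply,
        LinearMap.comp_apply, LinearEquiv.coe_coe, map_add, map_smul, hc, smul_add, smul_smul,
        ← mul_assoc, ha, one_smul]
      abel
    have : Nontrivial V := Module.nontrivial_of_finrank_eq_succ hB.rank
    obtain ⟨w, hw⟩ := exists_ne (0 : V)
    by_cases e0 : w + (1 * 1 : F) • y.1 w + (1 : F) • y.1 (y.1 w) = 0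
    · by_cases e1 : w + (k * k) • y.1 w + k • y.1 (y.1 w) = 0
      · refine ⟨k * k, main _ (by linear_combination (k * k * k + 1) * hk3)
          (by rw [map_mul, hθk]) w fun e2 => hw ?_⟩
        rw [show k * k * (k * k) = k by linear_combination k * hk3] at e2
        have e : (w + (1 * 1 : F) • y.1 w + (1 : F) • y.1 (y.1 w)) + (w + (k * k) • y.1 w + k • y.1 (y.1 w))
            + (w + k • y.1 w + (k * k) • y.1 (y.1 w)) = 0 := by rw [e0, e1, e2, add_zero, add_zero]
        rw [← e]
        match_scalars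
        · linear_combination -two hB
        · linear_combination -hk
        · linear_combination -hk
      · exact ⟨k, main _ hk3 hθk w e1⟩
    · exact ⟨1, main 1 (by ring) (by simp) w e0⟩

end Cfsg.Agent.ThreeTrans.UModel
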