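import Cfsg.Agent.ThreeTrans.PrimeUnitary

/-!
# Elements of order 5 in PSU(6, 2) fixing two points that are not perpendicular

Such an element acts without fixed vectors on a space of dimension 4, and nothing of order 2 or 3
which commutes with it and fixes the two points is left modulo scalars.
-/

set_option autoImplicit false

open Cfsg Cfsg.Agent.Classical Cfsg.Agent.Classical.Herm Module

namespace Cfsg.Agent.ThreeTrans

namespace UModel

variable {F V : Type*} [Field F] [AddCommGroup V] [Module F V] {θ : F →+* F}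
  {B : V →ₛₗ[θ] V →ₗ[F] F} (hB : Space B)
include hB

/-- An element of order 5 does not commute with a self-adjoint map of rank 2 on whose image it fixes
no vector. -/
theorem no_twist5 (hF : Nat.card F = 4) {x : suG B} (hx : x ^ 5 = 1) {N : V →ₗ[F] V}
    (hN : ∀ u v, B (N u) v = B u (N v)) (hNx : ∀ v, N (x.1 v) = x.1 (N v))
    (hfree : ∀ v ∈ LinearMap.range N, x.1 v = v → v = 0) :
    finrank F (LinearMap.range N) ≠ 2 := by
  intro h2
  have := hB.fin
  set R := LinearMap.range N
  obtain ⟨r, hr, hr0⟩ := (Submodule.ne_bot_iff R).1 fun h => by rw [h, finrank_bot] at h2; omega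
  have hRx : ∀ v ∈ R, x.1 v ∈ R := by
    rintro v ⟨u, rfl⟩
    exact ⟨x.1 u, hNx u⟩
  have hpow : ∀ (k : F), x.1 r = k • r → ∀ n : ℕ, (x ^ n).1 r = k ^ n • r := by
    intro k hk n
    induction n with
    | zero => simp
    | succ n ih => rw [pow_succ_apply, ih, map_smul, hk, smul_smul, ← pow_succ]
  have hone : ∀ k : F, x.1 r ≠ k • r := by
    intro k hk
    have h1 : k = 1 := scalar_one hB hF (by norm_num : (5).Prime) (by norm_num)
      (smul_left_injective F hr0 (show k ^ 5 • r = (1 : F) • r by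
        rw [← hpow k hk, hx, one_smul]; rfl))
    exact hr0 (hfree r hr (by rw [hk, h1, one_smul]))
  have hindep : ∀ a b : F, a • x.1 r + b • r = 0 → a = 0 ∧ b = 0 := by
    intro a b h
    by_cases ha : a = 0
    · rw [ha, zero_smul, zero_add, smul_eq_zero] at h
      exact ⟨ha, h.resolve_right hr0⟩
    · refine absurd ?_ (hone (-(a⁻¹ * b)))
      rw [add_eq_zero_iff_eq_neg] at h
      rw [← inv_smul_smul₀ ha (x.1 r), h, smul_neg, smul_smul, neg_smul]
  have hspan : R ≤ Submodule.span F {x.1 r, r} := by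
    have hle : Submodule.span F ({x.1 r, r} : Set V) ≤ R := by
      rw [Submodule.span_le]
      rintro v (rfl | rfl)
      exacts [hRx r hr, hr]
    have hli : LinearIndependent F ![x.1 r, r] := LinearIndependent.pair_iff.2 hindep
    refine (Submodule.eq_of_le_of_finrank_eq hle ?_).ge
    rw [h2, ← Matrix.range_cons_cons_empty (x.1 r) r ![], finrank_span_eq_card hli, Fintype.card_fin]
  obtain ⟨α, γ, hrel⟩ : ∃ α γ : F, x.1 (x.1 r) = α • x.1 r + γ • r := by
    obtain ⟨a, b, h⟩ := Submodule.mem_span_pair.1 (hspan (hRx _ (hRx r hr)))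
    exact ⟨a, b, h.symm⟩
  -- the relation on the image
  have hall : ∀ v ∈ R, x.1 (x.1 v) = α • x.1 v + γ • v := by
    intro v hv
    obtain ⟨a, b, rfl⟩ := Submodule.mem_span_pair.1 (hspan hv)
    simp only [map_add, map_smul]
    conv_lhs => rw [hrel]
    simp only [map_add, map_smul, smul_add, smul_smul, mul_comm a, mul_comm b]
    abel
  -- the order 5
  have hsucc : ∀ n, (x ^ (n + 1)).1 r = x.1 ((x ^ n).1 r) := fun n => pow_succ_apply x n r
  have step : ∀ (n : ℕ) (a b : F), (x ^ n).1 r = a • x.1 r + b • r →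
      (x ^ (n + 1)).1 r = (α * a + b) • x.1 r + (γ * a) • r := by
    intro n a b h
    rw [hsucc, h, map_add, map_smul, map_smul, hrel, smul_add, smul_smul, smul_smul, add_smul,
      mul_comm α a, mul_comm γ a]
    abel
  have h5 := step 4 _ _ (step 3 _ _ (step 2 _ _ (step 1 1 0 (by simp))))
  rw [hx] at h5
  obtain ⟨e1, e2⟩ : α * (α * (α * (α * 1 + 0) + γ * 1) + γ * (α * 1 + 0)) +
      γ * (α * (α * 1 + 0) + γ * 1) = 0 ∧
      γ * (α * (α * (α * 1 + 0) + γ * 1) + γ * (α * 1 + 0)) - 1 = 0 := by
    refine hindep _ _ ?_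
    rw [sub_smul, ← add_sub_assoc, ← h5, one_smul, OneMemClass.coe_one]
    exact sub_self r
  have hγα : γ * (α * α * α) = 1 := by linear_combination e2 - γ * γ * α * two hB
  have hα0 : α ≠ 0 := fun h => by rw [h] at hγα; simp at hγα
  have hα3 : α * α * α = 1 := by linear_combination cube_one hB hF hα0
  have hγ : γ = 1 := by rwa [hα3, mul_one] at hγα
  subst hγ
  have hα1 : α ≠ 1 := fun h => by
    subst h
    exact one_ne_zero (by linear_combination e1 - 2 * two hB : (1 : F) = 0)
  -- the adjoint relation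
  have hkill : ∀ u, N ((x ^ 2).1 u) = α • N ((x ^ 1).1 u) + N u := by
    intro u
    simp only [pow_succ_apply, pow_zero, OneMemClass.coe_one, hNx]
    have := hall _ ⟨u, rfl⟩
    rwa [one_smul] at this
  obtain ⟨w, hw⟩ := id hr
  set z := (x ^ 3).1 r + θ α • (x ^ 4).1 r + r with hz
  have hz0 : z = 0 := hB.herm.nondeg z fun u => by
    rw [symm_zero hB, hz]
    have hi : ∀ i j, i + j = 5 → B u ((x ^ j).1 r) = B ((x ^ i).1 u) r := fun i j hij => by
      rw [← (x ^ i).2.1 u ((x ^ j).1 r), ← pow_add_apply, hij, hx]; rfl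
    rw [map_add, map_add, map_smul, hi 2 3 rfl, hi 1 4 rfl, ← hw, ← hN, ← hN, ← hN, hkill u]
    simp only [map_add, LinearMap.map_smulₛₗ, LinearMap.add_apply, LinearMap.smul_apply, smul_eq_mul]
    linear_combination (θ α * B (N ((x ^ 1).1 u)) w + B (N u) w) * two hB
  have h := congrArg (fun v => (x ^ 2).1 v) hz0
  simp only [hz, map_add, map_smul, map_zero, ← pow_add_apply] at h
  rw [show (2 + 4 : ℕ) = 1 + 5 from rfl, pow_add_apply x 1 5, show (2 + 3 : ℕ) = 5 from rfl, hx] at h
  change r + θ α • (x ^ 1).1 r + (x ^ 2).1 r = 0 at h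
  rw [hsucc 1, pow_one, hrel, one_smul] at h
  obtain ⟨k1, -⟩ := hindep (θ α + α) 0 (by
    rw [zero_smul, add_zero, add_smul, ← h]
    conv_lhs => rw [← add_zero (θ α • _ + _), ← vadd_self hB r]
    abel)
  have hθ : θ α = α := eq_of_add hB _ _ k1
  have hαα : α * α = 1 := by
    have := norm_one hB hα0
    rwa [hθ] at this
  exact hα1 (by linear_combination hα3 - α * hαα)

/-- Commuting with an element of order 5 and fixing two of its fixed points. -/
theorem five_scalar (hF : Nat.card F = 4) {x y : suG B} (hx : x ^ 5 = 1) {b c : V} (hb0 : b ≠ 0)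
    (hbb : B b b = 0) (hcc : B c c = 0) (hbc : B b c ≠ 0) (hxb : x.1 b = b) (hxc : x.1 c = c)
    (hiso : ∀ u, u ≠ 0 → B u u = 0 → B b u = 0 → x.1 u = u → ∃ k : F, u = k • b)
    (hxy : Commute x y) {β γ : F} (hyb : y.1 b = β • b) (hyc : y.1 c = γ • c) :
    (y ^ 2 = 1 → y = 1) ∧
      (∀ c' : F, (∀ v, y.1 (y.1 (y.1 v)) = c' • v) → ∃ a : F, ∀ v, y.1 v = a • v) := by
  have := hB.fin; have := hB.finF
  set f : V →ₗ[F] V := (x.1 : V →ₗ[F] V) - LinearMap.id with hf
  set W := LinearMap.range f
  set L := LinearMap.ker f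
  have hfa : ∀ v, f v = x.1 v - v := fun v => rfl
  have hL : ∀ {v}, v ∈ L ↔ x.1 v = v := fun {v} => by rw [LinearMap.mem_ker, hfa, sub_eq_zero]
  have hWfree : ∀ v ∈ W, x.1 v = v → v = 0 := by
    rintro v ⟨u, rfl⟩ h
    exact unipotent_fixed hB (p := 5) (by norm_num) hx (u := u) (by rw [hfa]; abel) h
  have hWx : ∀ v ∈ W, x.1 v ∈ W := by
    rintro v ⟨u, rfl⟩
    exact ⟨x.1 u, by simp [hfa]⟩
  have hWy : ∀ v ∈ W, y.1 v ∈ W := by
    rintro v ⟨u, rfl⟩
    exact ⟨y.1 u, by simp [hfa, apply_comm hxy]⟩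
  have hrk : finrank F W + finrank F L = 6 := hB.rank ▸ f.finrank_range_add_finrank_ker
  have hbL : b ∈ L := hL.2 hxb
  have hcL : c ∈ L := hL.2 hxc
  have hli : LinearIndependent F ![b, c] := LinearIndependent.pair_iff.2 fun s t hst => by
    have h1 := congrArg (B b) hst
    rw [map_add, map_smul, map_smul, hbb, smul_zero, zero_add, map_zero, smul_eq_mul, mul_eq_zero] at h1
    have ht := h1.resolve_right hbc
    rw [ht, zero_smul, add_zero, smul_eq_zero] at hst
    exact ⟨hst.resolve_right hb0, ht⟩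
  have hspan2 : finrank F (Submodule.span F ({b, c} : Set V)) = 2 := by
    rw [← Matrix.range_cons_cons_empty b c ![], finrank_span_eq_card hli, Fintype.card_fin]
  have hbcL : Submodule.span F ({b, c} : Set V) ≤ L := by
    rw [Submodule.span_le]
    rintro v (rfl | rfl) <;> assumption
  -- the fixed space has dimension two
  have hL2 : finrank F L = 2 := by
    have hge := Submodule.finrank_mono hbcL
    rw [hspan2] at hge
    have h5 := finrank_of_fixfree hB hF (by norm_num : (5).Prime) hx hWx hWfree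
    by_contra hne
    have hge4 : 4 ≤ finrank F L := by
      have : finrank F W ≤ 4 := by omega
      interval_cases h : finrank F W <;> simp_all <;> omega
    set L' := L ⊓ LinearMap.ker (B b) ⊓ LinearMap.ker (B c)
    have hL' : 2 ≤ finrank F L' := by
      change 2 ≤ finrank F ↥(L ⊓ LinearMap.ker (B b) ⊓ LinearMap.ker (B c))
      have k1 : ∀ (U : Submodule F V) (u : V), finrank F U ≤ finrank F ↥(U ⊓ LinearMap.ker (B u)) + 1 := by
        intro U u
        have h1 := Submodule.finrank_sup_add_finrank_inf_eq U (LinearMap.ker (B u))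
        have h2 := (U ⊔ LinearMap.ker (B u)).finrank_le
        have h3 := (B u).finrank_range_add_finrank_ker
        have h4 := (LinearMap.range (B u)).finrank_le
        rw [finrank_self] at h4
        rw [hB.rank] at h2 h3
        omega
      have := k1 L b
      have := k1 (L ⊓ LinearMap.ker (B b)) c
      omega
    have hone : ∀ u ∈ L', u ≠ 0 → B u u = 1 := by
      intro u hu hu0
      refine (self_cases hB u).resolve_left fun huu => ?_
      obtain ⟨k, rfl⟩ := hiso u hu0 huu hu.1.2 (hL.1 hu.1.1)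
      have h1 : B c (k • b) = 0 := hu.2
      rw [map_smul, smul_eq_mul, mul_eq_zero] at h1
      rcases h1 with h1 | h1
      · exact hu0 (by rw [h1, zero_smul])
      · exact hbc ((symm_zero hB).1 h1)
    obtain ⟨u, hu, hu0⟩ := (Submodule.ne_bot_iff L').1 fun h => by rw [h, finrank_bot] at hL'; omega
    obtain ⟨v, hv, hvu⟩ : ∃ v ∈ L', v ∉ F ∙ u := by
      by_contra hcon
      push Not at hcon
      have := Submodule.finrank_mono (show L' ≤ F ∙ u from fun w hw => hcon w hw)
      rw [finrank_span_singleton hu0] at this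
      omega
    set v' := v + B u v • u
    have hv' : v' ∈ L' := L'.add_mem hv (L'.smul_mem _ hu)
    have huu := hone u hu hu0
    have huv' : B u v' = 0 := by
      rw [map_add, map_smul, huu, smul_eq_mul, mul_one, add_self' hB]
    have hv'0 : v' ≠ 0 := fun h => hvu (Submodule.mem_span_singleton.2 ⟨-B u v, by
      rw [neg_smul, eq_comm, ← add_eq_zero_iff_eq_neg]; exact h⟩)
    have hsum : u + v' ≠ 0 := fun h => by
      have := congrArg (B u) h
      rw [map_add, huu, huv', add_zero, map_zero] at this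
      exact one_ne_zero this
    have h1 := hone _ (L'.add_mem hu hv') hsum
    simp only [map_add, LinearMap.add_apply, huu, huv', (symm_zero hB).1 huv', hone v' hv' hv'0,
      add_zero, zero_add, two hB] at h1
    exact zero_ne_one h1
  have hLeq : L = Submodule.span F {b, c} := (Submodule.eq_of_le_of_finrank_eq hbcL (by rw [hspan2, hL2])).symm
  have hW4 : finrank F W = 4 := by omega
  have hsup : W ⊔ L = ⊤ := by
    refine Submodule.eq_top_of_finrank_eq ?_
    have h := Submodule.finrank_sup_add_finrank_inf_eq W L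
    have h' : W ⊓ L = ⊥ := (Submodule.eq_bot_iff _).2 fun v hv => hWfree v hv.1 (hL.1 hv.2)
    rw [h', finrank_bot, hW4, hL2] at h
    rw [hB.rank]
    omega
  have hsplit : ∀ v, ∃ w ∈ W, ∃ s t : F, v = w + (s • b + t • c) := by
    intro v
    have hv : v ∈ W ⊔ L := hsup ▸ Submodule.mem_top
    obtain ⟨w, hw, k, hk, rfl⟩ := Submodule.mem_sup.1 hv
    rw [hLeq] at hk
    obtain ⟨s, t, rfl⟩ := Submodule.mem_span_pair.1 hk
    exact ⟨w, hw, s, t, rfl⟩
  -- the scalar on the fixed space
  have hβ0 : β ≠ 0 := fun h => hb0 (y.1.map_eq_zero_iff.1 (by rw [hyb, h, zero_smul]))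
  have hγβ : γ = β := by
    have h1 : B (y.1 b) (y.1 c) = B b c := y.2.1 b c
    simp only [hyb, hyc, map_smul, LinearMap.map_smulₛₗ, LinearMap.smul_apply, smul_eq_mul] at h1
    have h2 : γ * θ β = 1 := mul_right_cancel₀ hbc (by rw [one_mul, mul_assoc]; exact h1)
    have h3 := norm_one hB hβ0
    exact mul_right_cancel₀ ((map_ne_zero θ).2 hβ0) (h2.trans h3.symm)
  rw [hγβ] at hyc
  -- self-adjoint commuting maps which kill the fixed space
  have hrank : ∀ N : V →ₗ[F] V, (∀ u v, B (N u) v = B u (N v)) → (∀ v, N (x.1 v) = x.1 (N v)) →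
      (∀ v ∈ W, N v ∈ W) → N b = 0 → N c = 0 → N ≠ 0 → LinearMap.range N = W := by
    intro N h1 h2 hW hNb hNc h0
    have hsub : LinearMap.range N ≤ W := by
      rintro _ ⟨v, rfl⟩
      obtain ⟨w, hw, s, t, rfl⟩ := hsplit v
      rw [map_add, map_add, map_smul, map_smul, hNb, hNc, smul_zero, smul_zero, add_zero, add_zero]
      exact hW w hw
    have h5 := finrank_of_fixfree hB hF (by norm_num : (5).Prime) hx (U := LinearMap.range N)
      (fun v ⟨u, hu⟩ => ⟨x.1 u, by rw [h2, hu]⟩) fun v hv => hWfree v (hsub hv)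
    have hne2 := no_twist5 hB hF hx h1 h2 fun v hv => hWfree v (hsub hv)
    have hne0 : finrank F (LinearMap.range N) ≠ 0 := fun h =>
      h0 (LinearMap.range_eq_bot.1 (Submodule.finrank_eq_zero.1 h))
    have hle := Submodule.finrank_mono hsub
    rw [hW4] at hle
    refine Submodule.eq_of_le_of_finrank_eq hsub ?_
    rw [hW4]
    interval_cases h : finrank F (LinearMap.range N) <;> simp_all
  have hadj : ∀ u v (i j : ℕ), y ^ (i + j) = 1 → B ((y ^ j).1 u) v = B u ((y ^ i).1 v) := by
    intro u v i j hij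
    rw [← (y ^ i).2.1 ((y ^ j).1 u) v, ← pow_add_apply, hij]; rfl
  set T : V →ₗ[F] V := (y.1 : V →ₗ[F] V) with hT
  have hcomm : ∀ v, y.1 (x.1 v) = x.1 (y.1 v) := fun v => (apply_comm hxy v).symm
  have hy1 : ∀ v, (y ^ 1).1 v = y.1 v := fun v => by rw [pow_one]
  have hy2 : ∀ v, (y ^ 2).1 v = y.1 (y.1 v) := fun v => by rw [pow_succ_apply, hy1]
  constructor
  · intro hyr
    have hid : ∀ v, y.1 (y.1 v) = v := fun v => by rw [← hy2, hyr]; rfl
    have hβ1 : β = 1 := scalar_one hB hF Nat.prime_two (by norm_num) (smul_left_injective F hb0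
      (show β ^ 2 • b = (1 : F) • b by
        rw [one_smul]
        conv_rhs => rw [← hid b, hyb, map_smul, hyb, smul_smul, ← sq]))
    have hN0 : T + LinearMap.id = 0 := by
      by_contra h0
      have hs := hrank (T + LinearMap.id) (fun u v => by
          simp only [LinearMap.add_apply, LinearMap.id_apply, map_add, hT, LinearEquiv.coe_coe]
          rw [← hy1, hadj u v 1 1 hyr, hy1])
        (fun v => by simp [hT, hcomm]) (fun v hv => by simpa [hT] using W.add_mem (hWy v hv) hv)
        (by simp [hT, hyb, hβ1, vadd_self hB]) (by simp [hT, hyc, hβ1, vadd_self hB]) h0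
      -- the image lies in the kernel
      have hker : LinearMap.range (T + LinearMap.id) ≤ LinearMap.ker (T + LinearMap.id) := by
        rintro v ⟨u, rfl⟩
        rw [LinearMap.mem_ker]
        simp only [LinearMap.add_apply, LinearMap.id_apply, map_add, hT, LinearEquiv.coe_coe, hid]
        calc u + y.1 u + (y.1 u + u) = (u + u) + (y.1 u + y.1 u) := by abel
          _ = 0 := by rw [vadd_self hB, vadd_self hB, add_zero]
      have h1 := (T + LinearMap.id).finrank_range_add_finrank_ker
      have h2 : W ⊔ L ≤ LinearMap.ker (T + LinearMap.id) := by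
        refine sup_le (hs ▸ hker) ?_
        rw [hLeq, Submodule.span_le]
        rintro v (rfl | rfl) <;> simp [hT, hyb, hyc, hβ1, vadd_self hB]
      rw [hsup, top_le_iff] at h2
      exact h0 (LinearMap.ker_eq_top.1 h2)
    exact ext_suG hB fun v => by
      have := LinearMap.congr_fun hN0 v
      simp only [LinearMap.add_apply, LinearMap.id_apply, LinearMap.zero_apply, hT,
        LinearEquiv.coe_coe] at this
      rw [← add_left_inj v, this, ← vadd_self hB v]; rfl
  · intro c' hc
    have hc1 := cube_scalar hB hF y hc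
    simp only [hc1, one_smul] at hc
    have hy3 : y ^ 3 = 1 := ext_suG hB fun v => by rw [pow_succ_apply, hy2, hc]; rfl
    have hdet1 : LinearMap.det (y.1 : V →ₗ[F] V) = 1 :=
      (LinearEquiv.coe_det _).symm.trans (congrArg Units.val y.2.2)
    -- every eigenvalue other than `β` is excluded
    have main : ∀ a : F, a ≠ 0 → a ≠ β → ∀ v, v + (a * a) • y.1 v + a • y.1 (y.1 v) = 0 := by
      intro a ha0 haβ
      have ha : a * a * a = 1 := by linear_combination cube_one hB hF ha0
      have hθa : θ a = a * a := mul_left_cancel₀ ha0 (by rw [norm_one hB ha0, ← mul_assoc, ha])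
      set N : V →ₗ[F] V := LinearMap.id + (a * a) • T + a • (T ∘ₗ T) with hN
      have hkillL : ∀ u : V, y.1 u = β • u → N u = 0 := fun u hu => by
        have h' : (β - a) * (1 + a * a * β + a * (β * β)) = 0 := by
          linear_combination a * cube_one hB hF hβ0 - β * ha
        simp only [hN, hT, LinearMap.add_apply, LinearMap.id_apply, LinearMap.smul_apply,
          LinearMap.comp_apply, LinearEquiv.coe_coe, hu, map_smul, smul_smul]
        have e := (mul_eq_zero.1 h').resolve_left (sub_ne_zero.2 haβ.symm)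
        calc u + (a * a * β) • u + (a * (β * β)) • u = (1 + a * a * β + a * (β * β)) • u := by
              rw [add_smul, add_smul, one_smul]
          _ = 0 := by rw [e, zero_smul]
      intro v
      suffices hN0 : N = 0 by simpa [hN, hT] using LinearMap.congr_fun hN0 v
      by_contra h0
      have hs := hrank N (fun u v => by
          simp only [hN, hT, LinearMap.add_apply, LinearMap.id_apply, LinearMap.smul_apply,
            LinearMap.comp_apply, LinearEquiv.coe_coe, map_add, map_smul, LinearMap.map_smulₛₗ,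
            smul_eq_mul, map_mul, hθa]
          rw [← hy1 u, hadj u v 2 1 hy3, hy2, hy1, ← hy2 u, hadj u v 1 2 hy3, hy1,
            show a * a * (a * a) = a by linear_combination a * ha]
          ring)
        (fun v => by simp [hN, hT, hcomm])
        (fun v hv => by
          simpa [hN, hT] using W.add_mem (W.add_mem hv (W.smul_mem (a * a) (hWy v hv)))
            (W.smul_mem a (hWy _ (hWy v hv))))
        (hkillL b hyb) (hkillL c hyc) h0
      -- the element is `a` on the complement
      have hWa : ∀ w ∈ W, y.1 w = a • w := by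
        intro w hw
        rw [← hs] at hw
        obtain ⟨u, rfl⟩ := hw
        simp only [hN, hT, LinearMap.add_apply, LinearMap.id_apply, LinearMap.smul_apply,
          LinearMap.comp_apply, LinearEquiv.coe_coe, map_add, map_smul, hc, smul_add, smul_smul,
          ← mul_assoc, ha, one_smul]
        abel
      have hLy : ∀ u ∈ L, y.1 u ∈ L := fun u hu => hL.2 (by rw [← hcomm, hL.1 hu])
      have hcom : L ≤ L.comap (y.1 : V →ₗ[F] V) := hLy
      have hdet := LinearMap.det_eq_det_mul_det L (y.1 : V →ₗ[F] V) hcom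
      have hres : (y.1 : V →ₗ[F] V).restrict (p := L) (q := L) hLy = β • LinearMap.id :=
        LinearMap.ext fun u => by
          obtain ⟨s, t, hst⟩ := Submodule.mem_span_pair.1
            (show (u : V) ∈ Submodule.span F ({b, c} : Set V) from hLeq.le u.2)
          refine Subtype.ext ?_
          simp only [LinearMap.coe_restrict_apply, LinearMap.smul_apply, LinearMap.id_apply,
            SetLike.val_smul, ← hst, LinearEquiv.coe_coe, map_add, map_smul, hyb, hyc, smul_add,
            smul_smul, mul_comm]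
      have hquo : L.mapQ L (y.1 : V →ₗ[F] V) hcom = a • LinearMap.id :=
        Submodule.linearMap_qext _ (LinearMap.ext fun u => by
          obtain ⟨w, hw, s, t, rfl⟩ := hsplit u
          simp only [LinearMap.comp_apply, Submodule.mkQ_apply, Submodule.mapQ_apply,
            LinearMap.smul_apply, LinearMap.id_apply, LinearEquiv.coe_coe]
          rw [← Submodule.Quotient.mk_smul, Submodule.Quotient.eq, map_add, hWa w hw, smul_add,
            add_sub_add_left_eq_sub]
          have hk : s • b + t • c ∈ L := L.add_mem (L.smul_mem _ hbL) (L.smul_mem _ hcL)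
          exact L.sub_mem (hLy _ hk) (L.smul_mem a hk))
      have hq : finrank F (V ⧸ L) = 4 := by
        have := L.finrank_quotient_add_finrank; rw [hL2, hB.rank] at this; omega
      rw [hres, hquo, LinearMap.det_smul, LinearMap.det_smul, LinearMap.det_id, LinearMap.det_id,
        hL2, hq, mul_one, mul_one, hdet1] at hdet
      refine haβ ?_
      -- `1 = β² a⁴`
      linear_combination -β * hdet - (β ^ 3 * a) * ha - a * cube_one hB hF hβ0
    refine ⟨β, fun v => ?_⟩
    obtain ⟨k, hk1, hk⟩ := exists_omega hB hF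
    have hk0 : k ≠ 0 := fun h => by simp [h] at hk
    have e1 := main (β * k) (mul_ne_zero hβ0 hk0) (fun h => hk1 ((mul_eq_left₀ hβ0).1 h)) v
    have hkk : k * k ≠ 1 := fun h => hk0 (by linear_combination hk - h - two hB)
    have e2 := main (β * (k * k)) (mul_ne_zero hβ0 (mul_ne_zero hk0 hk0))
      (fun h => hkk ((mul_eq_left₀ hβ0).1 h)) v
    -- the sum of the two relations
    have hβ3 := cube_one hB hF hβ0
    have hsum : (β * β) • y.1 v + β • y.1 (y.1 v) = 0 := by
      have : (v + ((β * k) * (β * k)) • y.1 v + (β * k) • y.1 (y.1 v)) +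
          (v + ((β * (k * k)) * (β * (k * k))) • y.1 v + (β * (k * k)) • y.1 (y.1 v)) = 0 := by
        rw [e1, e2, add_zero]
      rw [← this]
      match_scalars
      · linear_combination (-(β * β)) * (k ^ 2 - k + 1) * hk + (β * β) * two hB
      · linear_combination (-β) * hk + β * two hB
      · linear_combination -(two hB)
    have hyy : y.1 (y.1 v) = β • y.1 v := by
      have h := congrArg ((β * β) • ·) hsum
      simp only [smul_add, smul_smul, smul_zero] at h
      rw [show β * β * (β * β) = β by linear_combination β * hβ3,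
        show β * β * β = 1 by linear_combination hβ3, one_smul, add_eq_zero_iff_eq_neg'] at h
      rw [h, neg_eq_iff_add_eq_zero, vadd_self hB]
    refine y.1.injective ?_
    rw [hyy, map_smul]

end UModel

/-- An element of order 5 commuting with two transvections that do not commute, and with no other
transvection commuting with the first: nothing of order 2 or 3 commuting with all three remains. -/
theorem psu_five {F : Type*} [Field F] [Fintype F] (hF : Fintype.card F = 4)
    {X : Type*} [Group X] [Finite X] (e : X ≃* Cfsg.PSU 6 F 2) {E : Set X}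
    (hE : IsThreeTranspositionGroup E) (hne : E.Nonempty) {x p q : X} (hx : orderOf x = 5)
    (hp : p ∈ E) (hq : q ∈ E) (hpq : ¬ Commute p q) (hxp : Commute x p) (hxq : Commute x q)
    (hfree : ∀ u ∈ E, u ≠ p → Commute u p → ¬ Commute x u) :
    ∀ r, r = 2 ∨ r = 3 → ∀ y, Commute x y → Commute y p → Commute y q → y ^ r = 1 → y = 1 := by
  classical
  obtain ⟨θ, hB, π, hsurj, hcen, hpeq, hM⟩ := psu_hom hF e hE hne
  have := hB.fin
  have := hB.finF
  have hF4 : Nat.card F = 4 := by rw [Nat.card_eq_fintype_card, hF]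
  have hker : ∀ g, π g = 1 → ∃ c : F, ∀ v, g.1 v = c • v := by
    intro g hg
    refine Herm.scalar_of_fix_iso hB.herm (by rw [hB.rank]; norm_num) fun p => ?_
    obtain ⟨u, hu0, hu, rfl⟩ := Herm.exists_pt p
    obtain ⟨u', hu'⟩ := UModel.exists_image hB g ⟨u, hu0, hu⟩
    have h1 := UModel.tr_conj hB g hu'
    have h2 : π (UModel.tr hB u') = π (UModel.tr hB ⟨u, hu0, hu⟩) := by
      rw [← h1, map_mul, map_mul, map_inv, hg]; simp
    obtain ⟨k, hk⟩ := (UModel.tr_eq_iff hB u' _).1 (hpeq _ _ h2)
    rw [Herm.smul_pt, Herm.pt_eq_iff]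
    change u = k • u'.1 at hk
    rw [hu'] at hk
    have hk0 : k ≠ 0 := fun h => hu0 (by rw [hk, h, zero_smul])
    exact ⟨k⁻¹, by nth_rw 1 [hk]; rw [inv_smul_smul₀ hk0]⟩
  have hz3 : ∀ z, π z = 1 → z ^ 3 = 1 := by
    intro z hz
    obtain ⟨c, hc⟩ := hker z hz
    refine UModel.ext_suG hB fun v => ?_
    simp only [UModel.pow_succ_apply, pow_zero, OneMemClass.coe_one, LinearEquiv.coe_one, id_eq, hc,
      smul_smul]
    rcases eq_or_ne v 0 with rfl | hv
    · simp
    have hc0 : c ≠ 0 := fun h => hv (z.1.map_eq_zero_iff.1 (by rw [hc, h, zero_smul]))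
    rw [show c * (c * c) = 1 by linear_combination UModel.cube_one hB hF4 hc0, one_smul]
  have hlift : ∀ (p m : ℕ), m % 3 = 0 → m % p = 1 → ∀ y : X, y ^ p = 1 →
      ∃ g, π g = y ∧ g ^ p = 1 := by
    intro p m h3 h1 y hy
    obtain ⟨g₀, rfl⟩ := hsurj y
    refine ⟨g₀ ^ m, ?_, ?_⟩
    · rw [map_pow, ← Nat.div_add_mod m p, h1, pow_add, pow_mul, hy, one_pow, one_mul, pow_one]
    · obtain ⟨j, rfl⟩ := Nat.dvd_of_mod_eq_zero h3
      rw [← pow_mul, show 3 * j * p = p * 3 * j by ring, pow_mul, pow_mul,
        hz3 (g₀ ^ p) (by rw [map_pow, hy]), one_pow]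
  have hcomm : ∀ (p : ℕ), p.Coprime 3 → ∀ {g h : suG (hermB 6 θ)}, g ^ p = 1 →
      Commute (π g) (π h) → Commute g h := by
    intro p hp g h hg hgh
    set z := h * g * h⁻¹ * g⁻¹ with hz
    have hπz : π z = 1 := by
      rw [hz, map_mul, map_mul, map_mul, map_inv, map_inv, ← hgh.eq]; group
    have hzc : ∀ w, Commute z w := fun w => by
      obtain ⟨c, hc⟩ := hker z hπz
      exact (Subgroup.mem_center_iff.1 (Herm.scalar_mem_center hB.herm hc) w).symm
    have h1 : h * g * h⁻¹ = z * g := by rw [hz]; group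
    have h2 : z ^ p = 1 := by
      have := congrArg (· ^ p) h1
      simp only [conj_pow, hg, (hzc g).mul_pow, mul_one, mul_inv_cancel] at this
      exact this.symm
    have h4 : orderOf z ∣ Nat.gcd p 3 :=
      Nat.dvd_gcd (orderOf_dvd_of_pow_eq_one h2) (orderOf_dvd_of_pow_eq_one (hz3 z hπz))
    rw [hp, Nat.dvd_one, orderOf_eq_one_iff] at h4
    rw [h4, one_mul, mul_inv_eq_iff_eq_mul] at h1
    exact h1.symm
  -- the point of a transvection is moved to a multiple
  have hline : ∀ (g : suG (hermB 6 θ)) (v : UModel.Pt (hermB 6 θ)),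
      Commute (π g) (π (UModel.tr hB v)) → ∃ k : F, k ≠ 0 ∧ g.1 v.1 = k • v.1 := by
    intro g v h
    obtain ⟨v', hv'⟩ := UModel.exists_image hB g v
    have h1 := UModel.tr_conj hB g hv'
    have h2 : π (UModel.tr hB v) = π (UModel.tr hB v') := by
      rw [← h1, map_mul, map_mul, map_inv, h.eq, mul_inv_cancel_right]
    obtain ⟨k, hk⟩ := (UModel.tr_eq_iff hB v v').1 (hpeq _ _ h2)
    exact ⟨k, fun h0 => v'.2.1 (by rw [hk, h0, zero_smul]), by rw [← hv', hk]⟩
  have hfixed : ∀ {r : ℕ}, r.Prime → r ≠ 3 → ∀ (g : suG (hermB 6 θ)) (v : UModel.Pt (hermB 6 θ)),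
      g ^ r = 1 → Commute (π g) (π (UModel.tr hB v)) → g.1 v.1 = v.1 := by
    intro r hr hr3 g v hg h
    obtain ⟨k, hk0, hk⟩ := hline g v h
    have hpow : ∀ n : ℕ, (g ^ n).1 v.1 = k ^ n • v.1 := by
      intro n
      induction n with
      | zero => simp
      | succ n ih => rw [UModel.pow_succ_apply, ih, map_smul, hk, smul_smul, ← pow_succ]
    have hk1 : k = 1 := UModel.scalar_one hB hF4 hr hr3 (smul_left_injective F v.2.1
      (show k ^ r • v.1 = (1 : F) • v.1 by rw [← hpow, hg, one_smul]; rfl))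
    rw [hk, hk1, one_smul]
  obtain ⟨b, rfl⟩ := UModel.exists_tp hM hp
  obtain ⟨c, rfl⟩ := UModel.exists_tp hM hq
  obtain ⟨g, rfl, hg⟩ := hlift 5 6 (by norm_num) (by norm_num) x (hx ▸ pow_orderOf_eq_one x)
  have hgb := hfixed (by norm_num : (5).Prime) (by norm_num) g b hg hxp
  have hgc := hfixed (by norm_num : (5).Prime) (by norm_num) g c hg hxq
  have hiso : ∀ u, u ≠ 0 → hermB 6 θ u u = 0 → hermB 6 θ b.1 u = 0 → g.1 u = u →
      ∃ k : F, u = k • b.1 := by
    intro u hu0 huu hbu hgu
    by_contra hcon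
    refine hfree _ (UModel.tp_mem hM ⟨u, hu0, huu⟩) (fun h => hcon ?_) ?_ ?_
    · exact (hM.eq_iff b ⟨u, hu0, huu⟩).1 h.symm
    · exact (((hM.comm_iff b ⟨u, hu0, huu⟩).2 hbu) : Commute _ _).symm
    · exact ((UModel.commute_of_fix hB g ⟨u, hu0, huu⟩ hgu).map π)
  have hbc : hermB 6 θ b.1 c.1 ≠ 0 := fun h => hpq ((hM.comm_iff b c).2 h)
  intro r hr y hy hyp hyq hyr
  rcases hr with rfl | rfl
  · obtain ⟨k, rfl, hk⟩ := hlift 2 3 (by norm_num) (by norm_num) y hyr
    have hkb := hfixed Nat.prime_two (by norm_num) k b hk hyp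
    have hkc := hfixed Nat.prime_two (by norm_num) k c hk hyq
    rw [(UModel.five_scalar hB hF4 hg b.2.1 b.2.2 c.2.2 hbc hgb hgc hiso
      (hcomm 5 (by norm_num) hg hy) (β := 1) (γ := 1) (by rw [hkb, one_smul])
      (by rw [hkc, one_smul])).1 hk, map_one]
  · obtain ⟨k, rfl⟩ := hsurj y
    obtain ⟨β, -, hβ⟩ := hline k b hyp
    obtain ⟨γ, -, hγ⟩ := hline k c hyq
    obtain ⟨c', hc'⟩ := hker (k ^ 3) (by rw [map_pow, hyr])
    obtain ⟨a, ha⟩ := (UModel.five_scalar hB hF4 hg b.2.1 b.2.2 c.2.2 hbc hgb hgc hiso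
      (hcomm 5 (by norm_num) hg hy) hβ hγ).2 c' (UModel.apply_scalar hc')
    exact hcen k (Herm.scalar_mem_center hB.herm ha)

end Cfsg.Agent.ThreeTrans
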