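import Cfsg.Agent.ThreeTrans.UnitaryLines

/-!
# Symmetries of the unitary model
-/

set_option autoImplicit false

open Cfsg Cfsg.Agent.Classical Cfsg.Agent.Classical.Herm Module

namespace Cfsg.Agent.ThreeTrans.UModel

variable {F V : Type*} [Field F] [AddCommGroup V] [Module F V] {θ : F →+* F}
  {B : V →ₛₗ[θ] V →ₗ[F] F} (hB : Space B) {K : Type*} [Group K] {E : Set K} {tp : Pt B → K}
  (hM : Model B E tp)

include hM

theorem commute_tp {v w : Pt B} (h : B v.1 w.1 = 0) : Commute (tp v) (tp w) := (hM.comm_iff v w).2 h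

theorem orth_of_commute {v w : Pt B} (h : Commute (tp v) (tp w)) : B v.1 w.1 = 0 := (hM.comm_iff v w).1 h

include hB

variable {σ : K → K} (hσ : Sym E σ) (hstar : Star E σ)

include hσ hstar

theorem sym_ln {p q e : K} (hp : p ∈ E) (hq : q ∈ E) (he : e ∈ ln E p q) :
    σ e ∈ ln E (σ p) (σ q) := by
  refine ⟨hσ.mem e he.1, fun y hy h1 h2 => ?_⟩
  have k1 := hσ.comm _ hy _ (hσ.mem p hp) h1
  have k2 := hσ.comm _ hy _ (hσ.mem q hq) h2
  rw [hσ.inv p hp] at k1
  rw [hσ.inv q hq] at k2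
  have := hσ.comm _ (hσ.mem y hy) _ he.1 (he.2 _ (hσ.mem y hy) k1 k2)
  rwa [hσ.inv y hy] at this

/-- No member is moved to a member commuting with it. -/
theorem eq_of_commute {g : K} (hg : g ∈ E) (h : Commute g (σ g)) : σ g = g := by
  by_contra hne
  obtain ⟨a, rfl⟩ := exists_tp hM hg
  obtain ⟨b, hb⟩ := exists_tp hM (hσ.mem _ hg)
  rw [← hb] at h hne
  have hs := fun {x w : V} (h : B x w = 0) => (symm_zero hB).1 h
  have hab := orth_of_commute hM h
  have hind : ∀ k : F, b.1 ≠ k • a.1 := fun k hk => hne ((hM.eq_iff a b).2 ⟨k, hk⟩).symm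
  obtain ⟨z, w, hzz, hww, hza, hzb, hwb, hwa, -⟩ := exists_duals hB a.2.1 a.2.2 b.2.1 b.2.2 hab hind
  obtain ⟨c, hc0, hcc, hac, hbc, hzc, hwc⟩ := exists_iso hB a.1 b.1 z w
  have hz0 : z ≠ 0 := fun h => by rw [h] at hza; simp at hza
  have hout : ∀ α β : F, c ≠ α • a.1 + β • b.1 := fun α β hk => hc0 (by
    rw [hk] at hzc hwc; simp [hza, hzb] at hzc; simp [hwa, hwb] at hwc
    rw [hk, hzc, hwc, zero_smul, zero_smul, add_zero])
  have hac0 : a.1 + c ≠ 0 := fun h => hout (-1) 0 (by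
    rw [zero_smul, add_zero, neg_smul, one_smul]; exact eq_neg_of_add_eq_zero_right h)
  set tc : Pt B := ⟨c, hc0, hcc⟩
  set ty : Pt B := ⟨a.1 + c, hac0, by simp [a.2.2, hcc, hac, hs hac]⟩
  set tz : Pt B := ⟨z, hz0, hzz⟩
  have hcom : Commute (tp a) (σ (tp a)) := by rwa [← hb]
  have hne' : σ (tp a) ≠ tp a := by rwa [← hb]
  have hcfix : σ (tp tc) = tp tc := by
    refine hstar _ (tp_mem hM a) hcom hne' _ ((mem_dperp hM a tc).2 ⟨hac, fun k hk => hout k 0 ?_⟩)
      (hb ▸ (mem_dperp hM b tc).2 ⟨hbc, fun k hk => hout 0 k ?_⟩)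
    · rw [zero_smul, add_zero]; exact hk
    · rw [zero_smul, zero_add]; exact hk
  have hyfix : σ (tp ty) = tp ty := by
    refine hstar _ (tp_mem hM a) hcom hne' _
      ((mem_dperp hM a ty).2 ⟨by simp [ty, a.2.2, hac], fun k hk => hout (k - 1) 0 ?_⟩)
      (hb ▸ (mem_dperp hM b ty).2 ⟨by simp [ty, hs hab, hbc], fun k hk => hout (-1) k ?_⟩)
    · rw [zero_smul, add_zero, sub_smul, one_smul]; exact eq_sub_of_add_eq' hk
    · rw [neg_smul, one_smul]; change a.1 + c = k • b.1 at hk; rw [← hk]; abel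
  obtain ⟨q, hq⟩ := exists_tp hM (hσ.mem _ (tp_mem hM tz))
  have q1 : B q.1 a.1 = 0 := by
    refine orth_of_commute hM ?_
    have := hσ.comm _ (tp_mem hM tz) _ (tp_mem hM b) (commute_tp hM hzb)
    rwa [← hq, hb, hσ.inv _ (tp_mem hM a)] at this
  have q2 : B q.1 c = 0 := by
    refine orth_of_commute hM (w := tc) ?_
    have := hσ.comm _ (tp_mem hM tz) _ (tp_mem hM tc) (commute_tp hM (w := tc) hzc)
    rwa [← hq, hcfix] at this
  have := hσ.comm _ (tp_mem hM q) _ (tp_mem hM ty) (commute_tp hM (w := ty) (by simp [ty, q1, q2]))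
  rw [hq, hσ.inv _ (tp_mem hM tz), hyfix] at this
  have h1 := orth_of_commute hM this
  simp [tz, ty, hza, hzc] at h1

/-- Lines through two fixed commuting points are fixed pointwise. -/
theorem line_fix {b c v : Pt B} (hbc : B b.1 c.1 = 0) (hind : ∀ k : F, c.1 ≠ k • b.1)
    (hb : σ (tp b) = tp b) (hc : σ (tp c) = tp c) (hv : tp v ∈ ln E (tp b) (tp c)) :
    σ (tp v) = tp v := by
  have h1 := sym_ln hB hM hσ hstar (tp_mem hM b) (tp_mem hM c) hv
  rw [hb, hc] at h1
  refine eq_of_commute hB hM hσ hstar (tp_mem hM v) ?_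
  by_contra hne
  have h2 : σ (tp v) ∈ dperp E (tp v) := by
    obtain ⟨u, hu⟩ := exists_tp hM (hσ.mem _ (tp_mem hM v))
    rw [← hu] at h1 hne ⊢
    exact (line_pair hB hM b c hbc hind v u hv h1 fun e => hne (e ▸ Commute.refl _)).1
  exact hne h2.2.2

/-- Normal form of a moved point: `a`, its image `b` and the fixed point `a + b`. -/
theorem moved_normal {g : K} (hg : g ∈ E) (hne : σ g ≠ g) :
    ∃ a b t : Pt B, tp a = g ∧ tp b = σ g ∧ B a.1 b.1 = 1 ∧ t.1 = a.1 + b.1 ∧ σ (tp t) = tp t ∧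
      tp t * tp a * tp t = tp b := by
  obtain ⟨a, rfl⟩ := exists_tp hM hg
  obtain ⟨b, hb⟩ := exists_tp hM (hσ.mem _ hg)
  have hk : B a.1 b.1 ≠ 0 := fun h => hne (eq_of_commute hB hM hσ hstar hg (hb ▸ commute_tp hM h))
  set b' : Pt B := ⟨(B a.1 b.1)⁻¹ • b.1, smul_ne_zero (inv_ne_zero hk) b.2.1, by simp [b.2.2]⟩
  have hb' : tp b' = σ (tp a) := by rw [← hb]; exact tp_smul hB hM b b' rfl
  have hab : B a.1 b'.1 = 1 := by simp [b', inv_mul_cancel₀ hk]
  have hba := symm_one hB hab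
  obtain ⟨t, ht, ht'⟩ := exists_move hB hM a b'
  rw [hab, one_smul] at ht
  have htfix : σ (tp t) = tp t := by
    rw [← ht', hb', hσ.conj _ hg _ (hσ.mem _ hg), hσ.inv _ hg]
    exact (braid hM.closed.tri hg (hσ.mem _ hg) (fun h => hne (eq_of_commute hB hM hσ hstar hg h))).symm
  refine ⟨a, b', t, rfl, hb', hab, by rw [ht, add_comm], htfix, ?_⟩
  refine hM.conj t a b' ?_
  rw [show B t.1 a.1 = 1 by rw [ht]; simp [a.2.2, hba], one_smul, ht]
  rw [add_comm b'.1, ← add_assoc, vadd_self hB, zero_add]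

theorem fixed_of_perp {a b t z : Pt B} (hb : tp b = σ (tp a)) (hab : B a.1 b.1 = 1)
    (ht : t.1 = a.1 + b.1) (htfix : σ (tp t) = tp t) (hza : B z.1 a.1 = 0) (hzb : B z.1 b.1 = 0) :
    σ (tp z) = tp z := by
  by_contra hne
  have hs := fun {x w : V} (h : B x w = 0) => (symm_zero hB).1 h
  have hba := symm_one hB hab
  obtain ⟨z₁, z', u, hz1, hz', hzz', hu, hufix, -⟩ := moved_normal hB hM hσ hstar (tp_mem hM z) hne
  obtain ⟨k, hk⟩ := (hM.eq_iff z z₁).1 hz1.symm
  have h1a : B z₁.1 a.1 = 0 := by rw [hk]; simp [hza]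
  have h1b : B z₁.1 b.1 = 0 := by rw [hk]; simp [hzb]
  have hza' : B z'.1 a.1 = 0 := by
    refine orth_of_commute hM ?_
    have := hσ.comm _ (tp_mem hM z) _ (tp_mem hM b) (commute_tp hM hzb)
    rwa [← hz', hb, hσ.inv _ (tp_mem hM a)] at this
  have hzb' : B z'.1 b.1 = 0 := by
    refine orth_of_commute hM ?_
    have := hσ.comm _ (tp_mem hM z) _ (tp_mem hM a) (commute_tp hM hza)
    rwa [← hz', ← hb] at this
  have hzz'' := symm_one hB hzz'
  have htu : B t.1 u.1 = 0 := by rw [ht, hu]; simp [hs h1a, hs hza', hs h1b, hs hzb']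
  have hf0 : t.1 + u.1 ≠ 0 := fun h => by
    have := congrArg (B a.1) h
    rw [ht, hu] at this
    simp [a.2.2, hab, hs h1a, hs hza'] at this
  have hy0 : a.1 + z₁.1 ≠ 0 := fun h => by
    have := congrArg (B b.1) h
    simp [hba, hs h1b] at this
  set tf : Pt B := ⟨t.1 + u.1, hf0, by simp [t.2.2, u.2.2, htu, hs htu]⟩
  set ty : Pt B := ⟨a.1 + z₁.1, hy0, by simp [a.2.2, z₁.2.2, hs h1a, h1a]⟩
  have hindu : ∀ k : F, u.1 ≠ k • t.1 := fun k h => by
    have := congrArg (B z₁.1) h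
    rw [ht, hu] at this
    simp [z₁.2.2, hzz', h1a, h1b] at this
  have hffix : σ (tp tf) = tp tf := line_fix hB hM hσ hstar htu hindu htfix hufix
    ((mem_ln hB hM t u htu hindu tf).2 ⟨1, 1, by simp [tf]⟩)
  have hindz : ∀ k : F, z₁.1 ≠ k • a.1 := fun k h => by
    have := congrArg (B b.1) h
    simp [hs h1b, hba] at this
    subst this
    exact z₁.2.1 (by rw [h, zero_smul])
  have hy := sym_ln hB hM hσ hstar (tp_mem hM a) (tp_mem hM z₁)
    ((mem_ln hB hM a z₁ (hs h1a) hindz ty).2 ⟨1, 1, by simp [ty]⟩)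
  rw [← hb, hz1, ← hz'] at hy
  obtain ⟨v, hv⟩ := exists_tp hM (hσ.mem _ (tp_mem hM ty))
  rw [← hv] at hy
  have hindz' : ∀ k : F, z'.1 ≠ k • b.1 := fun k h => by
    have := congrArg (B a.1) h
    simp [hs hza', hab] at this
    subst this
    exact z'.2.1 (by rw [h, zero_smul])
  obtain ⟨α, β, hαβ⟩ := (mem_ln hB hM b z' (hs hzb') hindz' v).1 hy
  have hyf : B ty.1 tf.1 = 0 := by
    simp [ty, tf, ht, hu, a.2.2, z₁.2.2, hab, hzz', hs h1a, hs hza', h1a, h1b, two hB]
  have hvf := hσ.comm _ (tp_mem hM ty) _ (tp_mem hM tf) (commute_tp hM hyf)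
  rw [← hv, hffix] at hvf
  have hfv := hs (orth_of_commute hM hvf)
  rw [hαβ] at hfv
  simp [tf, ht, hu, hab, b.2.2, hs hza', hs hzb', h1b, hzb', hzz', z'.2.2] at hfv
  have hfix : σ (tp ty) = tp ty := by
    refine eq_of_commute hB hM hσ hstar (tp_mem hM ty) ?_
    rw [← hv]
    refine commute_tp hM ?_
    rw [hαβ]
    simp [ty, hab, hs hza', h1b, hzz', hfv]
  rw [← hv] at hfix
  obtain ⟨m, hm⟩ := (hM.eq_iff ty v).1 hfix.symm
  rw [hαβ] at hm
  have e1 := congrArg (B a.1) hm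
  have e2 := congrArg (B b.1) hm
  simp [ty, hab, hba, a.2.2, b.2.2, hs hza', hs h1a, hs hzb', hs h1b] at e1 e2
  exact v.2.1 (by
    rw [hαβ]
    rw [e1, zero_smul, zero_add]
    rw [e1] at hfv
    simp at hfv
    rw [hfv, zero_smul])

/-- Symmetries of the model are inner or trivial. -/
theorem rigid_aux : (∀ x ∈ E, σ x = x) ∨ ∃ s ∈ E, ∀ x ∈ E, σ x = s * x * s := by
  by_cases hall : ∀ x ∈ E, σ x = x
  · exact Or.inl hall
  push Not at hall
  obtain ⟨g, hg, hne⟩ := hall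
  obtain ⟨a, b, t, ha, hb, hab, ht, htfix, htab⟩ := moved_normal hB hM hσ hstar hg hne
  rw [← ha] at hb
  refine Or.inr ⟨tp t, tp_mem hM t, ?_⟩
  have hS := hM.closed
  have htt := mul_self hS.tri (tp_mem hM t)
  have hs := fun {x w : V} (h : B x w = 0) => (symm_zero hB).1 h
  have hba := symm_one hB hab
  have hta : B t.1 a.1 = 1 := by rw [ht]; simp [a.2.2, hba]
  have hat := symm_one hB hta
  -- the perpendicular of `t` is fixed
  have hperp : ∀ p : Pt B, B t.1 p.1 = 0 → σ (tp p) = tp p := by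
    intro p hp
    set μ := B a.1 p.1 with hμ
    have hbp : B b.1 p.1 = μ := by
      rw [ht] at hp; simp at hp
      exact (eq_of_add hB _ _ hp).symm
    have hp1 : B p.1 t.1 = 0 := hs hp
    by_cases h0 : μ = 0
    · exact fixed_of_perp hB hM hσ hstar hb hab ht htfix (hs (by rw [← hμ, h0])) (hs (by rw [hbp, h0]))
    set z := p.1 + μ • t.1 with hz
    have hza : B a.1 z = 0 := by simp [hz, hat, ← hμ, add_self' hB]
    have hzb : B b.1 z = 0 := by
      rw [hz, ht]; simp [hba, b.2.2, hbp, add_self' hB]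
    by_cases hz0 : z = 0
    · rw [tp_smul hB hM t p (k := μ) (by
        have := congrArg (fun w => w + μ • t.1) hz0
        simpa [hz, add_assoc, vadd_self hB] using this), htfix]
    set tz : Pt B := ⟨z, hz0, by simp [hz, p.2.2, t.2.2, hp, hp1]⟩
    have htz : B t.1 z = 0 := by simp [hz, hp, t.2.2]
    have hind : ∀ k : F, z ≠ k • t.1 := fun k hk => hz0 (by
      have := hza
      rw [hk] at this; simp [hat] at this
      rw [hk, this, zero_smul])
    refine line_fix hB hM hσ hstar (b := t) (c := tz) htz hind htfix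
      (fixed_of_perp hB hM hσ hstar hb hab ht htfix (hs hza) (hs hzb))
      ((mem_ln hB hM t tz htz hind p).2 ⟨μ, 1, ?_⟩)
    show p.1 = μ • t.1 + (1 : F) • z
    rw [one_smul, hz, add_comm p.1, ← add_assoc, vadd_self hB, zero_add]
  set τ : K → K := fun x => tp t * σ x * tp t with hτ
  have hτfix : ∀ p : Pt B, B t.1 p.1 = 0 → τ (tp p) = tp p := fun p hp => by
    simp only [hτ, hperp p hp]
    exact conj_self_of_commute hS.tri (tp_mem hM t) (commute_tp hM hp)
  have hτc : ∀ {x y}, x ∈ E → y ∈ E → Commute x y → Commute (τ x) (τ y) := fun {x y} hx hy h => by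
    have := (commute_conj (tp t) _ _).2 (hσ.comm x hx y hy h)
    rwa [inv_eq hS.tri (tp_mem hM t)] at this
  have hτa : τ (tp a) = tp a := by
    simp only [hτ]
    rw [← hb, ← htab, conj_twice htt]
  have hτb : τ (tp b) = tp b := by
    simp only [hτ]
    rw [hb, hσ.inv _ (tp_mem hM a), htab, hb]
  -- a point with a suitable fixed perpendicular is fixed
  have key : ∀ x u : Pt B, B t.1 x.1 ≠ 0 → τ (tp u) = tp u → B u.1 x.1 = 0 → B t.1 u.1 ≠ 0 →
      τ (tp x) = tp x := by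
    intro x u hx hu hux htu
    set x' : Pt B := ⟨(B t.1 x.1)⁻¹ • x.1, smul_ne_zero (inv_ne_zero hx) x.2.1, by simp [x.2.2]⟩
    have hxx : tp x' = tp x := tp_smul hB hM x x' rfl
    have htx : B t.1 x'.1 = 1 := by simp [x', inv_mul_cancel₀ hx]
    have hxt := symm_one hB htx
    have hux' : B u.1 x'.1 = 0 := by simp [x', hux]
    rw [← hxx]
    obtain ⟨v, hv⟩ := exists_tp hM
      (show τ (tp x') ∈ E from hS.conj _ (tp_mem hM t) _ (hσ.mem _ (tp_mem hM x')))
    have hvp : ∀ p : Pt B, τ (tp p) = tp p → B p.1 x'.1 = 0 → B p.1 v.1 = 0 := fun p hp hpx => by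
      have := hτc (tp_mem hM p) (tp_mem hM x') (commute_tp hM hpx)
      rw [hp, ← hv] at this
      exact orth_of_commute hM this
    set w := v.1 - B t.1 v.1 • x'.1 - B x'.1 v.1 • t.1 with hw
    have hw0 : w = 0 := by
      by_contra hw0
      obtain ⟨p, hpp, htp, hxp, hpw⟩ := exists_pair_nonorth hB t.2.2 x'.2.2 htx
        (show B t.1 w = 0 by simp [hw, htx, t.2.2]) (show B x'.1 w = 0 by simp [hw, hxt, x'.2.2]) hw0
      have hp0 : p ≠ 0 := fun h => hpw (by rw [h]; simp)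
      apply hpw
      have := hvp ⟨p, hp0, hpp⟩ (hτfix ⟨p, hp0, hpp⟩ htp) (hs hxp)
      simp [hw, hs htp, hs hxp]
      exact this
    have hvu := hvp u hu hux'
    have hv' : v.1 = B t.1 v.1 • x'.1 + B x'.1 v.1 • t.1 := by
      rw [hw, sub_sub, sub_eq_zero] at hw0; exact hw0
    have hμ : B x'.1 v.1 = 0 := by
      rw [hv'] at hvu
      have hut : B u.1 t.1 ≠ 0 := fun h => htu (hs h)
      simpa [hux', hut] using hvu
    rw [← hv]
    refine tp_smul hB hM x' v (k := B t.1 v.1) ?_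
    conv_lhs => rw [hv', hμ, zero_smul, add_zero]
  have hall' : ∀ x : Pt B, τ (tp x) = tp x := by
    intro x
    by_cases hx : B t.1 x.1 = 0
    · exact hτfix x hx
    by_cases hax : B a.1 x.1 = 0
    · exact key x a hx hτa hax (by rw [hta]; exact one_ne_zero)
    set x' : Pt B := ⟨(B a.1 x.1)⁻¹ • x.1, smul_ne_zero (inv_ne_zero hax) x.2.1, by simp [x.2.2]⟩
    have hxx : tp x' = tp x := tp_smul hB hM x x' rfl
    have hax' : B a.1 x'.1 = 1 := by simp [x', inv_mul_cancel₀ hax]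
    have hxa := symm_one hB hax'
    set T' := t.1 - B x'.1 t.1 • a.1 - B a.1 t.1 • x'.1 with hT'
    by_cases hT0 : T' = 0
    · rw [hT', hat, one_smul, sub_sub, sub_eq_zero] at hT0
      set β := B x'.1 t.1
      have hβ : β = 1 := by
        have h1 : B t.1 x'.1 = θ β := (hB.herm.symm _ _).symm
        have h2 := t.2.2
        rw [hT0] at h1 h2
        simp [a.2.2, x'.2.2, hax', hxa] at h1 h2
        rcases hB.fixed β (by
          have := eq_of_add hB _ _ h2; exact this) with h | h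
        · exfalso
          have h3 : B t.1 x'.1 = θ β := (hB.herm.symm _ _).symm
          rw [h, map_zero] at h3
          apply hx
          have h4 : x.1 = B a.1 x.1 • x'.1 := by simp [x', smul_inv_smul₀ hax]
          rw [h4, map_smul, h3, smul_zero]
        · exact h
      rw [hβ, one_smul, ht] at hT0
      rw [← hxx, tp_smul hB hM b x' (k := 1) (by rw [one_smul]; exact (add_left_cancel hT0).symm), hτb]
    obtain ⟨p, hpp, hap, hxp, hpT⟩ := exists_pair_nonorth hB a.2.2 x'.2.2 hax'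
      (show B a.1 T' = 0 by simp [hT', a.2.2, hax']) (show B x'.1 T' = 0 by simp [hT', x'.2.2, hxa]) hT0
    have hp0 : p ≠ 0 := fun h => hpT (by rw [h]; simp)
    have htp : B t.1 p ≠ 0 := fun h => hpT (by simp [hT', hs h, hs hap, hs hxp])
    set tpp : Pt B := ⟨p, hp0, hpp⟩
    have hpfix : τ (tp tpp) = tp tpp := key tpp a htp hτa hap (by rw [hta]; exact one_ne_zero)
    rw [← hxx]
    exact key x' tpp (by simp [x']; exact ⟨hax, hx⟩) hpfix (hs hxp) htp
  intro y hy
  obtain ⟨x, rfl⟩ := exists_tp hM hy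
  have h1 := hall' x
  simp only [hτ] at h1
  conv_rhs => rw [← h1]
  exact (conj_twice htt).symm

omit σ hσ hstar

theorem nice : Nice E :=
  ⟨sep hB hM, rich hB hM, diam hB hM, fun _ hσ hstar => rigid_aux hB hM hσ hstar⟩

end Cfsg.Agent.ThreeTrans.UModel
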